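import Groth.Agent.AlgGrp1.SmoothReduced
import Groth.Prelude.Def_Coh
import Mathlib.AlgebraicGeometry.Geometrically.Connected
import Mathlib.AlgebraicGeometry.Morphisms.Flat
import Mathlib.AlgebraicGeometry.Morphisms.Proper
import Mathlib.FieldTheory.IsAlgClosed.AlgebraicClosure
import Mathlib.RingTheory.DiscreteValuationRing.Basic
import Mathlib.LinearAlgebra.Dual.Lemmas
import Mathlib.RingTheory.Polynomial.RationalRoot

/-!
# Global functions of proper geometrically connected curves and of their models

* `appTop_bijective_of_geometricallyConnected`: a proper smooth geometrically connected scheme over a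
  field has only constant global functions.
* `toGlobal_bijective_of_generic`: a proper flat scheme over a DVR with such a generic fibre has
  global functions `R`.
-/

universe u

open CategoryTheory CategoryTheory.Limits AlgebraicGeometry Opposite TopologicalSpace
open scoped TensorProduct

namespace Groth.ModelsGraphs.GlobalFun

lemma eq_zero_or_one_of_idem {P : Scheme.{u}} [IsReduced P] [PreconnectedSpace P] (e : Γ(P, ⊤))
    (he : e * e = e) : e = 0 ∨ e = 1 := by
  have h0 : P.basicOpen e ⊓ P.basicOpen (1 - e) = ⊥ := by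
    rw [← Scheme.basicOpen_mul]
    have : e * (1 - e) = 0 := by rw [mul_sub, mul_one, he, sub_self]
    rw [this, Scheme.basicOpen_zero]
  have h1 : ∀ x : P, x ∈ P.basicOpen e ∨ x ∈ P.basicOpen (1 - e) := by
    intro x
    rw [Scheme.mem_basicOpen_top, Scheme.mem_basicOpen_top, map_sub, map_one]
    exact IsLocalRing.isUnit_or_isUnit_one_sub_self _
  rcases (P.basicOpen e : Set P).eq_empty_or_nonempty with hA | hA
  · left
    exact eq_zero_of_basicOpen_eq_bot e (Opens.ext hA)
  · rcases (P.basicOpen (1 - e) : Set P).eq_empty_or_nonempty with hB | hB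
    · right
      have := eq_zero_of_basicOpen_eq_bot (1 - e) (Opens.ext hB)
      exact (sub_eq_zero.mp this).symm
    · exfalso
      have := isPreconnected_univ (α := P) _ _ (P.basicOpen e).isOpen (P.basicOpen (1 - e)).isOpen
        (fun x _ => h1 x) (by simpa using hA) (by simpa using hB)
      rw [Set.univ_inter, ← Opens.coe_inf, h0] at this
      simpa using this

/-- In a reduced ring without nontrivial idempotents, a root of a split polynomial with roots in a
subfield is one of these roots. -/
lemma exists_eq_of_prod_eq_zero {A E : Type*} [CommRing A] [Nontrivial A] [Field E] [Algebra E A]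
    [_root_.IsReduced A] (hidem : ∀ e : A, e * e = e → e = 0 ∨ e = 1) (b : A) :
    ∀ s : Finset E, ∏ r ∈ s, (b - algebraMap E A r) = 0 → ∃ r ∈ s, b = algebraMap E A r := by
  classical
  intro s
  induction s using Finset.induction_on with
  | empty => intro h; simp at h
  | @insert r s hr ih =>
    intro h
    rw [Finset.prod_insert hr] at h
    have hcop : IsCoprime (Polynomial.X - Polynomial.C r)
        (∏ t ∈ s, (Polynomial.X - Polynomial.C t)) :=
      IsCoprime.prod_right fun t ht => Polynomial.isCoprime_X_sub_C_of_isUnit_sub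
        (sub_ne_zero.mpr (fun e : r = t => hr (e ▸ ht))).isUnit
    obtain ⟨u, v, huv⟩ := hcop
    have h1 := congrArg (Polynomial.aeval b) huv
    simp only [map_add, map_mul, map_sub, map_prod, Polynomial.aeval_X, Polynomial.aeval_C, map_one] at h1
    set Q := ∏ t ∈ s, (b - algebraMap E A t)
    set p := b - algebraMap E A r
    have he : (Polynomial.aeval b u * p) * (Polynomial.aeval b u * p) = Polynomial.aeval b u * p := by
      have : Polynomial.aeval b u * p * (Polynomial.aeval b v * Q) = 0 := by
        rw [mul_mul_mul_comm, h, mul_zero]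
      linear_combination (Polynomial.aeval b u * p) * h1 - this
    rcases hidem _ he with h2 | h2
    · refine ⟨r, Finset.mem_insert_self r s, sub_eq_zero.mp ?_⟩
      have hQ : Polynomial.aeval b v * Q = 1 := by linear_combination h1 - h2
      change p = 0
      linear_combination Polynomial.aeval b v * h - p * hQ
    · have hQ : Q = 0 := by linear_combination Polynomial.aeval b u * h - Q * h2
      obtain ⟨t, ht, e⟩ := ih hQ
      exact ⟨t, Finset.mem_insert_of_mem ht, e⟩

/-- An element killed by a monic polynomial over an algebraically closed field is one of its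
roots, in a reduced ring without nontrivial idempotents. -/
lemma exists_eq_of_aeval_eq_zero {A E : Type*} [CommRing A] [Nontrivial A] [Field E] [IsAlgClosed E]
    [Algebra E A] [_root_.IsReduced A] (hidem : ∀ e : A, e * e = e → e = 0 ∨ e = 1) (b : A)
    (q : Polynomial E) (hq : q.Monic) (hb : Polynomial.aeval b q = 0) :
    ∃ r ∈ q.roots, b = algebraMap E A r := by
  classical
  have hsplit : q = (q.roots.map fun r => Polynomial.X - Polynomial.C r).prod :=
    (IsAlgClosed.splits q).eq_prod_roots_of_monic hq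
  have hprod : ∏ r ∈ q.roots.toFinset, (b - algebraMap E A r) = 0 := by
    refine IsNilpotent.eq_zero ⟨q.roots.card, ?_⟩
    rw [← Finset.prod_pow]
    refine eq_zero_of_zero_dvd ?_
    rw [← hb]
    conv_lhs => rw [hsplit]
    rw [map_multiset_prod, Multiset.map_map, Finset.prod_multiset_map_count]
    refine Finset.prod_dvd_prod_of_dvd _ _ fun r _ => ?_
    simp only [Function.comp_apply, map_sub, Polynomial.aeval_X, Polynomial.aeval_C]
    exact pow_dvd_pow _ (Multiset.count_le_card r _)
  obtain ⟨r, hr, e⟩ := exists_eq_of_prod_eq_zero hidem b _ hprod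
  exact ⟨r, Multiset.mem_toFinset.mp hr, e⟩

/-- If a global function of `X` becomes, after a base change between affine schemes, a function
from the base, it comes from the base (field case). -/
lemma mem_range_of_baseChange {P X S T : Scheme.{u}} {g : P ⟶ X} {iY : P ⟶ T} {iX : X ⟶ S}
    {f : T ⟶ S} (H : IsPullback g iY iX f) [IsAffine S] [IsAffine T] [Flat f] [CompactSpace X]
    [Nonempty T] (hS : IsField Γ(S, ⊤)) (a : Γ(X, ⊤)) (r : Γ(T, ⊤))
    (h : g.appTop a = iY.appTop r) : ∃ c, iX.appTop c = a := by
  haveI hm : Mono (pushoutSection H (UT := ⊤) (US := ⊤) (UX := ⊤) le_top le_top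
      (UY := ⊤) (by simp)) :=
    mono_pushoutSection_of_isCompact_of_flat_right H _ _ _ (isAffineOpen_top S) (isAffineOpen_top T)
      isCompact_univ
  have hinj := (ConcreteCategory.mono_iff_injective_of_preservesPullback _).mp hm
  have e1 : pushout.inl (iX.appLE ⊤ ⊤ le_top) (f.appLE ⊤ ⊤ le_top) a =
      pushout.inr (iX.appLE ⊤ ⊤ le_top) (f.appLE ⊤ ⊤ le_top) r := by
    apply hinj
    rw [← CommRingCat.comp_apply, ← CommRingCat.comp_apply, pushout.inl_desc, pushout.inr_desc]
    have hg' : ∀ e, g.appLE ⊤ ⊤ e = g.appTop := fun e => by simp [Scheme.Hom.appLE]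
    have hY' : ∀ e, iY.appLE ⊤ ⊤ e = iY.appTop := fun e => by simp [Scheme.Hom.appLE]
    rw [hg', hY']
    exact h
  letI := (iX.appLE ⊤ ⊤ le_top).hom.toAlgebra
  letI := (f.appLE ⊤ ⊤ le_top).hom.toAlgebra
  letI : Field Γ(S, ⊤) := hS.toField
  have hp := CommRingCat.isPushout_tensorProduct Γ(S, ⊤) Γ(X, ⊤) Γ(T, ⊤)
  have e2 : a ⊗ₜ[Γ(S, ⊤)] (1 : Γ(T, ⊤)) = (1 : Γ(X, ⊤)) ⊗ₜ[Γ(S, ⊤)] r := by
    have h1 := congr($(hp.inl_isoPushout_inv) a)
    have h2 := congr($(hp.inr_isoPushout_inv) r)
    rw [CommRingCat.comp_apply] at h1 h2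
    exact h1.symm.trans ((congrArg hp.isoPushout.inv e1).trans h2)
  by_contra hne
  have hnm : a ∉ Submodule.span Γ(S, ⊤) ({(1 : Γ(X, ⊤))} : Set Γ(X, ⊤)) := by
    intro hm
    obtain ⟨c, hc⟩ := Submodule.mem_span_singleton.mp hm
    refine hne ⟨c, ?_⟩
    rw [← hc, Algebra.smul_def, mul_one]
    change iX.appTop c = (iX.appLE ⊤ ⊤ le_top) c
    simp [Scheme.Hom.appLE]
  obtain ⟨lam, hlam, hlam0⟩ := Submodule.exists_dual_map_eq_bot_of_notMem hnm inferInstance
  have h1 : lam 1 = 0 := (Submodule.eq_bot_iff _).mp hlam0 _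
    (Submodule.mem_map_of_mem (Submodule.mem_span_singleton_self _))
  have e3 := congrArg (TensorProduct.lid Γ(S, ⊤) Γ(T, ⊤) ∘ LinearMap.rTensor Γ(T, ⊤) lam) e2
  simp only [Function.comp_apply, LinearMap.rTensor_tmul, TensorProduct.lid_tmul, h1, zero_smul] at e3
  haveI : Nonempty (⊤ : T.Opens) := ⟨⟨Classical.arbitrary T, trivial⟩⟩
  exact hlam (smul_eq_zero.mp e3 |>.resolve_right one_ne_zero)

/-- A proper smooth geometrically connected scheme over a field has only constant functions. -/
theorem appTop_bijective_of_geometricallyConnected {K : Type u} [Field K] {C : Scheme.{u}}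
    (f : C ⟶ Spec (CommRingCat.of K)) [Smooth f] [IsProper f] [GeometricallyConnected f] :
    Function.Bijective f.appTop := by
  let E := AlgebraicClosure K
  let s : Spec (CommRingCat.of E) ⟶ Spec (CommRingCat.of K) :=
    Spec.map (CommRingCat.ofHom (algebraMap K E))
  let P := pullback f s
  haveI hPc : ConnectedSpace P :=
    GeometricallyConnected.geometrically_connectedSpace (f := f) s (pullback.fst f s) (pullback.snd f s) (IsPullback.of_hasPullback f s)
  haveI := Groth.AlgGrp1.geometricallyReduced_of_smooth f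
  haveI hPr : IsReduced P :=
    GeometricallyReduced.geometrically_isReduced (f := f) s (pullback.fst f s) (pullback.snd f s) (IsPullback.of_hasPullback f s)
  haveI : Nonempty C := ⟨(pullback.fst f s) (Classical.arbitrary P)⟩
  haveI : CompactSpace C := QuasiCompact.compactSpace_of_compactSpace f
  haveI : Nonempty (⊤ : C.Opens) := ⟨⟨Classical.arbitrary C, trivial⟩⟩
  haveI : Nonempty (⊤ : P.Opens) := ⟨⟨Classical.arbitrary P, trivial⟩⟩
  have hfld : IsField Γ(Spec (CommRingCat.of K), ⊤) :=
    MulEquiv.isField (Field.toIsField K)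
      (Scheme.ΓSpecIso (CommRingCat.of K)).commRingCatIsoToRingEquiv.toMulEquiv
  constructor
  · letI := hfld.toField
    exact f.appTop.hom.injective
  intro a
  haveI : Flat s := (HasRingHomProperty.Spec_iff (P := @Flat)).mpr
    (RingHom.flat_algebraMap_iff.mpr inferInstance)
  obtain ⟨m, hm, hma⟩ := isIntegral_appTop_of_universallyClosed f a
  let gE : E →+* Γ(P, ⊤) := (pullback.snd f s).appTop.hom.comp
    (Scheme.ΓSpecIso (CommRingCat.of E)).inv.hom
  letI : Algebra E Γ(P, ⊤) := gE.toAlgebra
  let b : Γ(P, ⊤) := (pullback.fst f s).appTop a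
  let φ : Γ(Spec (CommRingCat.of K), ⊤) →+* E :=
    ((Scheme.ΓSpecIso (CommRingCat.of E)).hom.hom).comp s.appTop.hom
  have hφ : gE.comp φ = (pullback.fst f s).appTop.hom.comp f.appTop.hom := by
    rw [← CommRingCat.hom_comp, ← Scheme.Hom.comp_appTop, pullback.condition, Scheme.Hom.comp_appTop]
    ext c
    simp [gE, φ]
  let mE : Polynomial E := m.map φ
  have hmb : Polynomial.aeval b mE = 0 := by
    rw [Polynomial.aeval_def, Polynomial.eval₂_map, RingHom.algebraMap_toAlgebra, hφ]
    rw [← Polynomial.hom_eval₂]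
    rw [hma, map_zero]
  obtain ⟨r, -, hr⟩ := exists_eq_of_aeval_eq_zero (eq_zero_or_one_of_idem (P := P)) b mE (hm.map φ) hmb
  exact mem_range_of_baseChange (IsPullback.of_hasPullback f s) hfld a
    ((Scheme.ΓSpecIso (CommRingCat.of E)).inv r) hr

/-- Global functions of a flat scheme over a DVR inject into those of its generic fibre. -/
theorem appTop_injective_of_generic {R : Type u} [CommRing R] [IsDomain R]
    {X C : Scheme.{u}} (p : X ⟶ Spec (CommRingCat.of R)) [Flat p] (g : C ⟶ X)
    (f : C ⟶ Spec (CommRingCat.of (FractionRing R)))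
    (hg : IsPullback g f p (Spec.map (CommRingCat.ofHom (algebraMap R (FractionRing R))))) :
    Function.Injective g.appTop := by
  let K := FractionRing R
  let j : Spec (CommRingCat.of K) ⟶ Spec (CommRingCat.of R) :=
    Spec.map (CommRingCat.ofHom (algebraMap R K))
  have hjinj : Function.Injective j.appTop := by
    intro x y hxy
    apply (Scheme.ΓSpecIso (CommRingCat.of R)).commRingCatIsoToRingEquiv.injective
    apply IsFractionRing.injective R K
    have h1 := congr($(Scheme.ΓSpecIso_naturality (CommRingCat.ofHom (algebraMap R K))) x)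
    have h2 := congr($(Scheme.ΓSpecIso_naturality (CommRingCat.ofHom (algebraMap R K))) y)
    exact h1.symm.trans ((congrArg (Scheme.ΓSpecIso (CommRingCat.of K)).hom hxy).trans h2)
  refine (injective_iff_map_eq_zero _).mpr fun a ha => ?_
  refine TopCat.Sheaf.eq_of_locally_eq' X.sheaf (fun W : X.affineOpens => W.1) ⊤
    (fun W => homOfLE le_top) (iSup_affineOpens_eq_top X).ge a 0 fun W => ?_
  haveI hiso := isIso_pushoutSection_of_isAffineOpen hg.flip (US := ⊤) (UX := ⊤) (UT := W.1)
    le_top le_top (UY := g ⁻¹ᵁ W.1) (by simp) (isAffineOpen_top _) W.2 (isAffineOpen_top _)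
  letI := (j.appLE ⊤ ⊤ le_top).hom.toAlgebra
  letI := (p.appLE ⊤ W.1 le_top).hom.toAlgebra
  haveI : Module.Flat Γ(Spec (CommRingCat.of R), ⊤) Γ(X, W.1) :=
    RingHom.flat_algebraMap_iff.mp (p.flat_appLE (isAffineOpen_top _) W.2 le_top)
  have hr : Function.Injective (Algebra.TensorProduct.includeRight :
      Γ(X, W.1) →ₐ[Γ(Spec (CommRingCat.of R), ⊤)]
        Γ(Spec (CommRingCat.of K), ⊤) ⊗[Γ(Spec (CommRingCat.of R), ⊤)] Γ(X, W.1)) := by
    apply Algebra.TensorProduct.includeRight_injective
    intro x y hxy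
    apply hjinj
    simpa [RingHom.algebraMap_toAlgebra, Scheme.Hom.appLE] using hxy
  have hp := CommRingCat.isPushout_tensorProduct Γ(Spec (CommRingCat.of R), ⊤)
    Γ(Spec (CommRingCat.of K), ⊤) Γ(X, W.1)
  refine Eq.trans ?_ (map_zero _).symm
  apply hr
  refine Eq.trans ?_ (map_zero _).symm
  let aW := X.presheaf.map (homOfLE (le_top : W.1 ≤ ⊤)).op a
  have h0 : g.appLE W.1 (g ⁻¹ᵁ W.1) le_rfl aW = 0 := by
    change (X.presheaf.map _ ≫ g.appLE W.1 (g ⁻¹ᵁ W.1) le_rfl) a = 0
    rw [Scheme.Hom.map_appLE, Scheme.Hom.appLE, CommRingCat.comp_apply]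
    erw [ha]
    exact map_zero _
  have h1 : pushout.inr (j.appLE ⊤ ⊤ le_top) (p.appLE ⊤ W.1 le_top) aW = 0 := by
    apply (ConcreteCategory.bijective_of_isIso (pushoutSection hg.flip (US := ⊤) (UX := ⊤)
      (UT := W.1) (le_top : W.1 ≤ p ⁻¹ᵁ ⊤) (le_top : (⊤ : (Spec (CommRingCat.of K)).Opens) ≤ j ⁻¹ᵁ ⊤) (UY := g ⁻¹ᵁ W.1) _)).1
    rw [map_zero, ← CommRingCat.comp_apply, pushout.inr_desc]
    exact h0
  have h2 := congr($(hp.inr_isoPushout_inv) aW)
  rw [CommRingCat.comp_apply] at h2
  exact h2.symm.trans ((congrArg hp.isoPushout.inv h1).trans (map_zero _))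

/-- A proper flat scheme over a DVR whose generic fibre has only constant functions has global
functions `R`. -/
theorem toGlobal_bijective_of_appTop {R : Type u} [CommRing R] [IsDomain R]
    [IsDiscreteValuationRing R] {X C : Scheme.{u}} (p : X ⟶ Spec (CommRingCat.of R)) [IsProper p]
    [Flat p] (g : C ⟶ X) (f : C ⟶ Spec (CommRingCat.of (FractionRing R)))
    (hC : Function.Bijective f.appTop)
    (hg : IsPullback g f p (Spec.map (CommRingCat.ofHom (algebraMap R (FractionRing R))))) :
    Function.Bijective (Coh.toGlobal p) := by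
  let K := FractionRing R
  let j : Spec (CommRingCat.of K) ⟶ Spec (CommRingCat.of R) :=
    Spec.map (CommRingCat.ofHom (algebraMap R K))
  haveI : Flat j := (HasRingHomProperty.Spec_iff (P := @Flat)).mpr
    (RingHom.flat_algebraMap_iff.mpr (IsLocalization.flat K (nonZeroDivisors R)))
  haveI : CompactSpace X := QuasiCompact.compactSpace_of_compactSpace p
  let ρ : Γ(X, ⊤) →+* K := (Scheme.ΓSpecIso (CommRingCat.of K)).hom.hom.comp
    ((RingEquiv.ofBijective f.appTop.hom hC).symm.toRingHom.comp g.appTop.hom)
  have hjR : ∀ x : R, j.appTop ((Scheme.ΓSpecIso (CommRingCat.of R)).inv x) =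
      (Scheme.ΓSpecIso (CommRingCat.of K)).inv (algebraMap R K x) := fun x =>
    congr($(Scheme.ΓSpecIso_inv_naturality (CommRingCat.ofHom (algebraMap R K))) x).symm
  have hρR : ∀ x : R, ρ (Coh.toGlobal p x) = algebraMap R K x := fun x => by
    have h1 : g.appTop (Coh.toGlobal p x) =
        f.appTop ((Scheme.ΓSpecIso (CommRingCat.of K)).inv (algebraMap R K x)) := by
      rw [← hjR]
      change (p.appTop ≫ g.appTop) _ = (j.appTop ≫ f.appTop) _
      rw [← Scheme.Hom.comp_appTop, ← Scheme.Hom.comp_appTop, hg.w]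
    change (Scheme.ΓSpecIso (CommRingCat.of K)).hom
      ((RingEquiv.ofBijective f.appTop.hom hC).symm (g.appTop (Coh.toGlobal p x))) = _
    rw [h1]
    erw [(RingEquiv.ofBijective f.appTop.hom hC).symm_apply_apply]
    exact congr($((Scheme.ΓSpecIso (CommRingCat.of K)).inv_hom_id) (algebraMap R K x))
  have hρi : Function.Injective g.appTop := appTop_injective_of_generic p g f hg
  constructor
  · intro x y hxy
    apply IsFractionRing.injective R K
    rw [← hρR, ← hρR, hxy]
  intro a
  have hint : IsIntegral R (ρ a) := by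
    obtain ⟨m, hm, hma⟩ := isIntegral_appTop_of_universallyClosed p a
    refine ⟨m.map (Scheme.ΓSpecIso (CommRingCat.of R)).hom.hom, hm.map _, ?_⟩
    rw [Polynomial.eval₂_map]
    have : (algebraMap R K).comp (Scheme.ΓSpecIso (CommRingCat.of R)).hom.hom =
        ρ.comp p.appTop.hom := by
      ext c
      have h2 := hρR ((Scheme.ΓSpecIso (CommRingCat.of R)).hom c)
      have h3 : (Scheme.ΓSpecIso (CommRingCat.of R)).inv
          ((Scheme.ΓSpecIso (CommRingCat.of R)).hom c) = c :=
        congr($((Scheme.ΓSpecIso (CommRingCat.of R)).hom_inv_id) c)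
      refine h2.symm.trans ?_
      change ρ (p.appTop _) = ρ (p.appTop c)
      erw [h3]
    rw [this, ← Polynomial.hom_eval₂, hma, map_zero]
  obtain ⟨x, hx⟩ := IsIntegrallyClosed.algebraMap_eq_of_integral hint
  refine ⟨x, ?_⟩
  have hρ : Function.Injective ρ :=
    (Scheme.ΓSpecIso (CommRingCat.of K)).commRingCatIsoToRingEquiv.injective.comp
      ((RingEquiv.ofBijective f.appTop.hom hC).symm.injective.comp hρi)
  exact hρ (by rw [hρR, hx])

/-- A proper flat scheme over a DVR whose generic fibre is smooth, proper and geometrically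
connected has global functions `R`. -/
theorem toGlobal_bijective_of_generic {R : Type u} [CommRing R] [IsDomain R]
    [IsDiscreteValuationRing R] {X C : Scheme.{u}} (p : X ⟶ Spec (CommRingCat.of R)) [IsProper p]
    [Flat p] (g : C ⟶ X) (f : C ⟶ Spec (CommRingCat.of (FractionRing R)))
    [Smooth f] [IsProper f] [GeometricallyConnected f]
    (hg : IsPullback g f p (Spec.map (CommRingCat.ofHom (algebraMap R (FractionRing R))))) :
    Function.Bijective (Coh.toGlobal p) :=
  toGlobal_bijective_of_appTop p g f (appTop_bijective_of_geometricallyConnected f) hg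

end Groth.ModelsGraphs.GlobalFun
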