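import Groth.Agent.Variety2.Normal
import Groth.Prelude.Def_Pi1
import Mathlib.RingTheory.IntegralClosure.GoingDown
import Mathlib.AlgebraicGeometry.Morphisms.QuasiFinite

/-!
# Finite surjective morphisms onto normal schemes are generalizing
-/

set_option autoImplicit false

universe u

open CategoryTheory CategoryTheory.Limits AlgebraicGeometry TopologicalSpace

namespace Groth.ModelsGraphs.GoingDownNormal

/-- Going down for a finite surjective morphism of integral schemes with normal target. -/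
theorem generalizingMap {X Y : Scheme.{u}} [IsIntegral X] [IsIntegral Y]
    (hY : ∀ y : Y, IsIntegrallyClosed (Y.presheaf.stalk y)) (f : X ⟶ Y) [IsFinite f] [Surjective f] :
    GeneralizingMap f := by
  intro x y' hy
  obtain ⟨_, ⟨V, hV, rfl⟩, hxV, -⟩ :=
    Y.isBasis_affineOpens.exists_subset_of_mem_open (Set.mem_univ (f x)) isOpen_univ
  have hyV : y' ∈ V := hy.mem_open V.2 hxV
  haveI : Nonempty V := ⟨⟨f x, hxV⟩⟩
  let U := f ⁻¹ᵁ V
  haveI : Nonempty U := ⟨⟨x, hxV⟩⟩
  have hU : IsAffineOpen U := hV.preimage f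
  let φ := (f.appLE V U le_rfl).hom
  have hsq : ∀ q, hV.fromSpec (PrimeSpectrum.comap φ q) = f (hU.fromSpec q) := fun q => by
    have h := congr(($(hV.SpecMap_appLE_fromSpec f hU (le_refl U))) q)
    exact h
  have hrange : ∀ p : PrimeSpectrum Γ(Y, V), ∃ q, PrimeSpectrum.comap φ q = p := fun p => by
    obtain ⟨u, hu⟩ := f.surjective (hV.fromSpec p)
    have huU : u ∈ U := by
      change f u ∈ V
      rw [hu, ← SetLike.mem_coe, ← hV.range_fromSpec]
      exact Set.mem_range_self p
    obtain ⟨q, rfl⟩ : u ∈ Set.range hU.fromSpec := by rw [hU.range_fromSpec]; exact huU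
    exact ⟨q, hV.fromSpec.isOpenEmbedding.injective ((hsq q).trans hu)⟩
  letI : Algebra Γ(Y, V) Γ(X, U) := φ.toAlgebra
  haveI : IsIntegrallyClosed Γ(Y, V) := Groth.Variety2.isIntegrallyClosed_Γ hY V
  haveI : FaithfulSMul Γ(Y, V) Γ(X, U) := by
    rw [faithfulSMul_iff_algebraMap_injective, injective_iff_map_eq_zero]
    intro a ha
    refine (nilpotent_iff_mem_prime.2 fun p hp => ?_ : IsNilpotent a).eq_zero
    obtain ⟨q, hq⟩ := hrange ⟨p, hp⟩
    have hqp : Ideal.comap φ q.asIdeal = p := congrArg PrimeSpectrum.asIdeal hq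
    rw [← hqp, Ideal.mem_comap, show φ a = 0 from ha]
    exact zero_mem _
  haveI : Algebra.IsIntegral Γ(Y, V) Γ(X, U) := by
    have hfin : φ.Finite := by
      have h := IsFinite.finite_app (f := f) V hV
      simpa [φ, U, Scheme.Hom.app_eq_appLE] using h
    haveI : Module.Finite Γ(Y, V) Γ(X, U) := hfin
    infer_instance
  have hgen : GeneralizingMap (PrimeSpectrum.comap φ) :=
    Algebra.HasGoingDown.iff_generalizingMap_primeSpectrumComap.1 inferInstance
  obtain ⟨p, rfl⟩ : y' ∈ Set.range hV.fromSpec := by rw [hV.range_fromSpec]; exact hyV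
  obtain ⟨q, rfl⟩ : x ∈ Set.range hU.fromSpec := by rw [hU.range_fromSpec]; exact hxV
  rw [← hsq, hV.fromSpec.isOpenEmbedding.isInducing.specializes_iff] at hy
  obtain ⟨q', hq', rfl⟩ := hgen hy
  exact ⟨hU.fromSpec q', hq'.map hU.fromSpec.continuous, (hsq q').symm⟩

/-- Distinct points of one fibre of a finite morphism do not specialise. -/
theorem eq_of_specializes {X Y : Scheme.{u}} (f : X ⟶ Y) [IsFinite f] {a b : X} (h : a ⤳ b)
    (hab : f a = f b) : a = b := by
  let F := f ⁻¹' {f b}
  haveI : DiscreteTopology F := (f.isDiscrete_preimage_singleton (f b)).to_subtype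
  have hs : (⟨a, hab⟩ : F) ⤳ ⟨b, rfl⟩ := (Topology.IsInducing.subtypeVal.specializes_iff).1 h
  exact congrArg Subtype.val (specializes_iff_eq.1 hs)

end Groth.ModelsGraphs.GoingDownNormal
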