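import Groth.Prelude.Def_Canon
import Groth.Agent.QCohMod.QCQS
import Groth.Agent.QCohMod.Category
import Groth.Agent.SiteCohomology.Flasque
import Groth.Agent.CohTwo.Glue
import Mathlib.RingTheory.DiscreteValuationRing.Basic

/-!
# Extending sections of a dualizing sheaf across finitely many closed points

For `X` proper over a discrete valuation ring with a 1-dualizing pair `(ω, tr)`, sections of `ω`
over an open subset with finite complement of closed points extend uniquely.
-/

universe u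

open CategoryTheory CategoryTheory.Limits AlgebraicGeometry Opposite TopologicalSpace

namespace Groth.ModelsGraphs.DualExtend

open Groth.QCohMod (res resFun res_res res_self res_app res_smul resFun_resFun)

variable {X : Scheme.{u}}

/-- A global function on an open. -/
noncomputable abbrev cAt (c : Γ(X, ⊤)) (W : X.Opens) : Γ(X, W) := resFun X (le_top : W ≤ ⊤) c

/-- Multiplication by a global function. -/
noncomputable def smulHom (M : X.Modules) (c : Γ(X, ⊤)) : M ⟶ M :=
  ⟨PresheafOfModules.homMk (Coh.smulAb M c).hom fun W (r : Γ(X, W.unop)) (s : Γ(M, W.unop)) => by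
    change cAt c W.unop • r • s = r • cAt c W.unop • s
    exact smul_comm _ _ _⟩

lemma smulHom_app (M : X.Modules) (c : Γ(X, ⊤)) (W : X.Opens) (s : Γ(M, W)) :
    (smulHom M c).app W s = cAt c W • s := rfl

lemma smulHom_comm {M N : X.Modules} (φ : M ⟶ N) (c : Γ(X, ⊤)) :
    smulHom M c ≫ φ = φ ≫ smulHom N c :=
  Groth.CohTwo.hom_ext_app fun W s => φ.app_smul _ s

lemma res_bijective_of_le (M : X.Modules) {A B : X.Opens} (h : B ≤ A) (h' : A ≤ B) :
    Function.Bijective (res M h) :=
  Function.bijective_iff_has_inverse.mpr ⟨res M h', fun x => by rw [res_res, res_self],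
    fun x => by rw [res_res, res_self]⟩

lemma res_smulc (M : X.Modules) (c : Γ(X, ⊤)) {W V : X.Opens} (h : V ≤ W) (s : Γ(M, W)) :
    res M h (cAt c W • s) = cAt c V • res M h s := by
  rw [res_smul, resFun_resFun]

lemma res_smulc_pow (M : X.Modules) (c : Γ(X, ⊤)) {W V : X.Opens} (h : V ≤ W) (n : ℕ)
    (s : Γ(M, W)) :
    res M h (cAt c W ^ n • s) = cAt c V ^ n • res M h s := by
  rw [res_smul, map_pow, resFun_resFun]

section Torsion

variable {M : X.Modules} {c : Γ(X, ⊤)}

lemma pow_smul_injective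
    (htf : ∀ (W : X.Opens) (s : Γ(M, W)), cAt c W • s = 0 → s = 0)
    (W : X.Opens) : ∀ (n : ℕ) (s : Γ(M, W)), cAt c W ^ n • s = 0 → s = 0
  | 0, s, h => by simpa using h
  | n + 1, s, h => pow_smul_injective htf W n s (htf W _ (by rwa [smul_smul, ← pow_succ']))

/-- A section of a torsion-free quasi-coherent module vanishing where `c` is invertible is zero. -/
lemma eq_zero_of_res_basicOpen [M.IsQuasicoherent]
    (htf : ∀ (W : X.Opens) (s : Γ(M, W)), cAt c W • s = 0 → s = 0)
    {W E : X.Opens} (hE : W ⊓ X.basicOpen c ≤ E) (hEW : E ≤ W) (a : Γ(M, W))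
    (ha : res M hEW a = 0) : a = 0 := by
  refine Groth.CohTwo.eq_of_local M a 0 fun x hx => ?_
  obtain ⟨_, ⟨A, hA, rfl⟩, hxA, hAW⟩ := X.isBasis_affineOpens.exists_subset_of_mem_open
    (SetLike.mem_coe.mpr hx) W.isOpen
  have hAW : A ≤ W := hAW
  refine ⟨A, hAW, hxA, ?_⟩
  change res M hAW a = res M hAW 0
  rw [map_zero]
  have hD : X.basicOpen (cAt c A) ≤ E := by
    rw [Scheme.basicOpen_res]
    exact (inf_le_inf_right _ hAW).trans hE
  obtain ⟨n, hn⟩ := Groth.QCohMod.exists_pow_smul_eq_zero M hA (cAt c A) (res M hAW a)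
    (by rw [res_res, ← res_res M hEW hD, ha, map_zero])
  exact pow_smul_injective htf A n _ hn

end Torsion

section Duality

variable (A : Type u) [CommRing A] [X.Over (Spec (CommRingCat.of A))]

lemma HHlin_comp {F G H : X.Modules} (φ : F ⟶ G) (ψ : G ⟶ H) (r : ℕ) (x : Coh.HH X F r) :
    Canon.HHlin A (φ ≫ ψ) r x = Canon.HHlin A ψ r (Canon.HHlin A φ r x) := by
  change Sheaf.H.map _ r x = Sheaf.H.map _ r (Sheaf.H.map _ r x)
  rw [← Sheaf.H.map_comp_apply, ← Functor.map_comp]
  rfl

lemma HHlin_smulHom (F : X.Modules) (a : A) (r : ℕ) (x : Coh.HH X F r) :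
    Canon.HHlin A (smulHom F (Coh.toGlobal (X ↘ Spec (CommRingCat.of A)) a)) r x = a • x := rfl

lemma HHlin_id (F : X.Modules) (r : ℕ) (x : Coh.HH X F r) :
    Canon.HHlin A (𝟙 F) r x = x := by
  change Sheaf.H.map _ r x = x
  erw [CategoryTheory.Functor.map_id]
  exact Sheaf.H.map_id_apply x

lemma HHlin_zero {F G : X.Modules} (r : ℕ) (x : Coh.HH X F r) :
    Canon.HHlin A (0 : F ⟶ G) r x = 0 := by
  change Sheaf.H.map _ r x = 0
  erw [Functor.map_zero]
  change ((Sheaf.functorH _ r).map (0 : Coh.toAb F ⟶ Coh.toAb G)).hom x = 0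
  rw [Functor.map_zero]
  rfl

variable [IsDomain A] {ω : X.Modules} {tr : Coh.HH X ω 1 →ₗ[A] A}

/-- The dualizing module is torsion-free. -/
theorem torsionFree (hω : Canon.IsRDualOver A X 1 ω tr) {a : A} (ha : a ≠ 0) :
    ∀ (W : X.Opens) (s : Γ(ω, W)),
      cAt (Coh.toGlobal (X ↘ Spec (CommRingCat.of A)) a : Γ(X, ⊤)) W • s = 0 → s = 0 := by
  obtain ⟨hq, hbij⟩ := hω
  haveI : ω.IsQuasicoherent := hq
  let m := smulHom ω (Coh.toGlobal (X ↘ Spec (CommRingCat.of A)) a)
  have hκ : kernel.ι m = 0 := by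
    refine (hbij (kernel m) (Groth.QCohMod.isQCoh_kernel m)).1 ?_
    apply LinearMap.ext
    intro x
    change tr (Canon.HHlin A (kernel.ι m) 1 x) = tr (Canon.HHlin A 0 1 x)
    rw [HHlin_zero, map_zero]
    have h : a • Canon.HHlin A (kernel.ι m) 1 x = 0 := by
      rw [← HHlin_smulHom, ← HHlin_comp]
      change Canon.HHlin A (kernel.ι m ≫ m) 1 x = 0
      rw [kernel.condition, HHlin_zero]
    have h2 := congrArg tr h
    rw [map_smul, map_zero, smul_eq_mul] at h2
    exact (mul_eq_zero.mp h2).resolve_left ha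
  have : Mono m := Preadditive.mono_of_kernel_zero hκ
  intro W s hs
  apply Groth.CohTwo.app_injective m W
  rw [map_zero]
  exact hs

end Duality

/-- An abelian sheaf which is zero on all opens avoiding a finite set of closed points is flasque. -/
theorem isFlasque_of_zero_off (Q : CohTop.Ab X.toTopCat) {U : X.Opens}
    (hfin : ((U : Set X)ᶜ).Finite) (hcl : ∀ x : X, x ∉ U → IsClosed ({x} : Set X))
    (h0 : ∀ W : X.Opens, W ≤ U → ∀ q : Q.obj.obj (op W), q = 0) :
    TopCat.Sheaf.IsFlasque Q := by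
  rw [Groth.SiteCohomology.isFlasque_iff_surjective]
  suffices h : ∀ (W V : X.Opens) (f : V ⟶ W) (q : Q.obj.obj (op V)), ∃ s, Q.obj.map f.op s = q from
    fun W V f => h W V f
  intro W V f q
  have hclS : IsClosed ((V : Set X) ∩ (U : Set X)ᶜ) := by
    rw [← Set.biUnion_of_singleton ((V : Set X) ∩ (U : Set X)ᶜ)]
    exact (hfin.subset Set.inter_subset_right).isClosed_biUnion fun x hx => hcl x hx.2
  let W' : X.Opens := ⟨(W : Set X) ∩ ((V : Set X) ∩ (U : Set X)ᶜ)ᶜ, W.isOpen.inter hclS.isOpen_compl⟩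
  let B : ULift.{u} Bool → X.Opens := fun b => if b.down then V else W'
  have hB : ∀ b, B b ≤ W := by
    rintro ⟨_ | _⟩
    · exact fun x hx => hx.1
    · exact f.le
  have hcov : W ≤ iSup B := fun x hx => by
    by_cases hxV : x ∈ V
    · exact Opens.mem_iSup.2 ⟨⟨true⟩, hxV⟩
    · exact Opens.mem_iSup.2 ⟨⟨false⟩, hx, fun h => hxV h.1⟩
  have hVW' : ∀ x, x ∈ V → x ∈ W' → x ∈ U := fun x hxV hxW => by
    by_contra hxU
    exact hxW.2 ⟨hxV, hxU⟩
  let sf : ∀ b, Q.obj.obj (op (B b)) := fun b => match b with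
    | ⟨true⟩ => q
    | ⟨false⟩ => (0 : Q.obj.obj (op W'))
  obtain ⟨s, hs, -⟩ := TopCat.Sheaf.existsUnique_gluing' Q B W (fun b => homOfLE (hB b)) hcov sf (by
    rintro ⟨_ | _⟩ ⟨_ | _⟩
    · rfl
    · exact (h0 (W' ⊓ V) (fun x hx => hVW' x hx.2 hx.1) _).trans
        (h0 (W' ⊓ V) (fun x hx => hVW' x hx.2 hx.1) _).symm
    · exact (h0 (V ⊓ W') (fun x hx => hVW' x hx.1 hx.2) _).trans
        (h0 (V ⊓ W') (fun x hx => hVW' x hx.1 hx.2) _).symm
    · rfl)
  exact ⟨s, hs ⟨true⟩⟩

/-- A morphism which is bijective on opens avoiding finitely many closed points, and is a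
monomorphism, is surjective on `H¹`. -/
theorem H_one_surjective {M N : X.Modules} (f : M ⟶ N) [Mono f] {U : X.Opens}
    (hfin : ((U : Set X)ᶜ).Finite) (hcl : ∀ x : X, x ∉ U → IsClosed ({x} : Set X))
    (hsurj : ∀ W : X.Opens, W ≤ U → Function.Surjective (f.app W)) :
    Function.Surjective (Sheaf.H.map ((SheafOfModules.toSheaf X.ringCatSheaf).map f) 1) := by
  let F := (SheafOfModules.toSheaf X.ringCatSheaf).map f
  haveI : Mono F := @Functor.map_mono _ _ _ _ (SheafOfModules.toSheaf.{u} X.ringCatSheaf) _ _ _ f ‹_›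
  let S : ShortComplex (CohTop.Ab X.toTopCat) := ShortComplex.mk F (cokernel.π F) (cokernel.condition F)
  have hS : S.ShortExact :=
    { exact := ShortComplex.exact_of_g_is_cokernel _ (cokernelIsCokernel F)
      mono_f := inferInstanceAs (Mono F)
      epi_g := inferInstanceAs (Epi (cokernel.π F)) }
  have hls : Sheaf.IsLocallySurjective S.g :=
    (Sheaf.isLocallySurjective_iff_epi' AddCommGrpCat.{u} S.g).2 hS.epi_g
  have h0 : ∀ W : X.Opens, W ≤ U → ∀ q : S.X₃.obj.obj (op W), q = 0 := by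
    intro W hW q
    have hmem := hls.imageSieve_mem q
    choose W' hle hW'mem hxW' using fun x : W => hmem x.1 x.2
    refine TopCat.Sheaf.eq_of_locally_eq' S.X₃ W' W hle
      (fun x hx => Opens.mem_iSup.2 ⟨⟨x, hx⟩, hxW' ⟨x, hx⟩⟩) q 0 fun i => ?_
    obtain ⟨e, he⟩ := hW'mem i
    obtain ⟨s, hs⟩ := hsurj (W' i) ((hle i).le.trans hW) e
    rw [map_zero, ← he]
    have hcomp : S.g.hom.app (op (W' i)) (F.hom.app (op (W' i)) s) = 0 := by
      change ((S.f ≫ S.g).hom.app (op (W' i))) s = 0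
      rw [S.zero]
      rfl
    rw [← hcomp]
    congr 1
    exact hs.symm
  haveI := isFlasque_of_zero_off S.X₃ hfin hcl h0
  have hsub : Subsingleton (CohTop.H S.X₃ 1) :=
    Groth.SiteCohomology.subsingleton_H_succ_of_flasque S.X₃ 0
  intro y
  exact Abelian.Ext.covariant_sequence_exact₂ _ hS y (hsub.elim _ _)

section Main

variable {R : Type u} [CommRing R] [IsDomain R] [IsDiscreteValuationRing R]
  [X.Over (Spec (CommRingCat.of R))]

local notation "γ" => Coh.toGlobal (X ↘ Spec (CommRingCat.of R))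

/-- A closed point of a proper scheme over a DVR lies outside the locus where a uniformizer is
invertible. -/
lemma not_mem_basicOpen [IsProper (X ↘ Spec (CommRingCat.of R))] {π : R} (hπ : Irreducible π)
    {x : X} (hx : IsClosed ({x} : Set X)) : x ∉ X.basicOpen (γ π : Γ(X, ⊤)) := by
  intro hmem
  let p := X ↘ Spec (CommRingCat.of R)
  have h1 := p.isClosedMap _ hx
  rw [Set.image_singleton] at h1
  have h2 : (p x).asIdeal.IsMaximal := (PrimeSpectrum.isClosed_singleton_iff_isMaximal _).mp h1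
  have h3 : π ∈ (p x).asIdeal := by
    rw [IsLocalRing.eq_maximalIdeal h2]
    exact (IsLocalRing.mem_maximalIdeal π).mpr hπ.not_isUnit
  have h4 : p x ∈ (Spec (CommRingCat.of R)).basicOpen ((Scheme.ΓSpecIso (CommRingCat.of R)).inv π) := by
    have h5 : x ∈ p ⁻¹ᵁ (Spec (CommRingCat.of R)).basicOpen
        ((Scheme.ΓSpecIso (CommRingCat.of R)).inv π) := by
      rw [Scheme.preimage_basicOpen]
      exact hmem
    exact h5
  rw [basicOpen_eq_of_affine] at h4
  exact h4 h3

theorem bijective_res [IsProper (X ↘ Spec (CommRingCat.of R))]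
    (ω : X.Modules) (tr : Coh.HH X ω 1 →ₗ[R] R) (hω : Canon.IsRDualOver R X 1 ω tr)
    (U : X.Opens) (hfin : ((U : Set X)ᶜ).Finite) (hcl : ∀ x : X, x ∉ U → IsClosed ({x} : Set X))
    (V : X.Opens) : Function.Bijective (res ω (inf_le_left : V ⊓ U ≤ V)) := by
  obtain ⟨π, hπ⟩ := IsDiscreteValuationRing.exists_irreducible R
  let c : Γ(X, ⊤) := γ π
  haveI : ω.IsQuasicoherent := hω.1
  have htf : ∀ (W : X.Opens) (s : Γ(ω, W)), cAt c W • s = 0 → s = 0 :=
    torsionFree R hω hπ.ne_zero
  have hD : X.basicOpen c ≤ U := fun x hx => by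
    by_contra hxU
    exact not_mem_basicOpen hπ (hcl x hxU) hx
  have hinj : ∀ (W E : X.Opens) (h : E ≤ W), W ⊓ U ≤ E → Function.Injective (res ω h) :=
    fun W E h hE a b hab => sub_eq_zero.mp <| eq_zero_of_res_basicOpen htf
      ((inf_le_inf_left _ hD).trans hE) h (a - b) (by rw [map_sub, hab, sub_self])
  -- saturation: if `c • t` extends then `t` extends
  have hsat : ∀ (W : X.Opens) (s : Γ(ω, W)) (t : Γ(ω, W ⊓ U)),
      res ω inf_le_left s = cAt c (W ⊓ U) • t → ∃ u, res ω inf_le_left u = t := by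
    haveI : IsLocallyNoetherian X :=
      LocallyOfFiniteType.isLocallyNoetherian (X ↘ Spec (CommRingCat.of R))
    haveI : CompactSpace X := QuasiCompact.compactSpace_of_compactSpace (X ↘ Spec (CommRingCat.of R))
    haveI : IsNoetherian X := ⟨⟩
    haveI : (ω.restrict U.ι).IsQuasicoherent :=
      Scheme.Modules.isQuasicoherent_restrictFunctor U.ι ω
    let G := (Scheme.Modules.pushforward U.ι).obj (ω.restrict U.ι)
    haveI : G.IsQuasicoherent := Groth.QCohMod.isQCoh_pushforward (ω.restrict U.ι) U.ι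
    let ι : ω ⟶ G := (Scheme.Modules.restrictAdjunction U.ι).unit.app ω
    have himg : ∀ W : X.Opens, W ⊓ U ≤ U.ι ''ᵁ U.ι ⁻¹ᵁ W := fun W => by
      rw [Scheme.Hom.image_preimage_eq_opensRange_inf, Scheme.Opens.opensRange_ι, inf_comm]
    have himg' : ∀ W : X.Opens, U.ι ''ᵁ U.ι ⁻¹ᵁ W ≤ W ⊓ U := fun W => by
      rw [Scheme.Hom.image_preimage_eq_opensRange_inf, Scheme.Opens.opensRange_ι, inf_comm]
    have hι : ∀ W, Function.Injective (ι.app W) := fun W =>
      hinj W _ (U.ι.image_preimage_le W) (himg W)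
    have hιU : ∀ W, W ≤ U → Function.Bijective (ι.app W) := fun W hW =>
      res_bijective_of_le ω (U.ι.image_preimage_le W) ((le_inf le_rfl hW).trans (himg W))
    haveI : Mono ι := (Groth.CohTwo.mono_iff_app_injective ι).2 hι
    let D : ω ⊞ G ⟶ G := biprod.fst ≫ ι - biprod.snd ≫ smulHom G c
    let k : kernel D ⟶ ω ⊞ G := kernel.ι D
    let lam : ω ⟶ kernel D := kernel.lift D (biprod.lift (smulHom ω c) ι) (by
      simp [D, smulHom_comm])
    have hlam : lam ≫ k = biprod.lift (smulHom ω c) ι := kernel.lift_ι _ _ _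
    haveI : Mono lam := by
      haveI : Mono (lam ≫ k ≫ biprod.snd) := by
        rw [← Category.assoc, hlam, biprod.lift_snd]
        infer_instance
      exact mono_of_mono lam (k ≫ biprod.snd)
    -- sections of the kernel are determined by the two projections
    have hext : ∀ (W : X.Opens) (e e' : Γ(kernel D, W)),
        (k ≫ biprod.fst).app W e = (k ≫ biprod.fst).app W e' →
        (k ≫ biprod.snd).app W e = (k ≫ biprod.snd).app W e' → e = e' := by
      intro W e e' h1 h2
      apply Groth.CohTwo.app_injective k W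
      have htot : ∀ x : Γ(ω ⊞ G, W), x = (biprod.inl : ω ⟶ ω ⊞ G).app W ((biprod.fst : ω ⊞ G ⟶ ω).app W x) +
          (biprod.inr : G ⟶ ω ⊞ G).app W ((biprod.snd : ω ⊞ G ⟶ G).app W x) := fun x => by
        have := congr(($(biprod.total (X := ω) (Y := G))).app W x)
        exact this.symm
      rw [htot (k.app W e), htot (k.app W e')]
      exact congrArg₂ (fun a b => (biprod.inl : ω ⟶ ω ⊞ G).app W a +
        (biprod.inr : G ⟶ ω ⊞ G).app W b) h1 h2
    have hlam1 : ∀ (W : X.Opens) (s : Γ(ω, W)),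
        (k ≫ biprod.fst).app W (lam.app W s) = cAt c W • s := fun W s => by
      have : lam ≫ k ≫ biprod.fst = smulHom ω c := by
        rw [← Category.assoc, hlam, biprod.lift_fst]
      exact congr(($this).app W s)
    have hlam2 : ∀ (W : X.Opens) (s : Γ(ω, W)),
        (k ≫ biprod.snd).app W (lam.app W s) = ι.app W s := fun W s => by
      have : lam ≫ k ≫ biprod.snd = ι := by rw [← Category.assoc, hlam, biprod.lift_snd]
      exact congr(($this).app W s)
    have hk : ∀ (W : X.Opens) (e : Γ(kernel D, W)),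
        ι.app W ((k ≫ biprod.fst).app W e) = cAt c W • (k ≫ biprod.snd).app W e := by
      intro W e
      have h := congr(($(kernel.condition D)).app W e)
      exact sub_eq_zero.mp h
    have hsurj : ∀ W : X.Opens, W ≤ U → Function.Surjective (lam.app W) := by
      intro W hW e
      obtain ⟨s, hs⟩ := (hιU W hW).2 ((k ≫ biprod.snd).app W e)
      refine ⟨s, hext W _ _ ?_ ((hlam2 W s).trans hs)⟩
      apply (hιU W hW).1
      rw [hlam1, hk, ← hs, Scheme.Modules.Hom.app_smul]
    -- duality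
    have hL : Function.Surjective (Canon.HHlin R lam 1) :=
      H_one_surjective lam hfin hcl hsurj
    have hker : LinearMap.ker (Canon.HHlin R lam 1) ≤ LinearMap.ker tr := by
      intro x hx
      rw [LinearMap.mem_ker] at hx ⊢
      have h1 : Canon.HHlin R (k ≫ biprod.fst) 1 (Canon.HHlin R lam 1 x) = π • x := by
        rw [← HHlin_comp, ← Category.assoc, hlam, biprod.lift_fst]
        rfl
      rw [hx, map_zero] at h1
      have h2 := congrArg tr h1
      rw [map_smul, map_zero, smul_eq_mul] at h2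
      exact (mul_eq_zero.mp h2.symm).resolve_left hπ.ne_zero
    let χ : Coh.HH X (kernel D) 1 →ₗ[R] R :=
      (Submodule.liftQ _ tr hker).comp
        ((Canon.HHlin R lam 1).quotKerEquivOfSurjective hL).symm.toLinearMap
    obtain ⟨φ, hφ⟩ := (hω.2 (kernel D) (Groth.QCohMod.isQCoh_kernel D)).2 χ
    have hid : lam ≫ φ = 𝟙 ω := by
      refine (hω.2 ω hω.1).1 (LinearMap.ext fun x => ?_)
      change tr (Canon.HHlin R (lam ≫ φ) 1 x) = tr (Canon.HHlin R (𝟙 ω) 1 x)
      rw [HHlin_comp, HHlin_id]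
      have h1 : tr (Canon.HHlin R φ 1 (Canon.HHlin R lam 1 x)) = χ (Canon.HHlin R lam 1 x) :=
        LinearMap.congr_fun hφ _
      rw [h1]
      have h2 : ((Canon.HHlin R lam 1).quotKerEquivOfSurjective hL).symm
          (Canon.HHlin R lam 1 x) = Submodule.Quotient.mk x := by
        rw [LinearEquiv.symm_apply_eq]
        rfl
      change Submodule.liftQ _ tr hker _ = _
      rw [LinearEquiv.coe_toLinearMap, h2]
      rfl
    intro W s t hst
    obtain ⟨g, hg⟩ := (res_bijective_of_le ω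
      (U.ι.image_mono (U.ι.preimage_mono (inf_le_left : W ⊓ U ≤ W)))
      ((himg' W).trans ((le_inf le_rfl inf_le_right).trans (himg (W ⊓ U))))).2 (ι.app (W ⊓ U) t)
    let g : Γ(G, W) := g
    have hg : res G (inf_le_left : W ⊓ U ≤ W) g = ι.app (W ⊓ U) t := hg
    have hgs : ι.app W s = cAt c W • g := by
      apply (res_bijective_of_le ω
        (U.ι.image_mono (U.ι.preimage_mono (inf_le_left : W ⊓ U ≤ W)))
        ((himg' W).trans ((le_inf le_rfl inf_le_right).trans (himg (W ⊓ U))))).1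
      change res G inf_le_left (ι.app W s) = res G inf_le_left (cAt c W • g)
      rw [res_app, hst, Scheme.Modules.Hom.app_smul, res_smulc, hg]
    obtain ⟨e, he⟩ := Groth.QCohMod.exists_app_eq_of_mono_exact
      (S := ShortComplex.mk k D (kernel.condition D))
      (ShortComplex.exact_of_f_is_kernel _ (kernelIsKernel D)) W
      ((biprod.inl : ω ⟶ ω ⊞ G).app W s + (biprod.inr : G ⟶ ω ⊞ G).app W g) (by
        change D.app W _ = 0
        rw [map_add]
        change ((biprod.inl : ω ⟶ ω ⊞ G) ≫ D).app W s + ((biprod.inr : G ⟶ ω ⊞ G) ≫ D).app W g = 0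
        have e1 : (biprod.inl : ω ⟶ ω ⊞ G) ≫ D = ι := by simp [D]
        have e2 : (biprod.inr : G ⟶ ω ⊞ G) ≫ D = -smulHom G c := by simp [D]
        rw [e1, e2]
        change ι.app W s + -(cAt c W • g) = 0
        rw [hgs, add_neg_cancel])
    refine ⟨φ.app W e, ?_⟩
    rw [res_app]
    have he1 : (k ≫ biprod.fst).app W e = s := by
      change (biprod.fst : ω ⊞ G ⟶ ω).app W (k.app W e) = s
      erw [he]
      rw [map_add]
      change ((biprod.inl : ω ⟶ ω ⊞ G) ≫ biprod.fst).app W s +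
        ((biprod.inr : G ⟶ ω ⊞ G) ≫ biprod.fst).app W g = s
      rw [biprod.inl_fst, biprod.inr_fst]
      exact add_zero s
    have he2 : (k ≫ biprod.snd).app W e = g := by
      change (biprod.snd : ω ⊞ G ⟶ G).app W (k.app W e) = g
      erw [he]
      rw [map_add]
      change ((biprod.inl : ω ⟶ ω ⊞ G) ≫ biprod.snd).app W s +
        ((biprod.inr : G ⟶ ω ⊞ G) ≫ biprod.snd).app W g = g
      rw [biprod.inl_snd, biprod.inr_snd]
      exact zero_add g
    have hee : res (kernel D) (inf_le_left : W ⊓ U ≤ W) e = lam.app (W ⊓ U) t := by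
      refine hext _ _ _ ?_ ?_
      · rw [← res_app, he1, hlam1, hst]
      · rw [← res_app, he2, hlam2, hg]
    rw [hee]
    exact congr(($hid).app (W ⊓ U) t)
  have hsatn : ∀ (W : X.Opens) (n : ℕ) (s : Γ(ω, W)) (t : Γ(ω, W ⊓ U)),
      res ω inf_le_left s = cAt c (W ⊓ U) ^ n • t → ∃ u, res ω inf_le_left u = t := by
    intro W n
    induction n with
    | zero => intro s t h; exact ⟨s, by simpa using h⟩
    | succ n ih =>
      intro s t h
      obtain ⟨u, hu⟩ := hsat W s (cAt c (W ⊓ U) ^ n • t) (by rw [h, pow_succ', mul_smul])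
      exact ih u t hu
  refine ⟨hinj V _ _ le_rfl, fun t => ?_⟩
  -- local extensions
  have hloc : ∀ x : V, ∃ (W : X.Opens) (hW : W ≤ V), x.1 ∈ W ∧ ∃ u : Γ(ω, W),
      res ω (inf_le_left : W ⊓ U ≤ W) u = res ω (inf_le_inf_right U hW) t := by
    intro x
    obtain ⟨_, ⟨W, hW, rfl⟩, hxW, hWV⟩ := X.isBasis_affineOpens.exists_subset_of_mem_open
      (SetLike.mem_coe.mpr x.2) V.isOpen
    have hWV : W ≤ V := hWV
    refine ⟨W, hWV, hxW, ?_⟩
    have hb : X.basicOpen (cAt c W) = W ⊓ X.basicOpen c := Scheme.basicOpen_res ..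
    obtain ⟨n, s, hs⟩ := Groth.QCohMod.exists_pow_smul_eq_res ω hW (cAt c W)
      (res ω (hb.trans_le (inf_le_inf hWV hD)) t)
    refine hsatn W n s _ ?_
    refine sub_eq_zero.mp (eq_zero_of_res_basicOpen htf (W := W ⊓ U)
      (E := X.basicOpen (cAt c W))
      ((inf_le_inf_right _ inf_le_left).trans hb.ge) (hb.trans_le (inf_le_inf_left _ hD)) _ ?_)
    rw [map_sub, res_res, res_smulc_pow, res_res, hs, resFun_resFun, sub_self]
  choose W hWV hxW u hu using hloc
  obtain ⟨g, hg⟩ := Groth.CohTwo.exists_glue ω W hWV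
    (fun x hx => ⟨⟨x, hx⟩, hxW ⟨x, hx⟩⟩) u (fun i j => by
      apply hinj (W i ⊓ W j) (W i ⊓ W j ⊓ U) inf_le_left le_rfl
      change res ω inf_le_left (res ω inf_le_left (u i)) = res ω inf_le_left (res ω inf_le_right (u j))
      rw [res_res, res_res, ← res_res ω (inf_le_left : W i ⊓ U ≤ W i) (inf_le_inf_right U inf_le_left),
        ← res_res ω (inf_le_left : W j ⊓ U ≤ W j) (inf_le_inf_right U inf_le_right), hu i, hu j,
        res_res, res_res])
  refine ⟨g, ?_⟩
  refine Groth.CohTwo.eq_of_local ω _ _ fun x hx => ?_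
  refine ⟨W ⟨x, hx.1⟩ ⊓ U, inf_le_inf_right U (hWV _), ⟨hxW _, hx.2⟩, ?_⟩
  change res ω _ (res ω _ g) = res ω _ t
  rw [res_res, ← res_res ω (hWV ⟨x, hx.1⟩) inf_le_left]
  have h := hg ⟨x, hx.1⟩
  change res ω (hWV ⟨x, hx.1⟩) g = u ⟨x, hx.1⟩ at h
  rw [h, hu]

end Main

end Groth.ModelsGraphs.DualExtend
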