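import Groth.Agent.PicAux.EffCartierLine
import Groth.Agent.PicAux.TensorLift
import Groth.Agent.PicAux.Powers
import Groth.Agent.LocCohZBase.Triple

/-!
# The sequence `0 → O_P ⊗ I_Z → O_{Z+P} → O_Z → 0` of effective Cartier divisors
-/

set_option autoImplicit false

universe u

open CategoryTheory CategoryTheory.Limits AlgebraicGeometry TopologicalSpace
open Groth.PicAux

namespace Groth.ModelsGraphs.QuotMulSeq

variable {X : Scheme.{u}}

/-- The cokernel of a map with the image of `I ⊂ O` is `O/I`. -/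
noncomputable def cokerIso (I : X.IdealSheafData) :
    cokernel (ClSub.idealModι I) ≅ ClSub.quotMod I :=
  haveI := (shortExact_idealMod I).epi_g
  IsColimit.coconePointUniqueUpToIso (cokernelIsCokernel _) (shortExact_idealMod I).gIsCokernel

/-- The product of the inclusions identifies `I_P ⊗ I_Z` with `I_{Z+P}`. -/
theorem exists_iso_mul {I J : X.IdealSheafData} (hI : BlowUp.IsEffCartierIdeal I)
    (hJ : BlowUp.IsEffCartierIdeal J)
    (φ : CohB1.tensorMod (ClSub.idealMod J) (ClSub.idealMod I) ⟶ Coh.structureModule X)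
    (hφ : ∀ W a b, toFun (φ.app W (tmulSec a b)) =
      OmegaSh.idealSect J W a * OmegaSh.idealSect I W b) :
    ∃ e : CohB1.tensorMod (ClSub.idealMod J) (ClSub.idealMod I) ≅ ClSub.idealMod (I * J),
      e.hom ≫ ClSub.idealModι (I * J) = φ := by
  have h : ∀ x : X, ∃ (W : X.affineOpens) (a : Γ(ClSub.idealMod J, W.1))
      (b : Γ(ClSub.idealMod I, W.1)) (c : Γ(ClSub.idealMod (I * J), W.1)),
      x ∈ W.1 ∧ Gen _ W.1 a ∧ Gen _ W.1 b ∧ Gen _ W.1 c ∧
      OmegaSh.idealSect (I * J) W.1 c =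
        OmegaSh.idealSect J W.1 a * OmegaSh.idealSect I W.1 b := by
    intro x
    obtain ⟨W₀, hxW₀, -, a, ha, hna, hIa⟩ := exists_gen_idealMod hJ x ⊤ trivial
    obtain ⟨W, hxW, hle, b, hb, hnb, hJb⟩ := exists_gen_idealMod hI x W₀.1 hxW₀
    have hIW : J.ideal W = Ideal.span {OmegaSh.idealSect J W.1 (res _ hle a)} := by
      rw [← J.map_ideal (U := W) (V := W₀) hle, hIa, Ideal.map_span, Set.image_singleton,
        idealSect_res']
      rfl
    have hna' : Divisors.IsNzdSec (OmegaSh.idealSect J W.1 (res _ hle a)) := by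
      rw [idealSect_res']
      exact hna.res hle
    have hIJ : (I * J).ideal W = Ideal.span
        {OmegaSh.idealSect J W.1 (res _ hle a) * OmegaSh.idealSect I W.1 b} := by
      simp only [Scheme.IdealSheafData.ideal_mul, Pi.mul_apply]
      rw [hIW, hJb, Ideal.span_singleton_mul_span_singleton, mul_comm]
    obtain ⟨c, hc⟩ := Groth.OmegaSheaf.exists_idealSect (I * J) W
      (hIJ ▸ Ideal.mem_span_singleton_self _)
    exact ⟨W, res _ hle a, b, c, hxW, ha.res hle, hb,
      gen_idealMod W (hc.symm ▸ hna'.mul hnb) (hc.symm ▸ hIJ), hc⟩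
  choose W a b c hxW ha hb hc habc using h
  have hcov : ⨆ x, (W x).1 = ⊤ := eq_top_iff.2 fun x _ => Opens.mem_iSup.2 ⟨x, hxW x⟩
  obtain ⟨e, he⟩ := exists_iso_of_gen (U := fun x => (W x).1)
    hcov _ (fun x => (ha x).tensor (hb x)) c hc
    fun i j r hr => by
      obtain ⟨p, hp⟩ := (ha j).exists_coeff inf_le_right
        (res _ (inf_le_left : (W i).1 ⊓ (W j).1 ≤ (W i).1) (a i))
      obtain ⟨q, hq⟩ := (hb j).exists_coeff inf_le_right
        (res _ (inf_le_left : (W i).1 ⊓ (W j).1 ≤ (W i).1) (b i))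
      rw [res_tmulSec, res_tmulSec, hp, hq, tmulSec_smul_left, tmulSec_smul_right, ← mul_smul] at hr
      have hpq : p * q = r := ((ha j).tensor (hb j)).smul_inj inf_le_right
        (by rw [res_tmulSec]; exact hr)
      refine Groth.OmegaSheaf.idealSect_injective _ _ ?_
      have e1 := congrArg (OmegaSh.idealSect J _) hp
      have e2 := congrArg (OmegaSh.idealSect I _) hq
      simp only [Groth.OmegaSheaf.idealSect_smul, idealSect_res', habc, map_mul] at e1 e2 ⊢
      rw [e1, e2, ← hpq]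
      ring
  refine ⟨e, hom_ext_gen hcov _ (fun x => (ha x).tensor (hb x)) fun x => ?_⟩
  rw [Scheme.Modules.Hom.comp_app, ConcreteCategory.comp_apply, he x]
  exact ((habc x).trans (hφ _ _ _).symm)

/-- `0 → O/J ⊗ I → O/IJ → O/I → 0`. -/
theorem exists_shortExact {I J : X.IdealSheafData} (hI : BlowUp.IsEffCartierIdeal I)
    (hJ : BlowUp.IsEffCartierIdeal J) :
    ∃ S : ShortComplex X.Modules, S.ShortExact ∧
      Nonempty (S.X₁ ≅ CohB1.tensorMod (ClSub.quotMod J) (ClSub.idealMod I)) ∧
      Nonempty (S.X₂ ≅ ClSub.quotMod (I * J)) ∧ Nonempty (S.X₃ ≅ ClSub.quotMod I) := by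
  obtain ⟨u, hu⟩ := exists_leftUnitor (ClSub.idealMod I)
  let T := DCoh.tensorRightMod (ClSub.idealMod I)
  let j := T.map (ClSub.idealModι J) ≫ u.hom
  haveI : Mono (ClSub.idealModι I) := (shortExact_idealMod I).mono_f
  let φ := j ≫ ClSub.idealModι I
  obtain ⟨e, he⟩ := exists_iso_mul hI hJ φ (fun W a b => by
    have h1 : (T.map (ClSub.idealModι J)).app W (tmulSec a b) =
        tmulSec ((ClSub.idealModι J).app W a) b := by
      have h0 : T.map (ClSub.idealModι J) = KoszTw.tensorMap (ClSub.idealModι J) (𝟙 _) := by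
        first
          | rfl
          | (simp [T, DCoh.tensorRightMod, KoszTw.tensorMap]; exact (Category.comp_id _).symm)
      rw [h0]
      exact tensorMap_app_tmulSec _ _ W a b
    change toFun ((ClSub.idealModι I).app W (u.hom.app W ((T.map (ClSub.idealModι J)).app W
      (tmulSec a b)))) = _
    rw [h1, hu, Scheme.Modules.Hom.app_smul, toFun_smul]
    rfl)
  have hSJ := shortExact_idealMod_twist J (isInvertible_idealMod hI)
  haveI := hSJ.epi_g
  let f : cokernel j ⟶ cokernel φ := cokernel.map j φ (𝟙 _) (ClSub.idealModι I)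
    (by simp [φ])
  let g : cokernel φ ⟶ cokernel (ClSub.idealModι I) := cokernel.map φ (ClSub.idealModι I) j (𝟙 _)
    (by simp [φ])
  obtain ⟨w, hw⟩ := Groth.LocCohZBase.shortExact_cokernel_comp j (ClSub.idealModι I) (k := φ) rfl f g
    (cokernel.π_desc _ _ _) ((cokernel.π_desc _ _ _).trans (Category.id_comp _))
  refine ⟨_, hw, ⟨?_⟩, ⟨?_⟩, ⟨cokerIso I⟩⟩
  · exact cokernelCompIsIso (T.map (ClSub.idealModι J)) u.hom ≪≫
      IsColimit.coconePointUniqueUpToIso (cokernelIsCokernel _) hSJ.gIsCokernel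
  · exact cokernelIsoOfEq he.symm ≪≫ cokernelEpiComp e.hom _ ≪≫ cokerIso (I * J)

end Groth.ModelsGraphs.QuotMulSeq
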