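import Groth.Agent.CohFin.Linear
import Groth.Agent.CohC3.ProperSupport
import Groth.Agent.EulerDeg.Coherent
import Mathlib.RingTheory.Length

/-!
# Euler characteristics by lengths over the base ring, in degrees at most one
-/

set_option autoImplicit false

universe u

open CategoryTheory CategoryTheory.Limits AlgebraicGeometry
open Groth.CohFin

namespace Groth.ModelsGraphs.ChiR

variable {A : Type u} [CommRing A] {X : Scheme.{u}} (f : X ⟶ Spec (CommRingCat.of A))

/-- The length of `H^i(X, M)` over the base. -/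
noncomputable def len (M : X.Modules) (i : ℕ) : ℕ∞ := Module.length A (HA f M i)

/-- Finite length in degrees `0, 1`, vanishing in degree `2`. -/
structure Good (M : X.Modules) : Prop where
  zero : len f M 0 ≠ ⊤
  one : len f M 1 ≠ ⊤
  two : Subsingleton (HA f M 2)

/-- `length H⁰ - length H¹`. -/
noncomputable def chi (M : X.Modules) : ℤ := ((len f M 0).toNat : ℤ) - (len f M 1).toNat

/-- Cohomology of isomorphic modules. -/
noncomputable def congrHA {M N : X.Modules} (e : M ≅ N) (i : ℕ) : HA f M i ≃ₗ[A] HA f N i :=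
  LinearEquiv.ofLinear (mapL f e.hom i) (mapL f e.inv i)
    (LinearMap.ext fun x => by rw [LinearMap.comp_apply, ← mapL_comp, e.inv_hom_id, mapL_id]; rfl)
    (LinearMap.ext fun x => by rw [LinearMap.comp_apply, ← mapL_comp, e.hom_inv_id, mapL_id]; rfl)

lemma len_congr {M N : X.Modules} (e : M ≅ N) (i : ℕ) : len f M i = len f N i :=
  (congrHA f e i).length_eq

lemma chi_congr {M N : X.Modules} (e : M ≅ N) : chi f M = chi f N := by
  rw [chi, chi, len_congr f e, len_congr f e]

lemma Good.of_iso {M N : X.Modules} (h : Good f M) (e : M ≅ N) : Good f N where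
  zero := len_congr f e 0 ▸ h.zero
  one := len_congr f e 1 ▸ h.one
  two := haveI := h.two; (congrHA f e 2).symm.toEquiv.subsingleton

lemma good_of_isZero {M : X.Modules} (hM : IsZero M) : Good f M ∧ chi f M = 0 := by
  haveI := fun i => subsingleton_of_isZero (f := f) hM i
  have h : ∀ i, len f M i = 0 := fun i => Module.length_eq_zero
  exact ⟨⟨by simp [h], by simp [h], inferInstance⟩, by simp [chi, h]⟩

/-- Additivity in short exact sequences. -/
theorem good_and_chi_add {S : ShortComplex X.Modules} (hS : S.ShortExact) (h₁ : Good f S.X₁)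
    (h₃ : Good f S.X₃) : Good f S.X₂ ∧ chi f S.X₂ = chi f S.X₁ + chi f S.X₃ := by
  let a := mapL f S.f 0
  let b := mapL f S.g 0
  let d := delta (f := f) hS 0
  let a' := mapL f S.f 1
  let b' := mapL f S.g 1
  have hab : Function.Exact a b := exact_mapL_mapL hS 0
  have hbd : Function.Exact b d := exact_mapL_delta hS 0
  have hda : Function.Exact d a' := exact_delta_mapL hS 0
  have hab' : Function.Exact a' b' := exact_mapL_mapL hS 1
  have hb' : Function.Surjective b' := fun y => by
    haveI := h₁.two
    exact (exact_mapL_delta hS 1 y).1 (Subsingleton.elim _ _)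
  have e1 : len f S.X₂ 0 = len f S.X₁ 0 + Module.length A (LinearMap.range b) :=
    Module.length_eq_add_of_exact a b.rangeRestrict (mapL_zero_injective (f := f) hS)
      b.surjective_rangeRestrict (fun x => by rw [← hab x]; exact Subtype.ext_iff)
  have e2 : len f S.X₃ 0 = Module.length A (LinearMap.range b) + Module.length A (LinearMap.range d) :=
    Module.length_eq_add_of_exact (LinearMap.range b).subtype d.rangeRestrict Subtype.val_injective
      d.surjective_rangeRestrict (fun x => by
        rw [show Set.range (LinearMap.range b).subtype = Set.range b by ext; simp, ← hbd x]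
        exact Subtype.ext_iff)
  have e3 : len f S.X₁ 1 = Module.length A (LinearMap.range d) + Module.length A (LinearMap.range a') :=
    Module.length_eq_add_of_exact (LinearMap.range d).subtype a'.rangeRestrict Subtype.val_injective
      a'.surjective_rangeRestrict (fun x => by
        rw [show Set.range (LinearMap.range d).subtype = Set.range d by ext; simp, ← hda x]
        exact Subtype.ext_iff)
  have e4 : len f S.X₂ 1 = Module.length A (LinearMap.range a') + len f S.X₃ 1 :=
    Module.length_eq_add_of_exact (LinearMap.range a').subtype b' Subtype.val_injective hb'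
      (fun x => by
        rw [show Set.range (LinearMap.range a').subtype = Set.range a' by ext; simp, ← hab' x])
  obtain ⟨l10, h10⟩ := ENat.ne_top_iff_exists.1 h₁.zero
  obtain ⟨l11, h11⟩ := ENat.ne_top_iff_exists.1 h₁.one
  obtain ⟨l30, h30⟩ := ENat.ne_top_iff_exists.1 h₃.zero
  obtain ⟨l31, h31⟩ := ENat.ne_top_iff_exists.1 h₃.one
  rw [← h30] at e2
  obtain ⟨hb0, hd0⟩ := WithTop.add_ne_top.1 (e2 ▸ ENat.natCast_ne_top l30)
  rw [← h11] at e3
  obtain ⟨-, ha0⟩ := WithTop.add_ne_top.1 (e3 ▸ ENat.natCast_ne_top l11)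
  obtain ⟨lb, hlb⟩ := ENat.ne_top_iff_exists.1 hb0
  obtain ⟨ld, hld⟩ := ENat.ne_top_iff_exists.1 hd0
  obtain ⟨la, hla⟩ := ENat.ne_top_iff_exists.1 ha0
  rw [← hlb, ← hld, ← Nat.cast_add, Nat.cast_inj] at e2
  rw [← hld, ← hla, ← Nat.cast_add, Nat.cast_inj] at e3
  rw [← h10, ← hlb, ← Nat.cast_add] at e1
  rw [← hla, ← h31, ← Nat.cast_add] at e4
  refine ⟨⟨by rw [e1]; exact ENat.natCast_ne_top _, by rw [e4]; exact ENat.natCast_ne_top _, ?_⟩, ?_⟩
  · haveI := h₁.two
    haveI := h₃.two
    refine subsingleton_of_forall_eq 0 fun x => ?_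
    obtain ⟨y, rfl⟩ := (exact_mapL_mapL hS 2 x).1 (Subsingleton.elim _ _)
    rw [Subsingleton.elim y 0, map_zero]
  · simp only [chi, ← h10, ← h11, ← h30, ← h31, e1, e4, e2, e3]
    simp only [ENat.toNat_coe]
    push_cast
    ring

/-- Modules pushed forward from a proper curve over a quotient field of the base. -/
theorem good_and_chi_push (k : Type u) [Field k] (φ : A →+* k) (hφ : Function.Surjective φ)
    {Z : Scheme.{u}} [Z.Over (Spec (CommRingCat.of k))] [IsProper (Z ↘ Spec (CommRingCat.of k))]
    (hdim : topologicalKrullDim Z ≤ 1) (i : Z ⟶ X) [IsClosedImmersion i]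
    (hi : i ≫ f = (Z ↘ Spec (CommRingCat.of k)) ≫ Spec.map (CommRingCat.ofHom φ))
    {M : Z.Modules} (hM : Coh.IsCoh M) :
    Good f ((Scheme.Modules.pushforward i).obj M) ∧
      chi f ((Scheme.Modules.pushforward i).obj M) = Curv2.euler k Z M := by
  have hsmul : ∀ (n : ℕ) (a : A) (x : Coh.HH Z M n),
      (show HA (i ≫ f) M n from x) = x ∧
      (show Coh.HH Z M n from a • (show HA (i ≫ f) M n from x)) = φ a • x := fun n a x => by
    refine ⟨rfl, ?_⟩
    change Coh.toGlobal (i ≫ f) a • x = Coh.toGlobal (Z ↘ Spec (CommRingCat.of k)) (φ a) • x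
    congr 1
    rw [hi]
    change ((Z ↘ Spec (CommRingCat.of k)) ≫ Spec.map (CommRingCat.ofHom φ)).appTop
      ((Scheme.ΓSpecIso (CommRingCat.of A)).inv a) = _
    rw [Scheme.Hom.comp_appTop, CommRingCat.comp_apply]
    refine congrArg _ ?_
    exact (ConcreteCategory.congr_hom (Scheme.ΓSpecIso_inv_naturality (CommRingCat.ofHom φ)) a).symm
  have hlen : ∀ n, len f ((Scheme.Modules.pushforward i).obj M) n =
      Module.length k (Coh.HH Z M n) := fun n => by
    obtain ⟨e⟩ := CohC3.nonempty_linearEquiv_push_closed i f n M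
    refine e.length_eq.trans ?_
    haveI : RingHomSurjective φ := ⟨hφ⟩
    let σ : HA (i ≫ f) M n →ₛₗ[φ] Coh.HH Z M n :=
      { toFun := fun x => x
        map_add' := fun _ _ => rfl
        map_smul' := fun a x => (hsmul n a x).2 }
    apply WithBot.coe_injective
    rw [Module.coe_length, Module.coe_length]
    exact Order.krullDim_eq_of_orderIso
      (Submodule.orderIsoMapComapOfBijective σ ⟨fun _ _ h => h, fun x => ⟨x, rfl⟩⟩)
  have hfin : ∀ n, Module.length k (Coh.HH Z M n) = Module.finrank k (Coh.HH Z M n) := fun n => by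
    haveI := Groth.EulerDeg.finite_HH k Z hM n
    exact Module.length_eq_finrank _ _
  refine ⟨⟨by rw [hlen, hfin]; exact ENat.natCast_ne_top _, by rw [hlen, hfin]; exact ENat.natCast_ne_top _, ?_⟩, ?_⟩
  · obtain ⟨e⟩ := CohC3.nonempty_linearEquiv_push_closed i f 2 M
    haveI := Groth.EulerDeg.noetherianSpace_of_proper k Z
    haveI : Subsingleton (HA (i ≫ f) M 2) :=
      Groth.EulerDeg.subsingleton_HH_of_dim_le_one Z hdim M 2 le_rfl
    exact e.toEquiv.subsingleton
  · rw [chi, hlen, hlen, hfin, hfin, Groth.EulerDeg.euler_eq_h0_sub_h1 k Z hdim]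
    simp only [ENat.toNat_coe]

end Groth.ModelsGraphs.ChiR
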