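import Groth.Agent.ModelsGraphs.InterForm
import Groth.Agent.ModelsGraphs.ChiR
import Groth.Agent.ModelsGraphs.QuotMulSeq
import Groth.Agent.Inter.Push
import Groth.Agent.Inter.EulerFamily
import Groth.Agent.EulerDeg.LineBundle
import Groth.Agent.FBaseGeom.AssTensor
import Groth.Agent.SpectralTopology.Dim

/-!
# The genus formula for a regular model
-/

set_option autoImplicit false

universe u

open CategoryTheory CategoryTheory.Limits AlgebraicGeometry TopologicalSpace

namespace Groth.ModelsGraphs.GenusFormula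

open Groth.ModelsGraphs.InterPair Groth.ModelsGraphs.InterForm Groth.ModelsGraphs.Inter

variable {R : Type u} [CommRing R] [IsDomain R] [IsDiscreteValuationRing R]
  {X : Over (Spec (CommRingCat.of R))}

local notation "kR" => IsLocalRing.ResidueField R

/-- `O/I(Γ)` is the direct image of `O_Γ`. -/
theorem nonempty_quotMod_ker {Y Z : Scheme.{u}} (i : Z ⟶ Y) [IsClosedImmersion i] :
    Nonempty (ClSub.quotMod i.ker ≅ (Scheme.Modules.pushforward i).obj (Coh.structureModule Z)) := by
  haveI : IsIso i.toImage := inferInstance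
  haveI : IsIso (Groth.PicAux.pushUnit i.toImage) := by
    rw [Scheme.Modules.Hom.isIso_iff_isIso_app]
    intro U
    rw [ConcreteCategory.isIso_iff_bijective]
    exact ConcreteCategory.bijective_of_isIso (i.toImage.app U)
  exact ⟨(Scheme.Modules.pushforward i.ker.subschemeι).mapIso (asIso (Groth.PicAux.pushUnit i.toImage)) ≪≫
    (Scheme.Modules.pushforwardComp i.toImage i.ker.subschemeι).app _ ≪≫
    (Scheme.Modules.pushforwardCongr i.toImage_imageι).app _⟩

theorem isZero_quotMod_one {Y : Scheme.{u}} :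
    IsZero (ClSub.quotMod (1 : Y.IdealSheafData)) := by
  haveI : IsEmpty (1 : Y.IdealSheafData).subscheme := ⟨fun z => by
    have h : (1 : Y.IdealSheafData).subschemeι z ∈ Set.range (1 : Y.IdealSheafData).subschemeι := ⟨z, rfl⟩
    rw [Scheme.IdealSheafData.range_subschemeι] at h
    simp [Scheme.IdealSheafData.one_eq_top] at h⟩
  rw [IsZero.iff_id_eq_zero]
  ext U x
  have : Subsingleton Γ((1 : Y.IdealSheafData).subscheme, (1 : Y.IdealSheafData).subschemeι ⁻¹ᵁ U) := by
    rw [show (1 : Y.IdealSheafData).subschemeι ⁻¹ᵁ U = ⊥ from Opens.ext (Set.eq_empty_of_isEmpty _)]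
    infer_instance
  exact @Subsingleton.elim _ this _ _

variable [IsProper X.hom]

/-- `χ(O_Γ)`. -/
noncomputable def chiC (Γ : ArSurf.VertComp R X) : ℤ :=
  Curv2.euler kR Γ.curve.left (Coh.structureModule Γ.curve.left)

variable {n : ℕ} {Γs : Fin n → ArSurf.VertComp R X} {L : Fin n → X.left.Modules}

theorem chi_list [Flat X.hom] (hreg : Models.IsRegularScheme X.left) (hΓ : Models.IsComponentList R X Γs)
    (hL : ∀ i, ClSub.IsInverseOf (L i) (ClSub.idealMod (Γs i).ι.ker)) : ∀ l : List (Fin n),
    let I := (l.map fun i => (Γs i).ι.ker).prod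
    BlowUp.IsEffCartierIdeal I ∧
    (∀ i, δ (Γs i) (ClSub.idealMod I) = -(l.map fun j => ArSurf.inter R X (L j) (Γs i)).sum) ∧
    ChiR.Good X.hom (ClSub.quotMod I) ∧
    2 * ChiR.chi X.hom (ClSub.quotMod I) =
      (l.map fun i => 2 * chiC (Γs i) + ArSurf.inter R X (L i) (Γs i)).sum -
        (l.map fun i => (l.map fun j => ArSurf.inter R X (L j) (Γs i)).sum).sum
  | [] => by
    simp only [List.map_nil, List.prod_nil, List.sum_nil, neg_zero, sub_zero]
    obtain ⟨h1, h2⟩ := ChiR.good_of_isZero X.hom (isZero_quotMod_one (Y := X.left))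
    exact ⟨Groth.Divisors.isEffCartierIdeal_top, fun i => δ_idealMod_one (Γs i), h1, by rw [h2, mul_zero]⟩
  | a :: l => by
    obtain ⟨hI, hδ, hgood, hchi⟩ := chi_list hreg hΓ hL l
    haveI : IsLocallyNoetherian X.left := LocallyOfFiniteType.isLocallyNoetherian X.hom
    haveI : IsProper ((Γs a).curve.left ↘ Spec (CommRingCat.of kR)) := isProper_hom (Γs a)
    simp only [List.map_cons, List.prod_cons, List.sum_cons]
    set I := (l.map fun i => (Γs i).ι.ker).prod
    have hD := isEffCartier hreg (range_mem hΓ a)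
    have hδD : ∀ i, δ (Γs i) (ClSub.idealMod (Γs a).ι.ker) = -ArSurf.inter R X (L a) (Γs i) := fun i => by
      rw [δ_eq_inter, δ_inverse (Γs i) (hL a), neg_neg]
    have hDI : BlowUp.IsEffCartierIdeal ((Γs a).ι.ker * I) :=
      Groth.Divisors.isEffCartierIdeal_mul hD hI
    refine ⟨hDI, fun i => ?_, ?_⟩
    · rw [δ_idealMod_mul (Γs i) hD hI, hδD, hδ]
      ring
    obtain ⟨S, hS, ⟨e1⟩, ⟨e2⟩, ⟨e3⟩⟩ := QuotMulSeq.exists_shortExact hI hD
    rw [mul_comm I] at e2
    let N := (Scheme.Modules.pullback (Γs a).ι).obj (ClSub.idealMod I)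
    have hN : PicF.IsInvertible N :=
      Groth.PicAux.isInvertible_pullback (Γs a).ι (Groth.PicAux.isInvertible_idealMod hI)
    obtain ⟨q⟩ := nonempty_quotMod_ker (Γs a).ι
    obtain ⟨t⟩ := Groth.Inter.tensor_push (Γs a).ι (Groth.PicAux.isInvertible_idealMod hI)
      (Coh.structureModule (Γs a).curve.left)
    let e : S.X₁ ≅ (Scheme.Modules.pushforward (Γs a).ι).obj N := e1 ≪≫
      PicGrp.tensorModIso q (Iso.refl _) ≪≫ (Groth.Inter.tensor_comm _ _).some ≪≫ t ≪≫
      (Scheme.Modules.pushforward (Γs a).ι).mapIso (SecTwist.unitorR N)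
    obtain ⟨hg1, hc1⟩ := ChiR.good_and_chi_push X.hom kR (IsLocalRing.residue R)
      IsLocalRing.residue_surjective (le_of_eq (Γs a).dim_eq) (Γs a).ι (Γs a).w
      (Groth.EulerDeg.isCoh_of_isInvertible hN) (M := N)
    have hg1' := hg1.of_iso X.hom e.symm
    have hg3 := hgood.of_iso X.hom e3.symm
    obtain ⟨hg2, hc2⟩ := ChiR.good_and_chi_add X.hom hS hg1' hg3
    refine ⟨hg2.of_iso X.hom e2, ?_⟩
    rw [ChiR.chi_congr X.hom e2.symm, hc2, ChiR.chi_congr X.hom e, hc1, ChiR.chi_congr X.hom e3]
    have hN' : Curv2.euler kR (Γs a).curve.left N =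
        chiC (Γs a) - (l.map fun j => ArSurf.inter R X (L j) (Γs a)).sum := by
      rw [Groth.EulerDeg.euler_eq_deg_add kR N 1, show Curv2.deg kR (Γs a).curve.left N 1 =
        δ (Γs a) (ClSub.idealMod I) from rfl, hδ a, chiC,
        Groth.EulerDeg.euler_structure kR (Γs a).curve.left (le_of_eq (Γs a).dim_eq)]
      ring
    rw [hN']
    have hsym : (l.map fun i => ArSurf.inter R X (L a) (Γs i)).sum =
        (l.map fun j => ArSurf.inter R X (L j) (Γs a)).sum :=
      congrArg List.sum (List.map_congr_left fun i _ => InterForm.inter_symm hreg hΓ hL i a)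
    simp only [List.sum_map_add] at hchi ⊢
    rw [hsym]
    linarith

/-- `2 χ(O_{X_s}) = ∑ m_i (2 χ(O_{Γ_i}) + Γ_i²)`. -/
theorem two_chi_specialFibre [Flat X.hom] (hreg : Models.IsRegularScheme X.left)
    (hΓ : Models.IsComponentList R X Γs)
    (hL : ∀ i, ClSub.IsInverseOf (L i) (ClSub.idealMod (Γs i).ι.ker)) :
    2 * ChiR.chi X.hom (ClSub.quotMod (Models.specialFibreIdeal R X)) =
      ∑ i, (Models.mult R X (Γs i) : ℤ) * (2 * chiC (Γs i) + ArSurf.inter R X (L i) (Γs i)) := by
  haveI : IsLocallyNoetherian X.left := LocallyOfFiniteType.isLocallyNoetherian X.hom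
  haveI : CompactSpace X.left := QuasiCompact.compactSpace_of_compactSpace X.hom
  let l : List (Fin n) := (List.finRange n).flatMap fun i => List.replicate (Models.mult R X (Γs i)) i
  have hsum : ∀ f : Fin n → ℤ, (l.map f).sum = ∑ i, (Models.mult R X (Γs i) : ℤ) * f i := fun f => by
    simp only [l, List.flatMap_def, List.map_flatten, List.map_replicate, List.sum_flatten,
      List.map_map, Function.comp_def, List.sum_replicate, Fin.sum_univ_def, nsmul_eq_mul]
  have hprod : (l.map fun i => (Γs i).ι.ker).prod = Models.specialFibreIdeal R X := by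
    rw [specialFibreIdeal_eq hreg hΓ, Fin.prod_univ_def]
    simp only [l, List.flatMap_def, List.map_flatten, List.map_replicate, List.prod_flatten,
      List.map_map, Function.comp_def, List.prod_replicate]
  obtain ⟨-, -, -, h⟩ := chi_list hreg hΓ hL l
  rw [hprod, hsum, hsum] at h
  rw [h, sub_eq_self]
  refine Finset.sum_eq_zero fun i _ => ?_
  rw [hsum, Finset.sum_congr rfl fun j _ => by rw [InterForm.inter_symm hreg hΓ hL i j],
    InterForm.sum_mult_mul_inter hreg hΓ hL i, mul_zero]

omit [IsProper X.hom] in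
lemma ker_residue :
    (Spec.map (CommRingCat.ofHom (IsLocalRing.residue R))).ker =
      Curv2.idealSheaf R (IsLocalRing.maximalIdeal R) := by
  haveI : IsAffine (Spec (CommRingCat.of R)) := inferInstance
  apply Scheme.IdealSheafData.equivOfIsAffine.injective
  change (Spec.map (CommRingCat.ofHom (IsLocalRing.residue R))).ker.ideal ⟨⊤, isAffineOpen_top _⟩ =
    (Curv2.idealSheaf R (IsLocalRing.maximalIdeal R)).ideal ⟨⊤, isAffineOpen_top _⟩
  rw [Scheme.Hom.ker_apply, Curv2.idealSheaf, Scheme.IdealSheafData.ofIdealTop_ideal]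
  simp only [homOfLE_refl, op_id, CategoryTheory.Functor.map_id, CommRingCat.hom_id, Ideal.map_id]
  let e := Scheme.ΓSpecIso (CommRingCat.of R)
  let e' := Scheme.ΓSpecIso (CommRingCat.of kR)
  let φ : CommRingCat.of R ⟶ CommRingCat.of kR := CommRingCat.ofHom (IsLocalRing.residue R)
  have hnat : ∀ r, (Spec.map φ).appTop (e.inv r) = e'.inv (IsLocalRing.residue R r) := fun r =>
    (ConcreteCategory.congr_hom (Scheme.ΓSpecIso_inv_naturality φ) r).symm
  ext y
  obtain ⟨r, rfl⟩ := (ConcreteCategory.bijective_of_isIso e.inv).2 y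
  constructor
  · intro hr
    refine Ideal.mem_map_of_mem _ ?_
    rw [← IsLocalRing.residue_eq_zero_iff]
    apply (ConcreteCategory.bijective_of_isIso e'.inv).1
    rw [← hnat, map_zero]
    exact hr
  · intro hr
    obtain ⟨s, hs, hse⟩ := (Ideal.mem_map_iff_of_surjective _
      (ConcreteCategory.bijective_of_isIso e.inv).2).1 hr
    rw [← hse, RingHom.mem_ker]
    refine (hnat s).trans ?_
    exact (congrArg _ ((IsLocalRing.residue_eq_zero_iff s).2 hs)).trans (map_zero _)

/-- The genus formula. -/
theorem genus_formula [Flat X.hom] (hreg : Models.IsRegularScheme X.left)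
    (hΓ : Models.IsComponentList R X Γs)
    (hL : ∀ i, ClSub.IsInverseOf (L i) (ClSub.idealMod (Γs i).ι.ker))
    {C : Scheme.{u}} (f : C ⟶ Spec (CommRingCat.of (FractionRing R))) [IsProper f]
    (hdimC : topologicalKrullDim C ≤ 1) (hH0 : IsIso f.appTop) (g : C ⟶ X.left)
    (hg : IsPullback g f X.hom (Spec.map (CommRingCat.ofHom (algebraMap R (FractionRing R))))) :
    2 * (Models.curveGenus (FractionRing R) C f : ℤ) =
      2 + ∑ i, (Models.mult R X (Γs i) : ℤ) *
        (2 * ((Models.h1 R X (Γs i) : ℤ) - (Models.wdeg R X (Γs i) : ℤ)) -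
          ArSurf.inter R X (L i) (Γs i)) := by
  haveI : IsLocallyNoetherian X.left := LocallyOfFiniteType.isLocallyNoetherian X.hom
  haveI : CompactSpace X.left := QuasiCompact.compactSpace_of_compactSpace X.hom
  let σ := Spec.map (CommRingCat.ofHom (IsLocalRing.residue R))
  haveI : IsClosedImmersion σ := IsClosedImmersion.spec_of_surjective _ IsLocalRing.residue_surjective
  let Z := pullback X.hom σ
  let i : Z ⟶ X.left := pullback.fst _ _
  letI : Z.Over (Spec (CommRingCat.of kR)) := ⟨pullback.snd _ _⟩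
  haveI : IsProper (Z ↘ Spec (CommRingCat.of kR)) :=
    inferInstanceAs (IsProper (pullback.snd X.hom σ))
  have hker : i.ker = Models.specialFibreIdeal R X := by
    rw [Scheme.IdealSheafData.ker_fst_of_isClosedImmersion, ker_residue]
    rfl
  -- the closed fibre is one-dimensional
  have hdimZ : topologicalKrullDim Z ≤ 1 := by
    let Y : ULift.{u} (Fin n) → Set Z := fun j => i ⁻¹' Set.range (Γs j.down).ι.base
    have hY : ∀ j, IsClosed (Y j) := fun j =>
      (Γs j.down).ι.isClosedEmbedding.isClosed_range.preimage i.continuous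
    have hcov : ⋃ j, Y j = Set.univ := by
      refine Set.eq_univ_of_forall fun z => ?_
      have hz : i z ∈ Models.specialFibreSet R X := by
        change X.hom (i z) = IsLocalRing.closedPoint R
        rw [← Scheme.Hom.comp_apply, pullback.condition, Scheme.Hom.comp_apply,
          Subsingleton.elim (pullback.snd X.hom σ z) (IsLocalRing.closedPoint kR)]
        exact IsLocalRing.comap_closedPoint (IsLocalRing.residue R)
      obtain ⟨j, hj⟩ := exists_specializes hΓ hz
      exact Set.mem_iUnion.2 ⟨⟨j⟩, (isGenericPoint_genPtOf (Γs j)).specializes_iff_mem.1 hj⟩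
    rw [Groth.SpectralTopology.topologicalKrullDim_eq_iSup_of_closed Y fun T ↦
      Groth.SpectralTopology.isPreirreducible_subset_iUnion_closed T.isIrreducible hY (by simp [hcov])]
    refine iSup_le fun j => ?_
    let h := (Γs j.down).ι.isClosedEmbedding.isEmbedding.toHomeomorph
    let m : Y j → (Γs j.down).curve.left := fun y => h.symm ⟨i y.1, y.2⟩
    have hm : Topology.IsInducing m := h.symm.isInducing.comp
      ((i.isClosedEmbedding.isInducing.comp Topology.IsInducing.subtypeVal).codRestrict (fun y : Y j => y.2))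
    exact hm.topologicalKrullDim_le.trans_eq (Γs j.down).dim_eq
  -- Euler characteristics of the two fibres
  haveI : (Coh.structureModule X.left).IsQuasicoherent := Groth.QCohMod.isQCoh_unit X.left
  letI : C.Over (Spec (CommRingCat.of (FractionRing R))) := ⟨f⟩
  haveI : IsProper (C ↘ Spec (CommRingCat.of (FractionRing R))) := inferInstanceAs (IsProper f)
  haveI : PreconnectedSpace (Spec (CommRingCat.of R)) := inferInstance
  have heul : Curv2.euler (FractionRing R) C (Coh.structureModule C) =
      Curv2.euler kR Z (Coh.structureModule Z) := by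
    have h1 := Groth.Inter.euler_point_eq X.hom (Coh.structureModule X.left) (FractionRing R)
      (Spec.map (CommRingCat.ofHom (algebraMap R (FractionRing R)))) g hg
    have h2 := Groth.Inter.euler_point_eq X.hom (Coh.structureModule X.left) kR σ i
      (IsPullback.of_hasPullback X.hom σ)
    rw [Groth.EulerDeg.euler_congr _ (Groth.PicAux.pullback_structure_iso g).some] at h1
    rw [Groth.EulerDeg.euler_congr _ (Groth.PicAux.pullback_structure_iso i).some] at h2
    rw [h1, h2]
    exact Groth.Inter.euler_fiber_eq X.hom _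
      (Groth.EulerDeg.isCoh_of_isInvertible (Groth.EulerDeg.isInvertible_structureModule _))
      (Groth.FBaseGeom.isFlatOver_structureModule X.hom) _ _
  haveI : IsLocallyNoetherian Z := LocallyOfFiniteType.isLocallyNoetherian (Z ↘ Spec (CommRingCat.of kR))
  obtain ⟨-, hchi⟩ := ChiR.good_and_chi_push X.hom kR (IsLocalRing.residue R)
    IsLocalRing.residue_surjective hdimZ i pullback.condition (M := Coh.structureModule Z)
    (Groth.EulerDeg.isCoh_of_isInvertible (Groth.EulerDeg.isInvertible_structureModule _))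
  obtain ⟨q⟩ := nonempty_quotMod_ker i
  rw [← ChiR.chi_congr X.hom q, hker, ← heul, Groth.EulerDeg.euler_eq_h0_sub_h1 _ C hdimC] at hchi
  have hmain := two_chi_specialFibre hreg hΓ hL
  rw [hchi] at hmain
  -- `h⁰(C, O) = 1`
  have h0 : Module.finrank (FractionRing R) (Coh.HH C (Coh.structureModule C) 0) = 1 := by
    letI := (DVRFibre.gl f).toAlgebra
    let eS := Groth.CohFin.equivSections f (Coh.structureModule C)
    let sec : Coh.HH C (Coh.structureModule C) 0 ≃ₗ[FractionRing R] Γ(C, ⊤) :=
      { toFun := fun x => (eS x : Γ(Coh.structureModule C, ⊤))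
        invFun := fun s => eS.symm (s : Γ(Coh.structureModule C, ⊤))
        left_inv := eS.symm_apply_apply
        right_inv := eS.apply_symm_apply
        map_add' := eS.map_add
        map_smul' := fun r x => Groth.CohFin.equivSections_smul f (Coh.structureModule C) r x }
    have hb : Function.Bijective (Algebra.linearMap (FractionRing R) Γ(C, ⊤)) := by
      haveI := hH0
      exact (ConcreteCategory.bijective_of_isIso f.appTop).comp
        (ConcreteCategory.bijective_of_isIso (Scheme.ΓSpecIso (CommRingCat.of (FractionRing R))).inv)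
    rw [sec.finrank_eq, ← (LinearEquiv.ofBijective _ hb).finrank_eq, Module.finrank_self]
  rw [h0] at hmain
  have hC : ∀ j, chiC (Γs j) = (Models.wdeg R X (Γs j) : ℤ) - (Models.h1 R X (Γs j) : ℤ) := fun j => by
    haveI : IsProper ((Γs j).curve.left ↘ Spec (CommRingCat.of kR)) := isProper_hom (Γs j)
    exact Groth.EulerDeg.euler_eq_h0_sub_h1 kR _ (le_of_eq (Γs j).dim_eq) _
  have hsum : ∑ j, (Models.mult R X (Γs j) : ℤ) *
      (2 * ((Models.h1 R X (Γs j) : ℤ) - (Models.wdeg R X (Γs j) : ℤ)) - ArSurf.inter R X (L j) (Γs j)) =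
      -∑ j, (Models.mult R X (Γs j) : ℤ) * (2 * chiC (Γs j) + ArSurf.inter R X (L j) (Γs j)) := by
    rw [← Finset.sum_neg_distrib]
    exact Finset.sum_congr rfl fun j _ => by rw [hC j]; ring
  rw [hsum, ← hmain]
  change 2 * (Module.finrank (FractionRing R) (Coh.HH C (Coh.structureModule C) 1) : ℤ) = _
  push_cast
  ring

end Groth.ModelsGraphs.GenusFormula
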