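import Groth.Agent.ModelsGraphs.InterPic
import Groth.Agent.ModelsGraphs.GlobalFunctions
import Groth.Agent.Abvar.PicCalc

/-!
# The lattice of vertical classes in the Picard group of a regular model

`vtw z` is the class of `O(Σ z_i Γ_i)`: its kernel is the multiples of the closed fibre, it gives all
classes trivial on the generic fibre, and its degrees are given by the intersection matrix.
-/

set_option autoImplicit false

universe u

open CategoryTheory CategoryTheory.Limits AlgebraicGeometry TopologicalSpace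
open Groth.Abvar.PicCalc
open scoped Groth.Abvar.PicCalc

namespace Groth.ModelsGraphs.InterLattice

open Groth.ModelsGraphs.Inter Groth.ModelsGraphs.InterForm

variable {R : Type u} [CommRing R] [IsDomain R] [IsDiscreteValuationRing R]
  {X : Over (Spec (CommRingCat.of R))}

/-- A bundled situation: regular proper flat `X`, components of the closed fibre and their inverse ideals. -/
structure Sit (X : Over (Spec (CommRingCat.of R))) (n : ℕ) where
  Γs : Fin n → ArSurf.VertComp R X
  L : Fin n → X.left.Modules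
  proper : IsProper X.hom
  flat : Flat X.hom
  reg : Models.IsRegularScheme X.left
  list : Models.IsComponentList R X Γs
  inv : ∀ i, ClSub.IsInverseOf (L i) (ClSub.idealMod (Γs i).ι.ker)
  glob : Function.Bijective (Coh.toGlobal X.hom)

variable {n : ℕ} (S : Sit X n)

namespace Sit

/-- The multiplicities. -/
noncomputable def m (i : Fin n) : ℕ := Models.mult R X (S.Γs i)

lemma invL (i : Fin n) : PicF.IsInvertible (S.L i) :=
  (Groth.PicAux.isInvertible_left_of_isInverseOf (S.inv i)).1

/-- The class of `O(Σ z_i Γ_i)`. -/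
noncomputable def vtw (z : Fin n → ℤ) : PicLoc.PicSet X.left := ∏ i, cls (S.invL i) ^ z i

lemma vtw_add (z w : Fin n → ℤ) : S.vtw (z + w) = S.vtw z * S.vtw w := by
  simp only [vtw, Pi.add_apply, zpow_add, Finset.prod_mul_distrib]

lemma vtw_neg (z : Fin n → ℤ) : S.vtw (-z) = (S.vtw z)⁻¹ := by
  simp only [vtw, Pi.neg_apply, zpow_neg, Finset.prod_inv_distrib]

lemma vtw_nsmul (k : ℕ) (z : Fin n → ℤ) : S.vtw (fun i => (k : ℤ) * z i) = S.vtw z ^ k := by
  rw [vtw, vtw, ← Finset.prod_pow]
  exact Finset.prod_congr rfl fun i _ => by rw [mul_comm, zpow_mul, zpow_natCast]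

lemma exists_cls_tensorList {ι : Type} (L : ι → X.left.Modules) (hL : ∀ i, PicF.IsInvertible (L i))
    (a : ι → ℕ) : ∀ l : List ι,
    ∃ h : PicF.IsInvertible (FGA.tensorList (l.map fun i => CohB1.tensorPow (L i) (a i))),
      cls h = (l.map fun i => cls (hL i) ^ a i).prod
  | [] => ⟨PicLoc.isInvertible_structureModule _, (PicGrp.cls_eq_one_iff _).2 ⟨Iso.refl _⟩⟩
  | i :: l => by
    obtain ⟨h, e⟩ := exists_cls_tensorList L hL a l
    exact ⟨isInvertible_tensorMod (isInvertible_tensorPow (hL i) (a i)) h,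
      (cls_tensorMod (isInvertible_tensorPow (hL i) (a i)) h).trans
        ((congrArg₂ (· * ·) (cls_tensorPow (hL i) (a i)) e).trans List.prod_cons.symm)⟩

lemma exists_cls_multiTwist (a : Fin n → ℕ) :
    ∃ h : PicF.IsInvertible (FGA.multiTwist S.L a), cls h = S.vtw fun i => (a i : ℤ) := by
  obtain ⟨h, e⟩ := exists_cls_tensorList S.L S.invL a (List.finRange n)
  refine ⟨h, e.trans ?_⟩
  rw [vtw, Fin.prod_univ_def]
  simp only [zpow_natCast]

lemma exists_parts (z : Fin n → ℤ) :
    z = (fun i => ((z i).toNat : ℤ)) + -(fun i => ((-z i).toNat : ℤ)) := by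
  funext i
  simp only [Pi.add_apply, Pi.neg_apply]
  omega

/-- A class equal to `O(Σ z_i Γ_i)`, as an isomorphism of modules. -/
lemma nonempty_iso_of_eq {M : X.left.Modules} (hM : PicF.IsInvertible M) {z : Fin n → ℤ}
    (h : cls hM = S.vtw z) :
    Nonempty (CohB1.tensorMod M (FGA.multiTwist S.L fun i => (-z i).toNat) ≅
      FGA.multiTwist S.L fun i => (z i).toNat) := by
  obtain ⟨h1, e1⟩ := S.exists_cls_multiTwist fun i => (-z i).toNat
  obtain ⟨h2, e2⟩ := S.exists_cls_multiTwist fun i => (z i).toNat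
  rw [nonempty_iso_iff (isInvertible_tensorMod hM h1) h2, cls_tensorMod hM h1, h, e1, e2, ← vtw_add]
  congr 1
  funext i
  simp only [Pi.add_apply]
  omega

/-- The kernel of `z ↦ O(Σ z_i Γ_i)` consists of the multiples of the closed fibre. -/
theorem vtw_eq_one_iff (z : Fin n → ℤ) : S.vtw z = 1 ↔ ∃ c : ℤ, ∀ i, z i = c * (S.m i : ℤ) := by
  haveI := S.proper
  haveI := S.flat
  obtain ⟨h1, e1⟩ := S.exists_cls_multiTwist fun i => (z i).toNat
  obtain ⟨h2, e2⟩ := S.exists_cls_multiTwist fun i => (-z i).toNat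
  have key : S.vtw z = 1 ↔
      Nonempty (FGA.multiTwist S.L (fun i => (z i).toNat) ≅ FGA.multiTwist S.L fun i => (-z i).toNat) := by
    rw [nonempty_iso_iff h1 h2, e1, e2]
    conv_lhs => rw [exists_parts z, vtw_add, vtw_neg]
    exact mul_inv_eq_one
  rw [key]
  constructor
  · rintro ⟨e⟩
    obtain ⟨c, hc⟩ := InterPic.exists_eq_mul_of_iso S.reg S.list S.inv S.glob _ _ e
    exact ⟨c, fun i => by have := hc i; change _ = c * (S.m i : ℤ) at this; omega⟩
  · rintro ⟨c, hc⟩
    rcases le_total 0 c with hc0 | hc0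
    · refine InterPic.nonempty_iso_of_eq_add S.reg S.list S.inv _ _ c.toNat fun i => ?_
      have hi := hc i
      have : 0 ≤ c * (S.m i : ℤ) := by positivity
      zify
      rw [Int.toNat_of_nonneg hc0, show ((Models.mult R X (S.Γs i) : ℤ)) = (S.m i : ℤ) from rfl, ← hi]
      omega
    · obtain ⟨e⟩ := InterPic.nonempty_iso_of_eq_add S.reg S.list S.inv (fun i => (-z i).toNat)
        (fun i => (z i).toNat) (-c).toNat fun i => by
          have hi := hc i
          have : c * (S.m i : ℤ) ≤ 0 := mul_nonpos_of_nonpos_of_nonneg hc0 (Int.natCast_nonneg _)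
          zify
          rw [Int.toNat_of_nonneg (by omega : (0 : ℤ) ≤ -c),
            show ((Models.mult R X (S.Γs i) : ℤ)) = (S.m i : ℤ) from rfl, neg_mul, ← hi]
          omega
      exact ⟨e.symm⟩

/-- A class trivial on the generic fibre is vertical. -/
theorem exists_eq_vtw {C : Scheme.{u}} (f : C ⟶ Spec (CommRingCat.of (FractionRing R))) (g : C ⟶ X.left)
    (hg : IsPullback g f X.hom (Spec.map (CommRingCat.ofHom (algebraMap R (FractionRing R)))))
    {M : X.left.Modules} (hM : PicF.IsInvertible M)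
    (h : pull g (cls hM) = 1) : ∃ z : Fin n → ℤ, cls hM = S.vtw z := by
  haveI := S.proper
  haveI := S.flat
  rw [pull_cls, ← nonempty_iso_structure_iff] at h
  obtain ⟨a, b, ⟨e⟩⟩ := InterPic.exists_multiTwist S.reg S.list S.inv f g hg M hM h
  obtain ⟨h1, e1⟩ := S.exists_cls_multiTwist a
  obtain ⟨h2, e2⟩ := S.exists_cls_multiTwist b
  have h' := (nonempty_iso_iff (isInvertible_tensorMod hM h1) h2).1 ⟨e⟩
  rw [cls_tensorMod hM h1, e1, e2] at h'
  refine ⟨(fun i => (b i : ℤ)) + -(fun i => (a i : ℤ)), ?_⟩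
  rw [vtw_add, vtw_neg, ← h', mul_inv_cancel_right]

/-- A vertical class is trivial on the generic fibre. -/
theorem pull_vtw {C : Scheme.{u}} (f : C ⟶ Spec (CommRingCat.of (FractionRing R))) (g : C ⟶ X.left)
    (hg : g ≫ X.hom = f ≫ Spec.map (CommRingCat.ofHom (algebraMap R (FractionRing R))))
    (z : Fin n → ℤ) : pull g (S.vtw z) = 1 := by
  haveI := S.proper
  haveI := S.flat
  haveI : IsLocallyNoetherian X.left := LocallyOfFiniteType.isLocallyNoetherian X.hom
  rw [vtw, map_prod]
  refine Finset.prod_eq_one fun i _ => ?_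
  rw [map_zpow]
  suffices h : pull g (cls (S.invL i)) = 1 by rw [h, one_zpow]
  have hD := isEffCartier S.reg (range_mem S.list i)
  have hI := Groth.PicAux.isInvertible_idealMod hD
  have hmul : cls (S.invL i) * cls hI = 1 := by
    rw [← cls_tensorMod (S.invL i) hI, ← nonempty_iso_structure_iff]
    exact S.inv i
  have hoff : ∀ c : C, g c ∉ Set.range (S.Γs i).ι.base := fun c hc => by
    have h1 : X.hom (g c) = IsLocalRing.closedPoint R :=
      (Maximal.prop (P := fun T : Set X.left => IsIrreducible T ∧ T ⊆ Models.specialFibreSet R X)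
        (range_mem S.list i)).2 hc
    rw [← Scheme.Hom.comp_apply, hg, Scheme.Hom.comp_apply] at h1
    obtain ⟨π, hπ⟩ := IsDiscreteValuationRing.exists_irreducible R
    have h2 : π ∈ ((Spec.map (CommRingCat.ofHom (algebraMap R (FractionRing R)))) (f c)).asIdeal := by
      rw [h1]
      exact hπ.not_isUnit
    have h3 : algebraMap R (FractionRing R) π ∈ (f c).asIdeal := h2
    exact (f c).isPrime.ne_top (Ideal.eq_top_of_isUnit_mem _ h3
      (isUnit_iff_ne_zero.2 ((map_ne_zero_iff _ (IsFractionRing.injective R (FractionRing R))).2 hπ.ne_zero)))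
  have htop : (S.Γs i).ι.ker.comap g = 1 := by
    rw [Scheme.IdealSheafData.one_eq_top, ← Scheme.IdealSheafData.support_eq_bot_iff,
      Scheme.IdealSheafData.support_comap]
    refine TopologicalSpace.Closeds.ext (Set.eq_empty_of_forall_notMem fun c hc => hoff c ?_)
    rw [← Inter.support_ker (S.Γs i)]
    exact hc
  have hpI : pull g (cls hI) = 1 := by
    rw [pull_cls, ← nonempty_iso_structure_iff]
    obtain ⟨e⟩ := Groth.PicAux.pullback_idealMod g hD (htop ▸ Groth.Divisors.isEffCartierIdeal_top)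
    have h1 : BlowUp.IsEffCartierIdeal (1 : C.IdealSheafData) := Groth.Divisors.isEffCartierIdeal_top
    obtain ⟨e'⟩ := Groth.PicAux.idealMod_mul h1 h1
    rw [mul_one] at e'
    have h2 : cls (Groth.PicAux.isInvertible_idealMod h1) = 1 := by
      have := (nonempty_iso_iff (isInvertible_tensorMod (Groth.PicAux.isInvertible_idealMod h1)
        (Groth.PicAux.isInvertible_idealMod h1)) (Groth.PicAux.isInvertible_idealMod h1)).1 ⟨e'⟩
      rw [cls_tensorMod (Groth.PicAux.isInvertible_idealMod h1) (Groth.PicAux.isInvertible_idealMod h1)] at this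
      exact mul_eq_left.1 this
    rw [nonempty_iso_structure_iff (isInvertible_of_iso (PicLoc.isInvertible_pullback g hI) (Iso.refl _))]
    exact ((nonempty_iso_iff _ (Groth.PicAux.isInvertible_idealMod h1)).1 ⟨e ≪≫ eqToIso (by rw [htop])⟩).trans h2
  have := congrArg (pull g) hmul
  rwa [map_mul, hpI, map_one, mul_one] at this

/-- Degrees of a vertical class. -/
theorem inter_eq_sum {M : X.left.Modules} (hM : PicF.IsInvertible M) {z : Fin n → ℤ}
    (h : cls hM = S.vtw z) (i : Fin n) :
    ArSurf.inter R X M (S.Γs i) = ∑ j, ArSurf.inter R X (S.L j) (S.Γs i) * z j := by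
  haveI := S.proper
  haveI := S.flat
  haveI : IsLocallyNoetherian X.left := LocallyOfFiniteType.isLocallyNoetherian X.hom
  have hD : ∀ j, BlowUp.IsEffCartierIdeal (S.Γs j).ι.ker := fun j => isEffCartier S.reg (range_mem S.list j)
  have hmt : ∀ a : Fin n → ℕ, PicF.IsInvertible (FGA.multiTwist S.L a) ∧
      δ (S.Γs i) (FGA.multiTwist S.L a) = ∑ j, (a j : ℤ) * ArSurf.inter R X (S.L j) (S.Γs i) := fun a => by
    refine ⟨(S.exists_cls_multiTwist a).choose, ?_⟩
    obtain ⟨-, hinv⟩ := InterPic.isInverseOf_multiTwist S.L (fun j => (S.Γs j).ι.ker) hD S.inv a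
    rw [δ_inverse (S.Γs i) hinv, (δ_idealMod_prod (S.Γs i) _ hD a Finset.univ).2, ← Finset.sum_neg_distrib]
    exact Finset.sum_congr rfl fun j _ => by
      rw [δ_eq_inter (S.Γs i) (S.L j), δ_inverse (S.Γs i) (S.inv j)]
      ring
  obtain ⟨e⟩ := S.nonempty_iso_of_eq hM h
  have h1 := δ_congr (S.Γs i) e
  rw [δ_tensor (S.Γs i) hM (hmt _).1, (hmt _).2, (hmt _).2] at h1
  rw [δ_eq_inter, eq_sub_of_add_eq h1, ← Finset.sum_sub_distrib]
  exact Finset.sum_congr rfl fun j _ => by rw [← sub_mul, Int.toNat_sub_toNat_neg, mul_comm]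

/-- Degrees are additive in classes. -/
theorem inter_mul {M M' N : X.left.Modules} (hM : PicF.IsInvertible M) (hM' : PicF.IsInvertible M')
    (hN : PicF.IsInvertible N) (h : cls hN = cls hM * cls hM') (i : Fin n) :
    ArSurf.inter R X N (S.Γs i) = ArSurf.inter R X M (S.Γs i) + ArSurf.inter R X M' (S.Γs i) := by
  haveI := S.proper
  rw [← cls_tensorMod hM hM', ← nonempty_iso_iff] at h
  rw [δ_eq_inter, δ_eq_inter, δ_eq_inter, ← δ_tensor _ hM hM']
  exact δ_congr _ h.some

/-- Degrees of tensor powers. -/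
theorem inter_pow {M : X.left.Modules} (hM : PicF.IsInvertible M) (k : ℕ) (i : Fin n) :
    ArSurf.inter R X (CohB1.tensorPow M k) (S.Γs i) = k * ArSurf.inter R X M (S.Γs i) := by
  haveI := S.proper
  rw [δ_eq_inter, δ_eq_inter]
  induction k with
  | zero => exact δ_structure (S.Γs i) |>.trans (by simp)
  | succ k ih =>
    refine (δ_tensor (S.Γs i) (isInvertible_tensorPow hM k) hM).trans ?_
    rw [ih]
    push_cast
    ring

lemma m_pos (i : Fin n) : 0 < S.m i :=
  haveI := S.proper
  haveI := S.flat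
  mult_pos S.reg (range_mem S.list i)

/-- Classes of degree zero are rational multiples of the closed fibre. -/
theorem exists_gcd_mul (z : Fin n → ℤ) (h : ∀ i, ∑ j, ArSurf.inter R X (S.L j) (S.Γs i) * z j = 0) :
    ∃ k : ℤ, ∀ i, (Models.multGcd R X S.Γs : ℤ) * z i = k * (S.m i : ℤ) := by
  haveI := S.proper
  haveI := S.flat
  haveI : CompactSpace X.left := QuasiCompact.compactSpace_of_compactSpace X.hom
  obtain ⟨c, hc⟩ := ((quadratic_nonpos (fun i j => ArSurf.inter R X (S.L j) (S.Γs i)) S.m S.m_pos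
    (fun i j => InterForm.inter_symm S.reg S.list S.inv i j)
    (fun i j hij => (InterForm.inter_nonneg_and_eq_zero_iff S.reg S.list S.inv hij).1)
    (fun j => InterForm.sum_mult_mul_inter S.reg S.list S.inv j)
    (InterForm.inter_connected S.reg S.list S.inv S.glob) z).2).1 (by
      rw [Fintype.sum_prod_type]
      refine Finset.sum_eq_zero fun i _ => ?_
      rw [Finset.sum_congr rfl fun j _ => (by ring :
        z i * z j * ArSurf.inter R X (S.L j) (S.Γs i) = z i * (ArSurf.inter R X (S.L j) (S.Γs i) * z j)),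
        ← Finset.mul_sum, h i, mul_zero])
  obtain ⟨u, hu⟩ : ∃ u : Fin n → ℤ, (Models.multGcd R X S.Γs : ℤ) = ∑ i, u i * (S.m i : ℤ) := by
    obtain ⟨u, hu⟩ := exists_int_combination S.m Finset.univ
    exact ⟨u, hu⟩
  refine ⟨∑ i, u i * z i, fun j => ?_⟩
  rw [hu, Finset.sum_mul, Finset.sum_mul]
  refine Finset.sum_congr rfl fun i _ => ?_
  have h2 : (S.m i : ℤ) * z j = z i * (S.m j : ℤ) := by
    have : ((S.m i : ℚ) * (z j : ℚ)) = (z i : ℚ) * (S.m j : ℚ) := by rw [hc i, hc j]; ring
    exact_mod_cast this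
  rw [mul_assoc, h2, mul_assoc]
where
  exists_int_combination (m : Fin n → ℕ) (s : Finset (Fin n)) :
      ∃ u : Fin n → ℤ, ((s.gcd m : ℕ) : ℤ) = ∑ i ∈ s, u i * (m i : ℤ) := by
    classical
    induction s using Finset.induction_on with
    | empty => exact ⟨0, by simp⟩
    | insert a t ha ih =>
      obtain ⟨u, hu⟩ := ih
      rw [Finset.gcd_insert]
      refine ⟨fun i => if i = a then Nat.gcdA (m a) (t.gcd m) else Nat.gcdB (m a) (t.gcd m) * u i, ?_⟩
      rw [show GCDMonoid.gcd (m a) (t.gcd m) = Nat.gcd (m a) (t.gcd m) from rfl, Nat.gcd_eq_gcd_ab, hu,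
        Finset.sum_insert ha, Finset.sum_mul]
      simp only [if_pos]
      rw [mul_comm (m a : ℤ)]
      congr 1
      refine Finset.sum_congr rfl fun i hi => ?_
      simp only [if_neg (show ¬ i = a from fun h' => ha (h' ▸ hi))]
      ring

/-- `gcd m` divides each multiplicity. -/
lemma gcd_dvd (i : Fin n) : Models.multGcd R X S.Γs ∣ S.m i := Finset.gcd_dvd (Finset.mem_univ i)

include S in
lemma n_pos {C : Scheme.{u}} [Nonempty C] (g : C ⟶ X.left) : 0 < n := by
  haveI := S.proper
  haveI : IsLocallyNoetherian X.left := LocallyOfFiniteType.isLocallyNoetherian X.hom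
  haveI : CompactSpace X.left := QuasiCompact.compactSpace_of_compactSpace X.hom
  obtain ⟨c⟩ := ‹Nonempty C›
  obtain ⟨z, hz⟩ : IsLocalRing.closedPoint R ∈ Set.range X.hom :=
    (IsLocalRing.specializes_closedPoint _).mem_closed X.hom.isClosedMap.isClosed_range ⟨g c, rfl⟩
  obtain ⟨i, -⟩ := exists_specializes S.list (show z ∈ Models.specialFibreSet R X from hz)
  exact Fin.pos i

end Sit

/-- The situation attached to a regular proper model of a curve with `H⁰ = K`. -/
theorem exists_sit {C : Scheme.{u}} (f : C ⟶ Spec (CommRingCat.of (FractionRing R))) {Y : Scheme.{u}}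
    (p : Y ⟶ Spec (CommRingCat.of R)) (hH0 : IsIso f.appTop) (hX : Models.IsRegularProperModel R Y p C f)
    (Γ : Fin n → ArSurf.VertComp R (Over.mk p)) (hΓ : Models.IsComponentList R (Over.mk p) Γ)
    (L : Fin n → Y.Modules) (hL : ∀ i, ClSub.IsInverseOf (L i) (ClSub.idealMod (Γ i).ι.ker)) :
    ∃ S : Sit (Over.mk p) n, S.Γs = Γ ∧ S.L = L := by
  obtain ⟨⟨h1, h2, h3, g, hg⟩, h4, hreg⟩ := hX
  haveI := h1
  haveI := h4
  haveI := hH0
  exact ⟨⟨Γ, L, h4, h1, hreg, hΓ, hL, GlobalFun.toGlobal_bijective_of_appTop p g f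
    (ConcreteCategory.bijective_of_isIso _) hg⟩, rfl, rfl⟩

/-- Inverses of the ideals of the components. -/
theorem exists_inverses {C : Scheme.{u}} (f : C ⟶ Spec (CommRingCat.of (FractionRing R))) {Y : Scheme.{u}}
    (p : Y ⟶ Spec (CommRingCat.of R)) (hX : Models.IsRegularProperModel R Y p C f)
    (Γ : Fin n → ArSurf.VertComp R (Over.mk p)) (hΓ : Models.IsComponentList R (Over.mk p) Γ) :
    ∃ L : Fin n → Y.Modules, ∀ i, ClSub.IsInverseOf (L i) (ClSub.idealMod (Γ i).ι.ker) := by
  obtain ⟨⟨h1, h2, h3, g, hg⟩, h4, hreg⟩ := hX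
  haveI : Flat (Over.mk p).hom := h1
  haveI : IsProper (Over.mk p).hom := h4
  haveI : IsLocallyNoetherian (Over.mk p).left := LocallyOfFiniteType.isLocallyNoetherian (Over.mk p).hom
  choose M _ hM using fun i => Groth.PicAux.exists_isInverseOf
    (Groth.PicAux.isInvertible_idealMod (isEffCartier (X := Over.mk p) hreg (range_mem hΓ i)))
  exact ⟨M, fun i => Groth.PicAux.isInverseOf_symm (hM i)⟩

end Groth.ModelsGraphs.InterLattice
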