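import Groth.Agent.ModelsGraphs.QuotInclusion
import Groth.Agent.ModelsGraphs.GenusFormula
import Groth.Agent.ModelsGraphs.InterLattice
import Groth.Agent.CohFin.Proper
import Groth.Agent.PnCoh.ProjFinite

/-!
# Divisors in the closed fibre whose global functions form a field
-/

set_option autoImplicit false

universe u

open CategoryTheory CategoryTheory.Limits AlgebraicGeometry TopologicalSpace

namespace Groth.ModelsGraphs.FieldChain

open Groth.ModelsGraphs.Inter Groth.ModelsGraphs.InterPair Groth.ModelsGraphs.InterForm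

/-- A line bundle of negative degree on an integral proper curve has no sections. -/
theorem sections_eq_zero_of_deg_neg (k : Type u) [Field k] {Y : Scheme.{u}}
    [Y.Over (Spec (CommRingCat.of k))] [IsIntegral Y] [IsProper (Y ↘ Spec (CommRingCat.of k))]
    (hdim : topologicalKrullDim Y ≤ 1) {N : Y.Modules} (hN : PicF.IsInvertible N)
    (hdeg : Curv2.deg k Y N 1 < 0) (t : Γ(N, ⊤)) : t = 0 := by
  by_contra ht
  let σ := Groth.PicAux.homOfSection t
  have hσ : σ ≠ 0 := fun h => ht (by
    rw [← Groth.PicAux.homOfSection_one t]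
    change σ.app ⊤ _ = 0
    rw [h]
    rfl)
  haveI : IsLocallyNoetherian Y := LocallyOfFiniteType.isLocallyNoetherian (Y ↘ Spec (CommRingCat.of k))
  have h := Groth.EulerDeg.deg_le_and_isIso (Groth.EulerDeg.isInvertible_structureModule _) hN hσ k hdim
  rw [Groth.EulerDeg.deg_structure] at h
  linarith [h.1]

variable {R : Type u} [CommRing R] [IsDomain R] [IsDiscreteValuationRing R]
  {X : Over (Spec (CommRingCat.of R))} {n : ℕ}

local notation "kR" => IsLocalRing.ResidueField R

/-- The global functions on a closed subscheme form a field. -/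
def IsFieldSub (I : X.left.IdealSheafData) : Prop := IsField Γ(I.subscheme, ⊤)

/-- The global functions on a closed subscheme of a proper model are finite over `R`. -/
theorem finite_toGlobal [IsProper X.hom] (I : X.left.IdealSheafData) :
    (show R →+* Γ(I.subscheme, ⊤) from Coh.toGlobal (I.subschemeι ≫ X.hom)).Finite := by
  let q := I.subschemeι ≫ X.hom
  have hfin := Groth.CohFin.hFin_of_proper Groth.CohFin.projFinite 0 I.subscheme q
    (Coh.structureModule I.subscheme) (by
      haveI : IsLocallyNoetherian I.subscheme := LocallyOfFiniteType.isLocallyNoetherian q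
      exact Groth.EulerDeg.isCoh_of_isInvertible (Groth.EulerDeg.isInvertible_structureModule _))
  letI := (show R →+* Γ(I.subscheme, ⊤) from Coh.toGlobal q).toAlgebra
  let eS := Groth.CohFin.equivSections q (Coh.structureModule I.subscheme)
  let sec : Groth.CohFin.HA q (Coh.structureModule I.subscheme) 0 ≃ₗ[R] Γ(I.subscheme, ⊤) :=
    { toFun := fun x => (eS x : Γ(Coh.structureModule I.subscheme, ⊤))
      invFun := fun s => eS.symm (s : Γ(Coh.structureModule I.subscheme, ⊤))
      left_inv := eS.symm_apply_apply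
      right_inv := eS.apply_symm_apply
      map_add' := eS.map_add
      map_smul' := fun r x => Groth.CohFin.equivSections_smul q (Coh.structureModule I.subscheme) r x }
  haveI := hfin
  change Module.Finite R Γ(I.subscheme, ⊤)
  exact Module.Finite.equiv sec

/-- If `O(-Z)|_Γ` has negative degree, functions on `Z + Γ` form a field when those on `Z` do. -/
theorem isFieldSub_mul [IsProper X.hom] (Γ : ArSurf.VertComp R X) {I : X.left.IdealSheafData}
    (hI : BlowUp.IsEffCartierIdeal I) (hD : BlowUp.IsEffCartierIdeal Γ.ι.ker)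
    (hneg : δ Γ (ClSub.idealMod I) < 0) (hF : IsFieldSub I) : IsFieldSub (I * Γ.ι.ker) := by
  haveI := Γ.isIntegral
  haveI : IsProper (Γ.curve.left ↘ Spec (CommRingCat.of kR)) := isProper_hom Γ
  obtain ⟨q⟩ := GenusFormula.nonempty_quotMod_ker Γ.ι
  obtain ⟨t⟩ := Groth.Inter.tensor_push Γ.ι (Groth.PicAux.isInvertible_idealMod hI)
    (Coh.structureModule Γ.curve.left)
  let N := (Scheme.Modules.pullback Γ.ι).obj (ClSub.idealMod I)
  let e : CohB1.tensorMod (ClSub.quotMod Γ.ι.ker) (ClSub.idealMod I) ≅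
      (Scheme.Modules.pushforward Γ.ι).obj N :=
    PicGrp.tensorModIso q (Iso.refl _) ≪≫ (Groth.Inter.tensor_comm _ _).some ≪≫ t ≪≫
      (Scheme.Modules.pushforward Γ.ι).mapIso (SecTwist.unitorR N)
  have h0 : ∀ s : Γ(CohB1.tensorMod (ClSub.quotMod Γ.ι.ker) (ClSub.idealMod I), ⊤), s = 0 := fun s => by
    have h1 : e.inv.app ⊤ (e.hom.app ⊤ s) = s := congr(($(e.hom_inv_id)).app ⊤ s)
    have h2 : e.hom.app ⊤ s = 0 := sections_eq_zero_of_deg_neg kR (le_of_eq Γ.dim_eq)
      (Groth.PicAux.isInvertible_pullback Γ.ι (Groth.PicAux.isInvertible_idealMod hI)) hneg _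
    rw [← h1, h2, map_zero]
  have hle : I * Γ.ι.ker ≤ I := fun W => by
    simp only [Scheme.IdealSheafData.ideal_mul, Pi.mul_apply]
    exact Ideal.mul_le_inf.trans inf_le_left
  let i := Scheme.IdealSheafData.inclusion hle
  have hinj : Function.Injective i.appTop :=
    QuotInclusion.appTop_inclusion_injective hI hD hle h0
  have hcomm : (show R →+* Γ(I.subscheme, ⊤) from Coh.toGlobal (I.subschemeι ≫ X.hom)) =
      i.appTop.hom.comp (show R →+* Γ((I * Γ.ι.ker).subscheme, ⊤) from
        Coh.toGlobal ((I * Γ.ι.ker).subschemeι ≫ X.hom)) := by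
    rw [← Scheme.IdealSheafData.inclusion_subschemeι hle, Category.assoc]
    rfl
  letI : Algebra Γ((I * Γ.ι.ker).subscheme, ⊤) Γ(I.subscheme, ⊤) := i.appTop.hom.toAlgebra
  haveI : IsDomain Γ((I * Γ.ι.ker).subscheme, ⊤) := by
    haveI := hF.isDomain
    exact hinj.isDomain i.appTop.hom
  haveI : Algebra.IsIntegral Γ((I * Γ.ι.ker).subscheme, ⊤) Γ(I.subscheme, ⊤) := by
    have h0' := finite_toGlobal I
    rw [hcomm] at h0'
    have h := h0'.of_comp_finite
    haveI : Module.Finite Γ((I * Γ.ι.ker).subscheme, ⊤) Γ(I.subscheme, ⊤) := h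
    infer_instance
  haveI := hF.isDomain
  exact isField_of_isIntegral_of_isField
    (S := Γ(I.subscheme, ⊤)) hinj hF

/-- The ideal of `∑ a_i Γ_i`. -/
noncomputable def ideal (Γs : Fin n → ArSurf.VertComp R X) (a : Fin n → ℕ) : X.left.IdealSheafData :=
  ∏ i, (Γs i).ι.ker ^ a i

variable {Γs : Fin n → ArSurf.VertComp R X}

lemma ideal_add_single (a : Fin n → ℕ) (i : Fin n) :
    ideal Γs (a + Pi.single i 1) = ideal Γs a * (Γs i).ι.ker := by
  have h : ∀ j, (Pi.single i 1 : Fin n → ℕ) j = if j = i then 1 else 0 := fun j => by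
    simp [Pi.single_apply]
  simp only [ideal, Pi.add_apply, pow_add, Finset.prod_mul_distrib, h, pow_ite, pow_one, pow_zero,
    Finset.prod_ite_eq', Finset.mem_univ, if_true]

lemma isFieldSub_ker [IsProper X.hom] (Γ : ArSurf.VertComp R X) : IsFieldSub Γ.ι.ker := by
  haveI := Γ.isIntegral
  haveI : IsProper Γ.curve.hom := isProper_hom Γ
  haveI : IsIso Γ.ι.toImage := inferInstance
  have e : Γ(Γ.ι.ker.subscheme, ⊤) ≃+* Γ(Γ.curve.left, ⊤) :=
    haveI : IsIso Γ.ι.toImage.appTop := inferInstanceAs (IsIso (Γ.ι.toImage.app ⊤))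
    (asIso Γ.ι.toImage.appTop).commRingCatIsoToRingEquiv
  exact e.toMulEquiv.isField (isField_of_universallyClosed kR Γ.curve.hom)

variable [IsProper X.hom] [Flat X.hom] {L : Fin n → X.left.Modules}
  (hreg : Models.IsRegularScheme X.left) (hΓ : Models.IsComponentList R X Γs)
  (hL : ∀ i, ClSub.IsInverseOf (L i) (ClSub.idealMod (Γs i).ι.ker))

include hreg hΓ hL

/-- Adding a component meeting positively. -/
theorem isFieldSub_add_single {a : Fin n → ℕ} {i : Fin n}
    (hpos : 0 < ∑ j, (a j : ℤ) * ArSurf.inter R X (L j) (Γs i))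
    (hF : IsFieldSub (ideal Γs a)) : IsFieldSub (ideal Γs (a + Pi.single i 1)) := by
  haveI : IsLocallyNoetherian X.left := LocallyOfFiniteType.isLocallyNoetherian X.hom
  have hD : ∀ j, BlowUp.IsEffCartierIdeal (Γs j).ι.ker := fun j => isEffCartier hreg (range_mem hΓ j)
  obtain ⟨hI, hδ⟩ := δ_idealMod_prod (Γs i) (fun j => (Γs j).ι.ker) hD a Finset.univ
  rw [ideal_add_single]
  refine isFieldSub_mul (Γs i) hI (hD i) ?_ hF
  refine hδ.trans_lt ?_
  have h : ∀ j, δ (Γs i) (ClSub.idealMod (Γs j).ι.ker) = -ArSurf.inter R X (L j) (Γs i) := fun j => by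
    rw [δ_eq_inter, δ_inverse (Γs i) (hL j), neg_neg]
  simp only [h, mul_neg, Finset.sum_neg_distrib]
  linarith

/-- `∑ Γ_i` has a field of global functions. -/
theorem isFieldSub_one (hH0 : Function.Bijective (Coh.toGlobal X.hom)) (hn : 0 < n) :
    IsFieldSub (ideal Γs fun _ => 1) := by
  suffices h : ∀ m, 1 ≤ m → m ≤ n → ∃ S : Finset (Fin n), S.card = m ∧
      IsFieldSub (ideal Γs fun j => if j ∈ S then 1 else 0) by
    obtain ⟨S, hS, hF⟩ := h n hn le_rfl
    rw [Finset.eq_univ_of_card S (hS.trans (Fintype.card_fin n).symm)] at hF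
    simpa using hF
  intro m hm
  induction m, hm using Nat.le_induction with
  | base =>
    refine fun _ => ⟨{⟨0, hn⟩}, rfl, ?_⟩
    convert isFieldSub_ker (Γs ⟨0, hn⟩)
    simp only [ideal, Finset.mem_singleton, pow_ite, pow_one, pow_zero, Finset.prod_ite_eq', Finset.mem_univ,
      if_true]
  | succ m hm ih =>
    intro hmn
    obtain ⟨S, hS, hF⟩ := ih (by omega)
    have hne : S.Nonempty := Finset.card_pos.1 (by omega)
    obtain ⟨i, hi, j, hj, hij⟩ := inter_connected hreg hΓ hL hH0 Sᶜ
      (by rw [← Finset.card_pos, Finset.card_compl, Fintype.card_fin]; omega)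
      (fun h => hne.ne_empty (by simpa using h))
    simp only [Finset.mem_compl, not_not] at hi hj
    refine ⟨insert i S, by rw [Finset.card_insert_of_notMem hi, hS], ?_⟩
    have h1 := isFieldSub_add_single hreg hΓ hL (i := i) ?_ hF
    · convert h1 using 2
      funext l
      by_cases hl : l = i <;> simp [hl, hi, Pi.single_apply]
    have hnn : ∀ l ∈ S, 0 ≤ ArSurf.inter R X (L l) (Γs i) := fun l hl =>
      (inter_nonneg_and_eq_zero_iff hreg hΓ hL (fun h => hi (by first | exact h ▸ hl | exact h.symm ▸ hl))).1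
    simp only [apply_ite (fun x : ℕ => (x : ℤ)), Nat.cast_one, Nat.cast_zero, ite_mul, one_mul,
      zero_mul, Finset.sum_ite_mem, Finset.univ_inter]
    refine Finset.sum_pos' hnn ⟨j, hj, lt_of_le_of_ne (hnn j hj) (Ne.symm ?_)⟩
    first
      | exact hij
      | rw [inter_symm hreg hΓ hL]; exact hij

/-- A strictly smaller divisor meets some further component positively. -/
theorem exists_pos (hH0 : Function.Bijective (Coh.toGlobal X.hom))
    {a b : Fin n → ℕ} (hb : ∀ i, Models.mult R X (Γs i) = Models.multGcd R X Γs * b i)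
    (ha : ∀ i, 1 ≤ a i) (hab : ∀ i, a i ≤ b i) (hne : a ≠ b) :
    ∃ i, a i < b i ∧ 0 < ∑ j, (a j : ℤ) * ArSurf.inter R X (L j) (Γs i) := by
  haveI : CompactSpace X.left := QuasiCompact.compactSpace_of_compactSpace X.hom
  set m : Fin n → ℕ := fun i => Models.mult R X (Γs i)
  set d := Models.multGcd R X Γs with hd
  have hm : ∀ i, 0 < m i := fun i => mult_pos hreg (range_mem hΓ i)
  have hd0 : 0 < d := by
    obtain ⟨i, -⟩ := Function.ne_iff.1 hne
    have h := hm i
    simp only [m, hb i] at h
    exact Nat.pos_of_mul_pos_right h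
  let A : Fin n → Fin n → ℤ := fun i j => ArSurf.inter R X (L j) (Γs i)
  have hk : ∀ i, ∑ j, (b j : ℤ) * A i j = 0 := fun i => by
    have h := InterForm.sum_mult_mul_inter hreg hΓ hL i
    have h1 : (d : ℤ) * ∑ j, (b j : ℤ) * A i j = 0 := by
      rw [Finset.mul_sum, ← h]
      refine Finset.sum_congr rfl fun j _ => ?_
      simp only [A]
      rw [hb j, Nat.cast_mul, InterForm.inter_symm hreg hΓ hL i j]
      ring
    exact (mul_eq_zero.1 h1).resolve_left (by exact_mod_cast hd0.ne')
  let z : Fin n → ℤ := fun i => (b i : ℤ) - a i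
  have hz : ∀ i, 0 ≤ z i := fun i => by simp only [z, sub_nonneg, Nat.cast_le]; exact hab i
  by_contra hcon
  simp only [not_exists, not_and, not_lt] at hcon
  have hq : 0 ≤ ∑ q : Fin n × Fin n, z q.1 * z q.2 * A q.1 q.2 := by
    rw [Fintype.sum_prod_type]
    refine Finset.sum_nonneg fun i _ => ?_
    have e : ∑ j, z i * z j * A i j = z i * -∑ j, (a j : ℤ) * A i j := by
      rw [Finset.sum_congr rfl fun j _ => mul_assoc _ _ _, ← Finset.mul_sum]
      congr 1
      simp only [z, sub_mul, Finset.sum_sub_distrib, hk i, zero_sub]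
    rw [e]
    rcases (hab i).eq_or_lt with h | h
    · simp [z, h]
    · exact mul_nonneg (hz i) (neg_nonneg.2 (hcon i h))
  obtain ⟨hle, hiff⟩ := quadratic_nonpos A m hm (fun i j => InterForm.inter_symm hreg hΓ hL i j)
    (fun i j hij => (inter_nonneg_and_eq_zero_iff hreg hΓ hL hij).1)
    (fun j => by
      rw [← InterForm.sum_mult_mul_inter hreg hΓ hL j])
    (fun I hI hI' => by
      obtain ⟨i, hi, j, hj, hij⟩ := inter_connected hreg hΓ hL hH0 I hI hI'
      exact ⟨i, hi, j, hj, hij⟩) z
  obtain ⟨c, hc⟩ := hiff.1 (le_antisymm hle hq)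
  -- `b - a` is proportional to the primitive vector `b`
  obtain ⟨u, hu⟩ := InterLattice.Sit.exists_gcd_mul.exists_int_combination.{0} m Finset.univ
  have hu1 : ∑ i, u i * (b i : ℤ) = 1 := by
    refine mul_left_cancel₀ (Int.natCast_ne_zero.2 hd0.ne') ?_
    rw [mul_one, Finset.mul_sum]
    refine Eq.trans ?_ hu.symm
    exact Finset.sum_congr rfl fun i _ => by simp only [m, hb i, Nat.cast_mul]; ring
  have hprop : ∀ i j, (b i : ℤ) * z j = z i * b j := fun i j => by
    have : (b i : ℚ) * z j = z i * b j := by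
      rw [hc i, hc j]
      simp only [m, hb, Nat.cast_mul]
      ring
    exact_mod_cast this
  set k := ∑ i, u i * z i with hk'
  have hzk : ∀ j, z j = k * b j := fun j => by
    rw [hk', Finset.sum_mul, Finset.sum_congr rfl fun i _ => (by rw [mul_assoc, ← hprop i j] :
      u i * z i * (b j : ℤ) = u i * ((b i : ℤ) * z j))]
    simp only [← mul_assoc, ← Finset.sum_mul, hu1, one_mul]
  obtain ⟨i, hi⟩ := Function.ne_iff.1 hne
  have h1 := hzk i
  have h2 : (0 : ℤ) < z i := by
    simp only [z, sub_pos, Nat.cast_lt]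
    exact lt_of_le_of_ne (hab i) hi
  have h3 : z i < b i := by
    have := ha i
    simp only [z]
    omega
  have hbi : (0 : ℤ) < b i := lt_trans h2 h3
  rw [h1] at h2 h3
  have : 0 < k := pos_of_mul_pos_left h2 hbi.le
  nlinarith [mul_le_mul_of_nonneg_right (Int.add_one_le_iff.2 this) hbi.le]

/-- The chain from `a` up to `b`. -/
theorem exists_chain (hH0 : Function.Bijective (Coh.toGlobal X.hom)) {b : Fin n → ℕ}
    (hb : ∀ i, Models.mult R X (Γs i) = Models.multGcd R X Γs * b i) :
    ∀ (N : ℕ) (a : Fin n → ℕ), (∀ i, 1 ≤ a i) → (∀ i, a i ≤ b i) → (∑ i, (b i - a i) ≤ N) →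
      IsFieldSub (ideal Γs a) →
      ∃ (s : ℕ) (c : Fin (s + 1) → Fin n → ℕ), c 0 = a ∧ c (Fin.last s) = b ∧
        (∀ j : Fin s, ∃ i, c j.succ = c j.castSucc + Pi.single i 1) ∧
        ∀ j, IsFieldSub (ideal Γs (c j)) := by
  intro N
  induction N with
  | zero =>
    intro a _ hab hN hF
    refine ⟨0, fun _ => a, rfl, funext fun i => le_antisymm (hab i) ?_, fun j => j.elim0, fun _ => hF⟩
    have := (Finset.sum_eq_zero_iff.1 (Nat.le_zero.1 hN)) i (Finset.mem_univ i)
    change b i ≤ a i
    omega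
  | succ N ih =>
    intro a ha hab hN hF
    by_cases hne : a = b
    · exact ⟨0, fun _ => a, rfl, hne, fun j => j.elim0, fun _ => hF⟩
    obtain ⟨i, hi, hpos⟩ := exists_pos hreg hΓ hL hH0 hb ha hab hne
    let a' := a + Pi.single i 1
    have ha' : ∀ j, a' j = a j + if j = i then 1 else 0 := fun j => by simp [a', Pi.single_apply]
    obtain ⟨s, c, hc0, hcs, hstep, hfld⟩ := ih a' (fun j => (ha j).trans (by rw [ha']; omega))
      (fun j => by
        rw [ha']
        split_ifs with h
        · subst h; omega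
        · simpa using hab j)
      (by
        have : ∑ j, (b j - a' j) < ∑ j, (b j - a j) :=
          Finset.sum_lt_sum (fun j _ => by rw [ha']; omega)
            ⟨i, Finset.mem_univ i, by rw [ha']; simp; omega⟩
        omega)
      (isFieldSub_add_single hreg hΓ hL hpos hF)
    refine ⟨s + 1, Fin.cons a c, rfl, ?_, fun j => ?_, fun j => ?_⟩
    · rw [← Fin.succ_last, Fin.cons_succ, hcs]
    · induction j using Fin.cases with
      | zero => exact ⟨i, by simp [hc0, a']⟩
      | succ l =>
        obtain ⟨i', hi'⟩ := hstep l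
        exact ⟨i', by rw [Fin.cons_succ, ← Fin.succ_castSucc, Fin.cons_succ, hi']⟩
    · induction j using Fin.cases with
      | zero => exact hF
      | succ l => rw [Fin.cons_succ]; exact hfld l

end Groth.ModelsGraphs.FieldChain
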