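import Groth.Agent.ModelsGraphs.CohFlat
import Groth.Agent.RefRank.EffCartierLocal
import Groth.Agent.DivisorLength.Main
import Groth.Agent.S2821
import Groth.Prelude.Def_ModelsG

/-!
# The special fibre of a regular model as a sum of Cartier divisors

For a regular scheme `X`, flat and of finite type over a discrete valuation ring, each component
`Γ_i` of the closed fibre is an effective Cartier divisor and `𝔪 O_X = ∏ I_i ^ m_i`.
-/

set_option autoImplicit false

universe u

open CategoryTheory CategoryTheory.Limits AlgebraicGeometry TopologicalSpace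
open Groth.DivisorLength (eta)
open Groth.RefRank.EffCartierLocal (mem_support_iff_map_germ_ne_top)

namespace Groth.ModelsGraphs.Inter

variable {R : Type u} [CommRing R] [IsDomain R] [IsDiscreteValuationRing R]
  {X : Over (Spec (CommRingCat.of R))}

local notation "pX" => X.hom

/-- A point is in the closed fibre iff a uniformizer is a non-unit at it. -/
lemma mem_specialFibreSet_iff {π : R} (hπ : Irreducible π) (x : X.left) :
    x ∈ Models.specialFibreSet R X ↔ ¬ IsUnit (Models.stalkHom R X x π) := by
  change pX x = IsLocalRing.closedPoint R ↔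
    ¬ IsUnit (X.left.presheaf.germ ⊤ x trivial (Coh.toGlobal pX π : Γ(X.left, ⊤)))
  rw [← Scheme.mem_basicOpen_top]
  have h1 : X.left.basicOpen (Coh.toGlobal pX π : Γ(X.left, ⊤)) =
      pX ⁻¹ᵁ (Spec (CommRingCat.of R)).basicOpen ((Scheme.ΓSpecIso (CommRingCat.of R)).inv π) := by
    rw [Scheme.preimage_basicOpen]
    rfl
  rw [h1, basicOpen_eq_of_affine]
  change _ ↔ ¬ (π ∉ (pX x).asIdeal)
  rw [not_not]
  refine ⟨fun h => ?_, fun h => ?_⟩
  · rw [h]
    exact (IsLocalRing.mem_maximalIdeal π).2 hπ.not_isUnit
  · refine PrimeSpectrum.ext ((IsLocalRing.maximalIdeal.isMaximal R).eq_of_le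
      (pX x).isPrime.ne_top ?_).symm
    rw [hπ.maximalIdeal_eq, Ideal.span_singleton_le_iff_mem]
    exact h

lemma stalkHom_eq_germ (W : X.left.Opens) (x : X.left) (hx : x ∈ W) (r : R) :
    Models.stalkHom R X x r = X.left.presheaf.germ W x hx (DVRFibre.ψ pX W r) := by
  exact (TopCat.Presheaf.germ_res_apply X.left.presheaf (homOfLE (le_top : W ≤ ⊤)) x hx
    (Coh.toGlobal pX r)).symm

/-- The stalk of the ideal of the closed fibre. -/
lemma map_germ_specialFibre {π : R} (hπ : Irreducible π) (W : X.left.affineOpens) (x : X.left)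
    (hx : x ∈ W.1) :
    ((Models.specialFibreIdeal R X).ideal W).map (X.left.presheaf.germ W.1 x hx).hom =
      Ideal.span {Models.stalkHom R X x π} := by
  have h := CohFlat.ideal_specialFibre pX hπ W
  change ((Models.specialFibreIdeal R X).ideal W) = _ at h
  rw [h, Ideal.map_span, Set.image_singleton, stalkHom_eq_germ W.1 x hx]

/-- A uniformizer is nonzero in every local ring of a flat scheme. -/
lemma stalkHom_ne_zero [Flat pX] {π : R} (hπ : π ≠ 0) (x : X.left) :
    Models.stalkHom R X x π ≠ 0 := by
  intro h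
  obtain ⟨W, hxW, i, i', he⟩ := X.left.presheaf.germ_eq (U := ⊤) (V := ⊤) x trivial trivial
    (Coh.toGlobal pX π : Γ(X.left, ⊤)) 0 (by rw [map_zero]; exact h)
  rw [map_zero] at he
  have h0 : DVRFibre.ψ pX W π = 0 := he
  have h1 : (1 : Γ(X.left, W)) = 0 := DVRFibre.eq_zero_of_mul_eq_zero pX
    (IsSMulRegular.of_ne_zero hπ) W 1 (by rw [h0, zero_mul])
  have h2 := congrArg (X.left.presheaf.germ W x hxW) h1
  rw [map_one, map_zero] at h2
  exact one_ne_zero h2

variable (Γ : ArSurf.VertComp R X)

lemma isGenericPoint_genPtOf :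
    IsGenericPoint (Models.genPtOf R X Γ) (Set.range Γ.ι.base) := by
  have h := (genericPoint_spec Γ.curve.left).image Γ.ι.continuous
  rwa [Set.image_univ, Γ.ι.isClosedEmbedding.isClosed_range.closure_eq] at h

lemma support_ker : (Γ.ι.ker.support : Set X.left) = Set.range Γ.ι.base := by
  rw [Scheme.Hom.support_ker, Γ.ι.isClosedEmbedding.isClosed_range.closure_eq]

lemma mem_support_ker_iff (x : X.left) :
    x ∈ Γ.ι.ker.support ↔ Models.genPtOf R X Γ ⤳ x := by
  rw [(isGenericPoint_genPtOf Γ).specializes_iff_mem, ← SetLike.mem_coe, support_ker]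

instance isIntegral_subscheme_ker : IsIntegral Γ.ι.ker.subscheme := by
  haveI : IsIntegral Γ.curve.left := Γ.isIntegral
  haveI : IsIso Γ.ι.toImage := inferInstance
  haveI : Nonempty Γ.ι.ker.subscheme := ⟨Γ.ι.toImage (genericPoint Γ.curve.left)⟩
  exact isIntegral_of_isOpenImmersion (inv Γ.ι.toImage)

lemma eta_ker : eta Γ.ι.ker = Models.genPtOf R X Γ := by
  refine (Specializes.antisymm ?_ ?_).eq
  · exact (Groth.DivisorLength.mem_support_iff_eta _ _).1
      ((mem_support_ker_iff Γ _).2 specializes_rfl)
  · exact (mem_support_ker_iff Γ _).1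
      ((Groth.DivisorLength.mem_support_iff_eta _ _).2 specializes_rfl)

variable {Γ}

/-- The generic point of a component of the closed fibre lies in it and is maximal there. -/
lemma genPtOf_mem (h : Set.range Γ.ι.base ∈ Models.fibreComponents R X) :
    Models.genPtOf R X Γ ∈ Models.specialFibreSet R X :=
  (Maximal.prop (P := fun S : Set X.left => IsIrreducible S ∧ S ⊆ Models.specialFibreSet R X) h).2
    ⟨_, rfl⟩

lemma eq_genPtOf (h : Set.range Γ.ι.base ∈ Models.fibreComponents R X) {y : X.left}
    (hy : y ∈ Models.specialFibreSet R X) (hyξ : y ⤳ Models.genPtOf R X Γ) :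
    y = Models.genPtOf R X Γ := by
  have h1 : Set.range Γ.ι.base ⊆ closure {y} := by
    rw [← (isGenericPoint_genPtOf Γ).def]
    exact closure_minimal (Set.singleton_subset_iff.2 hyξ.mem_closure) isClosed_closure
  have h2 : closure {y} ⊆ Set.range Γ.ι.base := h.2
    ⟨isIrreducible_singleton.closure,
      closure_minimal (Set.singleton_subset_iff.2 hy) (Models.isClosed_specialFibreSet R X)⟩ h1
  exact (hyξ.antisymm ((isGenericPoint_genPtOf Γ).specializes (h2 (subset_closure rfl)))).eq

lemma isDomain_stalk (hreg : Models.IsRegularScheme X.left) (x : X.left) :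
    IsDomain (X.left.presheaf.stalk x) := by
  haveI := hreg x
  exact Groth.Ega4Algebra1.isDomain_of_isRegularLocalRing _

/-- The local ring at the generic point of a component has dimension one. -/
lemma dim_stalk_genPtOf [Flat pX] [IsLocallyNoetherian X.left]
    (hreg : Models.IsRegularScheme X.left)
    (h : Set.range Γ.ι.base ∈ Models.fibreComponents R X) :
    ringKrullDim (X.left.presheaf.stalk (Models.genPtOf R X Γ)) = 1 := by
  set ξ := Models.genPtOf R X Γ
  obtain ⟨π, hπ⟩ := IsDiscreteValuationRing.exists_irreducible R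
  haveI := hreg ξ
  haveI := isDomain_stalk hreg ξ
  set a := Models.stalkHom R X ξ π
  have ha : ¬ IsUnit a := (mem_specialFibreSet_iff hπ ξ).1 (genPtOf_mem h)
  have ha0 : a ≠ 0 := stalkHom_ne_zero hπ.ne_zero ξ
  have hm : IsLocalRing.maximalIdeal (X.left.presheaf.stalk ξ) ∈ (Ideal.span {a}).minimalPrimes := by
    refine ⟨⟨inferInstance, (Ideal.span_singleton_le_iff_mem _).2 ha⟩, fun q hq hqm => ?_⟩
    haveI := hq.1
    obtain ⟨y, hy, hu, hdim⟩ := Groth.RefRank.exists_generization_of_prime q
    have hyS : y ∈ Models.specialFibreSet R X := by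
      rw [mem_specialFibreSet_iff hπ]
      have hr : Groth.RefRank.rspec hy a = Models.stalkHom R X y π :=
        Groth.RefRank.rspec_germ hy (U := ⊤) trivial (Coh.toGlobal pX π)
      rw [← hr, hu, not_not]
      exact hq.2 (Ideal.mem_span_singleton_self a)
    by_contra hne
    have hlt := Ideal.height_strict_mono_of_isPrime_of_isPrime
      (lt_of_le_not_ge hqm hne)
    rw [eq_genPtOf h hyS hy, ← IsLocalRing.maximalIdeal_height_eq_ringKrullDim] at hdim
    exact hlt.ne (WithBot.coe_injective hdim).symm
  rw [← IsLocalRing.maximalIdeal_height_eq_ringKrullDim]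
  refine congrArg WithBot.some (le_antisymm
    (Ideal.height_le_one_of_isPrincipal_of_mem_minimalPrimes _ _ hm) ?_)
  rw [ENat.one_le_iff_ne_zero, Ne, Ideal.height_eq_zero_iff]
  intro hmin
  rw [IsDomain.minimalPrimes_eq_singleton_bot, Set.mem_singleton_iff] at hmin
  exact ha0 ((Submodule.mem_bot _).1 (hmin.le ha))

/-- A component of the closed fibre is an effective Cartier divisor. -/
theorem isEffCartier [Flat pX] [IsLocallyNoetherian X.left] (hreg : Models.IsRegularScheme X.left)
    (h : Set.range Γ.ι.base ∈ Models.fibreComponents R X) :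
    BlowUp.IsEffCartierIdeal Γ.ι.ker := by
  refine Groth.RefRank.EffCartierLocal.isEffCartierIdeal_of_isIntegral _ ?_ fun x _ => ?_
  · change ringKrullDim (X.left.presheaf.stalk (eta Γ.ι.ker)) = 1
    rw [eta_ker]
    exact dim_stalk_genPtOf hreg h
  · haveI := hreg x
    exact ⟨isDomain_stalk hreg x, (Groth.Agent.S2821.result _).2⟩

section List

variable {n : ℕ} {Γs : Fin n → ArSurf.VertComp R X}

lemma range_mem (hΓ : Models.IsComponentList R X Γs) (i : Fin n) :
    Set.range (Γs i).ι.base ∈ Models.fibreComponents R X :=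
  hΓ.2.subset ⟨i, rfl⟩

lemma genPtOf_inj (hΓ : Models.IsComponentList R X Γs) {i j : Fin n}
    (h : Models.genPtOf R X (Γs i) = Models.genPtOf R X (Γs j)) : i = j := by
  refine hΓ.1 ?_
  change Set.range _ = Set.range _
  rw [← (isGenericPoint_genPtOf (Γs i)).def, h, (isGenericPoint_genPtOf (Γs j)).def]

lemma notMem_support_of_ne (hΓ : Models.IsComponentList R X Γs) {i j : Fin n} (h : i ≠ j) :
    Models.genPtOf R X (Γs i) ∉ (Γs j).ι.ker.support := fun hm =>
  h (genPtOf_inj hΓ (eq_genPtOf (range_mem hΓ i) (genPtOf_mem (range_mem hΓ j))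
    ((mem_support_ker_iff _ _).1 hm)).symm)

/-- The components cover the closed fibre. -/
lemma exists_specializes [CompactSpace X.left] [IsLocallyNoetherian X.left]
    (hΓ : Models.IsComponentList R X Γs) {z : X.left} (hz : z ∈ Models.specialFibreSet R X) :
    ∃ i, Models.genPtOf R X (Γs i) ⤳ z := by
  haveI : IsNoetherian X.left := ⟨⟩
  obtain ⟨η, hη, hηz, hmax⟩ := Groth.DivisorLength.exists_maximal_generization
    (Models.isClosed_specialFibreSet R X) hz
  have hcomp : closure {η} ∈ Models.fibreComponents R X := by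
    refine ⟨⟨isIrreducible_singleton.closure,
      closure_minimal (Set.singleton_subset_iff.2 hη) (Models.isClosed_specialFibreSet R X)⟩,
      fun S hS hsub => ?_⟩
    obtain ⟨g, hg⟩ := QuasiSober.sober hS.1.closure isClosed_closure
    have hgS : g ∈ Models.specialFibreSet R X :=
      closure_minimal hS.2 (Models.isClosed_specialFibreSet R X) hg.mem
    have hgη : g ⤳ η := hg.specializes (subset_closure (hsub (subset_closure rfl)))
    have := hmax g hgS hgη
    subst this
    exact subset_closure.trans hg.def.superset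
  rw [← hΓ.2] at hcomp
  obtain ⟨i, hi⟩ := hcomp
  refine ⟨i, (?_ : Models.genPtOf R X (Γs i) ⤳ η).trans hηz⟩
  refine (isGenericPoint_genPtOf _).specializes ?_
  exact hi.symm.subset (subset_closure rfl)

/-- The ideal of the closed fibre is `∏ I_i ^ m_i`. -/
theorem specialFibreIdeal_eq [Flat pX] [IsLocallyNoetherian X.left] [CompactSpace X.left]
    (hreg : Models.IsRegularScheme X.left) (hΓ : Models.IsComponentList R X Γs) :
    Models.specialFibreIdeal R X = ∏ i, (Γs i).ι.ker ^ Models.mult R X (Γs i) := by
  obtain ⟨π, hπ⟩ := IsDiscreteValuationRing.exists_irreducible R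
  set Z := Models.specialFibreIdeal R X
  let D : Fin n → X.left.IdealSheafData := fun i => (Γs i).ι.ker
  have hD : ∀ i, BlowUp.IsEffCartierIdeal (D i) := fun i => isEffCartier hreg (range_mem hΓ i)
  have hη : ∀ i, eta (D i) = Models.genPtOf R X (Γs i) := fun i => eta_ker _
  have hsupp : ∀ x : X.left, x ∈ Z.support ↔ x ∈ Models.specialFibreSet R X := by
    intro x
    obtain ⟨W, hW, -⟩ := Groth.Divisors.exists_affine_le x ⊤ trivial
    rw [mem_support_iff_map_germ_ne_top Z hW, map_germ_specialFibre hπ W x hW,
      Ne, Ideal.span_singleton_eq_top, ← mem_specialFibreSet_iff hπ]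
  -- the closed fibre contains no maximal point of `X`
  have hgeneric : ∀ ζ : X.left, (∀ y : X.left, y ⤳ ζ → y = ζ) → ζ ∉ Z.support := by
    intro ζ hζ hζZ
    rw [hsupp, mem_specialFibreSet_iff hπ] at hζZ
    haveI := hreg ζ
    haveI := isDomain_stalk hreg ζ
    obtain ⟨y, hy, hu, -⟩ := Groth.RefRank.exists_generization_of_prime
      (⊥ : Ideal (X.left.presheaf.stalk ζ))
    have h1 := (hu (Models.stalkHom R X ζ π)).2
      (fun h => stalkHom_ne_zero hπ.ne_zero ζ ((Submodule.mem_bot _).1 h))
    rw [show Groth.RefRank.rspec hy (Models.stalkHom R X ζ π) = Models.stalkHom R X y π from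
      Groth.RefRank.rspec_germ hy (U := ⊤) trivial (Coh.toGlobal pX π), hζ y hy] at h1
    exact hζZ h1
  choose Wi hWi ti ni htI hdivi hmemi using fun i =>
    Groth.DivisorLength.exists_order Z (D i) (hD i) hgeneric
  have hinj : ∀ i ∈ (Finset.univ : Finset (Fin n)), ∀ j ∈ (Finset.univ : Finset (Fin n)),
      eta (D i) = eta (D j) → i = j := fun i _ j _ h =>
    genPtOf_inj hΓ (by rwa [hη, hη] at h)
  have hle : Z ≤ ∏ i, D i ^ ni i := Groth.DivisorLength.le_prod Z D hD ni Finset.univ hinj
    fun i _ => ⟨Wi i, hWi i, ti i, htI i, hdivi i⟩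
  have hoff : ∀ j, ∀ k ∈ (Finset.univ : Finset (Fin n)), k ≠ j → eta (D j) ∉ (D k).support :=
    fun j k _ hkj => by rw [hη]; exact notMem_support_of_ne hΓ (Ne.symm hkj)
  choose V hηV hV using fun j => Groth.DivisorLength.exists_eq_near Z D hD ni Finset.univ hle
    (Finset.mem_univ j) (hoff j) (Wi j) (hWi j) (ti j) (htI j) (hmemi j)
  -- the two ideals agree everywhere
  have heq : Z = ∏ i, D i ^ ni i := by
    refine le_antisymm hle ?_
    have key : ∀ x : X.left, ∃ W : X.left.affineOpens, x ∈ W.1 ∧
        (∏ i, D i ^ ni i).ideal W ≤ Z.ideal W := by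
      intro x
      obtain ⟨W, hxW, -, hW⟩ := Groth.DivisorLength.exists_chart D hD Finset.univ x ⊤ trivial
      choose g hg hgI hgu using fun i => hW i (Finset.mem_univ i)
      set G := ∏ i, g i ^ ni i
      have hPW : (∏ i, D i ^ ni i).ideal W = Ideal.span {G} := by
        rw [Groth.DivisorLength.ideal_prod, ← Ideal.prod_span_singleton]
        exact Finset.prod_congr rfl fun i _ => by rw [hgI, Ideal.span_singleton_pow]
      obtain ⟨h, hh⟩ : G ∣ DVRFibre.ψ pX W.1 π := by
        rw [← Ideal.mem_span_singleton, ← hPW]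
        refine hle W ?_
        rw [show Z.ideal W = _ from CohFlat.ideal_specialFibre pX hπ W]
        exact Ideal.mem_span_singleton_self _
      -- the quotient `h` is a unit
      have hu : IsUnit h := by
        haveI := IsLocallyNoetherian.component_noetherian W
        by_contra hu
        obtain ⟨z, hzW, hz⟩ : ∃ (z : X.left) (hz : z ∈ W.1), ¬ IsUnit (X.left.presheaf.germ W.1 z hz h) := by
          by_contra! hall
          refine hu ?_
          exact RingedSpace.isUnit_of_isUnit_germ X.left.toRingedSpace W.1 h hall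
        haveI := hreg z
        haveI := isDomain_stalk hreg z
        obtain ⟨q, hq⟩ := Ideal.nonempty_minimalPrimes
          (I := Ideal.span {X.left.presheaf.germ W.1 z hzW h})
          (fun h1 => hz (Ideal.span_singleton_eq_top.1 h1))
        haveI := hq.1.1
        have hq1 := Ideal.height_le_one_of_isPrincipal_of_mem_minimalPrimes _ _ hq
        obtain ⟨y, hy, hu', hdim⟩ := Groth.RefRank.exists_generization_of_prime q
        have hyW : y ∈ W.1 := hy.mem_open W.1.2 hzW
        have hyh : ¬ IsUnit (X.left.presheaf.germ W.1 y hyW h) := fun h1 => by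
          rw [← Groth.RefRank.rspec_germ hy hzW, hu'] at h1
          exact h1 (hq.1.2 (Ideal.mem_span_singleton_self _))
        have hyS : y ∈ Models.specialFibreSet R X := by
          rw [mem_specialFibreSet_iff hπ, stalkHom_eq_germ W.1 y hyW, hh, map_mul]
          exact fun h1 => hyh (isUnit_of_mul_isUnit_right h1)
        obtain ⟨i, hi⟩ := exists_specializes hΓ hyS
        have hiy : y = Models.genPtOf R X (Γs i) := by
          by_contra hne
          have hiW : Models.genPtOf R X (Γs i) ∈ W.1 := hi.mem_open W.1.2 hyW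
          have hlt : (W.2.primeIdealOf ⟨_, hiW⟩).asIdeal < (W.2.primeIdealOf ⟨y, hyW⟩).asIdeal :=
            lt_of_le_of_ne ((Groth.DivisorLength.specializes_iff hiW hyW).1 hi)
              fun h1 => hne (Groth.DivisorLength.eq_of_primeIdealOf_eq hiW hyW h1).symm
          have h1 := Ideal.height_strict_mono_of_isPrime_of_isPrime hlt
          have h2 := Groth.DivisorLength.dim_stalk hiW
          rw [dim_stalk_genPtOf hreg (range_mem hΓ i)] at h2
          rw [Groth.DivisorLength.dim_stalk hyW] at hdim
          rw [← WithBot.coe_one, WithBot.coe_inj] at h2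
          rw [WithBot.coe_inj] at hdim
          exact absurd (h1.trans_le (hdim.le.trans hq1)) (h2 ▸ lt_irrefl _)
        haveI := hreg y
        haveI := isDomain_stalk hreg y
        have hyV : y ∈ (V i).1 := hiy ▸ hη i ▸ hηV i
        have h1 : Ideal.span {X.left.presheaf.germ W.1 y hyW G} =
            Ideal.span {X.left.presheaf.germ W.1 y hyW G * X.left.presheaf.germ W.1 y hyW h} := by
          rw [← map_mul, ← hh, ← stalkHom_eq_germ W.1 y hyW, ← map_germ_specialFibre hπ (V i) y hyV,
            ← hV i, Groth.DivisorLength.map_germ_eq _ hyV hyW, hPW, Ideal.map_span, Set.image_singleton]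
        obtain ⟨c, hc⟩ := Ideal.mem_span_singleton.1
          (h1.le (Ideal.mem_span_singleton_self _))
        have hG0 : X.left.presheaf.germ W.1 y hyW G ≠ 0 := fun h0 =>
          stalkHom_ne_zero hπ.ne_zero y (by rw [stalkHom_eq_germ W.1 y hyW, hh, map_mul, h0, zero_mul])
        rw [mul_assoc] at hc
        exact hyh (IsUnit.of_mul_eq_one c (mul_left_cancel₀ hG0 (hc.symm.trans (mul_one _).symm)))
      refine ⟨W, hxW, ?_⟩
      rw [hPW, show Z.ideal W = _ from CohFlat.ideal_specialFibre pX hπ W, hh,
        Ideal.span_singleton_mul_right_unit hu]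
    choose W hxW hW using key
    exact Scheme.IdealSheafData.le_of_iSup_eq_top W
      (top_le_iff.1 fun x _ => Opens.mem_iSup.2 ⟨x, hxW x⟩) hW
  -- the exponents are the multiplicities
  have hmult : ∀ j, Models.mult R X (Γs j) = ni j := by
    intro j
    set ξ := Models.genPtOf R X (Γs j)
    haveI := hreg ξ
    haveI := isDomain_stalk hreg ξ
    have hξ : ξ ∈ (Wi j).1 := by have := hWi j; rwa [hη] at this
    set t := X.left.presheaf.germ (Wi j).1 ξ hξ (ti j)
    have hm : IsLocalRing.maximalIdeal (X.left.presheaf.stalk ξ) = Ideal.span {t} := by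
      letI := X.left.presheaf.algebra_section_stalk ⟨ξ, hξ⟩
      haveI := (Wi j).2.isLocalization_stalk ⟨ξ, hξ⟩
      have hp : ((Wi j).2.primeIdealOf ⟨ξ, hξ⟩).asIdeal = Ideal.span {ti j} := by
        rw [← htI j, ← Groth.DivisorLength.primeIdealOf_eta (D j) (hWi j)]
        congr 2
        exact Subtype.ext (hη j).symm
      rw [← IsLocalization.AtPrime.map_eq_maximalIdeal ((Wi j).2.primeIdealOf ⟨ξ, hξ⟩).asIdeal,
        hp, Ideal.map_span, Set.image_singleton]
      rfl
    have hnf : ¬ IsField (X.left.presheaf.stalk ξ) := fun hf => by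
      have h1 := ringKrullDim_eq_zero_of_isField hf
      rw [dim_stalk_genPtOf hreg (range_mem hΓ j)] at h1
      exact one_ne_zero h1
    have ht0 : t ≠ 0 := fun h => hnf (IsLocalRing.isField_iff_maximalIdeal_eq.2
      (by rw [hm, h, Ideal.span_singleton_eq_bot.2 rfl]))
    have hirr : Ring.ord (X.left.presheaf.stalk ξ) t = 1 := by
      rw [Ring.ord, Module.length_eq_one_iff, isSimpleModule_iff_isSimpleModule_of_algebraMap_surjective
        (S := X.left.presheaf.stalk ξ ⧸ Ideal.span {t}) Ideal.Quotient.mk_surjective]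
      haveI : (Ideal.span {t}).IsMaximal := hm ▸ inferInstance
      let := Ideal.Quotient.field (Ideal.span {t})
      exact instIsSimpleModule _
    have hstalk : Ideal.map (Models.stalkHom R X ξ) (IsLocalRing.maximalIdeal R) =
        Ideal.span {t ^ ni j} := by
      rw [hπ.maximalIdeal_eq, Ideal.map_span, Set.image_singleton]
      have hξV : ξ ∈ (V j).1 := by have := hηV j; rwa [hη] at this
      have h1 := map_germ_specialFibre hπ (V j) ξ hξV
      rw [← hV j, Groth.DivisorLength.ideal_prod, ← Ideal.mapHom_apply, map_prod] at h1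
      rw [← h1, Finset.prod_eq_single j (fun k _ hk => ?_) (fun h => absurd (Finset.mem_univ j) h)]
      · rw [Ideal.mapHom_apply, Ideal.map_pow, Groth.DivisorLength.map_germ_eq (D j) hξV hξ, htI,
          Ideal.map_span, Set.image_singleton, Ideal.span_singleton_pow]
      · rw [Ideal.mapHom_apply, Ideal.map_pow]
        have htop : ((D k).ideal (V j)).map (X.left.presheaf.germ (V j).1 ξ hξV).hom = ⊤ := by
          by_contra hne
          exact notMem_support_of_ne hΓ (Ne.symm hk) ((mem_support_iff_map_germ_ne_top _ hξV).2 hne)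
        rw [htop, ← Ideal.one_eq_top, one_pow]
    have hlen : Ring.ord (X.left.presheaf.stalk ξ) (t ^ ni j) = ni j := by
      rw [Ring.ord_pow (mem_nonZeroDivisors_of_ne_zero ht0), hirr, nsmul_one]
    change (Module.length (X.left.presheaf.stalk ξ)
      (X.left.presheaf.stalk ξ ⧸ Ideal.map (Models.stalkHom R X ξ) (IsLocalRing.maximalIdeal R))).toNat = _
    rw [hstalk]
    exact (congrArg ENat.toNat hlen).trans (ENat.toNat_coe _)
  rw [heq]
  exact Finset.prod_congr rfl fun j _ => by rw [hmult j]

end List

end Groth.ModelsGraphs.Inter
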