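import Groth.Agent.ModelsGraphs.InterForm
import Groth.Agent.EulerDeg.LineBundle
import Groth.Agent.Inter.Push
import Groth.Agent.PicAux.PushPull
import Groth.Agent.Variety2.ProjBasics

/-!
# Vertical prime divisors of an arithmetic surface

Every vertical prime divisor is a component of the closed fibre; the intersection form on an
arbitrary finite family of them is negative semi-definite.
-/

set_option autoImplicit false

universe u

open CategoryTheory CategoryTheory.Limits AlgebraicGeometry TopologicalSpace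
open Groth.DivisorLength (eta)

namespace Groth.ModelsGraphs.InterVert

open Groth.ModelsGraphs.Inter Groth.ModelsGraphs.InterPair Groth.ModelsGraphs.InterForm

variable {R : Type u} [CommRing R] [IsDomain R] [IsDiscreteValuationRing R]
  {X : Over (Spec (CommRingCat.of R))}

local notation "kR" => IsLocalRing.ResidueField R

lemma isProper_of_isArithSurface (h : ArSurf.IsArithSurface R X) : IsProper X.hom := by
  obtain ⟨n, i, hi, e⟩ := h.2.2.2.2
  rw [← e]
  haveI := hi
  haveI := Groth.Variety2.isProper_projSpaceOver_toBase n (Spec (CommRingCat.of R))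
  infer_instance

/-- A vertical prime divisor is a component of the closed fibre. -/
theorem range_mem_fibreComponents (hX : ArSurf.IsArithSurface R X) (Γ : ArSurf.VertComp R X) :
    Set.range Γ.ι.base ∈ Models.fibreComponents R X := by
  haveI : IsIntegral X.left := hX.2.1
  haveI : Flat X.hom := hX.2.2.2.1
  obtain ⟨π, hπ⟩ := IsDiscreteValuationRing.exists_irreducible R
  have hsub : Set.range Γ.ι.base ⊆ Models.specialFibreSet R X := by
    rintro _ ⟨c, rfl⟩
    change X.hom (Γ.ι c) = IsLocalRing.closedPoint R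
    rw [← Scheme.Hom.comp_apply, Γ.w, Scheme.Hom.comp_apply,
      Subsingleton.elim (Γ.curve.hom c) (IsLocalRing.closedPoint kR)]
    exact IsLocalRing.comap_closedPoint (IsLocalRing.residue R)
  refine ⟨⟨?_, hsub⟩, fun S hS hle => ?_⟩
  · rw [← (isGenericPoint_genPtOf Γ).def]
    exact isIrreducible_singleton.closure
  refine subset_closure.trans ?_
  by_contra hne
  have hSsub : closure S ⊆ Models.specialFibreSet R X :=
    closure_minimal hS.2 (Models.isClosed_specialFibreSet R X)
  -- the generic point of `X` is outside the closed fibre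
  have hηout : genericPoint X.left ∉ Models.specialFibreSet R X := by
    intro hmem
    rw [mem_specialFibreSet_iff hπ] at hmem
    obtain ⟨y, hy, hu, -⟩ := Groth.RefRank.exists_generization_of_prime
      (⊥ : Ideal (X.left.presheaf.stalk (genericPoint X.left)))
    obtain rfl : y = genericPoint X.left := (hy.antisymm (genericPoint_specializes y)).eq
    have h1 := (hu (Models.stalkHom R X _ π)).2
      (fun h => stalkHom_ne_zero hπ.ne_zero _ ((Submodule.mem_bot _).1 h))
    rw [show Groth.RefRank.rspec hy (Models.stalkHom R X (genericPoint X.left) π) =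
      Models.stalkHom R X (genericPoint X.left) π from
      Groth.RefRank.rspec_germ hy (U := ⊤) trivial (Coh.toGlobal X.hom π)] at h1
    exact hmem h1
  -- a chain of length three in `X`
  obtain ⟨a, b, hab⟩ : ∃ a b : IrreducibleCloseds Γ.curve.left, a < b := by
    rw [← Order.krullDim_pos_iff]
    exact (zero_lt_one' (WithBot ℕ∞)).trans_le Γ.dim_eq.ge
  let img : IrreducibleCloseds Γ.curve.left → IrreducibleCloseds X.left :=
    fun c => IrreducibleCloseds.map Γ.ι.base Γ.ι.continuous c
  have himg : ∀ c : IrreducibleCloseds Γ.curve.left, (img c : Set X.left) = Γ.ι.base '' c := fun c =>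
    (Γ.ι.isClosedEmbedding.isClosedMap _ c.isClosed).closure_eq
  let T : IrreducibleCloseds X.left := ⟨closure S, hS.1.closure, isClosed_closure⟩
  let U : IrreducibleCloseds X.left :=
    ⟨Set.univ, IrreducibleSpace.isIrreducible_univ X.left, isClosed_univ⟩
  have h01 : img a < img b := by
    rw [← SetLike.coe_ssubset_coe, himg, himg]
    exact ssubset_iff_subset_not_subset.2 ⟨Set.image_mono (SetLike.coe_ssubset_coe.2 hab).1,
      fun h => (SetLike.coe_ssubset_coe.2 hab).2
        ((Set.image_subset_image_iff Γ.ι.isClosedEmbedding.injective).1 h)⟩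
  have h12 : img b < T := by
    rw [← SetLike.coe_ssubset_coe, himg]
    refine ⟨(Set.image_subset_range _ _).trans (hle.trans subset_closure), fun hsup => ?_⟩
    exact hne (hsup.trans (Set.image_subset_range _ _))
  have h23 : T < U := by
    refine SetLike.coe_ssubset_coe.1 ⟨Set.subset_univ _, fun hsup => ?_⟩
    exact hηout (hSsub (hsup trivial))
  let chain : LTSeries (IrreducibleCloseds X.left) :=
    ((((RelSeries.singleton _ U).cons T (by exact h23)).cons (img b) (by simpa using h12)).cons (img a)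
      (by simpa using h01))
  have h3 : (chain.length : WithBot ℕ∞) ≤ topologicalKrullDim X.left :=
    Order.LTSeries.length_le_krullDim chain
  rw [hX.2.2.1] at h3
  simp [chain] at h3
  norm_cast at h3

variable (Γ Γ' : ArSurf.VertComp R X)

/-- Two vertical divisors with the same support have the same ideal. -/
theorem ker_eq (h : Set.range Γ.ι.base = Set.range Γ'.ι.base) : Γ.ι.ker = Γ'.ι.ker := by
  have hη : eta Γ.ι.ker = eta Γ'.ι.ker := by
    rw [eta_ker, eta_ker]
    exact (isGenericPoint_genPtOf Γ).eq (h ▸ isGenericPoint_genPtOf Γ')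
  have htop : ∀ (G : ArSurf.VertComp R X) (W : X.left.affineOpens),
      eta G.ι.ker ∉ W.1 → G.ι.ker.ideal W = ⊤ := by
    intro G W hW
    by_contra hne
    obtain ⟨m, hm, hle⟩ := Ideal.exists_le_maximal _ hne
    let y := W.2.fromSpec ⟨m, hm.isPrime⟩
    have hy : y ∈ W.1 := by
      rw [← SetLike.mem_coe, ← W.2.range_fromSpec]; exact Set.mem_range_self _
    have hpy : W.2.primeIdealOf ⟨y, hy⟩ = ⟨m, hm.isPrime⟩ :=
      W.2.fromSpec.isOpenEmbedding.injective (W.2.fromSpec_primeIdealOf ⟨y, hy⟩)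
    have hys : y ∈ G.ι.ker.support := by
      rw [Groth.DivisorLength.mem_support_iff_le hy, hpy]
      exact hle
    exact hW (((Groth.DivisorLength.mem_support_iff_eta _ _).1 hys).mem_open W.1.2 hy)
  apply Scheme.IdealSheafData.ext
  funext W
  by_cases hW : eta Γ.ι.ker ∈ W.1
  · have hW' : eta Γ'.ι.ker ∈ W.1 := hη ▸ hW
    rw [← Groth.DivisorLength.primeIdealOf_eta _ hW, ← Groth.DivisorLength.primeIdealOf_eta _ hW']
    congr 2
    exact Subtype.ext hη
  · rw [htop Γ W hW, htop Γ' W (hη ▸ hW)]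

variable [IsProper X.hom]

/-- Degrees on vertical divisors only depend on the support. -/
theorem δ_congr_range (h : Set.range Γ.ι.base = Set.range Γ'.ι.base) {M : X.left.Modules}
    (hM : PicF.IsInvertible M) : δ Γ M = δ Γ' M := by
  have hk := ker_eq Γ Γ' h
  let j := IsClosedImmersion.lift Γ.ι Γ'.ι hk.le
  haveI : IsIso j := IsClosedImmersion.isIso_lift Γ.ι Γ'.ι hk
  have hj : j ≫ Γ.ι = Γ'.ι := IsClosedImmersion.lift_fac _ _ _
  haveI : IsProper (Γ.curve.left ↘ Spec (CommRingCat.of kR)) := isProper_hom Γ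
  haveI : IsClosedImmersion (Spec.map (CommRingCat.ofHom (IsLocalRing.residue R))) :=
    IsClosedImmersion.spec_of_surjective _ IsLocalRing.residue_surjective
  have hjk : j ≫ (Γ.curve.left ↘ Spec (CommRingCat.of kR)) =
      Γ'.curve.left ↘ Spec (CommRingCat.of kR) := by
    change j ≫ Γ.curve.hom = Γ'.curve.hom
    rw [← cancel_mono (Spec.map (CommRingCat.ofHom (IsLocalRing.residue R))), Category.assoc,
      ← Γ.w, ← Γ'.w, ← Category.assoc, hj]
  have hb : ∀ U : Γ.curve.left.Opens, Function.Bijective (j.app U) := fun U =>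
    ConcreteCategory.bijective_of_isIso _
  have key : ∀ N : X.left.Modules, PicF.IsInvertible N →
      Curv2.euler kR Γ'.curve.left ((Scheme.Modules.pullback Γ'.ι).obj N) =
        Curv2.euler kR Γ.curve.left ((Scheme.Modules.pullback Γ.ι).obj N) := by
    intro N hN
    haveI := Groth.PicAux.isIso_unit_of_invertible j hb
      (Groth.PicAux.isInvertible_pullback Γ.ι hN)
    rw [← Groth.Inter.euler_push kR j hjk ((Scheme.Modules.pullback Γ'.ι).obj N)]
    refine (Groth.EulerDeg.euler_congr kR ?_).symm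
    exact (asIso ((Scheme.Modules.pullbackPushforwardAdjunction j).unit.app
      ((Scheme.Modules.pullback Γ.ι).obj N))) ≪≫
      (Scheme.Modules.pushforward j).mapIso
        (((Scheme.Modules.pullbackComp j Γ.ι).app N) ≪≫ (Scheme.Modules.pullbackCongr hj).app N)
  have hO := key (Coh.structureModule X.left) (Groth.EulerDeg.isInvertible_structureModule _)
  rw [Groth.EulerDeg.euler_congr kR (Groth.PicAux.pullback_structure_iso Γ.ι).some,
    Groth.EulerDeg.euler_congr kR (Groth.PicAux.pullback_structure_iso Γ'.ι).some] at hO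
  simp only [δ, Curv2.deg, key M hM, hO]

section Family

variable {r : ℕ} {Γs : Fin r → ArSurf.VertComp R X} {L : Fin r → X.left.Modules} [Flat X.hom]
  (hreg : Models.IsRegularScheme X.left)
  (hcomp : ∀ i, Set.range (Γs i).ι.base ∈ Models.fibreComponents R X)
  (hL : ∀ i, ClSub.IsInverseOf (L i) (ClSub.idealMod (Γs i).ι.ker))

include hreg hcomp hL

lemma inter_eq_finrank_of_ne {i j : Fin r}
    (hij : Set.range (Γs i).ι.base ≠ Set.range (Γs j).ι.base) :
    ArSurf.inter R X (L j) (Γs i) = (Module.finrank kR (Coh.HH (Γs i).curve.left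
      (ClSub.quotMod (interIdeal (Γs i) (Γs j))) 0) : ℤ) := by
  haveI : IsProper ((Γs i).curve.left ↘ Spec (CommRingCat.of kR)) := isProper_hom (Γs i)
  haveI : IsLocallyNoetherian X.left := LocallyOfFiniteType.isLocallyNoetherian X.hom
  have hI := isEffCartier hreg (hcomp j)
  have hn : Models.genPtOf R X (Γs i) ∉ (Γs j).ι.ker.support := fun hm => hij (by
    rw [← (isGenericPoint_genPtOf (Γs i)).def, ← (isGenericPoint_genPtOf (Γs j)).def,
      eq_genPtOf (hcomp i) (genPtOf_mem (hcomp j)) ((mem_support_ker_iff _ _).1 hm)])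
  obtain ⟨h1, h2⟩ := InterPair.isInverseOf_pullback (Γs i) (Γs j) hI hn (hL j)
  rw [inter_eq_deg]
  exact Groth.EulerDeg.deg_inverse_idealMod kR (le_of_eq (Γs i).dim_eq)
    (isEffCartier_interIdeal (Γs i) (Γs j) hI hn) h1 h2

/-- Symmetry for an arbitrary family of components. -/
theorem inter_symm (i j : Fin r) :
    ArSurf.inter R X (L j) (Γs i) = ArSurf.inter R X (L i) (Γs j) := by
  by_cases hij : Set.range (Γs i).ι.base = Set.range (Γs j).ι.base
  · have hinv := hL j
    rw [← ker_eq (Γs i) (Γs j) hij] at hinv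
    obtain ⟨e⟩ := Groth.PicAux.isInverseOf_unique (Groth.PicAux.isInverseOf_symm (hL i))
      (Groth.PicAux.isInverseOf_symm hinv)
    rw [δ_eq_inter, δ_eq_inter, δ_congr (Γs i) e.symm]
    exact δ_congr_range _ _ hij (Groth.PicAux.isInvertible_left_of_isInverseOf (hL i)).1
  · rw [inter_eq_finrank_of_ne hreg hcomp hL hij,
      inter_eq_finrank_of_ne hreg hcomp hL (Ne.symm hij), dim_interIdeal_comm]

lemma inter_congr {i i' j : Fin r} (h : Set.range (Γs i).ι.base = Set.range (Γs i').ι.base) :
    ArSurf.inter R X (L j) (Γs i) = ArSurf.inter R X (L j) (Γs i') := by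
  rw [δ_eq_inter, δ_eq_inter]
  exact δ_congr_range _ _ h (Groth.PicAux.isInvertible_left_of_isInverseOf (hL j)).1

/-- The part of the closed fibre in the family has degree at most zero on each of its members. -/
theorem sum_mult_mul_inter_nonpos [CompactSpace X.left] (S : Finset (Fin r))
    (hS : ∀ i ∈ S, ∀ i' ∈ S, Set.range (Γs i).ι.base = Set.range (Γs i').ι.base → i = i')
    {j : Fin r} (hj : j ∈ S) :
    ∑ i ∈ S, (Models.mult R X (Γs i) : ℤ) * ArSurf.inter R X (L j) (Γs i) ≤ 0 := by
  classical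
  haveI : IsLocallyNoetherian X.left := LocallyOfFiniteType.isLocallyNoetherian X.hom
  obtain ⟨π, hπ⟩ := IsDiscreteValuationRing.exists_irreducible R
  let Z := Models.specialFibreIdeal R X
  let D : Fin r → X.left.IdealSheafData := fun i => (Γs i).ι.ker
  have hD : ∀ i, BlowUp.IsEffCartierIdeal (D i) := fun i => isEffCartier hreg (hcomp i)
  have hη : ∀ i, eta (D i) = Models.genPtOf R X (Γs i) := fun i => eta_ker _
  have hsupp : ∀ x : X.left, x ∈ Z.support → x ∈ Models.specialFibreSet R X := by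
    intro x hx
    obtain ⟨W, hW, -⟩ := Groth.Divisors.exists_affine_le x ⊤ trivial
    rwa [Groth.RefRank.EffCartierLocal.mem_support_iff_map_germ_ne_top Z hW,
      map_germ_specialFibre hπ W x hW, Ne, Ideal.span_singleton_eq_top,
      ← mem_specialFibreSet_iff hπ] at hx
  have hgeneric : ∀ ζ : X.left, (∀ y : X.left, y ⤳ ζ → y = ζ) → ζ ∉ Z.support := by
    intro ζ hζ hζZ
    have hmem := (mem_specialFibreSet_iff hπ ζ).1 (hsupp ζ hζZ)
    haveI := isDomain_stalk hreg ζ
    obtain ⟨y, hy, hu, -⟩ := Groth.RefRank.exists_generization_of_prime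
      (⊥ : Ideal (X.left.presheaf.stalk ζ))
    have h1 := (hu (Models.stalkHom R X ζ π)).2
      (fun h => stalkHom_ne_zero hπ.ne_zero ζ ((Submodule.mem_bot _).1 h))
    rw [show Groth.RefRank.rspec hy (Models.stalkHom R X ζ π) = Models.stalkHom R X y π from
      Groth.RefRank.rspec_germ hy (U := ⊤) trivial (Coh.toGlobal X.hom π), hζ y hy] at h1
    exact hmem h1
  choose Wi hWi ti ni htI hdivi hmemi using fun i =>
    Groth.DivisorLength.exists_order Z (D i) (hD i) hgeneric
  have hinj : ∀ i ∈ S, ∀ i' ∈ S, eta (D i) = eta (D i') → i = i' := fun i hi i' hi' h =>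
    hS i hi i' hi' (by
      rw [hη, hη] at h
      rw [← (isGenericPoint_genPtOf (Γs i)).def, h, (isGenericPoint_genPtOf (Γs i')).def])
  have hoff : ∀ l ∈ S, ∀ k ∈ S, k ≠ l → eta (D l) ∉ (D k).support := by
    intro l hl k hk hkl hm
    have h1 := eq_genPtOf (hcomp l) (genPtOf_mem (hcomp k))
      (hη l ▸ (mem_support_ker_iff _ _).1 hm)
    exact hkl (hinj k hk l hl (by rw [hη, hη, h1]))
  have hle : Z ≤ ∏ i ∈ S, D i ^ ni i := Groth.DivisorLength.le_prod Z D hD ni S hinj
    fun i _ => ⟨Wi i, hWi i, ti i, htI i, hdivi i⟩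
  choose V hηV hV using fun (l : Fin r) (hl : l ∈ S) => Groth.DivisorLength.exists_eq_near Z D hD
    ni S hle hl (hoff l hl) (Wi l) (hWi l) (ti l) (htI l) (hmemi l)
  -- the exponents are the multiplicities
  have hmult : ∀ l ∈ S, Models.mult R X (Γs l) = ni l := by
    intro l hl
    set ξ := Models.genPtOf R X (Γs l)
    haveI := hreg ξ
    haveI := isDomain_stalk hreg ξ
    have hξ : ξ ∈ (Wi l).1 := by have := hWi l; rwa [hη] at this
    have hξV : ξ ∈ (V l hl).1 := by have := hηV l hl; rwa [hη] at this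
    set t := X.left.presheaf.germ (Wi l).1 ξ hξ (ti l)
    have hm : IsLocalRing.maximalIdeal (X.left.presheaf.stalk ξ) = Ideal.span {t} := by
      letI := X.left.presheaf.algebra_section_stalk ⟨ξ, hξ⟩
      haveI := (Wi l).2.isLocalization_stalk ⟨ξ, hξ⟩
      have hp : ((Wi l).2.primeIdealOf ⟨ξ, hξ⟩).asIdeal = Ideal.span {ti l} := by
        rw [← htI l, ← Groth.DivisorLength.primeIdealOf_eta (D l) (hWi l)]
        congr 2
        exact Subtype.ext (hη l).symm
      rw [← IsLocalization.AtPrime.map_eq_maximalIdeal ((Wi l).2.primeIdealOf ⟨ξ, hξ⟩).asIdeal,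
        hp, Ideal.map_span, Set.image_singleton]
      rfl
    have hnf : ¬ IsField (X.left.presheaf.stalk ξ) := fun hf => by
      have h1 := ringKrullDim_eq_zero_of_isField hf
      rw [dim_stalk_genPtOf hreg (hcomp l)] at h1
      exact one_ne_zero h1
    have ht0 : t ≠ 0 := fun h => hnf (IsLocalRing.isField_iff_maximalIdeal_eq.2
      (by rw [hm, h, Ideal.span_singleton_eq_bot.2 rfl]))
    have hirr : Ring.ord (X.left.presheaf.stalk ξ) t = 1 := by
      rw [Ring.ord, Module.length_eq_one_iff, isSimpleModule_iff_isSimpleModule_of_algebraMap_surjective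
        (S := X.left.presheaf.stalk ξ ⧸ Ideal.span {t}) Ideal.Quotient.mk_surjective]
      haveI : (Ideal.span {t}).IsMaximal := hm ▸ inferInstance
      let := Ideal.Quotient.field (Ideal.span {t})
      exact instIsSimpleModule _
    have hstalk : Ideal.map (Models.stalkHom R X ξ) (IsLocalRing.maximalIdeal R) =
        Ideal.span {t ^ ni l} := by
      rw [hπ.maximalIdeal_eq, Ideal.map_span, Set.image_singleton]
      have h1 := map_germ_specialFibre hπ (V l hl) ξ hξV
      rw [← hV l hl, Groth.DivisorLength.ideal_prod, ← Ideal.mapHom_apply, map_prod] at h1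
      rw [← h1, Finset.prod_eq_single_of_mem l hl (fun k hk hkl => ?_)]
      · rw [Ideal.mapHom_apply, Ideal.map_pow, Groth.DivisorLength.map_germ_eq (D l) hξV hξ, htI,
          Ideal.map_span, Set.image_singleton, Ideal.span_singleton_pow]
      · rw [Ideal.mapHom_apply, Ideal.map_pow]
        have htop : ((D k).ideal (V l hl)).map (X.left.presheaf.germ (V l hl).1 ξ hξV).hom = ⊤ := by
          by_contra hne
          refine hoff l hl k hk hkl ?_
          rw [hη]
          exact (Groth.RefRank.EffCartierLocal.mem_support_iff_map_germ_ne_top _ hξV).2 hne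
        rw [htop, ← Ideal.one_eq_top, one_pow]
    have hlen : Ring.ord (X.left.presheaf.stalk ξ) (t ^ ni l) = ni l := by
      rw [Ring.ord_pow (mem_nonZeroDivisors_of_ne_zero ht0), hirr, nsmul_one]
    change (Module.length (X.left.presheaf.stalk ξ)
      (X.left.presheaf.stalk ξ ⧸ Ideal.map (Models.stalkHom R X ξ) (IsLocalRing.maximalIdeal R))).toNat = _
    rw [hstalk]
    exact (congrArg ENat.toNat hlen).trans (ENat.toNat_coe _)
  -- the ideal `P ⊇ Z` has a section generating near the generic point of `Γ_j`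
  set P := ∏ i ∈ S, D i ^ ni i with hPdef
  obtain ⟨hPc, hPδ⟩ := δ_idealMod_prod (Γs j) D hD ni S
  have hx : P.subschemeι.app ⊤ (Coh.toGlobal X.hom π) = 0 := by
    refine TopCat.Sheaf.eq_of_locally_eq' P.subscheme.sheaf
      (fun W : X.left.affineOpens => P.subschemeι ⁻¹ᵁ W.1) (P.subschemeι ⁻¹ᵁ ⊤)
      (fun W => homOfLE (P.subschemeι.preimage_mono le_top)) ?_ _ _ fun W => ?_
    · intro z _
      obtain ⟨W, hW, -⟩ := Groth.Divisors.exists_affine_le (P.subschemeι z) ⊤ trivial
      exact Opens.mem_iSup.2 ⟨W, hW⟩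
    refine Eq.trans ?_ (map_zero _).symm
    have h1 : DVRFibre.ψ X.hom W.1 π ∈ RingHom.ker (P.subschemeι.app W.1).hom := by
      rw [Scheme.IdealSheafData.ker_subschemeι_app]
      refine hle W ?_
      rw [show Z.ideal W = _ from CohFlat.ideal_specialFibre X.hom hπ W]
      exact Ideal.mem_span_singleton_self _
    exact (congr($(P.subschemeι.naturality (homOfLE (le_top : W.1 ≤ ⊤)).op)
      (Coh.toGlobal X.hom π))).symm.trans h1
  obtain ⟨sN, hsN⟩ := Groth.OmegaSheaf.exists_idealSect_eq P ⊤ _ hx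
  let sW : Γ(ClSub.idealMod P, (V j hj).1) := Groth.PicAux.res _ le_top sN
  have hsW : OmegaSh.idealSect P (V j hj).1 sW = DVRFibre.ψ X.hom (V j hj).1 π := by
    rw [show sW = (ClSub.idealMod P).presheaf.map (homOfLE (le_top : (V j hj).1 ≤ ⊤)).op sN from rfl,
      Groth.OmegaSheaf.idealSect_res P le_top sN, hsN]
    rfl
  have hspan : P.ideal (V j hj) = Ideal.span {DVRFibre.ψ X.hom (V j hj).1 π} := by
    rw [hV j hj]
    exact CohFlat.ideal_specialFibre X.hom hπ _
  have hnzd : Groth.Divisors.IsNzdSec (DVRFibre.ψ X.hom (V j hj).1 π) := fun y hy => by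
    haveI := isDomain_stalk hreg y
    rw [← stalkHom_eq_germ (V j hj).1 y hy]
    exact mem_nonZeroDivisors_of_ne_zero (stalkHom_ne_zero hπ.ne_zero y)
  have hgen : Groth.PicAux.Gen (ClSub.idealMod P) (V j hj).1 sW :=
    Groth.PicAux.gen_idealMod (V j hj) (by rw [hsW]; exact hnzd) (by rw [hsW]; exact hspan)
  -- its restriction to `Γ_j` is non-zero
  let ι := (Γs j).ι
  let sj : Γ((Scheme.Modules.pullback ι).obj (ClSub.idealMod P), ι ⁻¹ᵁ ⊤) :=
    Groth.PicAux.pullSec ι (ClSub.idealMod P) (U := ⊤) sN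
  haveI : IsIntegral (Γs j).curve.left := (Γs j).isIntegral
  let σ := Groth.PicAux.homOfSection (Groth.PicAux.res _ (le_of_eq ι.preimage_top.symm) sj)
  have hσ : σ ≠ 0 := by
    intro h0
    have h1 : Groth.PicAux.res ((Scheme.Modules.pullback ι).obj (ClSub.idealMod P))
        (le_of_eq ι.preimage_top.symm) sj = 0 := by
      rw [← Groth.PicAux.homOfSection_one
        (Groth.PicAux.res ((Scheme.Modules.pullback ι).obj (ClSub.idealMod P))
          (le_of_eq ι.preimage_top.symm) sj)]
      change σ.app ⊤ _ = 0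
      rw [h0]
      rfl
    have h2 := hgen.pull ι
    have hξV : Models.genPtOf R X (Γs j) ∈ (V j hj).1 := hη j ▸ hηV j hj
    have h3 : Groth.PicAux.pullSec ι (ClSub.idealMod P) sW = 0 := by
      have e : Groth.PicAux.res ((Scheme.Modules.pullback ι).obj (ClSub.idealMod P))
          (ι.preimage_mono (le_top : (V j hj).1 ≤ ⊤)) sj = Groth.PicAux.pullSec ι _ sW :=
        Groth.PicAux.res_pullSec ι _ le_top sN
      rw [← e]
      have e2 := congrArg (Groth.PicAux.res ((Scheme.Modules.pullback ι).obj (ClSub.idealMod P))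
        (le_top : ι ⁻¹ᵁ (V j hj).1 ≤ ⊤)) h1
      rw [Groth.PicAux.res_res, Groth.PicAux.res_zero] at e2
      exact e2
    have h4 : (1 : Γ((Γs j).curve.left, ι ⁻¹ᵁ (V j hj).1)) = 0 := by
      refine h2.smul_inj le_rfl ?_
      rw [Groth.PicAux.res_self, h3, smul_zero, smul_zero]
    have h5 := congrArg ((Γs j).curve.left.presheaf.germ (ι ⁻¹ᵁ (V j hj).1)
      (genericPoint (Γs j).curve.left) hξV) h4
    rw [map_one, map_zero] at h5
    exact one_ne_zero h5
  haveI : IsProper ((Γs j).curve.left ↘ Spec (CommRingCat.of kR)) := isProper_hom (Γs j)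
  have hpos : 0 ≤ δ (Γs j) (ClSub.idealMod P) := by
    have h := (Groth.EulerDeg.deg_le_and_isIso (Groth.EulerDeg.isInvertible_structureModule _)
      (Groth.PicAux.isInvertible_pullback ι (Groth.PicAux.isInvertible_idealMod hPc)) hσ
      kR (le_of_eq (Γs j).dim_eq)).1
    rwa [Groth.EulerDeg.deg_structure] at h
  rw [hPδ] at hpos
  have hterm : ∀ i ∈ S, (Models.mult R X (Γs i) : ℤ) * ArSurf.inter R X (L j) (Γs i) =
      -((ni i : ℤ) * δ (Γs j) (ClSub.idealMod (D i))) := fun i hi => by
    rw [hmult i hi, inter_symm hreg hcomp hL i j, δ_eq_inter, δ_inverse (Γs j) (hL i), mul_neg]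
  rw [Finset.sum_congr rfl hterm, Finset.sum_neg_distrib]
  linarith

/-- The intersection form of any finite family of vertical divisors is negative semi-definite. -/
theorem form_nonpos [CompactSpace X.left] (a : Fin r → ℤ) :
    (∑ q : Fin r × Fin r, a q.1 * a q.2 * ArSurf.inter R X (L q.2) (Γs q.1)) ≤ 0 := by
  classical
  let key : Fin r → Set X.left := fun i => Set.range (Γs i).ι.base
  haveI : Nonempty (Fin r) ∨ IsEmpty (Fin r) := (isEmpty_or_nonempty _).symm
  rcases isEmpty_or_nonempty (Fin r) with he | hne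
  · simp
  let rep : Fin r → Fin r := fun i => Function.invFun key (key i)
  have hrep : ∀ i, key (rep i) = key i := fun i => Function.invFun_eq ⟨i, rfl⟩
  let S : Finset (Fin r) := Finset.univ.image rep
  have hS : ∀ i ∈ S, ∀ i' ∈ S, key i = key i' → i = i' := by
    intro i hi i' hi' h
    obtain ⟨x, -, rfl⟩ := Finset.mem_image.1 hi
    obtain ⟨y, -, rfl⟩ := Finset.mem_image.1 hi'
    change Function.invFun key (key x) = Function.invFun key (key y)
    rw [← hrep x, h, hrep y]
  let A : Fin r → Fin r → ℤ := fun i j => ArSurf.inter R X (L j) (Γs i)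
  have hA : ∀ i j, A i j = A (rep i) (rep j) := fun i j => by
    change ArSurf.inter R X (L j) (Γs i) = ArSurf.inter R X (L (rep j)) (Γs (rep i))
    rw [inter_congr hreg hcomp hL (j := j) (hrep i).symm, inter_symm hreg hcomp hL (rep i) j,
      inter_congr hreg hcomp hL (j := rep i) (hrep j).symm, inter_symm hreg hcomp hL (rep j) (rep i)]
  let c : Fin r → ℚ := fun l => ∑ i ∈ Finset.univ.filter (fun i => rep i = l), (a i : ℚ)
  have hQ : ((∑ q : Fin r × Fin r, a q.1 * a q.2 * A q.1 q.2 : ℤ) : ℚ) =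
      ∑ l ∈ S, ∑ l' ∈ S, c l * c l' * (A l l' : ℚ) := by
    push_cast
    rw [Fintype.sum_prod_type]
    rw [← Finset.sum_fiberwise_of_maps_to (g := rep) (t := S)
      (fun i _ => Finset.mem_image_of_mem rep (Finset.mem_univ i))]
    refine Finset.sum_congr rfl fun l _ => ?_
    have : ∀ i ∈ Finset.univ.filter (fun i => rep i = l),
        ∑ j, (a i : ℚ) * a j * (A i j : ℚ) = (a i : ℚ) * ∑ l' ∈ S, c l' * (A l l' : ℚ) := by
      intro i hi
      rw [← Finset.sum_fiberwise_of_maps_to (g := rep) (t := S)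
        (fun j _ => Finset.mem_image_of_mem rep (Finset.mem_univ j)), Finset.mul_sum]
      refine Finset.sum_congr rfl fun l' _ => ?_
      rw [Finset.sum_mul, Finset.mul_sum]
      refine Finset.sum_congr rfl fun j hj => ?_
      rw [hA i j, (Finset.mem_filter.1 hi).2, (Finset.mem_filter.1 hj).2]
      ring
    rw [Finset.sum_congr rfl this, ← Finset.sum_mul, Finset.mul_sum]
    exact Finset.sum_congr rfl fun l' _ => by ring
  let m : Fin r → ℚ := fun l => (Models.mult R X (Γs l) : ℚ)
  have hm : ∀ l, 0 < m l := fun l => Nat.cast_pos.2 (mult_pos hreg (hcomp l))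
  let b : Fin r → ℚ := fun l => c l / m l
  have hb : ∀ l, c l = b l * m l := fun l => (div_mul_cancel₀ _ (hm l).ne').symm
  have hrow : ∀ l' ∈ S, ∑ l ∈ S, m l * (A l l' : ℚ) ≤ 0 := fun l' hl' => by
    have := sum_mult_mul_inter_nonpos hreg hcomp hL S hS hl'
    simp only [m, A]
    exact_mod_cast this
  have hexp : ∑ l ∈ S, ∑ l' ∈ S, c l * c l' * (A l l' : ℚ) =
      ∑ l' ∈ S, b l' ^ 2 * m l' * (∑ l ∈ S, m l * (A l l' : ℚ)) -
        (∑ l ∈ S, ∑ l' ∈ S, (b l - b l') ^ 2 * m l * m l' * (A l l' : ℚ)) / 2 := by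
    have h1 : ∑ l' ∈ S, b l' ^ 2 * m l' * (∑ l ∈ S, m l * (A l l' : ℚ)) =
        ∑ l ∈ S, ∑ l' ∈ S, b l' ^ 2 * m l' * m l * (A l l' : ℚ) := by
      rw [Finset.sum_comm (s := S) (t := S)]
      refine Finset.sum_congr rfl fun l' _ => ?_
      rw [Finset.mul_sum]
      exact Finset.sum_congr rfl fun l _ => by ring
    have h2 : ∑ l ∈ S, ∑ l' ∈ S, b l' ^ 2 * m l' * m l * (A l l' : ℚ) =
        ∑ l ∈ S, ∑ l' ∈ S, b l ^ 2 * m l' * m l * (A l l' : ℚ) := by
      rw [Finset.sum_comm]
      refine Finset.sum_congr rfl fun l _ => Finset.sum_congr rfl fun l' _ => ?_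
      rw [show A l' l = A l l' from inter_symm hreg hcomp hL l' l]
      ring
    have h3 : ∑ l ∈ S, ∑ l' ∈ S, (b l - b l') ^ 2 * m l * m l' * (A l l' : ℚ) =
        (∑ l ∈ S, ∑ l' ∈ S, b l ^ 2 * m l' * m l * (A l l' : ℚ)) +
          (∑ l ∈ S, ∑ l' ∈ S, b l' ^ 2 * m l' * m l * (A l l' : ℚ)) -
          2 * ∑ l ∈ S, ∑ l' ∈ S, c l * c l' * (A l l' : ℚ) := by
      simp only [Finset.mul_sum, ← Finset.sum_add_distrib, ← Finset.sum_sub_distrib]
      exact Finset.sum_congr rfl fun l _ => Finset.sum_congr rfl fun l' _ => by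
        rw [hb l, hb l']; ring
    rw [h3, ← h2, ← h1]
    ring
  have hT : 0 ≤ ∑ l ∈ S, ∑ l' ∈ S, (b l - b l') ^ 2 * m l * m l' * (A l l' : ℚ) := by
    refine Finset.sum_nonneg fun l hl => Finset.sum_nonneg fun l' hl' => ?_
    rcases eq_or_ne l l' with rfl | hne'
    · simp
    · have h0 : (0 : ℤ) ≤ A l l' := by
        change 0 ≤ ArSurf.inter R X (L l') (Γs l)
        rw [inter_eq_finrank_of_ne hreg hcomp hL fun h => hne' (hS l hl l' hl' h)]
        exact Nat.cast_nonneg _
      have h0' : (0 : ℚ) ≤ (A l l' : ℚ) := by exact_mod_cast h0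
      exact mul_nonneg (mul_nonneg (mul_nonneg (sq_nonneg _) (hm l).le) (hm l').le) h0'
  have hle : ((∑ q : Fin r × Fin r, a q.1 * a q.2 * A q.1 q.2 : ℤ) : ℚ) ≤ 0 := by
    rw [hQ, hexp]
    have : ∑ l' ∈ S, b l' ^ 2 * m l' * (∑ l ∈ S, m l * (A l l' : ℚ)) ≤ 0 :=
      Finset.sum_nonpos fun l' hl' =>
        mul_nonpos_of_nonneg_of_nonpos (mul_nonneg (sq_nonneg _) (hm l').le) (hrow l' hl')
    linarith
  exact_mod_cast hle

end Family

/-- The curve degree is the Euler characteristic degree. -/
lemma curveDeg_eq_deg (Γ : ArSurf.VertComp R X) [IsProper X.hom] (M : Γ.curve.left.Modules) :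
    ArSurf.curveDeg kR Γ.curve.left M = Curv2.deg kR Γ.curve.left M 1 := by
  haveI : IsProper (Γ.curve.left ↘ Spec (CommRingCat.of kR)) := isProper_hom Γ
  have hd : topologicalKrullDim Γ.curve.left ≤ 1 := le_of_eq Γ.dim_eq
  unfold ArSurf.curveDeg Curv2.deg
  rw [Groth.EulerDeg.euler_eq_h0_sub_h1 _ _ hd, Groth.EulerDeg.euler_eq_h0_sub_h1 _ _ hd]
  simp [FGA.eulerCharLE, Finset.sum_range_succ]
  ring

/-- Distinct vertical divisors covering the closed fibre list its components. -/
theorem isComponentList (hX : ArSurf.IsArithSurface R X) {r : ℕ} {G : Fin r → ArSurf.VertComp R X}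
    (hdist : Function.Injective fun i => Set.range (G i).ι.base)
    (hcov : ∀ x : X.left, X.hom.base x = IsLocalRing.closedPoint R → ∃ i, x ∈ Set.range (G i).ι.base) :
    Models.IsComponentList R X G := by
  refine ⟨hdist, Set.Subset.antisymm ?_ ?_⟩
  · rintro _ ⟨i, rfl⟩
    exact range_mem_fibreComponents hX (G i)
  · intro Z hZ
    classical
    obtain ⟨z, hz, hZz⟩ := isIrreducible_iff_sUnion_isClosed.1 hZ.1.1
      (Finset.univ.image fun i => Set.range (G i).ι.base) (by
        intro z hz
        obtain ⟨i, -, rfl⟩ := Finset.mem_image.1 hz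
        exact (G i).ι.isClosedEmbedding.isClosed_range)
      (fun x hx => by
        obtain ⟨i, hi⟩ := hcov x (hZ.1.2 hx)
        exact Set.mem_sUnion.2 ⟨_, Finset.mem_coe.2 (Finset.mem_image_of_mem _ (Finset.mem_univ i)), hi⟩)
    obtain ⟨i, -, rfl⟩ := Finset.mem_image.1 hz
    exact ⟨i, Set.Subset.antisymm (hZ.2 (range_mem_fibreComponents hX (G i)).1 hZz) hZz⟩

/-- The kernel of the intersection form of a connected closed fibre. -/
theorem kernel_iff (hX : ArSurf.IsArithSurface R X) [IsProper X.hom] [Flat X.hom]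
    (hpre : _root_.IsPreconnected {x : X.left | X.hom.base x = IsLocalRing.closedPoint R})
    {r : ℕ} {G : Fin r → ArSurf.VertComp R X}
    (hdist : Function.Injective fun i => Set.range (G i).ι.base)
    (hcov : ∀ x : X.left, X.hom.base x = IsLocalRing.closedPoint R → ∃ i, x ∈ Set.range (G i).ι.base)
    {M : Fin r → X.left.Modules} (hM : ∀ i, ClSub.IsInverseOf (M i) (ClSub.idealMod (G i).ι.ker))
    (a : Fin r → ℤ) :
    (∀ i, ∑ j, a j * ArSurf.inter R X (M j) (G i) = 0) ↔
      ∃ c : ℚ, ∀ i, (a i : ℚ) = c * (Models.mult R X (G i) : ℚ) := by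
  haveI : CompactSpace X.left := QuasiCompact.compactSpace_of_compactSpace X.hom
  have hΓ := isComponentList hX hdist hcov
  let A : Fin r → Fin r → ℤ := fun i j => ArSurf.inter R X (M j) (G i)
  have hsymm : ∀ i j, A i j = A j i := InterForm.inter_symm hX.1 hΓ hM
  have hker : ∀ j, ∑ i, (Models.mult R X (G i) : ℤ) * A i j = 0 :=
    InterForm.sum_mult_mul_inter hX.1 hΓ hM
  have hq := quadratic_nonpos A (fun i => Models.mult R X (G i))
    (fun i => mult_pos hX.1 (range_mem_fibreComponents hX (G i))) hsymm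
    (fun i j hij => (InterForm.inter_nonneg_and_eq_zero_iff hX.1 hΓ hM hij).1) hker
    (inter_connected_of_isPreconnected hX.1 hΓ hM hpre) a
  constructor
  · intro h
    refine hq.2.1 ?_
    rw [Fintype.sum_prod_type]
    refine Finset.sum_eq_zero fun i _ => ?_
    rw [Finset.sum_congr rfl (fun j _ => mul_assoc (a i) (a j) (A i j)), ← Finset.mul_sum, h i, mul_zero]
  · rintro ⟨c, hc⟩ i
    have h1 : ((∑ j, a j * ArSurf.inter R X (M j) (G i) : ℤ) : ℚ) =
        c * ((∑ j, (Models.mult R X (G j) : ℤ) * A j i : ℤ) : ℚ) := by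
      push_cast
      rw [Finset.mul_sum]
      refine Finset.sum_congr rfl fun j _ => ?_
      rw [hc j, ← hsymm i j]
      ring
    rw [hker i, Int.cast_zero, mul_zero] at h1
    exact_mod_cast h1

end Groth.ModelsGraphs.InterVert
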