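import Groth.Agent.ModelsGraphs.SmoothMinimal
import Groth.Agent.ModelsGraphs.InterVert
import Groth.Agent.Curves1.RR.Constants
import Groth.Agent.Curves1.RR.GenusZeroP1
import Groth.Agent.Curves1.RR.P1Facts

/-!
# Exceptional curves via genus and self-intersection
-/

set_option autoImplicit false
set_option backward.isDefEq.respectTransparency.types false

universe u

open CategoryTheory CategoryTheory.Limits AlgebraicGeometry TopologicalSpace Coh

namespace Groth.ModelsGraphs.ExcCriterion

attribute [local instance] Groth.EulerDeg.secModule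

section Curve

open Groth.EulerDeg Groth.PicAux Groth.ModelsGraphs.DualExtend

variable (k : Type u) [Field k] {X : Scheme.{u}} [X.Over (Spec (CommRingCat.of k))]
  [IsIntegral X] [IsProper (X ↘ Spec (CommRingCat.of k))]

omit [IsIntegral X] [IsProper (X ↘ Spec (CommRingCat.of k))] in
lemma h0_eq_finrank :
    letI : Algebra k Γ(X, ⊤) :=
      RingHom.toAlgebra (show k →+* Γ(X, ⊤) from toGlobal (X ↘ Spec (CommRingCat.of k)))
    Module.finrank k (HH X (structureModule X) 0) = Module.finrank k Γ(X, ⊤) := by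
  letI : Algebra k Γ(X, ⊤) :=
    RingHom.toAlgebra (show k →+* Γ(X, ⊤) from toGlobal (X ↘ Spec (CommRingCat.of k)))
  let e₀ : Γ(structureModule X, (⊤ : X.Opens)) ≃ₗ[k] Γ(X, ⊤) :=
    { (Equiv.refl _ : Γ(X, ⊤) ≃ Γ(X, ⊤)) with
      toFun := fun x => toFun x
      invFun := fun x => x
      map_add' := fun _ _ => rfl
      map_smul' := fun a x => by
        show toFun (a • x) = _
        rw [smul_sec, toFun_smul]
        exact congrArg (· * toFun x) (resX_self _ _) }
  exact (h0Equiv k (structureModule X)).finrank_eq.trans e₀.finrank_eq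

/-- Dimensions over `k` and over the field of global functions. -/
theorem finrank_eq_h0_mul (M : X.Modules) (n : ℕ) :
    Module.finrank k (HH X M n) =
      Module.finrank k (HH X (structureModule X) 0) * Module.finrank (Γtop X) (HH X M n) := by
  letI : Algebra k Γ(X, ⊤) :=
    RingHom.toAlgebra (show k →+* Γ(X, ⊤) from toGlobal (X ↘ Spec (CommRingCat.of k)))
  letI : Module Γ(X, ⊤) (HH X M n) := Coh.moduleΓtop M n
  haveI : IsScalarTower k Γ(X, ⊤) (HH X M n) := IsScalarTower.of_algebraMap_smul fun _ _ => rfl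
  have hA : IsField Γ(X, ⊤) := isField_of_universallyClosed k (X ↘ Spec (CommRingCat.of k))
  haveI : Module.Free Γ(X, ⊤) (HH X M n) :=
    @Module.Free.of_divisionRing Γ(X, ⊤) _ hA.toField.toDivisionRing _ (Coh.moduleΓtop M n)
  rw [h0_eq_finrank k]
  exact (Module.finrank_mul_finrank k Γ(X, ⊤) (HH X M n)).symm

omit [IsIntegral X] [IsProper (X ↘ Spec (CommRingCat.of k))] in
lemma h0_eq_one_of_bijective (h : Function.Bijective (toGlobal (X ↘ Spec (CommRingCat.of k)))) :
    Module.finrank k (HH X (structureModule X) 0) = 1 := by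
  letI : Algebra k Γ(X, ⊤) :=
    RingHom.toAlgebra (show k →+* Γ(X, ⊤) from toGlobal (X ↘ Spec (CommRingCat.of k)))
  rw [h0_eq_finrank k,
    ← (LinearEquiv.ofBijective (Algebra.linearMap k Γ(X, ⊤)) h).finrank_eq, Module.finrank_self]

variable (K : Type u) [Field K] [X.Over (Spec (CommRingCat.of K))]
  [IsProper (X ↘ Spec (CommRingCat.of K))]

theorem finrank_change (hK : Module.finrank K (HH X (structureModule X) 0) = 1) (M : X.Modules) (n : ℕ) :
    Module.finrank k (HH X M n) =
      Module.finrank k (HH X (structureModule X) 0) * Module.finrank K (HH X M n) := by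
  rw [finrank_eq_h0_mul k M n, finrank_eq_h0_mul K M n, hK, one_mul]

theorem deg_change (hdim : topologicalKrullDim X ≤ 1)
    (hK : Module.finrank K (HH X (structureModule X) 0) = 1) (M : X.Modules) :
    Curv2.deg k X M 1 = (Module.finrank k (HH X (structureModule X) 0) : ℤ) * Curv2.deg K X M 1 := by
  have h : ∀ N : X.Modules, Curv2.euler k X N =
      (Module.finrank k (HH X (structureModule X) 0) : ℤ) * Curv2.euler K X N := fun N => by
    rw [euler_eq_h0_sub_h1 k X hdim, euler_eq_h0_sub_h1 K X hdim, finrank_change k K hK N 0,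
      finrank_change k K hK N 1]
    push_cast
    ring
  simp only [Curv2.deg, h M, h (structureModule X)]
  ring

/-- A curve of genus zero with a bundle of degree `[H⁰(O) : k]` is a projective line over `H⁰(O)`. -/
theorem exists_iso_of_bijective (hdim : topologicalKrullDim X = 1)
    (hbij : Function.Bijective (toGlobal (X ↘ Spec (CommRingCat.of K))))
    (h1 : Module.finrank k (HH X (structureModule X) 1) = 0) {N : X.Modules} (hN : PicF.IsInvertible N)
    (hdeg : Curv2.deg k X N 1 = (Module.finrank k (HH X (structureModule X) 0) : ℤ)) :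
    ∃ (K : Type u) (_ : Field K) (e : CohB1.ProjSpace 1 K ≅ X),
      Nonempty ((Scheme.Modules.pullback e.hom).obj N ≅ Twist.twistProjSpace 1 K 1) := by
  have h0 := h0_eq_one_of_bijective K hbij
  have hpos : Module.finrank k (HH X (structureModule X) 0) ≠ 0 := by
    intro hz
    haveI := finite_HH k X (isCoh_of_isInvertible (isInvertible_structureModule X)) 0
    haveI : Subsingleton (HH X (structureModule X) 0) := Module.finrank_zero_iff.1 hz
    rw [Module.finrank_zero_of_subsingleton] at h0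
    exact zero_ne_one h0
  have hg : Curv2.genus K X = 0 := by
    rw [finrank_change k K h0] at h1
    exact (mul_eq_zero.1 h1).resolve_left hpos
  have hd : Curv2.deg K X N 1 = ((1 : ℕ) : ℤ) := by
    rw [deg_change k K hdim.le h0 N] at hdeg
    have h : (Module.finrank k (HH X (structureModule X) 0) : ℤ) ≠ 0 := by exact_mod_cast hpos
    simpa using mul_left_cancel₀ h (hdeg.trans (mul_one _).symm)
  obtain ⟨i, hi, -, ⟨t⟩⟩ := Groth.Curves1.RR.exists_closedImmersion_of_genus_zero K hdim.le h0 hg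
    N hN 1 one_pos hd
  haveI := hi
  haveI : IsIso i := Groth.Curves1.RR.isIso_of_isClosedImmersion_projSpace K 1 i
    (by rw [hdim]; norm_num)
  exact ⟨K, inferInstance, (asIso i).symm,
    ⟨(Scheme.Modules.pullback (asIso i).inv).mapIso t.symm ≪≫
      (Scheme.Modules.pullbackComp (asIso i).inv i).app _ ≪≫
      (Scheme.Modules.pullbackCongr (asIso i).inv_hom_id).app _ ≪≫
      (Scheme.Modules.pullbackId _).app _⟩⟩

omit [X.Over (Spec (CommRingCat.of K))] [IsProper (X ↘ Spec (CommRingCat.of K))] in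
/-- A curve of genus zero with a bundle of degree `[H⁰(O) : k]` is a projective line. -/
theorem exists_iso_projectiveLine (hdim : topologicalKrullDim X = 1)
    (h1 : Module.finrank k (HH X (structureModule X) 1) = 0) {N : X.Modules} (hN : PicF.IsInvertible N)
    (hdeg : Curv2.deg k X N 1 = (Module.finrank k (HH X (structureModule X) 0) : ℤ)) :
    ∃ (K : Type u) (_ : Field K) (e : CohB1.ProjSpace 1 K ≅ X),
      Nonempty ((Scheme.Modules.pullback e.hom).obj N ≅ Twist.twistProjSpace 1 K 1) := by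
  have hA : IsField Γ(X, ⊤) := isField_of_universallyClosed k (X ↘ Spec (CommRingCat.of k))
  letI : Field Γ(X, ⊤) := hA.toField
  letI : X.Over (Spec (CommRingCat.of Γ(X, ⊤))) := ⟨X.toSpecΓ⟩
  haveI : IsProper (X ↘ Spec (CommRingCat.of Γ(X, ⊤))) := by
    have hfac : X.toSpecΓ ≫ Spec.map (CommRingCat.ofHom (toGlobal (X ↘ Spec (CommRingCat.of k)))) =
        X ↘ Spec (CommRingCat.of k) := by
      refine ext_of_isAffine ?_
      rw [Scheme.Hom.comp_appTop, Scheme.toSpecΓ_appTop, Scheme.ΓSpecIso_naturality]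
      ext a
      exact congr((Scheme.Hom.appTop (X ↘ Spec (CommRingCat.of k))).hom
        ($((Scheme.ΓSpecIso (CommRingCat.of k)).hom_inv_id) a))
    haveI : IsProper (X.toSpecΓ ≫
        Spec.map (CommRingCat.ofHom (toGlobal (X ↘ Spec (CommRingCat.of k))))) := by
      rw [hfac]; infer_instance
    exact IsProper.of_comp X.toSpecΓ
      (Spec.map (CommRingCat.ofHom (toGlobal (X ↘ Spec (CommRingCat.of k)))))
  have hbij : Function.Bijective (toGlobal (X ↘ Spec (CommRingCat.of Γ(X, ⊤)))) := by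
    have h : ∀ a : Γ(X, ⊤), toGlobal (X ↘ Spec (CommRingCat.of Γ(X, ⊤))) a = a := fun a => by
      change X.toSpecΓ.appTop.hom ((Scheme.ΓSpecIso Γ(X, ⊤)).inv.hom a) = a
      rw [Scheme.toSpecΓ_appTop]
      exact congr($((Scheme.ΓSpecIso Γ(X, ⊤)).inv_hom_id) a)
    exact ⟨fun a b hab => by rwa [h, h] at hab, fun a => ⟨a, h a⟩⟩
  exact exists_iso_of_bijective k Γ(X, ⊤) hdim hbij h1 hN hdeg

/-- Invariants of a bundle that is `O(1)` on a projective line over another field. -/
theorem invariants_of_projectiveLine (hdim : topologicalKrullDim X ≤ 1) {K : Type u} [Field K]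
    (e : CohB1.ProjSpace 1 K ≅ X) {N : X.Modules}
    (t : (Scheme.Modules.pullback e.hom).obj N ≅ Twist.twistProjSpace 1 K 1) :
    Module.finrank k (HH X (structureModule X) 1) = 0 ∧
      Curv2.deg k X N 1 = (Module.finrank k (HH X (structureModule X) 0) : ℤ) := by
  letI : X.Over (Spec (CommRingCat.of K)) := ⟨e.inv ≫ CohB1.ProjSpace.toSpec 1 K⟩
  letI : (CohB1.ProjSpace 1 K).Over (Spec (CommRingCat.of K)) := ⟨CohB1.ProjSpace.toSpec 1 K⟩
  haveI hP : IsProper ((CohB1.ProjSpace 1 K) ↘ Spec (CommRingCat.of K)) :=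
    Groth.Variety2.isProper_projSpace_toSpec 1 K
  haveI : IsProper (X ↘ Spec (CommRingCat.of K)) := by
    haveI : IsProper (CohB1.ProjSpace.toSpec 1 K) := hP
    exact inferInstanceAs (IsProper (e.inv ≫ CohB1.ProjSpace.toSpec 1 K))
  have hsq := Groth.Curves1.RR.isPullback_of_iso (k := K) (X' := X) e.symm rfl
  have hL := Groth.Chow.ToPn.twist_isInvertible (n := 1) (R := K)
  obtain ⟨e0⟩ := Groth.PnCoh.nonempty_twist_zero_iso (CohB1.polyGrading 1 K)
  let e0' : Twist.twistProjSpace 1 K ((0 : ℕ) : ℤ) ≅ structureModule (CohB1.ProjSpace 1 K) := e0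
  have hK0 : Module.finrank K (HH X (structureModule X) 0) = 1 := by
    rw [Groth.Curves1.RR.finrank_structure hsq, ← finrank_congr (k := K) e0' 0]
    exact Groth.PnCoh.finrank_h0 K 1 0
  have hK1 : Module.finrank K (HH X (structureModule X) 1) = 0 := by
    rw [Groth.Curves1.RR.finrank_structure hsq, ← finrank_congr (k := K) e0' 1]
    exact Groth.PnCoh.finrank_eq_zero K 1 _ 1 (by omega) (by omega)
  refine ⟨by rw [finrank_change k K hK0, hK1, mul_zero], ?_⟩
  let c : (Scheme.Modules.pullback e.inv).obj (Twist.twistProjSpace 1 K 1) ≅ N :=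
    (Scheme.Modules.pullback e.inv).mapIso t.symm ≪≫
      (Scheme.Modules.pullbackComp e.inv e.hom).app _ ≪≫
      (Scheme.Modules.pullbackCongr e.inv_hom_id).app _ ≪≫ (Scheme.Modules.pullbackId _).app _
  have hd : Curv2.deg K X N 1 = 1 := by
    have h1 := Groth.Curves1.RR.euler_twist_P1 K 1
    have h0 := Groth.Curves1.RR.euler_twist_P1 K 0
    rw [euler_congr K e0'] at h0
    have h := Groth.Curves1.RR.deg_pullback hsq hL
    rw [Curv2.deg, Curv2.deg, euler_congr K (show (Scheme.Modules.pullback e.symm.hom).obj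
      (Twist.twistProjSpace 1 K 1) ≅ N from c)] at h
    rw [Curv2.deg, h, h0, show ((1 : ℕ) : ℤ) = 1 from rfl] at *
    rw [h1]
    norm_num
  rw [deg_change k K hdim hK0, hd, mul_one]

end Curve

section Component

open Groth.ModelsGraphs.Inter Groth.ModelsGraphs.InterPair Groth.ModelsGraphs.InterForm

variable {R : Type u} [CommRing R] [IsDomain R] [IsDiscreteValuationRing R]
  {X : Over (Spec (CommRingCat.of R))} [IsProper X.hom]

theorem isExcCurve_iff (Γ : ArSurf.VertComp R X) (hD : BlowUp.IsEffCartierIdeal Γ.ι.ker)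
    {L : X.left.Modules} (hL : ClSub.IsInverseOf L (ClSub.idealMod Γ.ι.ker)) :
    Models.IsExcCurve Γ.ι ↔
      Models.h1 R X Γ = 0 ∧ ArSurf.inter R X L Γ = -(Models.wdeg R X Γ : ℤ) := by
  haveI := Γ.isIntegral
  haveI : IsProper (Γ.curve.left ↘ Spec (CommRingCat.of (IsLocalRing.ResidueField R))) :=
    isProper_hom Γ
  rw [δ_eq_inter, δ_inverse Γ hL, neg_inj]
  constructor
  · rintro ⟨-, K, _, e, ⟨t⟩⟩
    exact invariants_of_projectiveLine (IsLocalRing.ResidueField R) (le_of_eq Γ.dim_eq) e
      (((Scheme.Modules.pullbackComp e.hom Γ.ι).app _) ≪≫ t)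
  · rintro ⟨h1, hdeg⟩
    obtain ⟨K, hK, e, ⟨t⟩⟩ := exists_iso_projectiveLine (IsLocalRing.ResidueField R) Γ.dim_eq h1
      (Groth.PicAux.isInvertible_pullback Γ.ι (Groth.PicAux.isInvertible_idealMod hD)) hdeg
    exact ⟨hD, K, hK, e, ⟨((Scheme.Modules.pullbackComp e.hom Γ.ι).app _).symm ≪≫ t⟩⟩

omit [IsProper X.hom] in
/-- Being exceptional only depends on the image. -/
theorem isExcCurve_of_range {Γ Γ' : ArSurf.VertComp R X} (h : Models.IsExcCurve Γ.ι)
    (hr : Set.range Γ.ι.base = Set.range Γ'.ι.base) : Models.IsExcCurve Γ'.ι := by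
  obtain ⟨hD, K, hK, e, ⟨t⟩⟩ := h
  have hk := InterVert.ker_eq Γ Γ' hr
  let j := IsClosedImmersion.lift Γ.ι Γ'.ι hk.le
  haveI : IsIso j := IsClosedImmersion.isIso_lift Γ.ι Γ'.ι hk
  have hj : j ≫ Γ.ι = Γ'.ι := IsClosedImmersion.lift_fac _ _ _
  refine ⟨hk ▸ hD, K, hK, e ≪≫ (asIso j).symm, ⟨?_⟩⟩
  have hc : (e ≪≫ (asIso j).symm).hom ≫ Γ'.ι = e.hom ≫ Γ.ι := by
    rw [← hj]
    simp
  rw [← hk]
  exact (Scheme.Modules.pullbackCongr hc).app _ ≪≫ t

end Component

end Groth.ModelsGraphs.ExcCriterion
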