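import Groth.Agent.ModelsGraphs.InterForm

/-!
# Intersection of a vertical divisor with an arbitrary effective Cartier divisor
-/

set_option autoImplicit false

universe u

open CategoryTheory CategoryTheory.Limits AlgebraicGeometry TopologicalSpace

namespace Groth.ModelsGraphs.InterGen

open Groth.ModelsGraphs.InterPair Groth.ModelsGraphs.InterForm

/-- Degree zero cohomology of `O_D` is the ring of functions of `D`. -/
noncomputable def secEquiv {A : Type u} [CommRing A] {Y : Scheme.{u}} [Y.Over (Spec (CommRingCat.of A))]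
    (D : Y.IdealSheafData) :
    letI := (DVRFibre.gl (D.subschemeι ≫ (Y ↘ Spec (CommRingCat.of A)))).toAlgebra
    Coh.HH Y (ClSub.quotMod D) 0 ≃ₗ[A] Γ(D.subscheme, ⊤) :=
  let pY := Y ↘ Spec (CommRingCat.of A)
  letI := (DVRFibre.gl (D.subschemeι ≫ pY)).toAlgebra
  let eS := Groth.CohFin.equivSections pY (ClSub.quotMod D)
  { toFun := fun x => (eS x : Γ(ClSub.quotMod D, ⊤))
    invFun := fun s => eS.symm (s : Γ(ClSub.quotMod D, ⊤))
    left_inv := eS.symm_apply_apply
    right_inv := eS.apply_symm_apply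
    map_add' := eS.map_add
    map_smul' := fun r x => by
      refine (Groth.CohFin.equivSections_smul pY (ClSub.quotMod D) r x).trans ?_
      let y : Γ(D.subscheme, ⊤) := eS x
      refine congrArg (fun a : Γ(D.subscheme, ⊤) => a * y) ?_
      change D.subschemeι.app ⊤ (pY.appTop ((Scheme.ΓSpecIso (CommRingCat.of A)).inv r)) =
        (D.subschemeι ≫ pY).appTop ((Scheme.ΓSpecIso (CommRingCat.of A)).inv r)
      rw [Scheme.Hom.comp_appTop]
      rfl }

/-- The length of the ring of global functions of a scheme over an affine scheme. -/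
noncomputable def lenGl {A : Type u} [CommRing A] {Z : Scheme.{u}}
    (g : Z ⟶ Spec (CommRingCat.of A)) : ℕ∞ :=
  letI := (DVRFibre.gl g).toAlgebra
  Module.length A Γ(Z, ⊤)

lemma gl_apply {A : Type u} [CommRing A] {Z : Scheme.{u}} (g : Z ⟶ Spec (CommRingCat.of A)) (r : A) :
    DVRFibre.gl g r = g.appTop ((Scheme.ΓSpecIso (CommRingCat.of A)).inv r) := rfl

lemma lenGl_congr {A : Type u} [CommRing A] {Z Z' : Scheme.{u}} (e : Z ≅ Z')
    (g : Z ⟶ Spec (CommRingCat.of A)) (g' : Z' ⟶ Spec (CommRingCat.of A)) (h : e.hom ≫ g' = g) :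
    lenGl g = lenGl g' := by
  letI := (DVRFibre.gl g).toAlgebra
  letI := (DVRFibre.gl g').toAlgebra
  haveI : IsIso (e.hom.appTop) := inferInstanceAs (IsIso (e.hom.app ⊤))
  let φ : Γ(Z', ⊤) ≃+* Γ(Z, ⊤) := (asIso e.hom.appTop).commRingCatIsoToRingEquiv
  have hφ : ∀ r : A, φ (DVRFibre.gl g' r) = DVRFibre.gl g r := fun r => by
    subst h
    rw [gl_apply, gl_apply, Scheme.Hom.comp_appTop]
    rfl
  exact (AlgEquiv.ofRingEquiv (f := φ) hφ).toLinearEquiv.length_eq.symm

lemma lenGl_residue {R k : Type u} [CommRing R] [Field k] (φ : R →+* k) (hφ : Function.Surjective φ)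
    {Z : Scheme.{u}} (g : Z ⟶ Spec (CommRingCat.of k)) :
    (lenGl (g ≫ Spec.map (CommRingCat.ofHom φ))).toNat = dimGl g := by
  letI := φ.toAlgebra
  letI := (DVRFibre.gl g).toAlgebra
  letI := (DVRFibre.gl (g ≫ Spec.map (CommRingCat.ofHom φ))).toAlgebra
  haveI : IsScalarTower R k Γ(Z, ⊤) := IsScalarTower.of_algebraMap_eq fun r => by
    change DVRFibre.gl _ r = DVRFibre.gl g (φ r)
    rw [gl_apply, gl_apply, Scheme.Hom.comp_appTop, CommRingCat.comp_apply]
    refine congrArg _ ?_
    exact (ConcreteCategory.congr_hom (Scheme.ΓSpecIso_inv_naturality (CommRingCat.ofHom φ)) r).symm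
  change (Module.length R Γ(Z, ⊤)).toNat = Module.finrank k Γ(Z, ⊤)
  rw [Module.length_eq_of_surjective (R := k) (S := R) hφ, Module.length_eq_rank]
  simp [Module.finrank]

variable {R : Type u} [CommRing R] [IsDomain R] [IsDiscreteValuationRing R]
  {X : Over (Spec (CommRingCat.of R))}

local notation "kR" => IsLocalRing.ResidueField R

variable (Γ : ArSurf.VertComp R X) {I : X.left.IdealSheafData}

lemma isEffCartier_comap (hI : BlowUp.IsEffCartierIdeal I) (h : Models.genPtOf R X Γ ∉ I.support) :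
    BlowUp.IsEffCartierIdeal (I.comap Γ.ι) := by
  haveI : IsIntegral Γ.curve.left := Γ.isIntegral
  refine Groth.Divisors.isEffCartierIdeal_comap_reduced Γ.ι hI fun ξ hξ => ?_
  rw [← hξ _ (genericPoint_specializes ξ)]
  exact h

variable [IsProper X.hom]

theorem inter_eq_finrank (hI : BlowUp.IsEffCartierIdeal I) (h : Models.genPtOf R X Γ ∉ I.support)
    {L : X.left.Modules} (hL : ClSub.IsInverseOf L (ClSub.idealMod I)) :
    ArSurf.inter R X L Γ =
      (Module.finrank kR (Coh.HH Γ.curve.left (ClSub.quotMod (I.comap Γ.ι)) 0) : ℤ) := by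
  haveI : IsProper (Γ.curve.left ↘ Spec (CommRingCat.of kR)) := isProper_hom Γ
  haveI : IsLocallyNoetherian X.left := LocallyOfFiniteType.isLocallyNoetherian X.hom
  have hc := isEffCartier_comap Γ hI h
  obtain ⟨e⟩ := Groth.PicAux.isInverseOf_pullback Γ.ι hL
  obtain ⟨p⟩ := Groth.PicAux.pullback_idealMod Γ.ι hI hc
  have h2 : ClSub.IsInverseOf ((Scheme.Modules.pullback Γ.ι).obj L) (ClSub.idealMod (I.comap Γ.ι)) :=
    ⟨PicGrp.tensorModIso (Iso.refl _) p.symm ≪≫ e⟩
  rw [inter_eq_deg]
  exact Groth.EulerDeg.deg_inverse_idealMod kR (le_of_eq Γ.dim_eq) hc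
    (Groth.PicAux.isInvertible_left_of_isInverseOf h2).1 h2

theorem inter_nonneg_and_eq_zero_iff (hI : BlowUp.IsEffCartierIdeal I)
    (h : Models.genPtOf R X Γ ∉ I.support) {L : X.left.Modules}
    (hL : ClSub.IsInverseOf L (ClSub.idealMod I)) :
    0 ≤ ArSurf.inter R X L Γ ∧
      (ArSurf.inter R X L Γ = 0 ↔ Disjoint (Set.range Γ.ι.base) (I.support : Set X.left)) := by
  haveI : IsProper (Γ.curve.left ↘ Spec (CommRingCat.of kR)) := isProper_hom Γ
  haveI := Groth.EulerDeg.isNoetherian_of_proper kR Γ.curve.left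
  set J := I.comap Γ.ι with hJ
  haveI := Groth.EulerDeg.finite_HH kR Γ.curve.left (Groth.EulerDeg.isCoh_quotMod J) 0
  rw [inter_eq_finrank Γ hI h hL]
  refine ⟨Nat.cast_nonneg _, ?_⟩
  letI := (DVRFibre.gl (J.subschemeι ≫ (Γ.curve.left ↘ Spec (CommRingCat.of kR)))).toAlgebra
  let sec := secEquiv (A := kR) J
  rw [Nat.cast_eq_zero, Module.finrank_zero_iff, sec.toEquiv.subsingleton_congr]
  have hmem : ∀ y, y ∈ J.support ↔ Γ.ι.base y ∈ I.support := fun y => by
    rw [hJ, Scheme.IdealSheafData.support_comap]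
    rfl
  constructor
  · intro hs
    rw [Set.disjoint_left]
    rintro _ ⟨y, rfl⟩ hy
    obtain ⟨z, -⟩ : y ∈ Set.range J.subschemeι := by
      rw [Scheme.IdealSheafData.range_subschemeι]
      exact (hmem y).2 hy
    have h0 := congrArg (J.subscheme.presheaf.germ ⊤ z trivial)
      (Subsingleton.elim (1 : Γ(J.subscheme, ⊤)) 0)
    rw [map_one, map_zero] at h0
    exact one_ne_zero h0
  · intro hd
    haveI : IsEmpty J.subscheme := ⟨fun z => Set.disjoint_left.1 hd ⟨J.subschemeι z, rfl⟩ ((hmem _).1 (by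
      have : J.subschemeι z ∈ Set.range J.subschemeι := ⟨z, rfl⟩
      rwa [Scheme.IdealSheafData.range_subschemeι] at this))⟩
    have : (⊤ : J.subscheme.Opens) = ⊥ := Opens.ext (Set.eq_empty_of_isEmpty _)
    rw [this]
    infer_instance

/-- `(Γ · D)` is the length of `O_X/(I_D + I_Γ)`. -/
theorem inter_eq_lengthH (hI : BlowUp.IsEffCartierIdeal I) (h : Models.genPtOf R X Γ ∉ I.support)
    {L : X.left.Modules} (hL : ClSub.IsInverseOf L (ClSub.idealMod I)) :
    ArSurf.inter R X L Γ = (Models.lengthH R X (ClSub.quotMod (I ⊔ Γ.ι.ker)) 0 : ℤ) := by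
  rw [inter_eq_finrank Γ hI h hL, finrank_quotMod, Nat.cast_inj, Models.lengthH]
  set J := I ⊔ Γ.ι.ker with hJ
  have hcomap : J.comap Γ.ι = I.comap Γ.ι := by
    rw [hJ, Scheme.IdealSheafData.comap_sup, sup_eq_left]
    calc Γ.ι.ker.comap Γ.ι = ((⊥ : Γ.curve.left.IdealSheafData).map Γ.ι).comap Γ.ι := by
          rw [Scheme.IdealSheafData.map_bot]
      _ ≤ ⊥ := Scheme.IdealSheafData.comap_map_le _ _
      _ ≤ _ := bot_le
  let j := IsClosedImmersion.lift Γ.ι J.subschemeι (by rw [Scheme.IdealSheafData.ker_subschemeι, hJ]; exact le_sup_right)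
  have hj : j ≫ Γ.ι = J.subschemeι := IsClosedImmersion.lift_fac _ _ _
  let e₂ : pullback Γ.ι J.subschemeι ≅ J.subscheme :=
    { hom := pullback.snd _ _
      inv := pullback.lift j (𝟙 _) (by rw [hj, Category.id_comp])
      hom_inv_id := by
        apply pullback.hom_ext
        · rw [← cancel_mono Γ.ι, Category.assoc, Category.assoc, pullback.lift_fst_assoc, hj,
            Category.id_comp, pullback.condition]
        · rw [Category.assoc, pullback.lift_snd, Category.comp_id, Category.id_comp]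
      inv_hom_id := pullback.lift_snd _ _ _ }
  let e := J.comapIso Γ.ι ≪≫ e₂
  have he : e.hom ≫ J.subschemeι = (J.comap Γ.ι).subschemeι ≫ Γ.ι := by
    simp only [e, e₂, Iso.trans_hom, Category.assoc]
    rw [← pullback.condition, ← Category.assoc, Scheme.IdealSheafData.comapIso_hom_fst]
  letI := (DVRFibre.gl (J.subschemeι ≫ (X.left ↘ Spec (CommRingCat.of R)))).toAlgebra
  rw [(secEquiv (A := R) J).length_eq]
  change _ = (lenGl (J.subschemeι ≫ X.hom)).toNat
  rw [← lenGl_congr e ((J.comap Γ.ι).subschemeι ≫ Γ.curve.hom ≫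
      Spec.map (CommRingCat.ofHom (IsLocalRing.residue R))) _
    (by rw [← Category.assoc, he, Category.assoc, Γ.w]), ← Category.assoc,
    lenGl_residue _ IsLocalRing.residue_surjective, hcomap]
  rfl

end Groth.ModelsGraphs.InterGen
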