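import Groth.Agent.ModelsGraphs.ChiStep

/-!
# Euler characteristics of divisors in the closed fibre proportional to the fibre
-/

set_option autoImplicit false

universe u

open CategoryTheory CategoryTheory.Limits AlgebraicGeometry TopologicalSpace

namespace Groth.ModelsGraphs.ChiDivided

open Groth.ModelsGraphs.InterPair Groth.ModelsGraphs.InterForm Groth.ModelsGraphs.Inter
open Groth.ModelsGraphs.GenusFormula

variable {R : Type u} [CommRing R] [IsDomain R] [IsDiscreteValuationRing R]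
  {X : Over (Spec (CommRingCat.of R))}

lemma chiC_eq [IsProper X.hom] (Γ : ArSurf.VertComp R X) :
    chiC Γ = (Models.wdeg R X Γ : ℤ) - (Models.h1 R X Γ : ℤ) := by
  haveI : IsProper (Γ.curve.left ↘ Spec (CommRingCat.of (IsLocalRing.ResidueField R))) :=
    isProper_hom Γ
  rw [chiC, Groth.EulerDeg.euler_eq_h0_sub_h1 _ _ (le_of_eq Γ.dim_eq)]
  rfl

variable [IsProper X.hom] [Flat X.hom] {n : ℕ} {Γs : Fin n → ArSurf.VertComp R X}
  {L : Fin n → X.left.Modules}

/-- `2 χ(O_D) = ∑ a_i (2 χ(O_{Γ_i}) + Γ_i²) - D²`. -/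
theorem two_chi_prod (hreg : Models.IsRegularScheme X.left) (hΓ : Models.IsComponentList R X Γs)
    (hL : ∀ i, ClSub.IsInverseOf (L i) (ClSub.idealMod (Γs i).ι.ker)) (a : Fin n → ℕ) :
    2 * ChiR.chi X.hom (ClSub.quotMod (∏ j, (Γs j).ι.ker ^ a j)) =
      (∑ i, (a i : ℤ) * (2 * chiC (Γs i) + ArSurf.inter R X (L i) (Γs i))) -
        ∑ i, (a i : ℤ) * ∑ j, (a j : ℤ) * ArSurf.inter R X (L j) (Γs i) := by
  let l : List (Fin n) := (List.finRange n).flatMap fun j => List.replicate (a j) j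
  have hsum : ∀ f : Fin n → ℤ, (l.map f).sum = ∑ j, (a j : ℤ) * f j := fun f => by
    simp only [l, List.flatMap_def, List.map_flatten, List.map_replicate, List.sum_flatten,
      List.map_map, Function.comp_def, List.sum_replicate, Fin.sum_univ_def, nsmul_eq_mul]
  have hprod : (l.map fun j => (Γs j).ι.ker).prod = ∏ j, (Γs j).ι.ker ^ a j := by
    simp only [l, List.flatMap_def, List.map_flatten, List.map_replicate, List.prod_flatten,
      List.map_map, Function.comp_def, List.prod_replicate, Fin.prod_univ_def]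
  obtain ⟨-, -, -, h⟩ := chi_list hreg hΓ hL l
  rw [hprod, hsum, hsum] at h
  rw [h]
  exact congrArg₂ _ rfl (Finset.sum_congr rfl fun i _ => by rw [hsum])

/-- `1 - g = d χ(O_D)` for `d D` the closed fibre. -/
theorem one_sub_genus_eq (hreg : Models.IsRegularScheme X.left) (hΓ : Models.IsComponentList R X Γs)
    (hL : ∀ i, ClSub.IsInverseOf (L i) (ClSub.idealMod (Γs i).ι.ker))
    {C : Scheme.{u}} (f : C ⟶ Spec (CommRingCat.of (FractionRing R))) [IsProper f]
    (hdimC : topologicalKrullDim C ≤ 1) (hH0 : IsIso f.appTop) (g : C ⟶ X.left)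
    (hg : IsPullback g f X.hom (Spec.map (CommRingCat.ofHom (algebraMap R (FractionRing R)))))
    (d : ℕ) (b : Fin n → ℕ) (hb : ∀ i, Models.mult R X (Γs i) = d * b i) :
    (1 : ℤ) - (Models.curveGenus (FractionRing R) C f : ℤ) =
      (d : ℤ) * ((Models.lengthH R X (ClSub.quotMod (∏ j, (Γs j).ι.ker ^ b j)) 0 : ℤ) -
        (Models.lengthH R X (ClSub.quotMod (∏ j, (Γs j).ι.ker ^ b j)) 1 : ℤ)) := by
  haveI : CompactSpace X.left := QuasiCompact.compactSpace_of_compactSpace X.hom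
  rw [← ChiStep.chi_eq_lengthH]
  have h1 := genus_formula hreg hΓ hL f hdimC hH0 g hg
  have h2 := two_chi_prod hreg hΓ hL b
  have hk : ∀ i, (d : ℤ) * ∑ j, (b j : ℤ) * ArSurf.inter R X (L j) (Γs i) = 0 := fun i => by
    rw [← InterForm.sum_mult_mul_inter hreg hΓ hL i, Finset.mul_sum]
    exact Finset.sum_congr rfl fun j _ => by
      rw [hb j, Nat.cast_mul, InterForm.inter_symm hreg hΓ hL i j]
      ring
  have h3 := congrArg ((d : ℤ) * ·) h2
  simp only [mul_sub, Finset.mul_sum, mul_left_comm (d : ℤ) ((b _ : ℕ) : ℤ)] at h3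
  have h4 : ∀ i, (b i : ℤ) * ((d : ℤ) * ∑ j, (b j : ℤ) * ArSurf.inter R X (L j) (Γs i)) = 0 := fun i => by
    rw [hk i, mul_zero]
  simp only [Finset.mul_sum, mul_left_comm (d : ℤ) ((b _ : ℕ) : ℤ)] at h4
  simp only [h4, Finset.sum_const_zero, sub_zero] at h3
  have h5 : ∀ i, (Models.mult R X (Γs i) : ℤ) * (2 * ((Models.h1 R X (Γs i) : ℤ) -
      (Models.wdeg R X (Γs i) : ℤ)) - ArSurf.inter R X (L i) (Γs i)) =
      -((b i : ℤ) * ((d : ℤ) * (2 * chiC (Γs i) + ArSurf.inter R X (L i) (Γs i)))) := fun i => by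
    rw [chiC_eq, hb i]
    push_cast
    ring
  simp only [h5, Finset.sum_neg_distrib, ← h3] at h1
  linarith

end Groth.ModelsGraphs.ChiDivided
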