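import Groth.Agent.ModelsGraphs.FieldChain
import Groth.Agent.ModelsGraphs.ChiDivided
import Groth.Agent.AlgSp3.RedInduced
import Groth.Agent.Curves1.RR.Constants

/-!
# The reduced closed fibre of a regular model
-/

set_option autoImplicit false

universe u

open CategoryTheory CategoryTheory.Limits AlgebraicGeometry TopologicalSpace
open Groth.DivisorLength (eta)

namespace Groth.ModelsGraphs.RedFibre

open Groth.ModelsGraphs.Inter Groth.ModelsGraphs.InterPair Groth.ModelsGraphs.InterForm

variable {R : Type u} [CommRing R] [IsDomain R] [IsDiscreteValuationRing R]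
  {X : Over (Spec (CommRingCat.of R))} {n : ℕ} {Γs : Fin n → ArSurf.VertComp R X}

/-- The reduced closed fibre is cut out by the product of the ideals of the components. -/
theorem redFibreIdeal_eq [IsProper X.hom] [Flat X.hom] (hreg : Models.IsRegularScheme X.left)
    (hΓ : Models.IsComponentList R X Γs) :
    Models.redFibreIdeal R X = ∏ i, (Γs i).ι.ker := by
  haveI : IsLocallyNoetherian X.left := LocallyOfFiniteType.isLocallyNoetherian X.hom
  haveI : CompactSpace X.left := QuasiCompact.compactSpace_of_compactSpace X.hom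
  have hD : ∀ i, BlowUp.IsEffCartierIdeal (Γs i).ι.ker := fun i => isEffCartier hreg (range_mem hΓ i)
  have hle : ∀ i, Models.redFibreIdeal R X ≤ (Γs i).ι.ker := fun i => by
    haveI := (Γs i).isIntegral
    rw [Groth.AlgSp3.ker_eq_vanishingIdeal_of_isReduced]
    refine Scheme.IdealSheafData.vanishingIdeal_antimono ?_
    exact closure_minimal (range_mem hΓ i).1.2 (Models.isClosed_specialFibreSet R X)
  haveI : ∀ i, IsIntegral (Γs i).ι.ker.subscheme := fun i => by
    haveI := (Γs i).isIntegral
    haveI : Nonempty (Γs i).ι.ker.subscheme :=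
      ⟨(Γs i).ι.toImage (genericPoint (Γs i).curve.left)⟩
    exact IsIntegral.of_isIso (Γs i).ι.toImage
  refine le_antisymm ?_ ?_
  · have h := Groth.DivisorLength.le_prod (Models.redFibreIdeal R X) (fun i => (Γs i).ι.ker) hD
      (fun _ => 1) Finset.univ (fun i _ j _ h => genPtOf_inj hΓ (by rwa [eta_ker, eta_ker] at h))
      fun i _ => by
        obtain ⟨W, hη, -, t, -, htI⟩ := Groth.Divisors.exists_generator (hD i) (eta (Γs i).ι.ker) ⊤ trivial
        refine ⟨W, hη, t, htI, fun a ha => ⟨1, ?_, ?_⟩⟩
        · rw [← htI, ← Groth.DivisorLength.primeIdealOf_eta _ hη]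
          exact Ideal.IsPrime.one_notMem inferInstance
        · rw [one_mul, pow_one, ← htI]
          exact hle i W ha
    simpa using h
  · refine Scheme.IdealSheafData.le_support_iff_le_vanishingIdeal.1 fun z hz => ?_
    obtain ⟨i, hi⟩ := exists_specializes hΓ hz
    have hprod : ∏ j, (Γs j).ι.ker ≤ (Γs i).ι.ker := by
      rw [← Finset.mul_prod_erase Finset.univ _ (Finset.mem_univ i)]
      intro W
      simp only [Scheme.IdealSheafData.ideal_mul, Pi.mul_apply]
      exact Ideal.mul_le_inf.trans inf_le_left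
    exact Scheme.IdealSheafData.gc.monotone_l hprod ((mem_support_ker_iff (Γs i) z).2 hi)

/-- `H⁰(O_Z)` as an `R`-module. -/
theorem lengthH_zero_eq [IsProper X.hom] (I : X.left.IdealSheafData) :
    Models.lengthH R X (ClSub.quotMod I) 0 =
      (letI := (show R →+* Γ(I.subscheme, ⊤) from Coh.toGlobal (I.subschemeι ≫ X.hom)).toAlgebra
       Module.length R Γ(I.subscheme, ⊤)).toNat := by
  letI := (show R →+* Γ(I.subscheme, ⊤) from Coh.toGlobal (I.subschemeι ≫ X.hom)).toAlgebra
  let eS := Groth.CohFin.equivSections X.hom (ClSub.quotMod I)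
  let sec : Groth.CohFin.HA X.hom (ClSub.quotMod I) 0 ≃ₗ[R] Γ(I.subscheme, ⊤) :=
    { toFun := fun x => (eS x : Γ(ClSub.quotMod I, ⊤))
      invFun := fun s => eS.symm (s : Γ(ClSub.quotMod I, ⊤))
      left_inv := eS.symm_apply_apply
      right_inv := eS.apply_symm_apply
      map_add' := eS.map_add
      map_smul' := fun r x => Groth.CohFin.equivSections_smul X.hom (ClSub.quotMod I) r x }
  change (Module.length R (Groth.CohFin.HA X.hom (ClSub.quotMod I) 0)).toNat = _
  rw [sec.length_eq]

/-- A field of global functions above one of length one has length one. -/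
theorem lengthH_zero_eq_one_of_le [IsProper X.hom] {I J : X.left.IdealSheafData} (h : I ≤ J)
    (hF : FieldChain.IsFieldSub I) (hJ : Models.lengthH R X (ClSub.quotMod J) 0 = 1) :
    Models.lengthH R X (ClSub.quotMod I) 0 = 1 := by
  rw [lengthH_zero_eq] at hJ ⊢
  letI := (show R →+* Γ(I.subscheme, ⊤) from Coh.toGlobal (I.subschemeι ≫ X.hom)).toAlgebra
  letI := (show R →+* Γ(J.subscheme, ⊤) from Coh.toGlobal (J.subschemeι ≫ X.hom)).toAlgebra
  letI := hF.toField
  have hJ1 : Module.length R Γ(J.subscheme, ⊤) = 1 := (ENat.toNat_eq_iff one_ne_zero).1 hJ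
  haveI : Nontrivial Γ(J.subscheme, ⊤) := by
    by_contra hn
    rw [not_nontrivial_iff_subsingleton] at hn
    rw [Module.length_eq_zero] at hJ1
    exact zero_ne_one hJ1
  let φ : Γ(I.subscheme, ⊤) →+* Γ(J.subscheme, ⊤) := (Scheme.IdealSheafData.inclusion h).appTop.hom
  let l : Γ(I.subscheme, ⊤) →ₗ[R] Γ(J.subscheme, ⊤) :=
    { toFun := φ
      map_add' := map_add φ
      map_smul' := fun r x => by
        rw [Algebra.smul_def, Algebra.smul_def, map_mul, RingHom.id_apply]
        congr 1
        change φ (Coh.toGlobal (I.subschemeι ≫ X.hom) r) = Coh.toGlobal (J.subschemeι ≫ X.hom) r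
        rw [← Scheme.IdealSheafData.inclusion_subschemeι h, Category.assoc]
        rfl }
  have hle := Module.length_le_of_injective l φ.injective
  rw [hJ1] at hle
  have hpos : Module.length R Γ(I.subscheme, ⊤) ≠ 0 := fun h0 => by
    rw [Module.length_eq_zero_iff] at h0
    exact false_of_nontrivial_of_subsingleton Γ(I.subscheme, ⊤)
  rw [le_antisymm hle (ENat.one_le_iff_ne_zero.2 hpos)]
  rfl

/-- Intersection numbers with `Γ` are divisible by `[H⁰(O_Γ) : k]`. -/
theorem wdeg_dvd_inter [IsProper X.hom] (M : X.left.Modules) (Γ : ArSurf.VertComp R X) :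
    (Models.wdeg R X Γ : ℤ) ∣ ArSurf.inter R X M Γ := by
  haveI := Γ.isIntegral
  haveI : IsProper (Γ.curve.left ↘ Spec (CommRingCat.of (IsLocalRing.ResidueField R))) :=
    isProper_hom Γ
  have hd : ∀ N : Γ.curve.left.Modules, (Models.wdeg R X Γ : ℤ) ∣
      Curv2.euler (IsLocalRing.ResidueField R) Γ.curve.left N := fun N => by
    rw [Groth.EulerDeg.euler_eq_h0_sub_h1 _ _ (le_of_eq Γ.dim_eq)]
    exact dvd_sub (Int.natCast_dvd_natCast.2 (Groth.Curves1.RR.h0_dvd_finrank _ N 0))
      (Int.natCast_dvd_natCast.2 (Groth.Curves1.RR.h0_dvd_finrank _ N 1))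
  rw [inter_eq_deg, Curv2.deg]
  exact dvd_sub (hd _) (dvd_mul_of_dvd_right (hd _) _)

variable [IsProper X.hom] [Flat X.hom] {L : Fin n → X.left.Modules}
  (hreg : Models.IsRegularScheme X.left) (hΓ : Models.IsComponentList R X Γs)
  (hL : ∀ i, ClSub.IsInverseOf (L i) (ClSub.idealMod (Γs i).ι.ker))

include hreg hΓ hL

/-- `χ` drops strictly from `a` up to `b` on a minimal model. -/
theorem chi_lt (hH0 : Function.Bijective (Coh.toGlobal X.hom)) {b : Fin n → ℕ}
    (hb : ∀ i, Models.mult R X (Γs i) = Models.multGcd R X Γs * b i)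
    (hmin : ∀ i, ¬ (Models.h1 R X (Γs i) = 0 ∧
      ArSurf.inter R X (L i) (Γs i) = -(Models.wdeg R X (Γs i) : ℤ))) :
    ∀ (N : ℕ) (a : Fin n → ℕ), (∀ i, 1 ≤ a i) → (∀ i, a i ≤ b i) → (∑ i, (b i - a i) ≤ N) →
      a ≠ b →
      ChiR.chi X.hom (ClSub.quotMod (∏ j, (Γs j).ι.ker ^ b j)) <
        ChiR.chi X.hom (ClSub.quotMod (∏ j, (Γs j).ι.ker ^ a j)) := by
  haveI : CompactSpace X.left := QuasiCompact.compactSpace_of_compactSpace X.hom
  intro N
  induction N with
  | zero =>
    intro a _ hab hN hne
    refine absurd (funext fun i => le_antisymm (hab i) ?_) hne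
    have := (Finset.sum_eq_zero_iff.1 (Nat.le_zero.1 hN)) i (Finset.mem_univ i)
    omega
  | succ N ih =>
    intro a ha hab hN hne
    obtain ⟨i, hi, hpos⟩ := FieldChain.exists_pos hreg hΓ hL hH0 hb ha hab hne
    have hsum : ∑ j, (a j : ℤ) * ArSurf.inter R X (L i) (Γs j) =
        ∑ j, (a j : ℤ) * ArSurf.inter R X (L j) (Γs i) :=
      Finset.sum_congr rfl fun j _ => by rw [InterForm.inter_symm hreg hΓ hL i j]
    let a' : Fin n → ℕ := fun j => a j + if j = i then 1 else 0
    have hΔ := ChiStep.chi_add_single hreg hΓ hL a i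
    rw [hsum, ChiDivided.chiC_eq] at hΔ
    have hwle : (Models.wdeg R X (Γs i) : ℤ) ≤ ∑ j, (a j : ℤ) * ArSurf.inter R X (L j) (Γs i) :=
      Int.le_of_dvd hpos (Finset.dvd_sum fun j _ => dvd_mul_of_dvd_right (wdeg_dvd_inter _ _) _)
    by_cases hab' : a' = b
    · rw [← hab']
      have hbz : ∑ j, (b j : ℤ) * ArSurf.inter R X (L j) (Γs i) = 0 := by
        have hd0 : (Models.multGcd R X Γs : ℤ) ≠ 0 := by
          have h := mult_pos hreg (range_mem hΓ i)
          rw [hb i] at h
          exact_mod_cast (Nat.pos_of_mul_pos_right h).ne'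
        refine (mul_eq_zero.1 ?_).resolve_left hd0
        rw [← InterForm.sum_mult_mul_inter hreg hΓ hL i, Finset.mul_sum]
        exact Finset.sum_congr rfl fun j _ => by
          rw [hb j, Nat.cast_mul, InterForm.inter_symm hreg hΓ hL i j]
          ring
      have hself : ∑ j, (a j : ℤ) * ArSurf.inter R X (L j) (Γs i) = -ArSurf.inter R X (L i) (Γs i) := by
        rw [← hab'] at hbz
        simp only [a', Nat.cast_add, Nat.cast_ite, Nat.cast_one, Nat.cast_zero, add_mul, ite_mul,
          one_mul, zero_mul, Finset.sum_add_distrib, Finset.sum_ite_eq', Finset.mem_univ, if_true] at hbz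
        linarith
      by_contra hcon
      simp only [a', not_lt] at hcon
      refine hmin i ⟨?_, ?_⟩ <;> omega
    · have h := ih a' (fun j => (ha j).trans (by simp [a']))
        (fun j => by
          simp only [a']
          split_ifs with h
          · subst h; omega
          · simpa using hab j)
        (by
          have : ∑ j, (b j - a' j) < ∑ j, (b j - a j) :=
            Finset.sum_lt_sum (fun j _ => by simp only [a']; omega)
              ⟨i, Finset.mem_univ i, by simp [a']; omega⟩
          omega)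
        hab'
      refine h.trans_le ?_
      simp only [a']
      omega

end Groth.ModelsGraphs.RedFibre
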