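import Groth.Agent.ModelsGraphs.InterBasic
import Groth.Agent.FibreDim.DimensionFormulaScheme
import Groth.Agent.FibreDim.DimStalk
import Groth.Agent.Flatmor4.FlatDedekind

/-!
# Dimension of an integral proper flat model of a curve
-/

set_option autoImplicit false
set_option backward.isDefEq.respectTransparency.types false

universe u

open CategoryTheory CategoryTheory.Limits AlgebraicGeometry TopologicalSpace

namespace Groth.ModelsGraphs.ArithDim

open Groth.ModelsGraphs.Inter

variable {R : Type u} [CommRing R] [IsDomain R] [IsDiscreteValuationRing R]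
  {X : Over (Spec (CommRingCat.of R))}

local notation "kR" => IsLocalRing.ResidueField R

/-- An integral model of a curve has dimension at most two. -/
theorem dim_le_two [IsIntegral X.left] [LocallyOfFiniteType X.hom] {C : Scheme.{u}}
    [Nonempty C] (f : C ⟶ Spec (CommRingCat.of (FractionRing R))) (g : C ⟶ X.left)
    (hg : IsPullback g f X.hom (Spec.map (CommRingCat.ofHom (algebraMap R (FractionRing R)))))
    (hC : topologicalKrullDim C ≤ 1) : topologicalKrullDim X.left ≤ 2 := by
  haveI : IsLocallyNoetherian X.left := LocallyOfFiniteType.isLocallyNoetherian X.hom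
  let ι := Spec.map (CommRingCat.ofHom (algebraMap R (FractionRing R)))
  have hι : ∀ z, ι z = genericPoint ↥(Spec (CommRingCat.of R)) := fun z => by
    refine (IsGenericPoint.eq (genericPoint_spec _) ?_).symm
    rw [isGenericPoint_iff_specializes]
    refine fun y => iff_of_true ?_ (Set.mem_univ y)
    refine (PrimeSpectrum.le_iff_specializes (ι z : PrimeSpectrum R) y).1 ?_
    intro a ha
    have hzb : z.asIdeal = ⊥ := (Ideal.eq_bot_or_top z.asIdeal).resolve_right z.isPrime.ne_top
    have h1 : algebraMap R (FractionRing R) a ∈ z.asIdeal := ha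
    rw [hzb, Ideal.mem_bot, map_eq_zero_iff _ (IsFractionRing.injective R _)] at h1
    exact h1 ▸ zero_mem _
  have hsq : ∀ c : C, X.hom (g c) = genericPoint ↥(Spec (CommRingCat.of R)) := fun c => by
    rw [← Scheme.Hom.comp_apply, hg.w, Scheme.Hom.comp_apply]
    exact hι _
  obtain ⟨c₀⟩ := ‹Nonempty C›
  haveI : IsDominant X.hom := by
    refine ⟨fun y => ?_⟩
    refine closure_mono (Set.singleton_subset_iff.2 (Set.mem_range_self (g c₀))) ?_
    rw [hsq c₀]
    exact (genericPoint_spec _).def.symm.subset (Set.mem_univ y)
  haveI : IsPreimmersion ι :=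
    IsPreimmersion.of_isLocalization (S := FractionRing R) (nonZeroDivisors R)
  haveI : IsPreimmersion g := MorphismProperty.of_isPullback hg.flip inferInstance
  let η := genericPoint ↥(Spec (CommRingCat.of R))
  have hrange : Set.range g = X.hom ⁻¹' {η} := by
    refine Set.Subset.antisymm (Set.range_subset_iff.2 hsq) fun z hz => ?_
    obtain ⟨w, hw, -⟩ := Scheme.exists_preimage_of_isPullback hg z (IsLocalRing.closedPoint (FractionRing R))
      (by rw [hz, hι])
    exact ⟨w, hw⟩
  have hfib : topologicalKrullDim ↥(X.hom.fiber η) ≤ 1 :=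
    (((X.hom.fiberHomeo η).trans ((Homeomorph.setCongr hrange).symm.trans
      g.isEmbedding.toHomeomorph.symm)).isInducing.topologicalKrullDim_le).trans hC
  rw [Groth.FibreDim.dim_eq_iSup_stalk]
  refine iSup_le fun x => ?_
  obtain ⟨t, t₀, -, -, -, ht₀, hle, -⟩ := Groth.FibreDim.exists_dim_formula X.hom x
  have hR : ringKrullDim ((Spec (CommRingCat.of R)).presheaf.stalk (X.hom x)) ≤ 1 := by
    refine (Groth.Flatmor4.ringKrullDim_stalk_le (X.hom x)).trans ?_
    change topologicalKrullDim (PrimeSpectrum R) ≤ 1
    rw [PrimeSpectrum.topologicalKrullDim_eq_ringKrullDim]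
    exact (IsPrincipalIdealRing.ringKrullDim_eq_one R (IsDiscreteValuationRing.not_isField R)).le
  rw [ht₀] at hfib
  calc ringKrullDim (X.left.presheaf.stalk x)
      ≤ ringKrullDim (X.left.presheaf.stalk x) + (t : WithBot ℕ∞) := le_add_of_nonneg_right (Nat.cast_nonneg t)
    _ ≤ ringKrullDim ((Spec (CommRingCat.of R)).presheaf.stalk (X.hom x)) + (t₀ : WithBot ℕ∞) := hle
    _ ≤ 1 + 1 := add_le_add hR hfib
    _ = 2 := one_add_one_eq_two

/-- A vertical prime divisor is a component of the closed fibre. -/
theorem range_mem_fibreComponents [IsIntegral X.left] [Flat X.hom] (hdim : topologicalKrullDim X.left ≤ 2)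
    (Γ : ArSurf.VertComp R X) :
    Set.range Γ.ι.base ∈ Models.fibreComponents R X := by
  obtain ⟨π, hπ⟩ := IsDiscreteValuationRing.exists_irreducible R
  have hsub : Set.range Γ.ι.base ⊆ Models.specialFibreSet R X := by
    rintro _ ⟨c, rfl⟩
    change X.hom (Γ.ι c) = IsLocalRing.closedPoint R
    rw [← Scheme.Hom.comp_apply, Γ.w, Scheme.Hom.comp_apply,
      Subsingleton.elim (Γ.curve.hom c) (IsLocalRing.closedPoint kR)]
    exact IsLocalRing.comap_closedPoint (IsLocalRing.residue R)
  refine ⟨⟨?_, hsub⟩, fun S hS hle => ?_⟩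
  · rw [← (isGenericPoint_genPtOf Γ).def]
    exact isIrreducible_singleton.closure
  refine subset_closure.trans ?_
  by_contra hne
  have hSsub : closure S ⊆ Models.specialFibreSet R X :=
    closure_minimal hS.2 (Models.isClosed_specialFibreSet R X)
  -- the generic point of `X` is outside the closed fibre
  have hηout : genericPoint X.left ∉ Models.specialFibreSet R X := by
    intro hmem
    rw [mem_specialFibreSet_iff hπ] at hmem
    obtain ⟨y, hy, hu, -⟩ := Groth.RefRank.exists_generization_of_prime
      (⊥ : Ideal (X.left.presheaf.stalk (genericPoint X.left)))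
    obtain rfl : y = genericPoint X.left := (hy.antisymm (genericPoint_specializes y)).eq
    have h1 := (hu (Models.stalkHom R X _ π)).2
      (fun h => stalkHom_ne_zero hπ.ne_zero _ ((Submodule.mem_bot _).1 h))
    rw [show Groth.RefRank.rspec hy (Models.stalkHom R X (genericPoint X.left) π) =
      Models.stalkHom R X (genericPoint X.left) π from
      Groth.RefRank.rspec_germ hy (U := ⊤) trivial (Coh.toGlobal X.hom π)] at h1
    exact hmem h1
  -- a chain of length three in `X`
  obtain ⟨a, b, hab⟩ : ∃ a b : IrreducibleCloseds Γ.curve.left, a < b := by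
    rw [← Order.krullDim_pos_iff]
    exact (zero_lt_one' (WithBot ℕ∞)).trans_le Γ.dim_eq.ge
  let img : IrreducibleCloseds Γ.curve.left → IrreducibleCloseds X.left :=
    fun c => IrreducibleCloseds.map Γ.ι.base Γ.ι.continuous c
  have himg : ∀ c : IrreducibleCloseds Γ.curve.left, (img c : Set X.left) = Γ.ι.base '' c := fun c =>
    (Γ.ι.isClosedEmbedding.isClosedMap _ c.isClosed).closure_eq
  let T : IrreducibleCloseds X.left := ⟨closure S, hS.1.closure, isClosed_closure⟩
  let U : IrreducibleCloseds X.left :=
    ⟨Set.univ, IrreducibleSpace.isIrreducible_univ X.left, isClosed_univ⟩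
  have h01 : img a < img b := by
    rw [← SetLike.coe_ssubset_coe, himg, himg]
    exact ssubset_iff_subset_not_subset.2 ⟨Set.image_mono (SetLike.coe_ssubset_coe.2 hab).1,
      fun h => (SetLike.coe_ssubset_coe.2 hab).2
        ((Set.image_subset_image_iff Γ.ι.isClosedEmbedding.injective).1 h)⟩
  have h12 : img b < T := by
    rw [← SetLike.coe_ssubset_coe, himg]
    refine ⟨(Set.image_subset_range _ _).trans (hle.trans subset_closure), fun hsup => ?_⟩
    exact hne (hsup.trans (Set.image_subset_range _ _))
  have h23 : T < U := by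
    refine SetLike.coe_ssubset_coe.1 ⟨Set.subset_univ _, fun hsup => ?_⟩
    exact hηout (hSsub (hsup trivial))
  let chain : LTSeries (IrreducibleCloseds X.left) :=
    ((((RelSeries.singleton _ U).cons T (by exact h23)).cons (img b) (by simpa using h12)).cons (img a)
      (by simpa using h01))
  have h3 : (chain.length : WithBot ℕ∞) ≤ topologicalKrullDim X.left :=
    Order.LTSeries.length_le_krullDim chain
  replace h3 := h3.trans hdim
  simp [chain] at h3
  norm_cast at h3

end Groth.ModelsGraphs.ArithDim
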