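import Groth.Agent.ModelsGraphs.ExcCriterion
import Groth.Agent.ModelsGraphs.GenusFormula
import Groth.Agent.PropsBasic2.Discrete
import Groth.Agent.BlowUpBasics.IdealComap
import Groth.Agent.AlgSp3.RedInduced
import Groth.Agent.EulerDeg.FiniteSupport

/-!
# Two meeting exceptional curves
-/

set_option autoImplicit false
set_option backward.isDefEq.respectTransparency.types false

universe u

open CategoryTheory CategoryTheory.Limits AlgebraicGeometry TopologicalSpace

namespace Groth.ModelsGraphs.ExcPair

/-- Pulling back and pushing forward an ideal along a closed immersion adds the ideal of the image. -/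
theorem map_comap_eq_sup {Y Z : Scheme.{u}} (i : Z ⟶ Y) [IsClosedImmersion i] (J : Y.IdealSheafData) :
    (J.comap i).map i = J ⊔ i.ker := by
  refine le_antisymm (fun U => ?_) (sup_le (Scheme.IdealSheafData.le_map_comap J i) ?_)
  · rw [Scheme.IdealSheafData.ideal_map_of_isAffineHom,
      Groth.BlowUpBasics.ideal_comap i J U ⟨_, U.2.preimage i⟩ le_rfl, Scheme.Hom.app_eq_appLE,
      Ideal.comap_map_of_surjective _ (by
        rw [← Scheme.Hom.app_eq_appLE]; exact i.app_surjective U.1 U.2)]
    simp [← RingHom.ker_eq_comap_bot, Scheme.Hom.app_eq_appLE]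
  · rw [← Scheme.IdealSheafData.map_bot]
    exact Scheme.IdealSheafData.map_mono i bot_le

/-- Points other than the generic point are closed in dimension one. -/
theorem isClosed_singleton {Y : Scheme.{u}} [IsIntegral Y] (hdim : topologicalKrullDim Y ≤ 1) {x : Y}
    (hx : x ≠ genericPoint Y) : IsClosed ({x} : Set Y) := by
  refine closure_subset_iff_isClosed.1 fun y hy => Set.mem_singleton_iff.2 ?_
  by_contra hne
  let c : Y → IrreducibleCloseds Y := fun z =>
    ⟨closure {z}, isIrreducible_singleton.closure, isClosed_closure⟩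
  have hlt : ∀ {a b : Y}, a ⤳ b → b ≠ a → c b < c a := fun {a b} h hab => by
    refine lt_of_le_of_ne (closure_minimal (Set.singleton_subset_iff.2 h.mem_closure) isClosed_closure) ?_
    intro he
    have he' : closure ({b} : Set Y) = closure {a} := SetLike.ext'_iff.1 he
    have ha : a ∈ closure ({b} : Set Y) := he' ▸ subset_closure rfl
    exact hab ((specializes_iff_mem_closure.2 ha).antisymm h).eq
  let l : LTSeries (IrreducibleCloseds Y) := RelSeries.fromListIsChain [c y, c x, c (genericPoint Y)]
    (by simp) (by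
      simp [hlt (specializes_iff_mem_closure.2 hy) hne, hlt (genericPoint_specializes x) hx])
  have h2 := (Order.LTSeries.length_le_krullDim l).trans hdim
  norm_num [l, RelSeries.fromListIsChain] at h2

/-- A closed subscheme with one-dimensional global functions is a rational point. -/
theorem point_of_finrank_one (k : Type u) [Field k] {Y : Scheme.{u}}
    [Y.Over (Spec (CommRingCat.of k))] [IsIntegral Y] [IsProper (Y ↘ Spec (CommRingCat.of k))]
    (hdim : topologicalKrullDim Y ≤ 1) (D : Y.IdealSheafData) (hgen : genericPoint Y ∉ D.support)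
    (h1 : Module.finrank k (Coh.HH Y (ClSub.quotMod D) 0) = 1) :
    ∃ z : D.subscheme, (∀ z' : D.subscheme, z' = z) ∧ IsReduced D.subscheme ∧
      ∀ w : D.subscheme.residueField z, ∃ a : k, D.subscheme.residue z
        (D.subscheme.presheaf.germ ⊤ z trivial
          (Coh.toGlobal (D.subschemeι ≫ (Y ↘ Spec (CommRingCat.of k))) a)) = w := by
  let T := D.subscheme
  let g := D.subschemeι ≫ (Y ↘ Spec (CommRingCat.of k))
  haveI : IsLocallyNoetherian T := LocallyOfFiniteType.isLocallyNoetherian g
  haveI : CompactSpace T := QuasiCompact.compactSpace_of_compactSpace g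
  haveI : IsNoetherian T := ⟨⟩
  haveI : T1Space T := ⟨fun z => by
    have hne : D.subschemeι z ≠ genericPoint Y := fun h => hgen (by
      rw [← h, ← SetLike.mem_coe, ← Scheme.IdealSheafData.range_subschemeι]
      exact Set.mem_range_self z)
    have h := (isClosed_singleton hdim hne).preimage D.subschemeι.continuous
    rwa [show D.subschemeι ⁻¹' {D.subschemeι z} = {z} from Set.ext fun t =>
      ⟨fun ht => D.subschemeι.isClosedEmbedding.injective ht, fun ht => congrArg _ ht⟩] at h⟩
  obtain ⟨haff, -, hfin, -⟩ := Groth.PropsBasic2.noetherian_t1 (X := T)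
  rw [InterPair.finrank_quotMod] at h1
  letI := (DVRFibre.gl g).toAlgebra
  change Module.finrank k Γ(T, ⊤) = 1 at h1
  haveI : Nontrivial Γ(T, ⊤) := Module.nontrivial_of_finrank_eq_succ h1
  have hbij : Function.Bijective (DVRFibre.gl g) := by
    haveI : Module.Finite k Γ(T, ⊤) := Module.finite_of_finrank_eq_succ h1
    have hinj : Function.Injective (Algebra.linearMap k Γ(T, ⊤)) := (DVRFibre.gl g).injective
    exact ⟨hinj, (LinearMap.injective_iff_surjective_of_finrank_eq_finrank
      (by rw [Module.finrank_self, h1])).1 hinj⟩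
  have hfld : IsField Γ(T, ⊤) :=
    (RingEquiv.ofBijective _ hbij).symm.toMulEquiv.isField (Field.toIsField k)
  haveI : Nonempty T := by
    by_contra hT
    rw [not_nonempty_iff] at hT
    have : (⊤ : T.Opens) = ⊥ := Opens.ext (Set.eq_empty_of_isEmpty _)
    exact not_subsingleton Γ(T, ⊤) (by rw [this]; infer_instance)
  haveI hsub : Subsingleton T := by
    haveI : Subsingleton (Spec Γ(T, ⊤)) := by
      letI := hfld.toField
      exact inferInstanceAs (Subsingleton (PrimeSpectrum Γ(T, ⊤)))
    exact T.isoSpec.hom.homeomorph.injective.subsingleton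
  haveI : IsDomain Γ(T, ⊤) := hfld.isDomain
  haveI : _root_.IsReduced Γ(T, ⊤) := inferInstance
  obtain ⟨z⟩ := ‹Nonempty T›
  refine ⟨z, fun z' => Subsingleton.elim _ _, isReduced_of_isOpenImmersion T.isoSpec.hom, fun w => ?_⟩
  obtain ⟨v, rfl⟩ := IsLocalRing.residue_surjective w
  haveI : DiscreteTopology T := inferInstance
  obtain ⟨s, hs⟩ := (Groth.PropsBasic2.bijective_pi_germ T).2
    (Function.update (fun _ => 0) z v)
  obtain ⟨a, rfl⟩ := hbij.2 s
  refine ⟨a, congrArg _ ?_⟩
  have h := congrFun hs z
  rw [Function.update_self] at h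
  exact h

section Pair

open Groth.ModelsGraphs.Inter Groth.ModelsGraphs.InterPair Groth.ModelsGraphs.InterForm

variable {R : Type u} [CommRing R] [IsDomain R] [IsDiscreteValuationRing R]
  {X : Over (Spec (CommRingCat.of R))} [IsProper X.hom]

local notation "kR" => IsLocalRing.ResidueField R

/-- A component of genus zero with a degree one bundle and `h⁰ = 1` is the projective line. -/
theorem iso_P1 (Γ : ArSurf.VertComp R X) (hw : Models.wdeg R X Γ = 1) (h1 : Models.h1 R X Γ = 0)
    {M : X.left.Modules} (hM : PicF.IsInvertible M) (hdeg : δ Γ M = 1) :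
    ∃ e : Γ.curve.left ≅ CohB1.ProjSpace 1 kR,
      e.hom ≫ CohB1.ProjSpace.toSpec 1 kR = Γ.curve.hom := by
  haveI := Γ.isIntegral
  haveI : IsProper (Γ.curve.left ↘ Spec (CommRingCat.of kR)) := isProper_hom Γ
  exact Groth.Curves1.RR.iso_projectiveLine kR Γ.dim_eq hw h1 _
    (Groth.PicAux.isInvertible_pullback Γ.ι hM) hdeg

/-- Intersection number one means meeting in a rational point, scheme-theoretically. -/
theorem meet_point [Flat X.hom] {n : ℕ} {Γs : Fin n → ArSurf.VertComp R X} {L : Fin n → X.left.Modules}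
    (hreg : Models.IsRegularScheme X.left) (hΓ : Models.IsComponentList R X Γs)
    (hL : ∀ i, ClSub.IsInverseOf (L i) (ClSub.idealMod (Γs i).ι.ker)) {i j : Fin n} (hij : i ≠ j)
    (h : ArSurf.inter R X (L j) (Γs i) = 1) :
    ∃ x : X.left, Set.range (Γs i).ι.base ∩ Set.range (Γs j).ι.base = {x} ∧
      (Γs i).ι.ker ⊔ (Γs j).ι.ker =
        Scheme.IdealSheafData.vanishingIdeal ⟨closure {x}, isClosed_closure⟩ ∧
      Function.Surjective ((X.left.residue x).hom.comp (Models.stalkHom R X x)) := by
  haveI := (Γs i).isIntegral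
  haveI : IsProper ((Γs i).curve.left ↘ Spec (CommRingCat.of kR)) := isProper_hom (Γs i)
  let D := interIdeal (Γs i) (Γs j)
  have hgen : genericPoint (Γs i).curve.left ∉ D.support := by
    intro hc
    rw [show D = (Γs j).ι.ker.comap (Γs i).ι from rfl, Scheme.IdealSheafData.support_comap] at hc
    exact notMem_support_of_ne hΓ hij hc
  rw [inter_eq_finrank hreg hΓ hL hij, Nat.cast_eq_one] at h
  obtain ⟨z, hz, hred, hsurj⟩ := point_of_finrank_one kR (le_of_eq (Γs i).dim_eq) D hgen h
  haveI := hred
  let ξ := D.subschemeι ≫ (Γs i).ι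
  have hrange : Set.range ξ = {ξ z} := by
    ext t
    constructor
    · rintro ⟨z', rfl⟩
      rw [hz z']
      rfl
    · rintro rfl
      exact ⟨z, rfl⟩
  have hsup : ∀ y, y ∈ D.support ↔ (Γs i).ι y ∈ Set.range (Γs j).ι := fun y => by
    rw [show D = (Γs j).ι.ker.comap (Γs i).ι from rfl, Scheme.IdealSheafData.support_comap,
      ← Inter.support_ker (Γs j)]
    rfl
  refine ⟨ξ z, ?_, ?_, ?_⟩
  · rw [← hrange]
    ext t
    constructor
    · rintro ⟨⟨y, rfl⟩, ht⟩
      obtain ⟨z', rfl⟩ : y ∈ Set.range D.subschemeι := by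
        rw [Scheme.IdealSheafData.range_subschemeι]; exact (hsup y).2 ht
      exact ⟨z', rfl⟩
    · rintro ⟨z', rfl⟩
      refine ⟨⟨D.subschemeι z', rfl⟩, (hsup _).1 ?_⟩
      rw [← SetLike.mem_coe, ← Scheme.IdealSheafData.range_subschemeι]
      exact Set.mem_range_self z'
  · rw [sup_comm, ← map_comap_eq_sup]
    change D.map (Γs i).ι = _
    refine (Groth.AlgSp3.ker_eq_vanishingIdeal_of_isReduced ξ).trans ?_
    congr 2
    rw [hrange]
  · intro w
    obtain ⟨a, ha⟩ := hsurj (ξ.residueFieldMap z w)
    obtain ⟨r, rfl⟩ := IsLocalRing.residue_surjective a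
    refine ⟨r, (ξ.residueFieldMap z).hom.injective ?_⟩
    rw [← ha]
    change (X.left.residue (ξ z) ≫ ξ.residueFieldMap z)
      (X.left.presheaf.germ ⊤ (ξ z) trivial (Coh.toGlobal X.hom r)) = _
    rw [Scheme.residue_residueFieldMap, CommRingCat.comp_apply]
    refine congrArg (D.subscheme.residue z) ?_
    refine (Scheme.Hom.germ_stalkMap_apply ξ ⊤ z trivial _).trans ?_
    refine congrArg (D.subscheme.presheaf.germ ⊤ z trivial) ?_
    have hw : ξ ≫ X.hom = (D.subschemeι ≫ (Γs i).curve.hom) ≫
        Spec.map (CommRingCat.ofHom (IsLocalRing.residue R)) := by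
      simp only [ξ, Category.assoc, (Γs i).w]
    change (ξ.appTop (X.hom.appTop ((Scheme.ΓSpecIso (CommRingCat.of R)).inv r))) = _
    rw [← CommRingCat.comp_apply, ← Scheme.Hom.comp_appTop, hw, Scheme.Hom.comp_appTop,
      CommRingCat.comp_apply]
    exact congrArg (D.subschemeι ≫ (Γs i).curve.hom).appTop
      (ConcreteCategory.congr_hom
        (Scheme.ΓSpecIso_inv_naturality (CommRingCat.ofHom (IsLocalRing.residue R))) r).symm

end Pair

end Groth.ModelsGraphs.ExcPair
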