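import Groth.Agent.ModelsGraphs.GlobalFunctions
import Groth.Agent.S8533
import Groth.Agent.HensPair.IdemClopen
import Mathlib.RingTheory.AdicCompletion.LocalRing
import Mathlib.RingTheory.AdicCompletion.Noetherian
import Mathlib.RingTheory.Henselian
import Mathlib.AlgebraicGeometry.Morphisms.Flat
import Mathlib.AlgebraicGeometry.PullbackCarrier

/-!
# Zariski connectedness over a Noetherian local ring

If `X → Spec R` is proper, `R` Noetherian local and `Γ(X, O) = R`, the closed fibre is preconnected.
-/

set_option autoImplicit false

universe u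

open CategoryTheory CategoryTheory.Limits AlgebraicGeometry TopologicalSpace

namespace Groth.ModelsGraphs.Connected

/-- A scheme whose ring of global functions is local is preconnected. -/
theorem preconnectedSpace_of_isLocalRing (X : Scheme.{u}) [IsLocalRing Γ(X, ⊤)] :
    PreconnectedSpace X := by
  refine preconnectedSpace_iff_clopen.2 fun U hU => ?_
  obtain ⟨a, ha, rfl⟩ := Groth.HensPair.exists_idem_of_isClopen hU
  rcases IsLocalRing.isUnit_or_isUnit_one_sub_self a with h | h
  · refine Or.inr (Set.eq_univ_of_forall fun x => ?_)
    rw [SetLike.mem_coe, X.basicOpen_of_isUnit h]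
    trivial
  · refine Or.inl ?_
    have h0 : a = 0 := h.mul_left_cancel (by rw [sub_mul, one_mul, ha.eq, sub_self, mul_zero])
    rw [h0, Scheme.basicOpen_zero]
    rfl

variable {R : Type u} [CommRing R] [IsLocalRing R] [IsNoetherianRing R]

/-- Zariski's connectedness theorem. -/
theorem isPreconnected_closedFibre {X : Scheme.{u}} (p : X ⟶ Spec (CommRingCat.of R)) [IsProper p]
    (h : Function.Bijective (Coh.toGlobal p)) :
    _root_.IsPreconnected (p.base ⁻¹' {IsLocalRing.closedPoint R}) := by
  let R' := AdicCompletion (IsLocalRing.maximalIdeal R) R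
  haveI : HenselianLocalRing R' :=
    { is_henselian := fun q hq a₀ h₁ h₂ =>
        HenselianRing.is_henselian (I := IsLocalRing.maximalIdeal R') q hq a₀ h₁ (h₂.map _) }
  let s : Spec (CommRingCat.of R') ⟶ Spec (CommRingCat.of R) :=
    Spec.map (CommRingCat.ofHom (algebraMap R R'))
  haveI : Flat s := (HasRingHomProperty.Spec_iff (P := @Flat)).mpr
    (RingHom.flat_algebraMap_iff.mpr inferInstance)
  let X' := pullback p s
  haveI : CompactSpace X := QuasiCompact.compactSpace_of_compactSpace p
  haveI : QuasiSeparatedSpace X := quasiSeparatedSpace_of_quasiSeparated p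
  haveI : IsIso (pullback.snd p s).appTop := by
    have H : IsPullback (pullback.fst p s) (pullback.snd p s) p s := IsPullback.of_hasPullback p s
    haveI hp : IsIso (p.appLE ⊤ ⊤ le_top) := by
      haveI : IsIso p.appTop := by
        refine (ConcreteCategory.isIso_iff_bijective _).2 ?_
        have e : (fun a => p.appTop a) = Coh.toGlobal p ∘ (Scheme.ΓSpecIso (CommRingCat.of R)).hom := by
          funext a
          change p.appTop a = p.appTop _
          erw [congr($((Scheme.ΓSpecIso (CommRingCat.of R)).hom_inv_id) a)]
          rfl
        change Function.Bijective (fun a => p.appTop a)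
        rw [e]
        exact h.comp (ConcreteCategory.bijective_of_isIso _)
      simpa [Scheme.Hom.appLE] using this
    haveI := isIso_pushoutSection_of_isQuasiSeparated_of_flat_right H (US := ⊤) (UT := ⊤) (UX := ⊤)
      le_top le_top (UY := ⊤) (by simp) (isAffineOpen_top _) (isAffineOpen_top _) isCompact_univ
      isQuasiSeparated_univ
    have hpo := (isIso_pushoutSection_iff H (US := ⊤) (UT := ⊤) (UX := ⊤) le_top le_top
      (UY := ⊤) (by simp)).1 this
    have := hpo.isIso_inr_of_isIso
    simpa [Scheme.Hom.appLE] using this
  haveI : IsLocalRing Γ(Spec (CommRingCat.of R'), ⊤) :=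
    (Scheme.ΓSpecIso (CommRingCat.of R')).symm.commRingCatIsoToRingEquiv.isLocalRing
  haveI : IsLocalRing Γ(X', ⊤) :=
    (asIso (pullback.snd p s).appTop).commRingCatIsoToRingEquiv.isLocalRing
  haveI := preconnectedSpace_of_isLocalRing X'
  -- the closed fibre of the completed scheme is preconnected
  let c' : ↥(Spec (CommRingCat.of R')) := (IsLocalRing.closedPoint R' : PrimeSpectrum R')
  have hb := Groth.Agent.S8533.result R' (pullback.snd p s)
  haveI : PreconnectedSpace ((pullback.snd p s).fiber c') := by
    haveI : Subsingleton (_root_.ConnectedComponents ((pullback.snd p s).fiber c')) := hb.1.subsingleton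
    refine preconnectedSpace_iff_connectedComponent.2 fun x => Set.eq_univ_of_forall fun y => ?_
    have e : (ConnectedComponents.mk x) = ConnectedComponents.mk y := Subsingleton.elim _ _
    rw [ConnectedComponents.coe_eq_coe.1 e]
    exact mem_connectedComponent
  have hrange : p.base ⁻¹' {IsLocalRing.closedPoint R} =
      Set.range ((pullback.snd p s).fiberι c' ≫ pullback.fst p s) := by
    have hs : s c' = IsLocalRing.closedPoint R := IsLocalRing.comap_closedPoint (algebraMap R R')
    rw [Scheme.Hom.comp_base, TopCat.coe_comp, Set.range_comp, Scheme.Hom.range_fiberι]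
    ext x
    constructor
    · intro hx
      obtain ⟨z, hz₁, hz₂⟩ := Scheme.Pullback.exists_preimage_pullback (f := p) (g := s) x c'
        (by rw [hs]; exact hx)
      exact ⟨z, hz₂, hz₁⟩
    · rintro ⟨z, hz, rfl⟩
      change p (pullback.fst p s z) = _
      rw [← Scheme.Hom.comp_apply, pullback.condition, Scheme.Hom.comp_apply,
        show pullback.snd p s z = c' from hz, hs]
  rw [hrange]
  exact isPreconnected_range ((pullback.snd p s).fiberι c' ≫ pullback.fst p s).continuous

end Groth.ModelsGraphs.Connected
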