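import Groth.Agent.ModelsGraphs.RedFibre

/-!
# Global functions on divisors in the closed fibre over an algebraically closed residue field
-/

set_option autoImplicit false
set_option backward.isDefEq.respectTransparency.types false

universe u

open CategoryTheory CategoryTheory.Limits AlgebraicGeometry TopologicalSpace

namespace Groth.ModelsGraphs.RedFibre

/-- A finite algebra which is a field, over a DVR with algebraically closed residue field. -/
theorem surjective_of_finite_field {R A : Type u} [CommRing R] [IsDomain R] [IsDiscreteValuationRing R]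
    [IsAlgClosed (IsLocalRing.ResidueField R)] [Field A] (τ : R →+* A) (h : τ.Finite) :
    Function.Surjective τ := by
  letI := τ.toAlgebra
  haveI : Module.Finite R A := h
  have hker : RingHom.ker τ = IsLocalRing.maximalIdeal R := by
    refine IsLocalRing.eq_maximalIdeal (Ideal.IsPrime.isMaximal (RingHom.ker_isPrime τ) fun hb => ?_)
    exact IsDiscreteValuationRing.not_isField R (isField_of_isIntegral_of_isField (S := A)
      (show Function.Injective (algebraMap R A) from (RingHom.injective_iff_ker_eq_bot τ).2 hb)
      (Field.toIsField A))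
  let σ : IsLocalRing.ResidueField R →+* A :=
    Ideal.Quotient.lift (IsLocalRing.maximalIdeal R) τ fun r hr => by
      rw [← hker] at hr
      exact hr
  letI := σ.toAlgebra
  haveI : IsScalarTower R (IsLocalRing.ResidueField R) A := IsScalarTower.of_algebraMap_eq fun _ => rfl
  haveI : Module.Finite (IsLocalRing.ResidueField R) A := Module.Finite.of_restrictScalars_finite R _ A
  intro a
  obtain ⟨b, hb⟩ := (IsAlgClosed.algebraMap_bijective_of_isIntegral
    (k := IsLocalRing.ResidueField R) (K := A)).2 a
  obtain ⟨r, rfl⟩ := IsLocalRing.residue_surjective b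
  exact ⟨r, hb⟩

variable {R : Type u} [CommRing R] [IsDomain R] [IsDiscreteValuationRing R]
  {X : Over (Spec (CommRingCat.of R))}

/-- `h⁰(O_Z) = 1` over an algebraically closed residue field when `Γ(O_Z)` is a field. -/
theorem lengthH_zero_eq_one_of_isAlgClosed [IsAlgClosed (IsLocalRing.ResidueField R)] [IsProper X.hom]
    (I : X.left.IdealSheafData) (hF : FieldChain.IsFieldSub I) :
    Models.lengthH R X (ClSub.quotMod I) 0 = 1 := by
  rw [lengthH_zero_eq]
  let τ : R →+* Γ(I.subscheme, ⊤) := Coh.toGlobal (I.subschemeι ≫ X.hom)
  letI := hF.toField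
  letI := τ.toAlgebra
  have hτ := surjective_of_finite_field τ (FieldChain.finite_toGlobal I)
  haveI : IsSimpleModule R Γ(I.subscheme, ⊤) := isSimpleModule_iff_quot_maximal.2
    ⟨LinearMap.ker (Algebra.linearMap R Γ(I.subscheme, ⊤)), RingHom.ker_isMaximal_of_surjective τ hτ,
      ⟨((Algebra.linearMap R Γ(I.subscheme, ⊤)).quotKerEquivOfSurjective hτ).symm⟩⟩
  rw [Module.length_eq_one]
  rfl

end Groth.ModelsGraphs.RedFibre
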