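import Groth.Agent.ModelsGraphs.InterGen
import Groth.Agent.ModelsGraphs.RedFibreAlgClosed
import Groth.Agent.ModelsGraphs.ExcPair
import Groth.Agent.ModelsGraphs.InterConnected
import Groth.Agent.Hensel1.QFSplit
import Groth.Agent.S1561
import Groth.Agent.Flatmor4.FlatDedekind
import Groth.Agent.Ega4Algebra2.RegularImmersion
import Groth.Agent.FlatMor2.AdaptedOpens
import Groth.Agent.SmoothWeil.Geom
import Mathlib.RingTheory.ZariskisMainTheorem

/-!
# A horizontal divisor meeting a component of the closed fibre transversally in one point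
-/

set_option autoImplicit false
set_option backward.isDefEq.respectTransparency.types false

universe u

open CategoryTheory CategoryTheory.Limits AlgebraicGeometry TopologicalSpace

namespace Groth.ModelsGraphs.Transversal

open Groth.ModelsGraphs.Inter Groth.ModelsGraphs.InterPair Groth.ModelsGraphs.InterForm

/-- After one localisation, a hypersurface isolated in the closed fibre is finite over a henselian base. -/
theorem exists_finite_away (R A : Type u) [CommRing R] [HenselianLocalRing R] [CommRing A] [Algebra R A]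
    [Algebra.FiniteType R A] (s : A) (P : Ideal A) [P.IsPrime] (hs : s ∈ P)
    (hPR : P.comap (algebraMap R A) = IsLocalRing.maximalIdeal R)
    (hfib : ∀ Q : Ideal A, Q.IsPrime → s ∈ Q →
      Q.comap (algebraMap R A) = IsLocalRing.maximalIdeal R → Q = P) :
    ∃ f : A, f ∉ P ∧ ∀ (A' : Type u) [CommRing A'] [Algebra A A'] [Algebra R A']
      [IsScalarTower R A A'] [IsLocalization.Away f A'],
      Module.Finite R (A' ⧸ Ideal.span {algebraMap A A' s}) ∧
        ∀ (q : Ideal A'), q.IsMaximal → algebraMap A A' s ∈ q → q.comap (algebraMap A A') = P := by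
  let B := A ⧸ Ideal.span {s}
  let mk : A →+* B := Ideal.Quotient.mk _
  have hle : Ideal.span {s} ≤ P := (Ideal.span_singleton_le_iff_mem _).2 hs
  let q : Ideal B := P.map mk
  have hcq : q.comap mk = P := by
    rw [Ideal.comap_map_of_surjective' mk Ideal.Quotient.mk_surjective, Ideal.mk_ker,
      sup_eq_left.2 hle]
  haveI : q.IsPrime := Ideal.map_isPrime_of_surjective Ideal.Quotient.mk_surjective
    (by rwa [Ideal.mk_ker])
  haveI : q.LiesOver (IsLocalRing.maximalIdeal R) := ⟨by
    change _ = q.comap (algebraMap R B)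
    rw [show algebraMap R B = mk.comp (algebraMap R A) from rfl, ← Ideal.comap_comap, hcq, hPR]⟩
  haveI : Algebra.QuasiFiniteAt R q := by
    refine Algebra.QuasiFiniteAt.of_isOpen_singleton_fiber ⟨q, inferInstance⟩ ?_
    convert isOpen_univ
    refine Set.eq_univ_of_forall fun ⟨Q, hQ⟩ => Subtype.ext (PrimeSpectrum.ext ?_)
    have h1 : Q.asIdeal.comap (algebraMap R B) = IsLocalRing.maximalIdeal R := by
      rw [Set.mem_preimage, Set.mem_singleton_iff] at hQ
      exact (congrArg PrimeSpectrum.asIdeal hQ).trans (q.over_def (IsLocalRing.maximalIdeal R)).symm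
    have h2 : Q.asIdeal.comap mk = P := hfib _ inferInstance (by
      rw [Ideal.mem_comap, show mk s = 0 from
        Ideal.Quotient.eq_zero_iff_mem.2 (Ideal.mem_span_singleton_self s)]
      exact Q.asIdeal.zero_mem) (by rw [Ideal.comap_comap]; exact h1)
    change Q.asIdeal = q
    rw [← Ideal.map_comap_of_surjective mk Ideal.Quotient.mk_surjective Q.asIdeal, h2]
  obtain ⟨e, heq, ⟨he, hefg⟩, hloc⟩ := Groth.Hensel1.exists_idempotent_of_quasiFiniteAt (R := R) q
  haveI : Module.Finite R (B ⧸ Ideal.span {1 - e}) := Groth.Hensel1.FGIdem.finite ⟨he, hefg⟩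
  obtain ⟨f, rfl⟩ := Ideal.Quotient.mk_surjective e
  refine ⟨f, fun hf => heq (Ideal.mem_map_of_mem mk hf), fun A' _ _ _ _ _ => ?_⟩
  let B' := A' ⧸ Ideal.span {algebraMap A A' s}
  let φ : B →ₐ[R] B' := Ideal.Quotient.liftₐ _
    ((Ideal.Quotient.mkₐ R _).comp (IsScalarTower.toAlgHom R A A')) fun a ha => by
      obtain ⟨c, rfl⟩ := Ideal.mem_span_singleton.1 ha
      change Ideal.Quotient.mk _ (algebraMap A A' (s * c)) = 0
      rw [map_mul, Ideal.Quotient.eq_zero_iff_mem]
      exact Ideal.mul_mem_right _ _ (Ideal.mem_span_singleton_self _)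
  have hfu : IsUnit (φ (mk f)) :=
    (IsLocalization.Away.algebraMap_isUnit (S := A') f).map (Ideal.Quotient.mk _)
  have hf1 : φ (mk f) = 1 := by
    refine hfu.mul_left_cancel ?_
    rw [mul_one, ← map_mul]
    exact congrArg φ he.eq
  let ψ : (B ⧸ Ideal.span {1 - mk f}) →ₐ[R] B' := Ideal.Quotient.liftₐ _ φ fun a ha => by
    obtain ⟨c, rfl⟩ := Ideal.mem_span_singleton.1 ha
    rw [map_mul, map_sub, map_one, hf1, sub_self, zero_mul]
  have hψ : Function.Surjective ψ := by
    intro b
    obtain ⟨b, rfl⟩ := Ideal.Quotient.mk_surjective b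
    obtain ⟨⟨a, ⟨_, n, rfl⟩⟩, hab⟩ := IsLocalization.surj (Submonoid.powers f) b
    refine ⟨Ideal.Quotient.mk _ (mk a), ?_⟩
    have h := congrArg (Ideal.Quotient.mk (Ideal.span {algebraMap A A' s})) hab
    rw [map_mul, map_pow, map_pow,
      show Ideal.Quotient.mk (Ideal.span {algebraMap A A' s}) (algebraMap A A' f) = 1 from hf1,
      one_pow, mul_one] at h
    exact h.symm
  refine ⟨Module.Finite.of_surjective ψ.toLinearMap hψ, fun Q hQ hQs => ?_⟩
  haveI := hloc
  have hQle : Ideal.span {algebraMap A A' s} ≤ Q := (Ideal.span_singleton_le_iff_mem _).2 hQs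
  have hker : RingHom.ker (Ideal.Quotient.mk (Ideal.span {algebraMap A A' s})) ≤ Q := by
    rwa [Ideal.mk_ker]
  haveI : (Q.map (Ideal.Quotient.mk (Ideal.span {algebraMap A A' s}))).IsMaximal :=
    Ideal.IsMaximal.map_of_surjective_of_ker_le Ideal.Quotient.mk_surjective hker
  let Q' : Ideal (B ⧸ Ideal.span {1 - mk f}) :=
    (Q.map (Ideal.Quotient.mk (Ideal.span {algebraMap A A' s}))).comap ψ.toRingHom
  have hQ' : Q' = IsLocalRing.maximalIdeal _ :=
    IsLocalRing.eq_maximalIdeal (Ideal.comap_isMaximal_of_surjective ψ.toRingHom hψ)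
  have hq' : q.map (Ideal.Quotient.mk (Ideal.span {1 - mk f})) = IsLocalRing.maximalIdeal _ := by
    have h1 : Ideal.span {1 - mk f} ≤ q := by
      rw [Ideal.span_singleton_le_iff_mem]
      have : mk f * (1 - mk f) ∈ q := by
        rw [he.mul_one_sub_self]
        exact q.zero_mem
      exact (‹q.IsPrime›.mem_or_mem this).resolve_left heq
    haveI : q.IsMaximal := by
      haveI hP : P.IsMaximal := by
        have hex := Ideal.exists_le_maximal P ‹P.IsPrime›.ne_top
        obtain ⟨M, hM, hPM⟩ := hex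
        have hMR : M.comap (algebraMap R A) = IsLocalRing.maximalIdeal R :=
          le_antisymm (IsLocalRing.le_maximalIdeal (Ideal.comap_ne_top _ hM.ne_top))
            (hPR.ge.trans (Ideal.comap_mono hPM))
        rwa [← hfib M hM.isPrime (hPM hs) hMR]
      exact Ideal.IsMaximal.map_of_surjective_of_ker_le Ideal.Quotient.mk_surjective (by rwa [Ideal.mk_ker])
    exact IsLocalRing.eq_maximalIdeal (Ideal.IsMaximal.map_of_surjective_of_ker_le
      Ideal.Quotient.mk_surjective (by rwa [Ideal.mk_ker]))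
  rw [← hcq]
  ext a
  have ha : a ∈ Q.comap (algebraMap A A') ↔ Ideal.Quotient.mk _ (mk a) ∈ Q' := by
    simp only [Q', Ideal.mem_comap]
    change _ ↔ Ideal.Quotient.mk _ (algebraMap A A' a) ∈ _
    rw [← Ideal.mem_comap (f := Ideal.Quotient.mk (Ideal.span {algebraMap A A' s})),
      Ideal.comap_map_of_surjective' _ Ideal.Quotient.mk_surjective, Ideal.mk_ker, sup_eq_left.2 hQle]
  rw [ha, hQ', ← hq', ← Ideal.mem_comap,
    Ideal.comap_map_of_surjective' _ Ideal.Quotient.mk_surjective, Ideal.mk_ker, Ideal.mem_comap,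
    sup_eq_left.2]
  rw [Ideal.span_singleton_le_iff_mem]
  have : mk f * (1 - mk f) ∈ q := by
    rw [he.mul_one_sub_self]
    exact q.zero_mem
  exact (‹q.IsPrime›.mem_or_mem this).resolve_left heq

variable {R : Type u} [CommRing R] [IsDomain R] [IsDiscreteValuationRing R]
  {X : Over (Spec (CommRingCat.of R))} {n : ℕ} {Γs : Fin n → ArSurf.VertComp R X}

local notation "kR" => IsLocalRing.ResidueField R

/-- A regular connected proper model is integral. -/
theorem isIntegral [IsProper X.hom] (hreg : Models.IsRegularScheme X.left)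
    (hH0 : Function.Bijective (Coh.toGlobal X.hom)) [Nonempty X.left] : IsIntegral X.left := by
  haveI : IsLocallyNoetherian X.left := LocallyOfFiniteType.isLocallyNoetherian X.hom
  haveI : IsLocalRing Γ(X.left, ⊤) :=
    (RingEquiv.ofBijective (show R →+* Γ(X.left, ⊤) from Coh.toGlobal X.hom) hH0).isLocalRing
  haveI := Connected.preconnectedSpace_of_isLocalRing X.left
  haveI : ConnectedSpace X.left := { toNonempty := ‹_› }
  have hdom : ∀ z : X.left, IsDomain (X.left.presheaf.stalk z) := isDomain_stalk hreg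
  haveI : IrreducibleSpace X.left := Groth.SmoothWeil.irreducibleSpace_of_connected X.left hdom
  haveI : IsReduced X.left := by
    haveI : ∀ z : X.left, _root_.IsReduced (X.left.presheaf.stalk z) := fun z => by
      haveI := hdom z
      infer_instance
    exact isReduced_of_isReduced_stalk X.left
  exact isIntegral_of_irreducibleSpace_of_isReduced X.left

/-- A closed regular point of a component lying on no other component. -/
theorem exists_point [IsAlgClosed kR] [IsProper X.hom] (hΓ : Models.IsComponentList R X Γs) (i : Fin n) :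
    ∃ c : (Γs i).curve.left, IsClosed ({c} : Set (Γs i).curve.left) ∧
      (∀ j, j ≠ i → (Γs i).ι c ∉ Set.range (Γs j).ι.base) ∧
      (IsLocalRing.maximalIdeal ((Γs i).curve.left.presheaf.stalk c)).IsPrincipal := by
  haveI := (Γs i).isIntegral
  haveI : IsProper ((Γs i).curve.left ↘ Spec (CommRingCat.of kR)) := isProper_hom (Γs i)
  let Y := (Γs i).curve.left
  let fY := (Γs i).curve.left ↘ Spec (CommRingCat.of kR)
  haveI : IsLocallyNoetherian Y := LocallyOfFiniteType.isLocallyNoetherian fY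
  haveI : LocallyOfFinitePresentation fY := inferInstance
  have hS := Groth.Agent.S1561.result kR Y
  let W : Set Y := (fY.smoothLocus : Set Y) ∩
    ⋂ j ∈ {j : Fin n | j ≠ i}, (Γs i).ι.base ⁻¹' (Set.range (Γs j).ι.base)ᶜ
  have hopen : IsOpen (⋂ j ∈ {j : Fin n | j ≠ i}, (Γs i).ι.base ⁻¹' (Set.range (Γs j).ι.base)ᶜ) :=
    (Set.toFinite _).isOpen_biInter fun j _ =>
      (Γs j).ι.isClosedEmbedding.isClosed_range.isOpen_compl.preimage (Γs i).ι.continuous
  have hgen : genericPoint Y ∈
      ⋂ j ∈ {j : Fin n | j ≠ i}, (Γs i).ι.base ⁻¹' (Set.range (Γs j).ι.base)ᶜ := by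
    simp only [Set.mem_iInter, Set.mem_preimage, Set.mem_compl_iff]
    intro j hj hm
    refine notMem_support_of_ne hΓ (Ne.symm hj) ?_
    rw [← SetLike.mem_coe, support_ker]
    exact hm
  have hne : W.Nonempty := hS.2.inter_open_nonempty _ hopen ⟨_, hgen⟩ |>.mono (by
    intro y hy
    exact ⟨hy.2, hy.1⟩)
  haveI : JacobsonSpace Y := LocallyOfFiniteType.jacobsonSpace fY
  obtain ⟨c, hcW, hc⟩ := nonempty_inter_closedPoints hne
    ((fY.smoothLocus.2.inter hopen).isLocallyClosed)
  refine ⟨c, hc, fun j hj => ?_, ?_⟩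
  · have := hcW.2
    simp only [Set.mem_iInter, Set.mem_preimage, Set.mem_compl_iff] at this
    exact this j hj
  · haveI := (hS.1 c).1 hcW.1
    have h1 : (IsLocalRing.maximalIdeal (Y.presheaf.stalk c)).spanFinrank ≤ 1 := by
      have h := (Groth.Flatmor4.ringKrullDim_stalk_le c).trans (le_of_eq (Γs i).dim_eq)
      rw [← IsRegularLocalRing.spanFinrank_maximalIdeal] at h
      exact_mod_cast h
    rcases Nat.le_one_iff_eq_zero_or_eq_one.1 h1 with h | h
    · rw [(Submodule.spanFinrank_eq_zero_iff_eq_bot (IsNoetherian.noetherian _)).1 h]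
      infer_instance
    · exact ((Submodule.spanFinrank_eq_one_iff _).1 h).1

/-- The transversal divisor through a chosen affine chart. -/
theorem exists_chart [IsAlgClosed kR] [IsProper X.hom] [HenselianLocalRing R]
    (hreg : Models.IsRegularScheme X.left) (hΓ : Models.IsComponentList R X Γs) (i : Fin n) :
    ∃ (U : X.left.affineOpens) (x : X.left) (hx : x ∈ U.1) (s : Γ(X.left, U.1)),
      IsClosed ({x} : Set X.left) ∧ (∀ j, j ≠ i → Disjoint (U.1 : Set X.left) (Set.range (Γs j).ι.base)) ∧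
      Ideal.span {s} ⊔ (Γs i).ι.ker.ideal U = (U.2.primeIdealOf ⟨x, hx⟩).asIdeal ∧
      s ∉ (Γs i).ι.ker.ideal U ∧
      (letI := (DVRFibre.ψ X.hom U.1).toAlgebra; Module.Finite R (Γ(X.left, U.1) ⧸ Ideal.span {s})) ∧
      (∀ q : Ideal Γ(X.left, U.1), q.IsMaximal → s ∈ q → q = (U.2.primeIdealOf ⟨x, hx⟩).asIdeal) := by
  haveI : IsLocallyNoetherian X.left := LocallyOfFiniteType.isLocallyNoetherian X.hom
  haveI : CompactSpace X.left := QuasiCompact.compactSpace_of_compactSpace X.hom
  obtain ⟨π, hπ⟩ := IsDiscreteValuationRing.exists_irreducible R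
  haveI := (Γs i).isIntegral
  obtain ⟨c, hc, hoff, hprinc⟩ := exists_point hΓ i
  set x := (Γs i).ι c with hxdef
  have hxcl : IsClosed ({x} : Set X.left) := by
    have := (Γs i).ι.isClosedEmbedding.isClosedMap _ hc
    rwa [Set.image_singleton] at this
  have hxK : x ∈ (Γs i).ι.ker.support := by
    rw [← SetLike.mem_coe, support_ker]
    exact ⟨c, rfl⟩
  let O : X.left.Opens := ⟨⋂ j ∈ {j : Fin n | j ≠ i}, (Set.range (Γs j).ι.base)ᶜ,
    (Set.toFinite _).isOpen_biInter fun j _ => (Γs j).ι.isClosedEmbedding.isClosed_range.isOpen_compl⟩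
  have hxO : x ∈ O := by
    refine Set.mem_iInter₂.2 fun j hj => ?_
    exact hoff j hj
  obtain ⟨U₀, hx₀, hU₀O⟩ := Groth.Divisors.exists_affine_le x O hxO
  haveI := IsLocallyNoetherian.component_noetherian U₀
  let A := Γ(X.left, U₀.1)
  set P := (U₀.2.primeIdealOf ⟨x, hx₀⟩).asIdeal
  set J := (Γs i).ι.ker.ideal U₀
  have hJP : J ≤ P := (Groth.DivisorLength.mem_support_iff_le hx₀).1 hxK
  -- a parameter of the component at `x`
  obtain ⟨⟨z, hz⟩⟩ := hprinc
  obtain ⟨z', hz'⟩ := (Γs i).ι.stalkMap_surjective c z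
  obtain ⟨s, d, hd, hds⟩ := Groth.RefRank.exists_mul_germ_eq U₀.2 hx₀ z'
  have hdu : IsUnit (X.left.presheaf.germ U₀.1 x hx₀ d) := (Scheme.mem_basicOpen _ d x hx₀).1 hd
  have hmax : IsLocalRing.maximalIdeal (X.left.presheaf.stalk x) =
      (Ideal.span {s} ⊔ J).map (X.left.presheaf.germ U₀.1 x hx₀).hom := by
    rw [Ideal.map_sup, Ideal.map_span, Set.image_singleton, ← hds, Ideal.span_singleton_mul_left_unit hdu,
      ← Groth.Ega4b.ker_stalkMap_eq_map (Γs i).ι U₀.2 c hx₀]
    have hcomap : IsLocalRing.maximalIdeal (X.left.presheaf.stalk x) =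
        (IsLocalRing.maximalIdeal ((Γs i).curve.left.presheaf.stalk c)).comap
          ((Γs i).ι.stalkMap c).hom := (IsLocalRing.maximalIdeal_comap _).symm
    rw [hcomap, hz, Ideal.submodule_span_eq, ← hz', ← Set.image_singleton, ← Ideal.map_span,
      Ideal.comap_map_of_surjective' _ ((Γs i).ι.stalkMap_surjective c)]
  letI := TopCat.Presheaf.algebra_section_stalk X.left.presheaf (⟨x, hx₀⟩ : U₀.1)
  haveI : IsLocalization.AtPrime (X.left.presheaf.stalk x) P := U₀.2.isLocalization_stalk ⟨x, hx₀⟩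
  have hsJP : Ideal.span {s} ⊔ J ≤ P := by
    rw [← IsLocalization.AtPrime.comap_maximalIdeal (X.left.presheaf.stalk x) P, hmax]
    exact Ideal.le_comap_map
  -- shrink so that the point is cut out by `s` and the ideal of the component
  classical
  obtain ⟨g, hgP, hg⟩ : ∃ g ∉ P, ∀ a ∈ P, g * a ∈ Ideal.span {s} ⊔ J := by
    obtain ⟨T, hT⟩ := (IsNoetherian.noetherian P : P.FG)
    have hone : ∀ a : P, ∃ g ∉ P, g * (a : A) ∈ Ideal.span {s} ⊔ J := fun a => by
      have ha : algebraMap A (X.left.presheaf.stalk x) a ∈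
          (Ideal.span {s} ⊔ J).map (algebraMap A (X.left.presheaf.stalk x)) := by
        refine hmax.le ?_
        exact (IsLocalization.AtPrime.to_map_mem_maximal_iff (X.left.presheaf.stalk x) P _).2 a.2
      obtain ⟨g, hg, hga⟩ := (IsLocalization.algebraMap_mem_map_algebraMap_iff P.primeCompl
        (X.left.presheaf.stalk x) _ _).1 ha
      exact ⟨g, hg, hga⟩
    choose gg hgg hgga using hone
    refine ⟨∏ t ∈ T.attach, gg ⟨t.1, hT.le (Ideal.subset_span t.2)⟩, fun hmem => ?_, fun a ha => ?_⟩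
    · obtain ⟨t, -, ht⟩ := (Ideal.IsPrime.prod_mem_iff).1 hmem
      exact hgg _ ht
    · rw [← hT] at ha
      induction ha using Submodule.span_induction with
      | mem t ht =>
        rw [← Finset.mul_prod_erase T.attach _ (Finset.mem_attach T ⟨t, ht⟩), mul_right_comm]
        exact Ideal.mul_mem_right _ _ (hgga _)
      | zero => rw [mul_zero]; exact Ideal.zero_mem _
      | add a b _ _ ha hb => rw [mul_add]; exact Ideal.add_mem _ ha hb
      | smul r a _ ha => rw [smul_eq_mul, mul_left_comm]; exact Ideal.mul_mem_left _ _ ha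
  letI := (DVRFibre.ψ X.hom U₀.1).toAlgebra
  haveI : Algebra.FiniteType R A := by
    have h1 := X.hom.finiteType_appLE (isAffineOpen_top _) U₀.2 (le_top : U₀.1 ≤ X.hom ⁻¹ᵁ ⊤)
    have h2 : ((Scheme.ΓSpecIso (CommRingCat.of R)).inv.hom).FiniteType :=
      RingHom.FiniteType.of_surjective _ (ConcreteCategory.bijective_of_isIso _).2
    exact h1.comp h2
  let U₁ : X.left.affineOpens := ⟨X.left.basicOpen g, U₀.2.basicOpen g⟩
  have hle₁ : U₁.1 ≤ U₀.1 := X.left.basicOpen_le g
  letI := (DVRFibre.ψ X.hom U₁.1).toAlgebra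
  haveI : IsLocalization.Away g Γ(X.left, U₁.1) := U₀.2.isLocalization_basicOpen g
  haveI : IsScalarTower R A Γ(X.left, U₁.1) := IsScalarTower.of_algebraMap_eq fun r =>
    (DVRFibre.ψ_res X.hom hle₁ r).symm
  haveI : Algebra.FiniteType R Γ(X.left, U₁.1) := by
    haveI : Algebra.FiniteType A Γ(X.left, U₁.1) := IsLocalization.finiteType_of_monoid_fg (Submonoid.powers g) _
    exact Algebra.FiniteType.trans (S := Γ(X.left, U₀.1)) inferInstance inferInstance
  have hx₁ : x ∈ U₁.1 :=
    (Groth.FlatMor2.mem_basicOpen_iff_notMem_primeIdealOf U₀.2 ⟨x, hx₀⟩ g).2 hgP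
  let A₁ := Γ(X.left, U₁.1)
  set P₁ := (U₁.2.primeIdealOf ⟨x, hx₁⟩).asIdeal with hP₁
  set J₁ := (Γs i).ι.ker.ideal U₁ with hJ₁
  let s₁ : A₁ := algebraMap A A₁ s
  have hJ₁map : J₁ = J.map (algebraMap A A₁) := ((Γs i).ι.ker.map_ideal (U := U₁) (V := U₀) hle₁).symm
  have hPcomap : P₁.comap (algebraMap A A₁) = P := by
    ext a
    rw [Ideal.mem_comap, ← not_iff_not, ← Groth.DivisorLength.isUnit_germ_iff hx₁,
      ← Groth.DivisorLength.isUnit_germ_iff hx₀]
    rw [show X.left.presheaf.germ U₁.1 x hx₁ (algebraMap A A₁ a) = X.left.presheaf.germ U₀.1 x hx₀ a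
      from TopCat.Presheaf.germ_res_apply X.left.presheaf (homOfLE hle₁) x hx₁ a]
  have hsup : Ideal.span {s₁} ⊔ J₁ = P₁ := by
    rw [(IsLocalization.map_comap (Submonoid.powers g) A₁ P₁).symm.trans
      (congrArg (Ideal.map (algebraMap A A₁)) hPcomap), hJ₁map,
      ← Set.image_singleton, ← Ideal.map_span, ← Ideal.map_sup]
    refine le_antisymm (Ideal.map_mono hsJP) (Ideal.map_le_iff_le_comap.2 fun a ha => ?_)
    rw [Ideal.mem_comap, ← Ideal.unit_mul_mem_iff_mem _
      (IsLocalization.Away.algebraMap_isUnit (S := A₁) g), ← map_mul]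
    exact Ideal.mem_map_of_mem _ (hg a ha)
  have hsnot : s₁ ∉ J₁ := by
    intro hs
    have hPJ : P₁ = J₁ := by
      rw [← hsup, sup_eq_right, Ideal.span_singleton_le_iff_mem]
      exact hs
    have hη : Groth.DivisorLength.eta (Γs i).ι.ker ∈ U₁.1 :=
      ((Groth.DivisorLength.mem_support_iff_eta _ _).1 hxK).mem_open U₁.1.2 hx₁
    have h1 : x ⤳ Groth.DivisorLength.eta (Γs i).ι.ker :=
      (Groth.DivisorLength.specializes_iff hx₁ hη).2
        (by rw [Groth.DivisorLength.primeIdealOf_eta _ hη]; exact hPJ.le)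
    have h2 : Models.genPtOf R X (Γs i) = x := by
      rw [← eta_ker (Γs i)]
      exact h1.mem_closed hxcl rfl
    have h3 : c = genericPoint (Γs i).curve.left :=
      (Γs i).ι.isClosedEmbedding.injective (hxdef ▸ h2.symm)
    rw [h3] at hc
    have h4 : Subsingleton (Γs i).curve.left := ⟨fun a b =>
      ((genericPoint_specializes a).mem_closed hc rfl).trans
        ((genericPoint_specializes b).mem_closed hc rfl).symm⟩
    haveI : Subsingleton (IrreducibleCloseds (Γs i).curve.left) := ⟨fun Z Z' =>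
      IrreducibleCloseds.ext ((Z.isIrreducible.nonempty.eq_univ).trans Z'.isIrreducible.nonempty.eq_univ.symm)⟩
    have h5 : topologicalKrullDim (Γs i).curve.left ≤ 0 := Order.krullDim_nonpos_of_subsingleton
    rw [(Γs i).dim_eq] at h5
    exact not_le.2 zero_lt_one h5
  have hs₁ : s₁ ∈ P₁ := hsup.le (Ideal.mem_sup_left (Ideal.mem_span_singleton_self _))
  have hcomapR : ∀ (y : X.left) (hy : y ∈ U₁.1),
      y ∈ Models.specialFibreSet R X ↔
        DVRFibre.ψ X.hom U₁.1 π ∈ (U₁.2.primeIdealOf ⟨y, hy⟩).asIdeal := fun y hy => by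
    rw [mem_specialFibreSet_iff hπ, stalkHom_eq_germ U₁.1 y hy, Groth.DivisorLength.isUnit_germ_iff hy,
      not_not]
  have hPR : P₁.comap (algebraMap R A₁) = IsLocalRing.maximalIdeal R := by
    refine ((IsLocalRing.maximalIdeal.isMaximal R).eq_of_le (Ideal.comap_ne_top _
      (U₁.2.primeIdealOf ⟨x, hx₁⟩).isPrime.ne_top) ?_).symm
    rw [hπ.maximalIdeal_eq, Ideal.span_singleton_le_iff_mem]
    rw [Ideal.mem_comap]
    change DVRFibre.ψ X.hom U₁.1 π ∈ P₁
    refine (hcomapR x hx₁).1 ?_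
    exact (Maximal.prop (P := fun S : Set X.left => IsIrreducible S ∧ S ⊆ Models.specialFibreSet R X)
      (range_mem hΓ i)).2 ⟨c, rfl⟩
  have hmax₁ : P₁.IsMaximal := U₁.2.primeIdealOf_isMaximal_of_isClosed ⟨x, hx₁⟩ hxcl
  have hfib : ∀ Q : Ideal A₁, Q.IsPrime → s₁ ∈ Q →
      Q.comap (algebraMap R A₁) = IsLocalRing.maximalIdeal R → Q = P₁ := fun Q hQ hsQ hQR => by
    let y := U₁.2.fromSpec ⟨Q, hQ⟩
    have hy : y ∈ U₁.1 := by
      rw [← SetLike.mem_coe, ← U₁.2.range_fromSpec]
      exact ⟨_, rfl⟩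
    have hQy : (U₁.2.primeIdealOf ⟨y, hy⟩).asIdeal = Q := by
      have h : U₁.2.primeIdealOf ⟨y, hy⟩ = ⟨Q, hQ⟩ :=
        U₁.2.fromSpec.isOpenEmbedding.injective (U₁.2.fromSpec_primeIdealOf _)
      rw [h]
    have hyS : y ∈ Models.specialFibreSet R X := by
      rw [hcomapR y hy, hQy]
      exact Ideal.mem_comap.1 (hQR.ge ((IsLocalRing.mem_maximalIdeal π).2 hπ.not_isUnit))
    obtain ⟨j, hj⟩ := exists_specializes hΓ hyS
    have hji : j = i := by
      by_contra hne
      refine (Set.mem_iInter₂.1 (hU₀O (hle₁ hy)) j hne) ?_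
      rw [← support_ker, SetLike.mem_coe, mem_support_ker_iff]
      exact hj
    subst hji
    have hJQ : J₁ ≤ Q := hQy ▸ (Groth.DivisorLength.mem_support_iff_le hy).1
      ((mem_support_ker_iff _ _).2 hj)
    exact (hmax₁.eq_of_le hQ.ne_top (hsup ▸ sup_le ((Ideal.span_singleton_le_iff_mem _).2 hsQ) hJQ)).symm
  obtain ⟨f, hf, hfin⟩ := exists_finite_away R A₁ s₁ P₁ hs₁ hPR hfib
  let U₂ : X.left.affineOpens := ⟨X.left.basicOpen f, U₁.2.basicOpen f⟩
  have hle₂ : U₂.1 ≤ U₁.1 := X.left.basicOpen_le f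
  have hx₂ : x ∈ U₂.1 :=
    (Groth.FlatMor2.mem_basicOpen_iff_notMem_primeIdealOf U₁.2 ⟨x, hx₁⟩ f).2 hf
  letI := (DVRFibre.ψ X.hom U₂.1).toAlgebra
  haveI : IsLocalization.Away f Γ(X.left, U₂.1) := U₁.2.isLocalization_basicOpen f
  haveI : IsScalarTower R A₁ Γ(X.left, U₂.1) := IsScalarTower.of_algebraMap_eq fun r =>
    (DVRFibre.ψ_res X.hom hle₂ r).symm
  let A₂ := Γ(X.left, U₂.1)
  obtain ⟨hfinite, hmaxs⟩ := hfin A₂
  set P₂ := (U₂.2.primeIdealOf ⟨x, hx₂⟩).asIdeal
  have hP₂comap : P₂.comap (algebraMap A₁ A₂) = P₁ := by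
    ext a
    rw [Ideal.mem_comap, ← not_iff_not, ← Groth.DivisorLength.isUnit_germ_iff hx₂,
      ← Groth.DivisorLength.isUnit_germ_iff hx₁]
    rw [show X.left.presheaf.germ U₂.1 x hx₂ (algebraMap A₁ A₂ a) = X.left.presheaf.germ U₁.1 x hx₁ a
      from TopCat.Presheaf.germ_res_apply X.left.presheaf (homOfLE hle₂) x hx₂ a]
  have hJ₂ : (Γs i).ι.ker.ideal U₂ = J₁.map (algebraMap A₁ A₂) :=
    ((Γs i).ι.ker.map_ideal (U := U₂) (V := U₁) hle₂).symm
  refine ⟨U₂, x, hx₂, algebraMap A₁ A₂ s₁, hxcl, fun j hj => ?_, ?_, ?_, hfinite, fun q hq hsq => ?_⟩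
  · rw [Set.disjoint_left]
    intro y hy hyj
    exact Set.mem_iInter₂.1 (hU₀O (hle₁ (hle₂ hy))) j hj hyj
  · rw [hJ₂, ← Set.image_singleton, ← Ideal.map_span, ← Ideal.map_sup, hsup, ← hP₂comap,
      IsLocalization.map_comap (Submonoid.powers f)]
  · intro hs
    rw [hJ₂] at hs
    haveI : J₁.IsPrime := Groth.DivisorLength.isPrime_ideal _
      (((Groth.DivisorLength.mem_support_iff_eta _ _).1 hxK).mem_open U₁.1.2 hx₁)
    refine hsnot ((IsLocalization.comap_map_of_isPrime_disjoint (Submonoid.powers f) A₂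
      inferInstance ?_).le hs)
    rw [Set.disjoint_left]
    rintro _ ⟨k, rfl⟩ hk
    exact hf (hsup.le (Ideal.mem_sup_right (Ideal.IsPrime.mem_of_pow_mem inferInstance k hk)))
  · exact ((IsLocalization.map_comap (Submonoid.powers f) A₂ q).symm.trans
      (congrArg (Ideal.map (algebraMap A₁ A₂)) ((hmaxs q hq hsq).trans hP₂comap.symm))).trans
      (IsLocalization.map_comap (Submonoid.powers f) A₂ P₂)

/-- A horizontal effective Cartier divisor meeting the closed fibre in one point, transversally. -/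
theorem exists_divisor [IsAlgClosed kR] [IsProper X.hom] [Flat X.hom] [HenselianLocalRing R]
    (hreg : Models.IsRegularScheme X.left) (hH0 : Function.Bijective (Coh.toGlobal X.hom))
    (hΓ : Models.IsComponentList R X Γs) (i : Fin n) :
    ∃ I : X.left.IdealSheafData, BlowUp.IsEffCartierIdeal I ∧
      (∀ j, Models.genPtOf R X (Γs j) ∉ I.support) ∧
      (∀ j, j ≠ i → Disjoint (Set.range (Γs j).ι.base) (I.support : Set X.left)) ∧
      Models.lengthH R X (ClSub.quotMod (I ⊔ (Γs i).ι.ker)) 0 = 1 := by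
  obtain ⟨U, x, hx, s, hxcl, hdisj, hsup, hsnot, hfin, hmax⟩ := exists_chart hreg hΓ i
  clear hmax
  haveI : Nonempty X.left := ⟨x⟩
  haveI := isIntegral hreg hH0
  haveI : IsLocallyNoetherian X.left := LocallyOfFiniteType.isLocallyNoetherian X.hom
  haveI : Nonempty U.1 := ⟨⟨x, hx⟩⟩
  letI := (DVRFibre.ψ X.hom U.1).toAlgebra
  haveI := hfin
  let A := Γ(X.left, U.1)
  let B := A ⧸ Ideal.span {s}
  let mk : CommRingCat.of A ⟶ CommRingCat.of B := CommRingCat.ofHom (Ideal.Quotient.mk _)
  let e : Spec (CommRingCat.of B) ⟶ X.left := Spec.map mk ≫ U.2.fromSpec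
  have hee : e ≫ X.hom = Spec.map (CommRingCat.ofHom (algebraMap R B)) := by
    have h1 := (isAffineOpen_top _).SpecMap_appLE_fromSpec X.hom U.2 (le_top : U.1 ≤ X.hom ⁻¹ᵁ ⊤)
    rw [Category.assoc, ← h1, ← Category.assoc, ← Spec.map_comp]
    erw [IsAffineOpen.fromSpec_top, Scheme.isoSpec_Spec_inv]
    rw [← Spec.map_comp]
    rfl
  haveI : IsFinite (e ≫ X.hom) := by
    rw [hee, IsFinite.SpecMap_iff]
    exact RingHom.finite_algebraMap.2 inferInstance
  haveI : IsProper e := IsProper.of_comp e X.hom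
  haveI : IsClosedImmersion (Spec.map mk) := IsClosedImmersion.spec_of_surjective _ Ideal.Quotient.mk_surjective
  haveI : IsClosedImmersion e := by
    haveI : Mono e := mono_comp _ _
    exact (IsClosedImmersion.iff_isFinite_and_mono e).2 ⟨IsFinite.of_comp e X.hom, inferInstance⟩
  set I := e.ker with hIdef
  have hrange : Set.range e ⊆ (U.1 : Set X.left) := by
    rintro _ ⟨b, rfl⟩
    rw [← U.2.range_fromSpec]
    exact ⟨Spec.map mk b, rfl⟩
  have hsupp : (I.support : Set X.left) = Set.range e := by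
    rw [hIdef, Scheme.Hom.support_ker, e.isClosedEmbedding.isClosed_range.closure_eq]
  have hIU : I.ideal U = Ideal.span {s} := by
    rw [hIdef, Scheme.Hom.ker_apply]
    have h1 : e.app U.1 = U.2.fromSpec.app U.1 ≫ (Spec.map mk).app (U.2.fromSpec ⁻¹ᵁ U.1) :=
      Scheme.Hom.comp_app _ _ _
    rw [h1, IsAffineOpen.fromSpec_app_self]
    have h2 : ∀ (W : (Spec (CommRingCat.of A)).Opens) (hW : W = ⊤) (a : A),
        ((Scheme.ΓSpecIso (CommRingCat.of A)).inv ≫ (Spec (CommRingCat.of A)).presheaf.map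
          (eqToHom hW).op ≫ (Spec.map mk).app W) a = 0 ↔ a ∈ Ideal.span {s} := by
      rintro W rfl a
      rw [eqToHom_refl, op_id, (Spec (CommRingCat.of A)).presheaf.map_id, Category.id_comp,
        ← Ideal.Quotient.eq_zero_iff_mem]
      have h3 : (Scheme.ΓSpecIso (CommRingCat.of A)).inv ≫ (Spec.map mk).app ⊤ =
          mk ≫ (Scheme.ΓSpecIso (CommRingCat.of B)).inv := (Scheme.ΓSpecIso_inv_naturality mk).symm
      rw [h3]
      change (Scheme.ΓSpecIso (CommRingCat.of B)).inv (Ideal.Quotient.mk (Ideal.span {s}) a) = 0 ↔ _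
      exact map_eq_zero_iff _ (ConcreteCategory.bijective_of_isIso (Scheme.ΓSpecIso (CommRingCat.of B)).inv).1
    ext a
    rw [RingHom.mem_ker]
    simp only [Category.assoc]
    exact h2 _ U.2.fromSpec_preimage_self a
  haveI : IsDomain A := inferInstance
  have hs0 : s ≠ 0 := fun h => hsnot (h ▸ Ideal.zero_mem _)
  have hI : BlowUp.IsEffCartierIdeal I := by
    intro y
    by_cases hy : y ∈ I.support
    · exact ⟨U, hrange (hsupp.subset hy), s, mem_nonZeroDivisors_of_ne_zero hs0, hIU⟩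
    · obtain ⟨W, hyW, hW⟩ := Groth.Divisors.exists_affine_le y
        ⟨(I.support : Set X.left)ᶜ, I.support.isClosed.isOpen_compl⟩ hy
      refine ⟨W, hyW, 1, Submonoid.one_mem _, ?_⟩
      rw [Ideal.span_singleton_one]
      by_contra hne
      obtain ⟨M, hM, hle⟩ := Ideal.exists_le_maximal _ hne
      let z := W.2.fromSpec ⟨M, hM.isPrime⟩
      have hzW : z ∈ W.1 := by
        rw [← SetLike.mem_coe, ← W.2.range_fromSpec]
        exact ⟨_, rfl⟩
      refine hW hzW ((Groth.DivisorLength.mem_support_iff_le hzW).2 ?_)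
      have : (W.2.primeIdealOf ⟨z, hzW⟩) = ⟨M, hM.isPrime⟩ :=
        W.2.fromSpec.isOpenEmbedding.injective (by rw [W.2.fromSpec_primeIdealOf])
      rw [this]
      exact hle
  have hspec : ∀ y ∈ (I.support : Set X.left), y ∈ U.1 := fun y hy => hrange (hsupp.subset hy)
  refine ⟨I, hI, fun j hj => ?_, fun j hj => ?_, ?_⟩
  · by_cases hji : j = i
    · subst hji
      have hη : Groth.DivisorLength.eta (Γs j).ι.ker ∈ U.1 := by
        rw [eta_ker]
        exact hspec _ hj
      have h := (Groth.DivisorLength.mem_support_iff_le hη).1 (by rw [eta_ker]; exact hj)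
      rw [Groth.DivisorLength.primeIdealOf_eta _ hη, hIU, Ideal.span_singleton_le_iff_mem] at h
      exact hsnot h
    · exact Set.disjoint_left.1 (hdisj j hji) (hspec _ hj) ⟨_, rfl⟩
  · exact Set.disjoint_left.2 fun y hy hyI => Set.disjoint_left.1 (hdisj j hj) (hspec _ hyI) hy
  · set Z : X.left.IdealSheafData := I ⊔ (Γs i).ι.ker
    set P := (U.2.primeIdealOf ⟨x, hx⟩).asIdeal
    have hZU : Z.ideal U = P := by
      rw [Scheme.IdealSheafData.ideal_sup, Pi.sup_apply, hIU, hsup]
    have hZV : ∀ y ∈ (Z.support : Set X.left), y = x := fun y hy => by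
      have hyI : y ∈ (I.support : Set X.left) := Scheme.IdealSheafData.support_antitone le_sup_left hy
      have h := (Groth.DivisorLength.mem_support_iff_le (hspec y hyI)).1 hy
      rw [hZU] at h
      have hP : P.IsMaximal := U.2.primeIdealOf_isMaximal_of_isClosed ⟨x, hx⟩ hxcl
      have h' := hP.eq_of_le (U.2.primeIdealOf ⟨y, hspec y hyI⟩).isPrime.ne_top h
      have := congrArg U.2.fromSpec (PrimeSpectrum.ext h')
      rw [U.2.fromSpec_primeIdealOf, U.2.fromSpec_primeIdealOf] at this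
      exact this.symm
    refine RedFibre.lengthH_zero_eq_one_of_isAlgClosed Z ?_
    -- the functions on the point
    have htop : Z.subschemeι ⁻¹ᵁ U.1 = ⊤ := by
      refine Opens.ext (Set.eq_univ_of_forall fun z => ?_)
      have : Z.subschemeι z ∈ (Z.support : Set X.left) := by
        rw [← Scheme.IdealSheafData.range_subschemeι]
        exact ⟨z, rfl⟩
      change Z.subschemeι z ∈ U.1
      rw [hZV _ this]
      exact hx
    have hfld : IsField (A ⧸ Z.ideal U) := by
      rw [hZU]
      exact (Ideal.Quotient.maximal_ideal_iff_isField_quotient P).1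
        (U.2.primeIdealOf_isMaximal_of_isClosed ⟨x, hx⟩ hxcl)
    have h4 : IsField Γ(Z.subscheme, Z.subschemeι ⁻¹ᵁ U.1) :=
      (Z.subschemeObjIso U).commRingCatIsoToRingEquiv.toMulEquiv.isField hfld
    unfold FieldChain.IsFieldSub
    rw [htop] at h4
    exact h4

/-- An invertible sheaf of degree one on one component and zero on the others. -/
theorem exists_invertible [IsAlgClosed kR] [IsProper X.hom] [Flat X.hom] [HenselianLocalRing R]
    (hreg : Models.IsRegularScheme X.left) (hH0 : Function.Bijective (Coh.toGlobal X.hom))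
    (hΓ : Models.IsComponentList R X Γs) (i : Fin n) :
    ∃ M : X.left.Modules, PicF.IsInvertible M ∧
      ∀ j, ArSurf.inter R X M (Γs j) = if j = i then 1 else 0 := by
  obtain ⟨I, hI, hgen, hdisj, hlen⟩ := exists_divisor hreg hH0 hΓ i
  obtain ⟨L, -, hL⟩ := Groth.PicAux.exists_isInverseOf (Groth.PicAux.isInvertible_idealMod hI)
  have hL' := Groth.PicAux.isInverseOf_symm hL
  refine ⟨L, (Groth.PicAux.isInvertible_left_of_isInverseOf hL').1, fun j => ?_⟩
  split_ifs with h
  · subst h
    rw [InterGen.inter_eq_lengthH (Γs j) hI (hgen j) hL', hlen, Nat.cast_one]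
  · exact ((InterGen.inter_nonneg_and_eq_zero_iff (Γs j) hI (hgen j) hL').2).2 (hdisj j h)

end Groth.ModelsGraphs.Transversal
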