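import Groth.Agent.ModelsGraphs.GenusFormula

/-!
# The numerical type of a regular model
-/

set_option autoImplicit false

universe u

open CategoryTheory CategoryTheory.Limits AlgebraicGeometry TopologicalSpace

namespace Groth.ModelsGraphs.NumType

open Groth.ModelsGraphs.InterPair Groth.ModelsGraphs.InterForm Groth.ModelsGraphs.Inter

/-- On an integral proper scheme over a field the degree of the field of constants divides the
dimension of every cohomology group. -/
theorem finrank_H0_dvd {k : Type u} [Field k] {Y : Scheme.{u}} [Y.Over (Spec (CommRingCat.of k))]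
    [IsIntegral Y] [IsProper (Y ↘ Spec (CommRingCat.of k))] :
    0 < Module.finrank k (Coh.HH Y (Coh.structureModule Y) 0) ∧
      ∀ (M : Y.Modules) (n : ℕ),
        Module.finrank k (Coh.HH Y (Coh.structureModule Y) 0) ∣ Module.finrank k (Coh.HH Y M n) := by
  let f := Y ↘ Spec (CommRingCat.of k)
  have hF : IsField Γ(Y, ⊤) := isField_of_universallyClosed k f
  haveI : Nontrivial Γ(Y, ⊤) := hF.nontrivial
  letI : Algebra k Γ(Y, ⊤) := (DVRFibre.gl f).toAlgebra
  let eS := Groth.CohFin.equivSections f (Coh.structureModule Y)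
  let sec : Coh.HH Y (Coh.structureModule Y) 0 ≃ₗ[k] Γ(Y, ⊤) :=
    { toFun := fun x => (eS x : Γ(Coh.structureModule Y, ⊤))
      invFun := fun s => eS.symm (s : Γ(Coh.structureModule Y, ⊤))
      left_inv := eS.symm_apply_apply
      right_inv := eS.apply_symm_apply
      map_add' := eS.map_add
      map_smul' := fun r x => Groth.CohFin.equivSections_smul f (Coh.structureModule Y) r x }
  haveI := Groth.EulerDeg.isNoetherian_of_proper k Y
  haveI : Module.Finite k Γ(Y, ⊤) :=
    haveI := Groth.EulerDeg.finite_HH k Y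
      (Groth.EulerDeg.isCoh_of_isInvertible (Groth.EulerDeg.isInvertible_structureModule Y)) 0
    Module.Finite.equiv sec
  refine ⟨by rw [sec.finrank_eq]; exact Module.finrank_pos, fun M n => ?_⟩
  letI : Module Γ(Y, ⊤) (Coh.HH Y M n) := inferInstanceAs (Module (Coh.Γtop Y) (Coh.HH Y M n))
  haveI : Module.Free Γ(Y, ⊤) (Coh.HH Y M n) := by
    letI := hF.toField
    exact Module.Free.of_divisionRing _ _
  haveI : IsScalarTower k Γ(Y, ⊤) (Coh.HH Y M n) :=
    IsScalarTower.of_algebraMap_smul fun _ _ => rfl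
  exact ⟨Module.finrank Γ(Y, ⊤) (Coh.HH Y M n), by
    rw [sec.finrank_eq, Module.finrank_mul_finrank k Γ(Y, ⊤) (Coh.HH Y M n)]⟩

variable {R : Type u} [CommRing R] [IsDomain R] [IsDiscreteValuationRing R]
  {X : Over (Spec (CommRingCat.of R))} [IsProper X.hom]

lemma wdeg_pos (Γ : ArSurf.VertComp R X) : 0 < Models.wdeg R X Γ := by
  haveI : IsProper (Γ.curve.left ↘ Spec (CommRingCat.of (IsLocalRing.ResidueField R))) := isProper_hom Γ
  haveI := Γ.isIntegral
  exact finrank_H0_dvd.1

lemma wdeg_dvd_h1 (Γ : ArSurf.VertComp R X) : Models.wdeg R X Γ ∣ Models.h1 R X Γ := by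
  haveI : IsProper (Γ.curve.left ↘ Spec (CommRingCat.of (IsLocalRing.ResidueField R))) := isProper_hom Γ
  haveI := Γ.isIntegral
  exact finrank_H0_dvd.2 _ 1

lemma wdeg_dvd_inter (Γ : ArSurf.VertComp R X) (L : X.left.Modules) :
    (Models.wdeg R X Γ : ℤ) ∣ ArSurf.inter R X L Γ := by
  haveI : IsProper (Γ.curve.left ↘ Spec (CommRingCat.of (IsLocalRing.ResidueField R))) := isProper_hom Γ
  haveI := Γ.isIntegral
  have h := fun M n => Int.natCast_dvd_natCast.2
    ((finrank_H0_dvd (k := IsLocalRing.ResidueField R) (Y := Γ.curve.left)).2 M n)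
  rw [inter_eq_deg, Models.wdeg]
  unfold Curv2.deg
  rw [Groth.EulerDeg.euler_eq_h0_sub_h1 _ _ (le_of_eq Γ.dim_eq),
    Groth.EulerDeg.euler_eq_h0_sub_h1 _ _ (le_of_eq Γ.dim_eq)]
  simp only [sub_sub, mul_sub, one_mul]
  refine ?_
  repeat' first
    | exact h _ _
    | apply dvd_sub
    | apply dvd_add
    | apply dvd_mul_of_dvd_right
    | exact dvd_neg.2 (h _ _)

variable {n : ℕ} {Γs : Fin n → ArSurf.VertComp R X} {L : Fin n → X.left.Modules}

theorem exists_numericalType [Flat X.hom] (hreg : Models.IsRegularScheme X.left)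
    (hΓ : Models.IsComponentList R X Γs)
    (hL : ∀ i, ClSub.IsInverseOf (L i) (ClSub.idealMod (Γs i).ι.ker))
    {C : Scheme.{u}} (f : C ⟶ Spec (CommRingCat.of (FractionRing R))) [IsProper f] [Nonempty C]
    (hdimC : topologicalKrullDim C ≤ 1) (hH0 : IsIso f.appTop) (g : C ⟶ X.left)
    (hg : IsPullback g f X.hom (Spec.map (CommRingCat.ofHom (algebraMap R (FractionRing R))))) :
    ∃ T : Models.NumericalType n,
      (∀ i, T.m i = (Models.mult R X (Γs i) : ℤ)) ∧
      (∀ i j, T.a i j = ArSurf.inter R X (L j) (Γs i)) ∧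
      (∀ i, T.w i = (Models.wdeg R X (Γs i) : ℤ)) ∧
      (∀ i, T.w i * T.g i = (Models.h1 R X (Γs i) : ℤ)) ∧
      T.genus = (Models.curveGenus (FractionRing R) C f : ℤ) := by
  haveI : IsLocallyNoetherian X.left := LocallyOfFiniteType.isLocallyNoetherian X.hom
  haveI : CompactSpace X.left := QuasiCompact.compactSpace_of_compactSpace X.hom
  have hgl : Function.Bijective (Coh.toGlobal X.hom) :=
    GlobalFun.toGlobal_bijective_of_appTop X.hom g f
      (haveI := hH0; ConcreteCategory.bijective_of_isIso _) hg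
  have hwg : ∀ i, (Models.wdeg R X (Γs i) : ℤ) * ((Models.h1 R X (Γs i) / Models.wdeg R X (Γs i) : ℕ) : ℤ) =
      (Models.h1 R X (Γs i) : ℤ) := fun i => by
    rw [← Nat.cast_mul, Nat.mul_div_cancel' (wdeg_dvd_h1 (Γs i))]
  have hpos : 0 < n := by
    obtain ⟨c⟩ := ‹Nonempty C›
    obtain ⟨z, hz⟩ : IsLocalRing.closedPoint R ∈ Set.range X.hom :=
      (IsLocalRing.specializes_closedPoint _).mem_closed X.hom.isClosedMap.isClosed_range ⟨g c, rfl⟩
    obtain ⟨i, -⟩ := exists_specializes hΓ (show z ∈ Models.specialFibreSet R X from hz)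
    exact Fin.pos i
  let T : Models.NumericalType n :=
    { m := fun i => (Models.mult R X (Γs i) : ℤ)
      a := fun i j => ArSurf.inter R X (L j) (Γs i)
      w := fun i => (Models.wdeg R X (Γs i) : ℤ)
      g := fun i => ((Models.h1 R X (Γs i) / Models.wdeg R X (Γs i) : ℕ) : ℤ)
      pos := hpos
      m_pos := fun i => Int.natCast_pos.2 (mult_pos hreg (range_mem hΓ i))
      w_pos := fun i => Int.natCast_pos.2 (wdeg_pos (Γs i))
      g_nonneg := fun i => Nat.cast_nonneg _
      symm := Matrix.IsSymm.ext fun i j => InterForm.inter_symm hreg hΓ hL j i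
      offDiag_nonneg := fun i j h => (InterForm.inter_nonneg_and_eq_zero_iff hreg hΓ hL h).1
      connected := InterForm.inter_connected hreg hΓ hL hgl
      mulVec_m := by
        funext i
        change ∑ j, ArSurf.inter R X (L j) (Γs i) * (Models.mult R X (Γs j) : ℤ) = 0
        rw [← InterForm.sum_mult_mul_inter hreg hΓ hL i]
        exact Finset.sum_congr rfl fun j _ => by rw [InterForm.inter_symm hreg hΓ hL i j, mul_comm]
      w_dvd := fun i j => wdeg_dvd_inter (Γs i) (L j) }
  refine ⟨T, fun _ => rfl, fun _ _ => rfl, fun _ => rfl, hwg, ?_⟩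
  have h := GenusFormula.genus_formula hreg hΓ hL f hdimC hH0 g hg
  change 1 + (∑ i, (Models.mult R X (Γs i) : ℤ) * (Models.wdeg R X (Γs i) : ℤ) *
    (((Models.h1 R X (Γs i) / Models.wdeg R X (Γs i) : ℕ) : ℤ) - 1)) -
    (∑ i, (Models.mult R X (Γs i) : ℤ) * ArSurf.inter R X (L i) (Γs i)) / 2 = _
  set S := ∑ i, (Models.mult R X (Γs i) : ℤ) * (Models.wdeg R X (Γs i) : ℤ) *
    (((Models.h1 R X (Γs i) / Models.wdeg R X (Γs i) : ℕ) : ℤ) - 1)
  set Q := ∑ i, (Models.mult R X (Γs i) : ℤ) * ArSurf.inter R X (L i) (Γs i)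
  have h2 : 2 * (Models.curveGenus (FractionRing R) C f : ℤ) = 2 + 2 * S - Q := by
    rw [h, Finset.mul_sum, add_sub_assoc, ← Finset.sum_sub_distrib]
    refine congrArg _ (Finset.sum_congr rfl fun i _ => ?_)
    rw [← hwg i]
    ring
  omega

end Groth.ModelsGraphs.NumType
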