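import Groth.Agent.CohTwo.AdicCartesian
import Groth.Agent.CohC3.ExtendZero
import Groth.Agent.CohC3.ExistenceProper
import Groth.Agent.FormalAlg.Sections
import Groth.Agent.S7864
import Groth.Agent.LocFree.Basic
import Groth.Agent.Abvar.PicCalc
import Groth.Agent.Inter.Twist

/-!
# Algebraization of compatible invertible modules on the thickenings of a proper scheme
-/

set_option autoImplicit false
set_option backward.isDefEq.respectTransparency.types false

universe u

open CategoryTheory Limits AlgebraicGeometry Opposite TopologicalSpace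

noncomputable section

namespace Groth.ModelsGraphs.InvAlg

variable {A : Type u} [CommRing A] (I : Ideal A) (X : Scheme.{u}) [X.Over (Spec (CommRingCat.of A))]

/-- The levels. -/
abbrev lvl (n : ℕ) : Scheme.{u} := CohB1.thick (X ↘ Spec (CommRingCat.of A)) I n

/-- The inclusions of the levels. -/
abbrev inc (n : ℕ) : lvl I X n ⟶ X := CohB1.thickι (X ↘ Spec (CommRingCat.of A)) I n

/-- The transitions. -/
abbrev tr (n : ℕ) : lvl I X n ⟶ lvl I X (n + 1) := CohB1.thickTrans (X ↘ Spec (CommRingCat.of A)) I n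

instance overLvl (n : ℕ) : (lvl I X n).Over (Spec (CommRingCat.of A)) :=
  ⟨CohB1.thickToBase _ I n ≫ CohB1.specQuot I n⟩

theorem inc_over (n : ℕ) :
    inc I X n ≫ (X ↘ Spec (CommRingCat.of A)) = lvl I X n ↘ Spec (CommRingCat.of A) :=
  pullback.condition

theorem cart (n : ℕ) : IsPullback (tr I X n) (CohB1.thickToBase _ I n)
    (CohB1.thickToBase _ I (n + 1)) (CohB1.specQuotTrans I n) := by
  haveI : IsClosedImmersion (CohB1.specQuot I (n + 1)) :=
    IsClosedImmersion.spec_of_surjective _ Ideal.Quotient.mk_surjective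
  have h := Groth.FormalAlg.isPullback_thickTrans (X ↘ Spec (CommRingCat.of A)) I n
  have hw : tr I X n ≫ CohB1.thickToBase _ I (n + 1) = CohB1.thickToBase _ I n ≫ CohB1.specQuotTrans I n := by
    exact pullback.lift_snd _ _ _
  refine ⟨⟨hw⟩, ⟨PullbackCone.IsLimit.mk _
    (fun s => h.lift s.fst s.snd (by
      rw [inc_over]
      change s.fst ≫ CohB1.thickToBase _ I (n + 1) ≫ CohB1.specQuot I (n + 1) = _
      rw [reassoc_of% s.condition, CohB1.specQuotTrans_specQuot]))
    (fun s => h.lift_fst _ _ _) (fun s => h.lift_snd _ _ _)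
    (fun s r h1 h2 => h.hom_ext (by rw [h.lift_fst]; exact h1) (by rw [h.lift_snd]; exact h2))⟩⟩

theorem ker_inc (n : ℕ) :
    (inc I X n).ker = ((FSch.idealSpec A I).comap (X ↘ Spec (CommRingCat.of A))) ^ (n + 1) := by
  haveI : IsClosedImmersion (CohB1.specQuot I n) :=
    IsClosedImmersion.spec_of_surjective _ Ideal.Quotient.mk_surjective
  change Scheme.Hom.ker (pullback.fst (X ↘ Spec (CommRingCat.of A)) (CohB1.specQuot I n)) = _
  rw [Groth.AdicLinTop.Thickenings.ker_eq_comap_of_isPullback (IsPullback.of_hasPullback _ _)]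
  change (FSch.idealSpec A (I ^ (n + 1))).comap _ = _
  rw [Groth.AdicLinTop.Thickenings.idealSpec_pow, Groth.Divisors.comap_pow]

theorem ker_inc_le (n : ℕ) (U : X.affineOpens) :
    (inc I X n).ker.ideal U ≤ (I ^ (n + 1)).map (Groth.CohC3.baseApp X U.1) := by
  haveI : IsClosedImmersion (CohB1.specQuot I n) :=
    IsClosedImmersion.spec_of_surjective _ Ideal.Quotient.mk_surjective
  change (Scheme.Hom.ker (pullback.fst (X ↘ Spec (CommRingCat.of A)) (CohB1.specQuot I n))).ideal U ≤ _
  rw [Groth.AdicLinTop.Thickenings.ker_eq_comap_of_isPullback (IsPullback.of_hasPullback _ _)]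
  change ((FSch.idealSpec A (I ^ (n + 1))).comap _).ideal U ≤ _
  rw [Groth.Divisors.ideal_comap_affine _ _ ⟨⊤, isAffineOpen_top _⟩ U le_top,
    Groth.AdicLinTop.Thickenings.idealSpec_ideal_top, Ideal.map_map]
  exact le_of_eq rfl

variable [IsNoetherianRing A]

/-- A compatible family of coherent modules on the levels is a coherent formal module. -/
theorem exists_system [IsLocallyNoetherian X] (L : ∀ n, (lvl I X n).Modules)
    (hL : ∀ n, Coh.IsCoh (L n))
    (hLt : ∀ n, Nonempty ((Scheme.Modules.pullback (tr I X n)).obj (L (n + 1)) ≅ L n)) :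
    ∃ G : ℕᵒᵖ ⥤ X.Modules, Formal.IsCohFormal I G ∧
      ∀ n, Nonempty (G.obj (op n) ≅ (Scheme.Modules.pushforward (inc I X n)).obj (L n)) := by
  let S := Groth.CohTwo.AdicSch.ofCartesian I (lvl I X) (fun n => CohB1.thickToBase _ I n) (tr I X) (cart I X)
  let M := Groth.CohTwo.AdicMod.ofIso S L (fun n => (hL n).1) hLt
  let step : ∀ n, (Scheme.Modules.pushforward (inc I X (n + 1))).obj (L (n + 1)) ⟶
      (Scheme.Modules.pushforward (inc I X n)).obj (L n) := fun n =>
    (Scheme.Modules.pushforward (inc I X (n + 1))).map (M.q n) ≫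
      (Scheme.Modules.pushforwardComp (tr I X n) (inc I X (n + 1))).hom.app (L n) ≫
      (Scheme.Modules.pushforwardCongr (Groth.FormalAlg.thickTrans_ι _ I n)).hom.app (L n)
  let G : ℕᵒᵖ ⥤ X.Modules := Functor.ofOpSequence (X := fun n => (Scheme.Modules.pushforward (inc I X n)).obj (L n)) step
  refine ⟨G, ⟨fun n => Groth.CohC3.isCoh_pushforward (inc_over I X n) (hL n), fun n => ?_, fun n => ?_⟩,
    fun n => ⟨Iso.refl _⟩⟩
  · exact Groth.CohTwo.killedBy_pushforward _ (inc_over I X n) (M.killed n)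
  · haveI : (L (n + 1)).IsQuasicoherent := (hL (n + 1)).1
    have h1 := Groth.CohC3.isQuot_pushforward (M := L (n + 1)) (p := M.q n) (inc_over I X (n + 1)) (M.isQuot n) fun y => by
      obtain ⟨U, hU, hy⟩ := Groth.QCohMod.exists_affine_mem y
      exact ⟨U, hU, hy, Or.inl (hU.preimage _)⟩
    let ε := (Scheme.Modules.pushforwardComp (tr I X n) (inc I X (n + 1))).app (L n) ≪≫
      (Scheme.Modules.pushforwardCongr (Groth.FormalAlg.thickTrans_ι _ I n)).app (L n)
    have h2 := h1.comp_iso ε.hom
    have e : G.map (homOfLE (Nat.le_succ n)).op = step n := Functor.ofOpSequence_map_homOfLE_succ (X := fun n => (Scheme.Modules.pushforward (inc I X n)).obj (L n)) step n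
    rw [e]
    exact h2.isIso_desc

variable [IsAdicComplete I A] [IsProper (X ↘ Spec (CommRingCat.of A))]

theorem isInvertible_of_levels {M : X.Modules} (hM : Coh.IsCoh M)
    (h : ∀ n, PicF.IsInvertible ((Scheme.Modules.pullback (inc I X n)).obj M)) :
    PicF.IsInvertible M := by
  refine Groth.LocFree.isInvertible_iff_ofRank_one.2
    (Groth.Agent.S7864.result A I X (X ↘ Spec (CommRingCat.of A)) M hM 1 fun n => ?_)
  let J := (FSch.idealSpec A I).comap (X ↘ Spec (CommRingCat.of A))
  have hker : (inc I X n).ker = J ^ (n + 1) := ker_inc I X n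
  let g := IsClosedImmersion.lift (inc I X n) (J ^ (n + 1)).subschemeι
    (by rw [hker, Scheme.IdealSheafData.ker_subschemeι])
  refine Groth.LocFree.isInvertible_iff_ofRank_one.1 (Groth.Abvar.PicCalc.isInvertible_of_iso
    (Groth.PicAux.isInvertible_pullback g (h n)) ?_)
  exact (Scheme.Modules.pullbackComp g (inc I X n)).app M ≪≫
    (Scheme.Modules.pullbackCongr (IsClosedImmersion.lift_fac _ _ _)).app M

/-- Compatible invertible modules on the levels come from an invertible module. -/
theorem exists_invertible (L : ∀ n, (lvl I X n).Modules) (hL : ∀ n, PicF.IsInvertible (L n))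
    (hLt : ∀ n, Nonempty ((Scheme.Modules.pullback (tr I X n)).obj (L (n + 1)) ≅ L n)) :
    ∃ M : X.Modules, PicF.IsInvertible M ∧
      ∀ n, Nonempty ((Scheme.Modules.pullback (inc I X n)).obj M ≅ L n) := by
  haveI : IsLocallyNoetherian X := LocallyOfFiniteType.isLocallyNoetherian (X ↘ Spec (CommRingCat.of A))
  have hc : ∀ n, Coh.IsCoh (L n) := fun n => Groth.Inter.isCoh_of_isInvertible (hL n)
  obtain ⟨G, hG, hGe⟩ := exists_system I X L hc hLt
  obtain ⟨M, hM, ⟨e⟩⟩ := Groth.CohC3.algebraizes_proper (I := I) X G hG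
  have hlev : ∀ n, Nonempty ((Scheme.Modules.pullback (inc I X n)).obj M ≅ L n) := fun n => by
    obtain ⟨eG⟩ := hGe n
    let p := Formal.modPowπ I (n + 1) M ≫ (e.app (op n) ≪≫ eG).hom
    have hp : Groth.CohC3.IsQuot (I ^ (n + 1)) p :=
      (Groth.CohC3.isQuot_modPowπ I (n + 1) M).comp_iso _
    have hq := hp.map_adj (Scheme.Modules.pullbackPushforwardAdjunction (inc I X n)) (inc_over I X n)
    haveI := hq.isIso_of_killedBy (Groth.CohTwo.killedBy_of_toGlobal _ fun a ha =>
      Groth.CohTwo.toGlobal_eq_zero_of_factor (f := CohB1.thickToBase _ I n) rfl ha)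
    haveI := (hc n).1
    haveI := Groth.QCohMod.isIso_counit_closedImmersion (i := inc I X n) (L n)
    exact ⟨asIso ((Scheme.Modules.pullback (inc I X n)).map p) ≪≫
      asIso ((Scheme.Modules.pullbackPushforwardAdjunction (inc I X n)).counit.app (L n))⟩
  refine ⟨M, isInvertible_of_levels I X hM fun n => ?_, hlev⟩
  obtain ⟨en⟩ := hlev n
  exact Groth.Abvar.PicCalc.isInvertible_of_iso (hL n) en.symm

omit [IsNoetherianRing A] [IsAdicComplete I A] in
/-- The closed points lie on every level. -/
theorem exists_inc_eq (hJ : I ≤ Ideal.jacobson ⊥) {x : X} (hx : IsClosed ({x} : Set X)) (n : ℕ) :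
    ∃ z, inc I X n z = x := by
  have hcl : IsClosed ({(X ↘ Spec (CommRingCat.of A)) x} : Set (Spec (CommRingCat.of A))) := by
    rw [← Set.image_singleton]
    exact (X ↘ Spec (CommRingCat.of A)).isClosedMap _ hx
  have hmax : ((X ↘ Spec (CommRingCat.of A)) x : PrimeSpectrum A).asIdeal.IsMaximal :=
    (PrimeSpectrum.isClosed_singleton_iff_isMaximal _).1 hcl
  have hI : I ≤ ((X ↘ Spec (CommRingCat.of A)) x : PrimeSpectrum A).asIdeal :=
    hJ.trans (sInf_le ⟨bot_le, hmax⟩)
  show x ∈ Set.range (pullback.fst (X ↘ Spec (CommRingCat.of A)) (CohB1.specQuot I n))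
  rw [Scheme.Pullback.range_fst]
  change (X ↘ Spec (CommRingCat.of A)) x ∈ Set.range (PrimeSpectrum.comap (Ideal.Quotient.mk (I ^ (n + 1))))
  rw [range_comap_of_surjective _ _ Ideal.Quotient.mk_surjective, Ideal.mk_ker]
  exact (Ideal.pow_le_self n.succ_ne_zero).trans hI

omit [IsAdicComplete I A] in
/-- An invertible module trivial on all levels is trivial; the base need not be complete. -/
theorem nonempty_iso_structure_of_le_jacobson (hJ : I ≤ Ideal.jacobson ⊥) {L : X.Modules}
    (hL : PicF.IsInvertible L)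
    (h : ∀ n, Nonempty ((Scheme.Modules.pullback (inc I X n)).obj L ≅ Coh.structureModule (lvl I X n))) :
    Nonempty (L ≅ Coh.structureModule X) := by
  haveI := Groth.CohC3.isNoetherian_of_proper A X
  have hc := Groth.Inter.isCoh_of_isInvertible hL
  haveI := hc.1
  obtain ⟨m, hm, hcok⟩ := (Groth.CohC3.proBij I hc (fun p => Groth.CohC3.finite_HH_of_proper A X hc p) 0).coker 1
  obtain ⟨k, rfl⟩ : ∃ k, m = k + 1 := ⟨m - 1, by omega⟩
  obtain ⟨e⟩ := h k
  -- the generator on level `k`
  let g := e.inv.app ⊤ (Groth.PicAux.oneSec (lvl I X k) ⊤)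
  have hg : Groth.PicAux.Gen _ ⊤ g := (Groth.PicAux.gen_oneSec ⊤).map e.inv
  have hη : Groth.CohC3.IsQuot (I ^ (k + 1))
      ((Scheme.Modules.pullbackPushforwardAdjunction (inc I X k)).unit.app L) := by
    haveI : IsClosedImmersion (inc I X k) := inferInstance
    refine Groth.CohTwo.isQuot_unit (inc I X k) (inc_over I X k) (fun a ha =>
      Groth.CohTwo.toGlobal_eq_zero_of_factor (f := CohB1.thickToBase _ I k) rfl ha) (fun U => ?_) L
    exact ker_inc_le I X k U
  obtain ⟨w, hw⟩ := hη.isIso_desc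
  let c := cokernel.desc (Formal.smulFamily (I ^ (k + 1)) L) _ w
  haveI : IsIso c := hw
  let y : Γ(Formal.modPow I (k + 1) L, ⊤) := (inv c).app ⊤ g
  obtain ⟨x, hx⟩ := hcok ((Groth.CohC3.secEquiv₀ _).symm y)
  let s := Groth.CohC3.secEquiv₀ L x
  have hs : (Formal.modPowπ I 1 L).app ⊤ s =
      (Groth.CohC3.qTr L (Ideal.pow_le_pow_right hm)).app ⊤ y := by
    have h2 := congrArg (Groth.CohC3.secEquiv₀ _) hx
    rwa [Groth.CohC3.secEquiv₀_hmap, Groth.CohC3.secEquiv₀_hmap, AddEquiv.apply_symm_apply] at h2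
  -- it generates at the closed points
  have hgen : ∀ x : X, IsClosed ({x} : Set X) →
      x ∈ CohB1.genLocus L (Groth.PicAux.homOfSection s) := by
    intro x hxc
    obtain ⟨z, hz⟩ := exists_inc_eq I X hJ hxc k
    obtain ⟨U, e₀, hU, hxU, he₀⟩ := Groth.PicAux.exists_affine_gen_mem hL x
    obtain ⟨t, ht⟩ := (Groth.CohC3.isQuot_modPowπ I (k + 1) L).app_surjective hU
      (Groth.PicAux.res _ (le_top : U ≤ ⊤) y)
    obtain ⟨a, ha⟩ := he₀.exists_coeff le_rfl (Groth.PicAux.res L (le_top : U ≤ ⊤) s)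
    obtain ⟨b, hb⟩ := he₀.exists_coeff le_rfl t
    rw [Groth.PicAux.res_self] at ha hb
    -- the difference of the coefficients vanishes on the zeroth level
    have h0 : (Formal.modPowπ I 1 L).app U ((a - b) • e₀) = 0 := by
      rw [sub_smul, ← ha, ← hb, map_sub, Groth.PicAux.app_res, hs, ← Groth.CohC3.modPowπ_qTr L
        (Ideal.pow_le_pow_right hm), Scheme.Modules.Hom.comp_app, ← Groth.PicAux.app_res]
      exact sub_eq_zero.2 (congrArg ((Groth.CohC3.qTr L (Ideal.pow_le_pow_right hm)).app U) ht).symm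
    have h1 := ((Groth.CohC3.isQuot_modPowπ I 1 L).app_eq_zero_iff _ hU).1 h0
    have hab : a - b ∈ (I ^ 1).map (Groth.CohC3.baseApp X U) := by
      refine Submodule.smul_induction_on (p := fun v => ∀ r, v = r • e₀ →
        r ∈ (I ^ 1).map (Groth.CohC3.baseApp X U)) h1 (fun r hr v _ r' hv => ?_)
        (fun v v' hv hv' r' hr' => ?_) _ rfl
      · obtain ⟨d, hd⟩ := he₀.exists_coeff le_rfl v
        rw [Groth.PicAux.res_self] at hd
        rw [hd, smul_smul] at hv
        have := he₀.smul_inj le_rfl (by simpa only [Groth.PicAux.res_self] using hv)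
        exact this ▸ Ideal.mul_mem_right _ _ hr
      · obtain ⟨d, hd⟩ := he₀.exists_coeff le_rfl v
        obtain ⟨d', hd'⟩ := he₀.exists_coeff le_rfl v'
        rw [Groth.PicAux.res_self] at hd hd'
        have e2 : d + d' = r' := he₀.smul_inj le_rfl (by
          simp only [Groth.PicAux.res_self]
          rw [add_smul, ← hd, ← hd', hr'])
        exact e2 ▸ Ideal.add_mem _ (hv d hd) (hv' d' hd')
    -- `b` does not vanish at `x`
    have hbx : x ∈ X.basicOpen b := by
      have h2 : c.app U (Groth.PicAux.res _ (le_top : U ≤ ⊤) y) =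
          Groth.PicAux.pullSec (inc I X k) L t := by
        exact (congrArg (c.app U) ht.symm).trans
          congr(($(cokernel.π_desc (Formal.smulFamily (I ^ (k + 1)) L) _ w)).app U t)
      have h3 : c.app U (Groth.PicAux.res _ (le_top : U ≤ ⊤) y) =
          Groth.PicAux.res _ (le_top : inc I X k ⁻¹ᵁ U ≤ ⊤) g := by
        rw [Groth.PicAux.app_res]
        have : c.app ⊤ y = g := congr(($(IsIso.inv_hom_id c)).app ⊤ g)
        rw [this]
        rfl
      have h4 : Groth.PicAux.res _ (le_top : inc I X k ⁻¹ᵁ U ≤ ⊤) g =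
          (inc I X k).app U b • Groth.PicAux.pullSec (inc I X k) L e₀ := by
        rw [← h3, h2, ← Groth.PicAux.pullSec_smul, hb]
      have hgU := hg.res (le_top : inc I X k ⁻¹ᵁ U ≤ ⊤)
      obtain ⟨r, hr⟩ := hgU.exists_coeff le_rfl (Groth.PicAux.pullSec (inc I X k) L e₀)
      rw [Groth.PicAux.res_self] at hr
      have h5 : IsUnit ((inc I X k).app U b) := by
        refine IsUnit.of_mul_eq_one r ((he₀.pull (inc I X k)).smul_inj le_rfl ?_)
        simp only [Groth.PicAux.res_self, one_smul]
        rw [mul_comm, mul_smul, ← h4, ← hr]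
      have h6 : z ∈ inc I X k ⁻¹ᵁ X.basicOpen b := by
        rw [Scheme.preimage_basicOpen, Scheme.basicOpen_of_isUnit _ h5]
        show inc I X k z ∈ U
        rwa [hz]
      exact hz ▸ h6
    -- hence neither does `a`
    have hz0 : ∀ r ∈ (I ^ 1).map (Groth.CohC3.baseApp X U), x ∉ X.basicOpen r := by
      intro r hr
      induction hr using Submodule.span_induction with
      | mem v hv =>
        obtain ⟨d, hd, rfl⟩ := hv
        rw [pow_one] at hd
        intro hxd
        have hxU' : x ∈ U := X.basicOpen_le _ hxd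
        have hxd2 : x ∈ X.basicOpen (Groth.CohC3.baseApp X U (d ^ (k + 1))) := by
          rw [Scheme.mem_basicOpen _ _ _ hxU', map_pow, map_pow]
          exact ((Scheme.mem_basicOpen _ _ _ hxU').1 hxd).pow _
        have hxd' : z ∈ inc I X k ⁻¹ᵁ X.basicOpen (Groth.CohC3.baseApp X U (d ^ (k + 1))) := by
          show inc I X k z ∈ X.basicOpen (Groth.CohC3.baseApp X U (d ^ (k + 1)))
          rw [hz]
          exact hxd2
        rw [Scheme.preimage_basicOpen, show (inc I X k).app U (Groth.CohC3.baseApp X U (d ^ (k + 1))) = _ from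
          (Groth.CohC3.baseApp_preimage (inc_over I X k) U (d ^ (k + 1)))] at hxd'
        have e3 : Groth.CohC3.baseApp (lvl I X k) (inc I X k ⁻¹ᵁ U) (d ^ (k + 1)) = 0 :=
          (congrArg (Coh.resTop _ (op _)) (Groth.CohTwo.toGlobal_eq_zero_of_factor
            (f := CohB1.thickToBase _ I k) rfl (Ideal.pow_mem_pow hd _))).trans (map_zero _)
        rw [e3, Scheme.basicOpen_zero] at hxd'
        exact hxd'
      | zero => rw [Scheme.basicOpen_zero]; exact id
      | add r r' _ _ hr hr' =>
        intro hxd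
        rcases (Scheme.basicOpen_add_le _ _ _ hxd : x ∈ X.basicOpen r ⊔ X.basicOpen r') with h | h
        exacts [hr h, hr' h]
      | smul r r' _ hr =>
        intro hxd
        rw [smul_eq_mul, Scheme.basicOpen_mul] at hxd
        exact hr hxd.2
    have hax : x ∈ X.basicOpen a := by
      have : x ∈ X.basicOpen (a + (b - a)) := by rwa [add_sub_cancel]
      rcases (Scheme.basicOpen_add_le _ _ _ this : x ∈ X.basicOpen a ⊔ X.basicOpen (b - a)) with h | h
      · exact h
      · exact absurd h (hz0 _ (neg_sub a b ▸ neg_mem hab))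
    have hga : CohB1.genLocus L (Groth.PicAux.homOfSection s) ⊓ U = X.basicOpen a :=
      Groth.PicAux.genLocus_inf_eq_basicOpen he₀ (by rw [Groth.PicAux.gsec_homOfSection]; exact ha)
    exact (hga ▸ hax : x ∈ CohB1.genLocus L (Groth.PicAux.homOfSection s) ⊓ U).1
  refine Groth.PicAux.nonempty_iso_structure_iff.2 ⟨s, ?_⟩
  have htop : ⊤ ≤ CohB1.genLocus L (Groth.PicAux.homOfSection s) := by
    intro y _
    obtain ⟨x, hxy, hx⟩ := (isClosed_closure (s := ({y} : Set X))).exists_closed_singleton
      ⟨y, subset_closure rfl⟩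
    exact (specializes_iff_mem_closure.2 hxy).mem_open (Opens.isOpen _) (hgen x hx)
  have h7 := (Groth.PicAux.le_genLocus_iff _ _).1 htop
  rwa [Groth.PicAux.gsec_homOfSection, Groth.PicAux.res_self] at h7

/-- An invertible module trivial on all levels is trivial. -/
theorem nonempty_iso_structure {L : X.Modules} (hL : PicF.IsInvertible L)
    (h : ∀ n, Nonempty ((Scheme.Modules.pullback (inc I X n)).obj L ≅ Coh.structureModule (lvl I X n))) :
    Nonempty (L ≅ Coh.structureModule X) :=
  nonempty_iso_structure_of_le_jacobson I X (IsAdicComplete.le_jacobson_bot I) hL h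

end Groth.ModelsGraphs.InvAlg
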