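import Groth.Agent.ModelsGraphs.AffineDefs

/-! From test configurations with non-negative form to standard forms. -/

namespace Groth.ModelsGraphs

open Finset Matrix Models

variable {n : ℕ} {T : NumericalType n} {p : ℕ → Fin n}

theorem aa_of_nA {i j : Fin n} {c : ℤ} (hne : i ≠ j) (hc : 1 ≤ c) (h : nA T i j = Real.sqrt c) :
    T.a i j * T.a i j = c * (T.w i * T.w j) ∧ 0 < T.a i j := by
  have hc1 : (1 : ℝ) ≤ c := by exact_mod_cast hc
  have h2 : nA T i j ^ 2 = (c : ℝ) := by rw [h, Real.sq_sqrt (by linarith)]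
  rw [nA_sq, div_eq_iff (mul_pos (by exact_mod_cast T.w_pos i) (by exact_mod_cast T.w_pos j)).ne', sq] at h2
  have h3 : T.a i j * T.a i j = c * (T.w i * T.w j) := by exact_mod_cast h2
  refine ⟨h3, lt_of_le_of_ne (T.offDiag_nonneg i j hne) fun e => ?_⟩
  rw [← e, mul_zero] at h3
  have := mul_pos (T.w_pos i) (T.w_pos j)
  nlinarith

theorem simple_of_nA {i j : Fin n} (hne : i ≠ j) (h : nA T i j = 1) : Simple T i j := by
  obtain ⟨h1, h2⟩ := aa_of_nA (c := 1) hne le_rfl (by simpa using h)
  obtain ⟨h3, h4⟩ := w_le_of_pos T h2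
  have := T.w_pos i
  have := T.w_pos j
  constructor <;> nlinarith

theorem dbl_of_nA {i j : Fin n} (hne : i ≠ j) (h : nA T i j = Real.sqrt 2) :
    (T.a i j = 2 * T.w i ∧ T.w j = 2 * T.w i) ∨ (T.a i j = 2 * T.w j ∧ T.w i = 2 * T.w j) := by
  obtain ⟨h1, h2⟩ := aa_of_nA (c := 2) hne (by norm_num) (by simpa using h)
  obtain ⟨p, q, hp, hq, ha, ha', haa⟩ := exists_pq T h2
  have hpq : p * q = 2 := mul_right_cancel₀ (mul_pos (T.w_pos i) (T.w_pos j)).ne' (haa.symm.trans h1)
  have : p ≤ 2 := by nlinarith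
  have : q ≤ 2 := by nlinarith
  interval_cases p <;> interval_cases q <;> omega

theorem m_eq_of_nu {i j : Fin n} (hw : T.w i = T.w j) (h : nu T i = nu T j) : T.m i = T.m j := by
  rw [nu, nu, sw, sw, hw] at h
  have := mul_right_cancel₀ (Real.sqrt_pos.2 (by exact_mod_cast T.w_pos j)).ne' h
  exact_mod_cast this

/-- The row of an index with a single neighbour. -/
theorem row_one {i x : Fin n} (hi : T.IsMinusTwo i) (hx : x ≠ i) (h : ∀ j, j ≠ i → j ≠ x → T.a i j = 0) :
    T.a i x * T.m x = 2 * T.w i * T.m i := by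
  have := row_split T i
  rw [sum_eq_single x (fun j hj hjx => by rw [h j (mem_erase.1 hj).1 hjx, zero_mul])
    (fun hh => absurd (mem_erase.2 ⟨hx, mem_univ x⟩) hh), hi.2] at this
  linarith

theorem endsEmb_card {k : ℕ} {α β : Type*} [Fintype α] [Fintype β] (v : Fin (k + 1) ⊕ (α ⊕ β) ↪ Fin n)
    (h : Function.Surjective v) : n = k + 1 + (Fintype.card α + Fintype.card β) := by
  have h1 := Fintype.card_le_of_surjective _ h
  have h2 := Fintype.card_le_of_embedding v
  simp only [Fintype.card_fin, Fintype.card_sum] at h1 h2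
  omega

/-- Two double edges at the ends of a path. -/
theorem dd_data {k : ℕ} (hp : IsPath T p (k + 1)) {x z : Fin n} (hxz : x ≠ z) (hx : ∀ i ≤ k, x ≠ p i)
    (hz : ∀ i ≤ k, z ≠ p i) (h2x : T.IsMinusTwo x) (h2z : T.IsMinusTwo z)
    (hbx : Big T (p 0) x) (hbz : Big T (p k) z) : IsAffine T := by
  have hs2 : (0 : ℝ) < Real.sqrt 2 := Real.sqrt_pos.2 two_pos
  let v := endsEmb hp.inj (fun _ : Fin 1 => x) (fun _ : Fin 1 => z) (fun a b _ => Subsingleton.elim a b)
    (fun a b _ => Subsingleton.elim a b) (fun _ _ => hxz) (fun _ => hx) (fun _ => hz)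
  obtain ⟨hs, ⟨q, hq0, hq, -, -⟩, he, hea, heb, z1, z2, z3, z4⟩ := ends_test T v
    (by rintro (i | a | b); exacts [hp.two i i.2, h2x, h2z]) (fun i => hp.adj i (by omega))
    (fun _ => Real.sqrt 2) (fun _ => Real.sqrt 2) (fun _ => Real.sqrt 2) (fun _ => Real.sqrt 2)
    (fun _ => hs2) (fun _ => hs2) ending_double.1 ending_double.2 ending_double.1 ending_double.2
    (fun _ => hbx.le_nA) (fun _ => hbz.le_nA)
  have hn : n = k + 3 := by have := endsEmb_card v hs; simp only [Fintype.card_fin] at this; omega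
  have hsimp : ∀ i < k, Simple T (p i) (p (i + 1)) := fun i hi =>
    simple_of_nA (ne_of_path T hp (by omega) (by omega) (by omega)) (he ⟨i, hi⟩)
  have hw0 : ∀ i ≤ k, T.w (p i) = T.w (p 0) := fun i hi =>
    w_const (t := k + 2) (fun j hj => hsimp j (by omega)) i (by omega)
  have hm0 : ∀ i ≤ k, T.m (p i) = T.m (p 0) := fun i hi =>
    m_eq_of_nu (hw0 i hi) ((hq ⟨i, by omega⟩).trans (hq 0).symm)
  have zx : ∀ i ≤ k, i ≠ 0 → T.a (p i) x = 0 := fun i hi hi0 =>
    z2 0 ⟨i, by omega⟩ (fun e => hi0 (by simpa using congrArg Fin.val e))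
  have zz : ∀ i ≤ k, i ≠ k → T.a (p i) z = 0 := fun i hi hik =>
    z3 0 ⟨i, by omega⟩ (fun e => hik (by simpa using congrArg Fin.val e))
  have zxz : T.a x z = 0 := z4 (.inl 0) (.inr 0) (by simp)
  have zp : ∀ i j, i + 1 < j → j ≤ k → T.a (p i) (p j) = 0 := fun i j hij hj =>
    z1 ⟨i, by omega⟩ ⟨j, by omega⟩ hij
  have cases' : ∀ y, (∃ i ≤ k, y = p i) ∨ y = x ∨ y = z := fun y => by
    obtain ⟨(i | a | b), rfl⟩ := hs y
    exacts [Or.inl ⟨i, Nat.lt_succ_iff.1 i.2, rfl⟩, Or.inr (Or.inl rfl), Or.inr (Or.inr rfl)]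
  have rx := row_one h2x (x := p 0) (hx 0 (Nat.zero_le k)).symm fun j hj hj0 => by
    rcases cases' j with ⟨i, hi, rfl⟩ | rfl | rfl
    · rw [a_comm]; exact zx i hi (fun e => hj0 (by rw [e]))
    · exact absurd rfl hj
    · exact zxz
  have rz := row_one h2z (x := p k) (hz k le_rfl).symm fun j hj hj0 => by
    rcases cases' j with ⟨i, hi, rfl⟩ | rfl | rfl
    · rw [a_comm]; exact zz i hi (fun e => hj0 (by rw [e]))
    · rw [a_comm]; exact zxz
    · exact absurd rfl hj
  rw [a_comm T x (p 0)] at rx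
  rw [a_comm T z (p k), hm0 k le_rfl] at rz
  have dx := dbl_of_nA (i := p 0) (j := x) (hx 0 (Nat.zero_le k)).symm (hea 0)
  have dz := dbl_of_nA (i := p k) (j := z) (hz k le_rfl).symm (heb 0)
  rw [hw0 k le_rfl] at dz
  have ha : ∀ i < k, T.a (p i) (p (i + 1)) = T.w (p 0) := fun i hi => (hsimp i hi).1.trans (hw0 i hi.le)
  have pw := T.w_pos (p 0)
  have px := T.w_pos x
  have pz := T.w_pos z
  -- assemble a listing starting at `u`
  have build : ∀ (u u' : Fin n) (q : ℕ → Fin n) (m w : ℤ) (M W : ℕ → ℤ) (A : ℕ → ℕ → ℤ),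
      u ≠ u' → Set.InjOn q (Set.Iio (k + 1)) → (∀ i ≤ k, u ≠ q i) → (∀ i ≤ k, u' ≠ q i) →
      T.m u = m * M 0 → T.w u = w * W 0 → T.m u' = m * M (k + 2) → T.w u' = w * W (k + 2) →
      (∀ i ≤ k, T.m (q i) = m * M (i + 1) ∧ T.w (q i) = w * W (i + 1)) →
      T.a u u' = w * A 0 (k + 2) → (∀ i ≤ k, T.a u (q i) = w * A 0 (i + 1)) →
      (∀ i ≤ k, T.a (q i) u' = w * A (i + 1) (k + 2)) →
      (∀ i j, i < j → j ≤ k → T.a (q i) (q j) = w * A (i + 1) (j + 1)) → HasData T M W A := by
    intro u u' q m w M W A huu hq hu hu' m0 w0 m1 w1 hmw a0 a1 a2 a3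
    refine ⟨fun i => if i = 0 then u else if i ≤ k + 1 then q (i - 1) else u', m, w, ?_, ?_, ?_⟩
    · intro a ha b hb e
      rw [Set.mem_Iio] at ha hb
      simp only at e
      by_contra hne
      split_ifs at e with c1 c2 c3 c4 c5 c6
      all_goals first
        | omega
        | exact hu _ (by omega) e | exact hu _ (by omega) e.symm
        | exact hu' _ (by omega) e | exact hu' _ (by omega) e.symm
        | exact huu e | exact huu e.symm
        | (have := hq (show _ < k + 1 by omega) (show _ < k + 1 by omega) e; omega)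
    · intro i hi
      beta_reduce
      rcases (show i = 0 ∨ (1 ≤ i ∧ i ≤ k + 1) ∨ i = k + 2 by omega) with rfl | ⟨h1, h2⟩ | rfl
      · simp [m0, w0]
      · rw [if_neg (by omega), if_pos h2]
        have := hmw (i - 1) (by omega)
        rwa [show i - 1 + 1 = i by omega] at this
      · simp [m1, w1]
    · intro i j hij hj
      beta_reduce
      rcases (show (j ≤ k + 1) ∨ j = k + 2 by omega) with hj' | rfl
      · rw [if_neg (show j ≠ 0 by omega), if_pos hj']
        split_ifs with h0 h1
        · subst h0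
          have := a1 (j - 1) (by omega)
          rwa [show j - 1 + 1 = j by omega] at this
        · have := a3 (i - 1) (j - 1) (by omega) (by omega)
          rwa [show i - 1 + 1 = i by omega, show j - 1 + 1 = j by omega] at this
        · omega
      · rw [if_neg (show k + 2 ≠ 0 by omega), if_neg (show ¬ k + 2 ≤ k + 1 by omega)]
        split_ifs with h0 h1
        · subst h0; exact a0
        · have := a2 (i - 1) (by omega)
          rwa [show i - 1 + 1 = i by omega] at this
        · omega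
  have az : ∀ i ≤ k, i ≠ k → T.a (p i) z = 0 := zz
  rcases dx with ⟨x1, x2⟩ | ⟨x1, x2⟩ <;> rcases dz with ⟨y1, y2⟩ | ⟨y1, y2⟩
  · -- (2w, w, …, w, 2w)
    rw [x1, x2] at rx
    rw [y1, y2] at rz
    have mx : T.m (p 0) = 2 * T.m x := by nlinarith
    have mz : T.m z = T.m x := by nlinarith
    refine Or.inr (Or.inr (Or.inr (Or.inl (build x z p (T.m x) (T.w (p 0)) _ _ _ hxz hp.inj hx hz ?_ ?_ ?_ ?_
      (fun i hi => ?_) ?_ (fun i hi => ?_) (fun i hi => ?_) (fun i j hij hj => ?_)))))
    all_goals (try simp only [c3M, c3W, c3A])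
    · simp
    · simp [x2, mul_comm]
    · simp [hn, mz]
    · simp [hn, y2, mul_comm]
    · rw [if_neg (by omega), if_neg (by omega), hw0 i hi, hm0 i hi, mx]; constructor <;> ring
    · rw [if_neg (by omega), zxz, mul_zero]
    · rw [a_comm]
      split_ifs with h1 h2
      · obtain rfl : i = 0 := by omega
        rw [x1]; ring
      · simp at h2
      · rw [zx i hi (by omega), mul_zero]
    · split_ifs with h1 h2
      · obtain rfl : i = k := by omega
        rw [y1]; ring
      · omega
      · rw [az i hi (by omega), mul_zero]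
    · split_ifs with h1 h2
      · simp at h2; omega
      · obtain rfl : j = i + 1 := by omega
        rw [ha i (by omega), mul_one]
      · rw [zp i j (by omega) hj, mul_zero]
  · -- reversed (w, 2w, …, 2w, 4w)
    rw [x1, x2] at rx
    rw [y1] at rz
    have mx : T.m (p 0) = 2 * T.m x := by nlinarith
    have mz : T.m z = T.m (p 0) := by nlinarith
    refine Or.inr (Or.inl (build z x (fun i => p (k - i)) (T.m x) (T.w z) _ _ _ hxz.symm
      (fun a ha b hb e => ?_) (fun i _ => hz _ (by omega)) (fun i _ => hx _ (by omega)) ?_ ?_ ?_ ?_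
      (fun i hi => ?_) ?_ (fun i hi => ?_) (fun i hi => ?_) (fun i j hij hj => ?_)))
    all_goals (try simp only [c1M, c1W, c1A])
    · rw [Set.mem_Iio] at ha hb
      have := hp.inj (show k - a < k + 1 by omega) (show k - b < k + 1 by omega) e
      omega
    · simp [hn, mz, mx, mul_comm]
    · simp
    · simp [hn]
    · simp [hn, x2, y2]; ring
    · rw [if_neg (by omega), if_neg (by omega), if_neg (by omega), hw0 _ (by omega), hm0 _ (by omega), mx, y2]
      constructor <;> ring
    · rw [if_neg (by omega), a_comm, zxz, mul_zero]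
    · rw [a_comm]
      split_ifs with h1 h2
      · omega
      · obtain rfl : i = 0 := by omega
        rw [Nat.sub_zero, y1]; ring
      · rw [az _ (by omega) (by omega), mul_zero]
    · split_ifs with h1 h2
      · obtain rfl : i = k := by omega
        rw [Nat.sub_self, x1, y2]; ring
      · omega
      · rw [zx _ (by omega) (by omega), mul_zero]
    · split_ifs with h1 h2
      · omega
      · obtain rfl : j = i + 1 := by omega
        rw [show k - i = k - (i + 1) + 1 by omega, a_comm, ha _ (by omega), y2]; ring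
      · rw [a_comm, zp (k - j) (k - i) (by omega) (by omega), mul_zero]
  · -- (w, 2w, …, 2w, 4w)
    rw [x1] at rx
    rw [y1, y2] at rz
    have mz : T.m (p 0) = 2 * T.m z := by nlinarith
    have mx : T.m x = T.m (p 0) := by nlinarith
    refine Or.inr (Or.inl (build x z p (T.m z) (T.w x) _ _ _ hxz hp.inj hx hz ?_ ?_ ?_ ?_
      (fun i hi => ?_) ?_ (fun i hi => ?_) (fun i hi => ?_) (fun i j hij hj => ?_)))
    all_goals (try simp only [c1M, c1W, c1A])
    · simp [hn, mx, mz, mul_comm]
    · simp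
    · simp [hn]
    · simp [hn, x2, y2]; ring
    · rw [if_neg (by omega), if_neg (by omega), if_neg (by omega), hw0 i hi, hm0 i hi, mz, x2]
      constructor <;> ring
    · rw [if_neg (by omega), zxz, mul_zero]
    · rw [a_comm]
      split_ifs with h1 h2
      · omega
      · obtain rfl : i = 0 := by omega
        rw [x1]; ring
      · rw [zx i hi (by omega), mul_zero]
    · split_ifs with h1 h2
      · obtain rfl : i = k := by omega
        rw [y1, x2]; ring
      · omega
      · rw [az i hi (by omega), mul_zero]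
    · split_ifs with h1 h2
      · omega
      · obtain rfl : j = i + 1 := by omega
        rw [ha i (by omega), x2]; ring
      · rw [zp i j (by omega) hj, mul_zero]
  · -- (w, 2w, …, 2w, w)
    rw [x1] at rx
    rw [y1] at rz
    have mx : T.m x = T.m (p 0) := by nlinarith
    have mz : T.m z = T.m (p 0) := by nlinarith
    refine Or.inr (Or.inr (Or.inl (build x z p (T.m (p 0)) (T.w x) _ _ _ hxz hp.inj hx hz ?_ ?_ ?_ ?_
      (fun i hi => ?_) ?_ (fun i hi => ?_) (fun i hi => ?_) (fun i j hij hj => ?_))))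
    all_goals (try simp only [cycM, c2W, c2A])
    · simp [mx]
    · simp
    · simp [mz]
    · simp [hn]; omega
    · rw [if_neg (by omega), hw0 i hi, hm0 i hi, x2]; constructor <;> ring
    · rw [if_neg (by omega), zxz, mul_zero]
    · rw [a_comm]
      split_ifs with h1
      · obtain rfl : i = 0 := by omega
        rw [x1]; ring
      · rw [zx i hi (by omega), mul_zero]
    · split_ifs with h1
      · obtain rfl : i = k := by omega
        rw [y1]; omega
      · rw [az i hi (by omega), mul_zero]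
    · split_ifs with h1
      · obtain rfl : j = i + 1 := by omega
        rw [ha i (by omega), x2]; ring
      · rw [zp i j (by omega) hj, mul_zero]

theorem forks_inj {x y : Fin n} (hxy : x ≠ y) : Function.Injective ![x, y] := by
  intro a b e
  fin_cases a <;> fin_cases b <;> simp_all [eq_comm]

/-- A double edge `z` at the start of a path and a fork at its end. -/
theorem fd_data {k : ℕ} (hp : IsPath T p (k + 1)) {x y z : Fin n} (hxy : x ≠ y) (hxz : x ≠ z) (hyz : y ≠ z)
    (hx : ∀ i ≤ k, x ≠ p i) (hy : ∀ i ≤ k, y ≠ p i) (hz : ∀ i ≤ k, z ≠ p i)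
    (h2x : T.IsMinusTwo x) (h2y : T.IsMinusTwo y) (h2z : T.IsMinusTwo z)
    (hpx : 0 < T.a (p k) x) (hpy : 0 < T.a (p k) y) (hbz : Big T (p 0) z) : IsAffine T := by
  let v := endsEmb hp.inj (fun _ : Fin 1 => z) ![x, y] (fun a b _ => Subsingleton.elim a b) (forks_inj hxy)
    (fun _ => Fin.forall_fin_two.2 ⟨hxz.symm, hyz.symm⟩) (fun _ => hz) (Fin.forall_fin_two.2 ⟨hx, hy⟩)
  obtain ⟨hs, ⟨q, hq0, hq, -, -⟩, he, hea, heb, z1, z2, z3, z4⟩ := ends_test T v
    (by
      rintro (i | a | b)
      exacts [hp.two i i.2, h2z, (Fin.forall_fin_two (p := fun b => T.IsMinusTwo (![x, y] b))).2 ⟨h2x, h2y⟩ b])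
    (fun i => hp.adj i (by omega))
    (fun _ => Real.sqrt 2) (fun _ => Real.sqrt 2) (fun _ => 1) (fun _ => 1)
    (fun _ => Real.sqrt_pos.2 two_pos) (fun _ => one_pos) ending_double.1 ending_double.2 ending_fork.1 ending_fork.2
    (fun _ => hbz.le_nA) (Fin.forall_fin_two.2 ⟨one_le_nA T hpx, one_le_nA T hpy⟩)
  have hn : n = k + 4 := by have := endsEmb_card v hs; simp only [Fintype.card_fin] at this; omega
  have hsimp : ∀ i < k, Simple T (p i) (p (i + 1)) := fun i hi =>
    simple_of_nA (ne_of_path T hp (by omega) (by omega) (by omega)) (he ⟨i, hi⟩)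
  have hw0 : ∀ i ≤ k, T.w (p i) = T.w (p 0) := fun i hi =>
    w_const (t := k + 2) (fun j hj => hsimp j (by omega)) i (by omega)
  have hm0 : ∀ i ≤ k, T.m (p i) = T.m (p 0) := fun i hi =>
    m_eq_of_nu (hw0 i hi) ((hq ⟨i, by omega⟩).trans (hq 0).symm)
  have zz : ∀ i ≤ k, i ≠ 0 → T.a (p i) z = 0 := fun i hi hi0 =>
    z2 0 ⟨i, by omega⟩ (fun e => hi0 (by simpa using congrArg Fin.val e))
  have zx : ∀ i ≤ k, i ≠ k → T.a (p i) x = 0 := fun i hi hik =>
    z3 0 ⟨i, by omega⟩ (fun e => hik (by simpa using congrArg Fin.val e))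
  have zy : ∀ i ≤ k, i ≠ k → T.a (p i) y = 0 := fun i hi hik =>
    z3 1 ⟨i, by omega⟩ (fun e => hik (by simpa using congrArg Fin.val e))
  have zzx : T.a z x = 0 := z4 (.inl 0) (.inr 0) (by simp)
  have zzy : T.a z y = 0 := z4 (.inl 0) (.inr 1) (by simp)
  have zxy : T.a x y = 0 := z4 (.inr 0) (.inr 1) (by simp)
  have zp : ∀ i j, i + 1 < j → j ≤ k → T.a (p i) (p j) = 0 := fun i j hij hj =>
    z1 ⟨i, by omega⟩ ⟨j, by omega⟩ hij
  have cases' : ∀ u, (∃ i ≤ k, u = p i) ∨ u = z ∨ u = x ∨ u = y := fun u => by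
    obtain ⟨(i | a | b), rfl⟩ := hs u
    · exact Or.inl ⟨i, Nat.lt_succ_iff.1 i.2, rfl⟩
    · exact Or.inr (Or.inl rfl)
    · fin_cases b
      exacts [Or.inr (Or.inr (Or.inl rfl)), Or.inr (Or.inr (Or.inr rfl))]
  have rz := row_one h2z (x := p 0) (hz 0 (Nat.zero_le k)).symm fun j hj hj0 => by
    rcases cases' j with ⟨i, hi, rfl⟩ | rfl | rfl | rfl
    · rw [a_comm]; exact zz i hi (fun e => hj0 (by rw [e]))
    · exact absurd rfl hj
    · exact zzx
    · exact zzy
  have rx := row_one h2x (x := p k) (hx k le_rfl).symm fun j hj hj0 => by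
    rcases cases' j with ⟨i, hi, rfl⟩ | rfl | rfl | rfl
    · rw [a_comm]; exact zx i hi (fun e => hj0 (by rw [e]))
    · rw [a_comm]; exact zzx
    · exact absurd rfl hj
    · exact zxy
  have ry := row_one h2y (x := p k) (hy k le_rfl).symm fun j hj hj0 => by
    rcases cases' j with ⟨i, hi, rfl⟩ | rfl | rfl | rfl
    · rw [a_comm]; exact zy i hi (fun e => hj0 (by rw [e]))
    · rw [a_comm]; exact zzy
    · rw [a_comm]; exact zxy
    · exact absurd rfl hj
  obtain ⟨sx, sx'⟩ := simple_of_nA (i := p k) (j := x) (hx k le_rfl).symm (heb 0)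
  obtain ⟨sy, sy'⟩ := simple_of_nA (i := p k) (j := y) (hy k le_rfl).symm (heb 1)
  have wx : T.w x = T.w (p 0) := by rw [← sx', sx, hw0 k le_rfl]
  have wy : T.w y = T.w (p 0) := by rw [← sy', sy, hw0 k le_rfl]
  rw [hw0 k le_rfl] at sx sy
  rw [a_comm T z (p 0)] at rz
  rw [a_comm T x (p k), hm0 k le_rfl, sx, wx] at rx
  rw [a_comm T y (p k), hm0 k le_rfl, sy, wy] at ry
  have ha : ∀ i < k, T.a (p i) (p (i + 1)) = T.w (p 0) := fun i hi => (hsimp i hi).1.trans (hw0 i hi.le)
  have pw := T.w_pos (p 0)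
  have pz := T.w_pos z
  have mx : T.m (p 0) = 2 * T.m x := by nlinarith
  have my : T.m y = T.m x := by nlinarith
  let f : ℕ → Fin n := fun i => if i = 0 then z else if i ≤ k + 1 then p (i - 1) else if i = k + 2 then x else y
  have f0 : f 0 = z := if_pos rfl
  have fp : ∀ i ≤ k, f (i + 1) = p i := fun i hi => by
    simp only [f, if_neg (Nat.succ_ne_zero i), if_pos (show i + 1 ≤ k + 1 by omega), Nat.add_sub_cancel]
  have fx : f (k + 2) = x := by simp [f]
  have fy : f (k + 3) = y := by simp [f]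
  have split : ∀ i < n, i = 0 ∨ (∃ j ≤ k, i = j + 1) ∨ i = k + 2 ∨ i = k + 3 := fun i hi => by
    rcases (show i = 0 ∨ (1 ≤ i ∧ i ≤ k + 1) ∨ i = k + 2 ∨ i = k + 3 by omega) with h | h | h | h
    exacts [Or.inl h, Or.inr (Or.inl ⟨i - 1, by omega, by omega⟩), Or.inr (Or.inr (Or.inl h)),
      Or.inr (Or.inr (Or.inr h))]
  have finj : Set.InjOn f (Set.Iio n) := by
    intro a ha b hb e
    rcases split a ha with rfl | ⟨i, hi, rfl⟩ | rfl | rfl <;>
      rcases split b hb with rfl | ⟨j, hj, rfl⟩ | rfl | rfl <;>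
      (try simp only [f0, fx, fy] at e) <;> (try rw [fp i hi] at e) <;> (try rw [fp j hj] at e)
    all_goals first
      | rfl
      | (have := hp.inj (show i < k + 1 by omega) (show j < k + 1 by omega) e; omega)
      | exact absurd e (hz _ (by assumption)) | exact absurd e.symm (hz _ (by assumption))
      | exact absurd e (hx _ (by assumption)) | exact absurd e.symm (hx _ (by assumption))
      | exact absurd e (hy _ (by assumption)) | exact absurd e.symm (hy _ (by assumption))
      | exact absurd e hxy | exact absurd e.symm hxy | exact absurd e hxz | exact absurd e.symm hxz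
      | exact absurd e hyz | exact absurd e.symm hyz
  rcases dbl_of_nA (i := p 0) (j := z) (hz 0 (Nat.zero_le k)).symm (hea 0) with ⟨z1', z2'⟩ | ⟨z1', z2'⟩
  · rw [z1', z2'] at rz
    have mz : T.m z = T.m x := by nlinarith
    refine Or.inr (Or.inr (Or.inr (Or.inr (Or.inl
      ⟨by omega, f, T.m x, T.w (p 0), finj, fun i hi => ?_, fun i j hij hj => ?_⟩))))
    · simp only [b1M, b1W]
      rcases split i hi with rfl | ⟨a, ha', rfl⟩ | rfl | rfl
      · simp [f0, mz, z2', mul_comm]
      · rw [fp a ha', if_neg (by omega), if_neg (by omega), hw0 a ha', hm0 a ha', mx]; constructor <;> ring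
      · rw [fx, if_pos (by omega), if_neg (by omega), wx]; simp
      · rw [fy, if_pos (by omega), if_neg (by omega), wy, my]; simp
    · simp only [b1A]
      rcases split i (by omega) with rfl | ⟨a, ha', rfl⟩ | rfl | rfl <;>
        rcases split j hj with rfl | ⟨b, hb', rfl⟩ | rfl | rfl <;>
        try omega
      · rw [f0, fp b hb', a_comm]
        split_ifs with h1 h2
        · obtain rfl : b = 0 := by omega
          rw [z1', mul_comm]
        · omega
        · rw [zz b hb' (by omega), mul_zero]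
      · rw [f0, fx, if_neg (by omega), if_neg (by omega), zzx, mul_zero]
      · rw [f0, fy, if_neg (by omega), if_neg (by omega), zzy, mul_zero]
      · rw [fp a ha', fp b hb', if_neg (by omega)]
        split_ifs with h2
        · obtain rfl : b = a + 1 := by omega
          rw [ha a (by omega), mul_one]
        · rw [zp a b (by omega) hb', mul_zero]
      · rw [fp a ha', fx, if_neg (by omega)]
        split_ifs with h2
        · obtain rfl : a = k := by omega
          rw [sx, mul_one]
        · rw [zx a ha' (by omega), mul_zero]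
      · rw [fp a ha', fy, if_neg (by omega)]
        split_ifs with h2
        · obtain rfl : a = k := by omega
          rw [sy, mul_one]
        · rw [zy a ha' (by omega), mul_zero]
      · rw [fx, fy, if_neg (by omega), if_neg (by omega), zxy, mul_zero]
  · rw [z1'] at rz
    have mz : T.m z = T.m (p 0) := by nlinarith
    refine Or.inr (Or.inr (Or.inr (Or.inr (Or.inr (Or.inl
      ⟨by omega, f, T.m x, T.w z, finj, fun i hi => ?_, fun i j hij hj => ?_⟩)))))
    · simp only [b2M, b2W]
      rcases split i hi with rfl | ⟨a, ha', rfl⟩ | rfl | rfl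
      · rw [f0, if_neg (by omega), if_pos rfl, mz, mx]; constructor <;> ring
      · rw [fp a ha', if_neg (by omega), if_neg (by omega), hw0 a ha', hm0 a ha', mx, z2']
        constructor <;> ring
      · rw [fx, if_pos (by omega), if_neg (by omega), wx, z2']; constructor <;> ring
      · rw [fy, if_pos (by omega), if_neg (by omega), wy, my, z2']; constructor <;> ring
    · simp only [b2A]
      rcases split i (by omega) with rfl | ⟨a, ha', rfl⟩ | rfl | rfl <;>
        rcases split j hj with rfl | ⟨b, hb', rfl⟩ | rfl | rfl <;>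
        try omega
      · rw [f0, fp b hb', a_comm]
        split_ifs with h1
        · obtain rfl : b = 0 := by omega
          rw [z1']; ring
        · rw [zz b hb' (by omega), mul_zero]
      · rw [f0, fx, if_neg (by omega), zzx, mul_zero]
      · rw [f0, fy, if_neg (by omega), zzy, mul_zero]
      · rw [fp a ha', fp b hb']
        split_ifs with h2
        · obtain rfl : b = a + 1 := by omega
          rw [ha a (by omega), z2']; ring
        · rw [zp a b (by omega) hb', mul_zero]
      · rw [fp a ha', fx]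
        split_ifs with h2
        · obtain rfl : a = k := by omega
          rw [sx, z2']; ring
        · rw [zx a ha' (by omega), mul_zero]
      · rw [fp a ha', fy]
        split_ifs with h2
        · obtain rfl : a = k := by omega
          rw [sy, z2']; ring
        · rw [zy a ha' (by omega), mul_zero]
      · rw [fx, fy, if_neg (by omega), zxy, mul_zero]

/-- Forks at both ends of a path. -/
theorem ff_data {k : ℕ} (hp : IsPath T p (k + 1)) {x y z u : Fin n} (hd : Function.Injective ![x, y, z, u])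
    (hnp : ∀ a, ∀ i ≤ k, ![x, y, z, u] a ≠ p i) (h2 : ∀ a, T.IsMinusTwo (![x, y, z, u] a))
    (hpx : 0 < T.a (p 0) x) (hpy : 0 < T.a (p 0) y) (hpz : 0 < T.a (p k) z) (hpu : 0 < T.a (p k) u) :
    IsAffine T := by
  have nxy : x ≠ y := fun e => absurd (@hd 0 1 e) (by decide)
  have nzu : z ≠ u := fun e => absurd (@hd 2 3 e) (by decide)
  have nxz : x ≠ z := fun e => absurd (@hd 0 2 e) (by decide)
  have nxu : x ≠ u := fun e => absurd (@hd 0 3 e) (by decide)
  have nyz : y ≠ z := fun e => absurd (@hd 1 2 e) (by decide)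
  have nyu : y ≠ u := fun e => absurd (@hd 1 3 e) (by decide)
  let v := endsEmb hp.inj ![x, y] ![z, u] (forks_inj nxy) (forks_inj nzu)
    (Fin.forall_fin_two.2 ⟨Fin.forall_fin_two.2 ⟨nxz, nxu⟩, Fin.forall_fin_two.2 ⟨nyz, nyu⟩⟩)
    (Fin.forall_fin_two.2 ⟨hnp 0, hnp 1⟩) (Fin.forall_fin_two.2 ⟨hnp 2, hnp 3⟩)
  obtain ⟨hs, ⟨q, hq0, hq, hqa, hqb⟩, he, hea, heb, z1, z2, z3, z4⟩ := ends_test T v
    (by
      rintro (i | a | b)
      exacts [hp.two i i.2, (Fin.forall_fin_two (p := fun b => T.IsMinusTwo (![x, y] b))).2 ⟨h2 0, h2 1⟩ a,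
        (Fin.forall_fin_two (p := fun b => T.IsMinusTwo (![z, u] b))).2 ⟨h2 2, h2 3⟩ b])
    (fun i => hp.adj i (by omega)) (fun _ => 1) (fun _ => 1) (fun _ => 1) (fun _ => 1)
    (fun _ => one_pos) (fun _ => one_pos) ending_fork.1 ending_fork.2 ending_fork.1 ending_fork.2
    (Fin.forall_fin_two.2 ⟨one_le_nA T hpx, one_le_nA T hpy⟩)
    (Fin.forall_fin_two.2 ⟨one_le_nA T hpz, one_le_nA T hpu⟩)
  have hn : n = k + 5 := by have := endsEmb_card v hs; simp only [Fintype.card_fin] at this; omega
  have hsimp : ∀ i < k, Simple T (p i) (p (i + 1)) := fun i hi =>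
    simple_of_nA (ne_of_path T hp (by omega) (by omega) (by omega)) (he ⟨i, hi⟩)
  have hw0 : ∀ i ≤ k, T.w (p i) = T.w (p 0) := fun i hi =>
    w_const (t := k + 2) (fun j hj => hsimp j (by omega)) i (by omega)
  obtain ⟨sx, sx'⟩ := simple_of_nA (i := p 0) (j := x) (hnp 0 0 (Nat.zero_le k)).symm (hea 0)
  obtain ⟨sy, sy'⟩ := simple_of_nA (i := p 0) (j := y) (hnp 1 0 (Nat.zero_le k)).symm (hea 1)
  obtain ⟨sz, sz'⟩ := simple_of_nA (i := p k) (j := z) (hnp 2 k le_rfl).symm (heb 0)
  obtain ⟨su, su'⟩ := simple_of_nA (i := p k) (j := u) (hnp 3 k le_rfl).symm (heb 1)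
  have hwk := hw0 k le_rfl
  have hnu : ∀ i ≤ k, T.m (p i) = 2 * T.m x := fun i hi => by
    have h1 := hq ⟨i, by omega⟩
    have h2 := hqa 0
    change nu T (p i) = 2 * q at h1
    change nu T x = q * 1 at h2
    rw [nu, sw, hw0 i hi] at h1
    rw [nu, sw, show T.w x = T.w (p 0) by omega] at h2
    have h3 : (T.m (p i) : ℝ) = 2 * T.m x :=
      mul_right_cancel₀ (Real.sqrt_pos.2 (show (0 : ℝ) < (T.w (p 0) : ℝ) by exact_mod_cast T.w_pos (p 0))).ne'
        (by linarith)
    exact_mod_cast h3
  have hleaf : ∀ l, T.w l = T.w x → nu T l = q * 1 → T.m l = T.m x := fun l hl h =>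
    m_eq_of_nu hl (h.trans (hqa 0).symm)
  have my : T.m y = T.m x := hleaf y (by omega) (hqa 1)
  have mz : T.m z = T.m x := hleaf z (by omega) (hqb 0)
  have mu : T.m u = T.m x := hleaf u (by omega) (hqb 1)
  have zx : ∀ i ≤ k, i ≠ 0 → T.a (p i) x = 0 ∧ T.a (p i) y = 0 := fun i hi hi0 =>
    ⟨z2 0 ⟨i, by omega⟩ (fun e => hi0 (by simpa using congrArg Fin.val e)),
      z2 1 ⟨i, by omega⟩ (fun e => hi0 (by simpa using congrArg Fin.val e))⟩
  have zz : ∀ i ≤ k, i ≠ k → T.a (p i) z = 0 ∧ T.a (p i) u = 0 := fun i hi hik =>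
    ⟨z3 0 ⟨i, by omega⟩ (fun e => hik (by simpa using congrArg Fin.val e)),
      z3 1 ⟨i, by omega⟩ (fun e => hik (by simpa using congrArg Fin.val e))⟩
  have zp : ∀ i j, i + 1 < j → j ≤ k → T.a (p i) (p j) = 0 := fun i j hij hj =>
    z1 ⟨i, by omega⟩ ⟨j, by omega⟩ hij
  have l1 : T.a x y = 0 := z4 (.inl 0) (.inl 1) (by simp)
  have l2 : T.a x z = 0 := z4 (.inl 0) (.inr 0) (by simp)
  have l3 : T.a x u = 0 := z4 (.inl 0) (.inr 1) (by simp)
  have l4 : T.a y z = 0 := z4 (.inl 1) (.inr 0) (by simp)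
  have l5 : T.a y u = 0 := z4 (.inl 1) (.inr 1) (by simp)
  have l6 : T.a z u = 0 := z4 (.inr 0) (.inr 1) (by simp)
  have ha : ∀ i < k, T.a (p i) (p (i + 1)) = T.w (p 0) := fun i hi => (hsimp i hi).1.trans (hw0 i hi.le)
  let f : ℕ → Fin n := fun i => if i = 0 then x else if i = 1 then y else if i ≤ k + 2 then p (i - 2)
    else if i = k + 3 then z else u
  have f0 : f 0 = x := if_pos rfl
  have f1 : f 1 = y := by simp [f]
  have fp : ∀ i ≤ k, f (i + 2) = p i := fun i hi => by
    simp [f, hi]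
  have fz : f (k + 3) = z := by simp [f]
  have fu : f (k + 4) = u := by simp [f]
  have split : ∀ i < n, i = 0 ∨ i = 1 ∨ (∃ j ≤ k, i = j + 2) ∨ i = k + 3 ∨ i = k + 4 := fun i hi => by
    rcases (show i = 0 ∨ i = 1 ∨ (2 ≤ i ∧ i ≤ k + 2) ∨ i = k + 3 ∨ i = k + 4 by omega) with h | h | h | h | h
    exacts [Or.inl h, Or.inr (Or.inl h), Or.inr (Or.inr (Or.inl ⟨i - 2, by omega, by omega⟩)),
      Or.inr (Or.inr (Or.inr (Or.inl h))), Or.inr (Or.inr (Or.inr (Or.inr h)))]
  have dp : ∀ a i, i ≤ k → ![x, y, z, u] a ≠ p i := fun a i hi => hnp a i hi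
  have finj : Set.InjOn f (Set.Iio n) := by
    intro a ha b hb e
    rcases split a ha with rfl | rfl | ⟨i, hi, rfl⟩ | rfl | rfl <;>
      rcases split b hb with rfl | rfl | ⟨j, hj, rfl⟩ | rfl | rfl <;>
      (try simp only [f0, f1, fz, fu] at e) <;> (try rw [fp i hi] at e) <;> (try rw [fp j hj] at e)
    all_goals first
      | rfl
      | (have := hp.inj (show i < k + 1 by omega) (show j < k + 1 by omega) e; omega)
      | exact absurd e (hnp 0 _ (by assumption)) | exact absurd e.symm (hnp 0 _ (by assumption))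
      | exact absurd e (hnp 1 _ (by assumption)) | exact absurd e.symm (hnp 1 _ (by assumption))
      | exact absurd e (hnp 2 _ (by assumption)) | exact absurd e.symm (hnp 2 _ (by assumption))
      | exact absurd e (hnp 3 _ (by assumption)) | exact absurd e.symm (hnp 3 _ (by assumption))
      | exact absurd e nxy | exact absurd e.symm nxy | exact absurd e nzu | exact absurd e.symm nzu
      | exact absurd e nxz | exact absurd e.symm nxz | exact absurd e nxu | exact absurd e.symm nxu
      | exact absurd e nyz | exact absurd e.symm nyz | exact absurd e nyu | exact absurd e.symm nyu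
  refine Or.inr (Or.inr (Or.inr (Or.inr (Or.inr (Or.inr (Or.inl
    ⟨by omega, f, T.m x, T.w (p 0), finj, fun i hi => ?_, fun i j hij hj => ?_⟩))))))
  · simp only [dM, cycM, mul_one]
    rcases split i hi with rfl | rfl | ⟨a, ha', rfl⟩ | rfl | rfl
    · rw [f0, if_pos (by omega)]; omega
    · rw [f1, if_pos (by omega)]; omega
    · rw [fp a ha', if_neg (by omega), hw0 a ha', hnu a ha']; constructor <;> ring
    · rw [fz, if_pos (by omega)]; omega
    · rw [fu, if_pos (by omega)]; omega
  · simp only [dA]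
    rcases split i (by omega) with rfl | rfl | ⟨a, ha', rfl⟩ | rfl | rfl <;>
      rcases split j hj with rfl | rfl | ⟨b, hb', rfl⟩ | rfl | rfl <;>
      try omega
    · rw [f0, f1, if_neg (by omega), l1, mul_zero]
    · rw [f0, fp b hb', a_comm]
      split_ifs with h1
      · obtain rfl : b = 0 := by omega
        rw [sx, mul_one]
      · rw [(zx b hb' (by omega)).1, mul_zero]
    · rw [f0, fz, if_neg (by omega), l2, mul_zero]
    · rw [f0, fu, if_neg (by omega), l3, mul_zero]
    · rw [f1, fp b hb', a_comm]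
      split_ifs with h1
      · obtain rfl : b = 0 := by omega
        rw [sy, mul_one]
      · rw [(zx b hb' (by omega)).2, mul_zero]
    · rw [f1, fz, if_neg (by omega), l4, mul_zero]
    · rw [f1, fu, if_neg (by omega), l5, mul_zero]
    · rw [fp a ha', fp b hb']
      split_ifs with h1
      · obtain rfl : b = a + 1 := by omega
        rw [ha a (by omega), mul_one]
      · rw [zp a b (by omega) hb', mul_zero]
    · rw [fp a ha', fz]
      split_ifs with h1
      · obtain rfl : a = k := by omega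
        rw [sz, hwk, mul_one]
      · rw [(zz a ha' (by omega)).1, mul_zero]
    · rw [fp a ha', fu]
      split_ifs with h1
      · obtain rfl : a = k := by omega
        rw [su, hwk, mul_one]
      · rw [(zz a ha' (by omega)).2, mul_zero]
    · rw [fz, fu, if_neg (by omega), l6, mul_zero]

end Groth.ModelsGraphs
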