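import Groth.Agent.ModelsGraphs.Chain

/-! Standard forms of affine diagrams for minimal types of genus one. -/

namespace Groth.ModelsGraphs

open Finset Matrix Models

variable {n : ℕ} (T : NumericalType n)

/-- `f` lists the indices so that multiplicities, weights and intersection numbers are given by the data. -/
def IsListed (f : ℕ → Fin n) (m w : ℤ) (M W : ℕ → ℤ) (A : ℕ → ℕ → ℤ) : Prop :=
  Set.InjOn f (Set.Iio n) ∧ (∀ i < n, T.m (f i) = m * M i ∧ T.w (f i) = w * W i) ∧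
    ∀ i j, i < j → j < n → T.a (f i) (f j) = w * A i j

/-- Some listing has the given data. -/
def HasData (M W : ℕ → ℤ) (A : ℕ → ℕ → ℤ) : Prop := ∃ f m w, IsListed T f m w M W A

/-- cycle -/
def cycM : ℕ → ℤ := fun _ => 1
/-- cycle -/
def cycA (n : ℕ) (i j : ℕ) : ℤ := if j = i + 1 ∨ (i = 0 ∧ j + 1 = n) then 1 else 0
/-- chain (w, 2w, …, 2w, 4w) -/
def c1M (n : ℕ) (i : ℕ) : ℤ := if i + 1 = n then 1 else 2
/-- chain (w, 2w, …, 2w, 4w) -/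
def c1W (n : ℕ) (i : ℕ) : ℤ := if i = 0 then 1 else if i + 1 = n then 4 else 2
/-- chain (w, 2w, …, 2w, 4w) -/
def c1A (n : ℕ) (i j : ℕ) : ℤ := if j = i + 1 then (if j + 1 = n then 4 else 2) else 0
/-- chain (w, 2w, …, 2w, w) -/
def c2W (n : ℕ) (i : ℕ) : ℤ := if i = 0 ∨ i + 1 = n then 1 else 2
/-- chain (w, 2w, …, 2w, w) -/
def c2A (i j : ℕ) : ℤ := if j = i + 1 then 2 else 0
/-- chain (2w, w, …, w, 2w) -/
def c3M (n : ℕ) (i : ℕ) : ℤ := if i = 0 ∨ i + 1 = n then 1 else 2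
/-- chain (2w, w, …, w, 2w) -/
def c3W (n : ℕ) (i : ℕ) : ℤ := if i = 0 ∨ i + 1 = n then 2 else 1
/-- chain (2w, w, …, w, 2w) -/
def c3A (n : ℕ) (i j : ℕ) : ℤ := if j = i + 1 then (if i = 0 ∨ j + 1 = n then 2 else 1) else 0
/-- fork with (2w, w, …) -/
def b1M (n : ℕ) (i : ℕ) : ℤ := if i = 0 ∨ n ≤ i + 2 then 1 else 2
/-- fork with (2w, w, …) -/
def b1W (i : ℕ) : ℤ := if i = 0 then 2 else 1
/-- fork with (2w, w, …) -/
def b1A (n : ℕ) (i j : ℕ) : ℤ :=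
  if i = 0 ∧ j = 1 then 2 else if (j = i + 1 ∧ j + 2 ≤ n) ∨ (i + 3 = n ∧ (j + 1 = n ∨ j + 2 = n)) then 1 else 0
/-- fork with (w, 2w, …) -/
def b2M (n : ℕ) (i : ℕ) : ℤ := if n ≤ i + 2 then 1 else 2
/-- fork with (w, 2w, …) -/
def b2W (i : ℕ) : ℤ := if i = 0 then 1 else 2
/-- fork with (w, 2w, …) -/
def b2A (n : ℕ) (i j : ℕ) : ℤ :=
  if (j = i + 1 ∧ j + 2 ≤ n) ∨ (i + 3 = n ∧ (j + 1 = n ∨ j + 2 = n)) then 2 else 0
/-- double fork -/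
def dM (n : ℕ) (i : ℕ) : ℤ := if i ≤ 1 ∨ n ≤ i + 2 then 1 else 2
/-- double fork -/
def dA (n : ℕ) (i j : ℕ) : ℤ :=
  if (i ≤ 1 ∧ j = 2) ∨ (2 ≤ i ∧ j = i + 1 ∧ j + 2 ≤ n) ∨ (i + 3 = n ∧ (j + 1 = n ∨ j + 2 = n)) then 1 else 0

/-- All minimal genus one types on at least three indices. -/
def IsAffine : Prop :=
  HasData T cycM cycM (cycA n) ∨ HasData T (c1M n) (c1W n) (c1A n) ∨ HasData T cycM (c2W n) c2A ∨
    HasData T (c3M n) (c3W n) (c3A n) ∨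
    (4 ≤ n ∧ HasData T (b1M n) b1W (b1A n)) ∨ (4 ≤ n ∧ HasData T (b2M n) b2W (b2A n)) ∨
    (5 ≤ n ∧ HasData T (dM n) cycM (dA n)) ∨
    (n = 5 ∧ HasData T (fun i => [1, 2, 3, 2, 1].getD i 0) (fun i => [1, 1, 1, 2, 2].getD i 0)
      (fun i j => if j = i + 1 then [1, 1, 2, 2].getD i 0 else 0)) ∨
    (n = 5 ∧ HasData T (fun i => [1, 2, 3, 4, 2].getD i 0) (fun i => [2, 2, 2, 1, 1].getD i 0)
      (fun i j => if j = i + 1 then [2, 2, 2, 1].getD i 0 else 0)) ∨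
    (n = 3 ∧ HasData T (fun i => [1, 2, 1].getD i 0) (fun i => [1, 1, 3].getD i 0)
      (fun i j => if j = i + 1 then [1, 3].getD i 0 else 0)) ∨
    (n = 3 ∧ HasData T (fun i => [1, 2, 3].getD i 0) (fun i => [3, 3, 1].getD i 0)
      (fun i j => if j = i + 1 then [3, 3].getD i 0 else 0)) ∨
    (n = 7 ∧ HasData T (fun i => [1, 2, 3, 1, 2, 1, 2].getD i 0) cycM
      (fun i j => if (i, j) ∈ [(0, 1), (1, 2), (3, 4), (2, 4), (5, 6), (2, 6)] then 1 else 0)) ∨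
    (n = 8 ∧ HasData T (fun i => [1, 2, 3, 4, 3, 2, 1, 2].getD i 0) cycM
      (fun i j => if (i, j) ∈ [(0, 1), (1, 2), (2, 3), (3, 4), (4, 5), (5, 6), (3, 7)] then 1 else 0)) ∨
    (n = 9 ∧ HasData T (fun i => [1, 2, 3, 4, 5, 6, 4, 2, 3].getD i 0) cycM
      (fun i j => if (i, j) ∈ [(0, 1), (1, 2), (2, 3), (3, 4), (4, 5), (5, 6), (6, 7), (5, 8)] then 1 else 0))

end Groth.ModelsGraphs
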