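import Groth.Agent.ModelsGraphs.AffineTree

/-! Classification of minimal genus one types on at least three indices. -/

namespace Groth.ModelsGraphs

open Finset Matrix Models

variable {n : ℕ} {T : NumericalType n}

theorem row_nbr1 (hall : ∀ i, T.IsMinusTwo i) {i x : Fin n} (hx : 0 < T.a i x)
    (h : ∀ j, 0 < T.a i j → j = x) : T.a i x * T.m x = 2 * T.w i * T.m i :=
  row_one (hall i) (ne_of_pos T hx).symm fun j hji hjx =>
    le_antisymm (not_lt.1 fun hh => hjx (h j hh)) (T.offDiag_nonneg i j hji.symm)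

theorem row_nbr2 (hall : ∀ i, T.IsMinusTwo i) {i x y : Fin n} (hxy : x ≠ y) (hx : 0 < T.a i x) (hy : 0 < T.a i y)
    (h : ∀ j, 0 < T.a i j → j = x ∨ j = y) :
    T.a i x * T.m x + T.a i y * T.m y = 2 * T.w i * T.m i := by
  have h0 := row_split T i
  rw [sum_eq_add_of_mem x y (mem_erase.2 ⟨(ne_of_pos T hx).symm, mem_univ x⟩)
    (mem_erase.2 ⟨(ne_of_pos T hy).symm, mem_univ y⟩) hxy (fun j hj hne => by
      have : T.a i j = 0 := le_antisymm (not_lt.1 fun hh => (h j hh).elim hne.1 hne.2)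
        (T.offDiag_nonneg i j (mem_erase.1 hj).1.symm)
      rw [this, zero_mul]), (hall i).2] at h0
  linarith

theorem w_global (hs : ∀ i j, 0 < T.a i j → Simple T i j) (i k : Fin n) : T.w i = T.w k :=
  exists_eq_of_connected T.w T.connected (fun i j h => by
    rcases eq_or_ne i j with rfl | hne
    · rfl
    · exact (hs i j (pos_of_ne hne h)).1.symm.trans (hs i j (pos_of_ne hne h)).2) i k

/-- A maximal arm at the only branch vertex. -/
theorem arm_spec (hall : ∀ i, T.IsMinusTwo i) (hnc : NoCycle T) (hs : ∀ i j, 0 < T.a i j → Simple T i j)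
    {c : Fin n} (hu : ∀ d, IsBranch T d → d = c) {x : Fin n} (hx : 0 < T.a c x) :
    ∃ p L, 1 ≤ L ∧ IsPath T p (L + 1) ∧ p 0 = c ∧ p 1 = x ∧
      ∃ e : ℤ, 0 < e ∧ T.m c = ((L : ℤ) + 1) * e ∧ T.m x = (L : ℤ) * e := by
  classical
  let P : ℕ → Prop := fun L => ∃ p, IsPath T p (L + 1) ∧ p 0 = c ∧ p 1 = x
  have h1 : P 1 := by
    have h0 : IsPath T (fun _ => c) (0 + 1) :=
      ⟨fun a ha b hb _ => by rw [Set.mem_Iio] at ha hb; omega, fun _ _ => hall c, fun a ha => by omega⟩
    exact ⟨_, h0.snoc (hall x) (fun i _ => (ne_of_pos T hx).symm) hx, snoc_of_le le_rfl, snoc_self⟩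
  have hbd : ∀ L, P L → L < n := fun L ⟨p, hp, _, _⟩ => by
    have := Fintype.card_le_of_injective (fun i : Fin (L + 1) => p i) fun a b e => Fin.ext (hp.inj a.2 b.2 e)
    simp only [Fintype.card_fin] at this
    omega
  let L := Nat.findGreatest P n
  obtain ⟨p, hp, hp0, hp1⟩ : P L := Nat.findGreatest_spec (hbd 1 h1).le h1
  have hL : 1 ≤ L := Nat.le_findGreatest (hbd 1 h1).le h1
  have hW : ∀ i j, 0 < T.a i j → T.a i j = T.w c := fun i j h => (hs i j h).1.trans (w_global hs i c)
  have hend : ∀ j, 0 < T.a (p L) j → j = p (L - 1) := by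
    intro j hj
    by_cases hjp : ∃ i ≤ L, j = p i
    · obtain ⟨i, hi, rfl⟩ := hjp
      rw [← nbr_last hnc hp hi hj, Nat.add_sub_cancel]
    · simp only [not_exists, not_and] at hjp
      have hP : P (L + 1) := ⟨_, hp.snoc (hall j) hjp hj, (snoc_of_le (Nat.zero_le L)).trans hp0,
        (snoc_of_le hL).trans hp1⟩
      have := Nat.le_findGreatest (hbd _ hP).le hP
      omega
  have hpw := T.w_pos c
  have key : ∀ d, d ≤ L → T.m (p (L - d)) = ((d : ℤ) + 1) * T.m (p L) := by
    intro d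
    induction d using Nat.twoStepInduction with
    | zero => simp
    | one =>
      intro _
      have h := hp.adj (L - 1) (by omega)
      rw [show L - 1 + 1 = L by omega, a_comm] at h
      have h2 := row_nbr1 hall h hend
      rw [hW _ _ h, w_global hs (p L) c] at h2
      push_cast
      nlinarith
    | more d ih1 ih2 =>
      intro hd
      have e1 := ih1 (by omega)
      have e2 := ih2 (by omega)
      obtain ⟨i, hi⟩ : ∃ i, L - (d + 2) = i := ⟨_, rfl⟩
      rw [show L - (d + 1) = i + 1 by omega] at e2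
      rw [show L - d = i + 2 by omega] at e1
      have ha := hp.adj i (by omega)
      rw [a_comm] at ha
      have hb := hp.adj (i + 1) (by omega)
      have hne := ne_of_path T hp (show i < L + 1 by omega) (show i + 2 < L + 1 by omega) (by omega)
      have hnb : ∀ j, 0 < T.a (p (i + 1)) j → j = p i ∨ j = p (i + 1 + 1) := by
        intro j hj
        by_contra hh
        rw [not_or] at hh
        exact ne_of_path T hp (show i + 1 < L + 1 by omega) (show 0 < L + 1 by omega) (by omega)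
          ((hu _ ⟨p i, p (i + 1 + 1), j, hne, Ne.symm hh.1, Ne.symm hh.2, ha, hb, hj⟩).trans hp0.symm)
      have h2 := row_nbr2 hall hne ha hb hnb
      rw [hW _ _ ha, hW _ _ hb, w_global hs (p (i + 1)) c, e2] at h2
      rw [hi]
      rw [show i + 1 + 1 = i + 2 from rfl, e1] at h2
      push_cast at h2 ⊢
      nlinarith
  refine ⟨p, L, hL, hp, hp0, hp1, T.m (p L), T.m_pos _, ?_, ?_⟩
  · simpa [hp0] using key L le_rfl
  · have h := key (L - 1) (by omega)
    rw [show L - (L - 1) = 1 by omega, hp1] at h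
    rw [h, Nat.cast_sub hL]
    push_cast
    ring

theorem emb_data {s r : ℕ} (hs : ∀ i j, 0 < T.a i j → Simple T i j) (hn : n = s) (v : Fin s ↪ Fin n)
    (ed : Fin r → Fin s × Fin s) (hne : ∀ x, (ed x).1 ≠ (ed x).2) (hl : ∀ x, nA T (v (ed x).1) (v (ed x).2) = 1)
    (hz : ∀ j k : Fin s, j ≠ k → (∀ x, s((ed x).1, (ed x).2) ≠ s(j, k)) → T.a (v j) (v k) = 0)
    (Y : Fin s → ℤ) {q : ℝ} (hq : ∀ j, nu T (v j) = q * (Y j : ℝ))
    (τ : Fin s → Fin s) (hτ : Function.Injective τ) (c : Fin s) (hc : Y c = 1)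
    (M : ℕ → ℤ) (A : ℕ → ℕ → ℤ) (hM : ∀ i : Fin s, M i = Y (τ i))
    (hA : ∀ i j : Fin s, i.val < j.val → ((∃ x, s((ed x).1, (ed x).2) = s(τ i, τ j)) ∧ A i j = 1) ∨
      ((∀ x, s((ed x).1, (ed x).2) ≠ s(τ i, τ j)) ∧ A i j = 0)) :
    HasData T M cycM A := by
  subst hn
  have hne' := fun x => v.injective.ne (hne x)
  refine ⟨fun i => if h : i < n then v (τ ⟨i, h⟩) else v c, T.m (v c), T.w (v c), fun a ha b hb e => ?_,
    fun i hi => ⟨?_, ?_⟩, fun i j hij hj => ?_⟩
  · rw [Set.mem_Iio] at ha hb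
    simp only [dif_pos ha, dif_pos hb] at e
    exact congrArg Fin.val (hτ (v.injective e))
  · beta_reduce
    rw [dif_pos hi]
    have h1 := hq (τ ⟨i, hi⟩)
    have h2 := hq c
    rw [hc, Int.cast_one, mul_one] at h2
    rw [← h2, ← hM ⟨i, hi⟩, nu, nu, sw, sw, w_global hs (v (τ ⟨i, hi⟩)) (v c)] at h1
    have h3 : (T.m (v (τ ⟨i, hi⟩)) : ℝ) = T.m (v c) * M i :=
      mul_right_cancel₀ (Real.sqrt_pos.2 (show (0 : ℝ) < (T.w (v c) : ℝ) by exact_mod_cast T.w_pos (v c))).ne'
        (by linarith)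
    exact_mod_cast h3
  · beta_reduce
    rw [dif_pos hi, cycM, mul_one]; exact w_global hs _ _
  · beta_reduce
    rw [dif_pos (hij.trans hj), dif_pos hj]
    rcases hA ⟨i, hij.trans hj⟩ ⟨j, hj⟩ hij with ⟨⟨x, hx⟩, hA1⟩ | ⟨hx, hA0⟩
    · rw [show A i j = 1 from hA1, mul_one]
      obtain ⟨h1, h2⟩ := simple_of_nA (hne' x) (hl x)
      rcases Sym2.eq_iff.1 hx with ⟨e1, e2⟩ | ⟨e1, e2⟩
      · rw [← e1, ← e2, h1]; exact w_global hs _ _
      · rw [← e1, ← e2, a_comm, h1]; exact w_global hs _ _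
    · rw [show A i j = 0 from hA0, mul_zero]
      exact hz _ _ (fun e => by have := congrArg Fin.val (hτ e); simp at this; omega) hx

theorem e6_data (hall : ∀ i, T.IsMinusTwo i) (hnc : NoCycle T) (hs : ∀ i j, 0 < T.a i j → Simple T i j)
    {p q r : ℕ → Fin n} {k l m : ℕ} (hp : IsPath T p (k + 1)) (hq : IsPath T q (l + 1)) (hr : IsPath T r (m + 1))
    (hq0 : q 0 = p 0) (hr0 : r 0 = p 0) (h1 : p 1 ≠ q 1) (h2 : p 1 ≠ r 1) (h3 : q 1 ≠ r 1)
    (hk : 2 ≤ k) (hl : 2 ≤ l) (hm : 2 ≤ m) : IsAffine T := by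
  have d1 := fun i hi j hj => (arms_disjoint hnc hp hq hq0.symm h1 i hi j hj : 1 ≤ i → 1 ≤ j → p i ≠ q j)
  have d2 := fun i hi j hj => (arms_disjoint hnc hp hr hr0.symm h2 i hi j hj : 1 ≤ i → 1 ≤ j → p i ≠ r j)
  have d3 := fun i hi j hj => (arms_disjoint hnc hq hr (hq0.trans hr0.symm) h3 i hi j hj : 1 ≤ i → 1 ≤ j → q i ≠ r j)
  let f : Fin 7 → Fin n := ![p 2, p 1, p 0, q 1, q 2, r 1, r 2]
  have hf : Function.Injective f := by
    have a1 := ne_of_path T hp (show 2 < k + 1 by omega) (show 1 < k + 1 by omega) (by omega)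
    have a2 := ne_of_path T hp (show 2 < k + 1 by omega) (show 0 < k + 1 by omega) (by omega)
    have a3 := ne_of_path T hp (show 1 < k + 1 by omega) (show 0 < k + 1 by omega) (by omega)
    have b1 := ne_of_path T hq (show 2 < l + 1 by omega) (show 1 < l + 1 by omega) (by omega)
    have b2 := ne_of_path T hq (show 2 < l + 1 by omega) (show 0 < l + 1 by omega) (by omega)
    have b3 := ne_of_path T hq (show 1 < l + 1 by omega) (show 0 < l + 1 by omega) (by omega)
    have c1 := ne_of_path T hr (show 2 < m + 1 by omega) (show 1 < m + 1 by omega) (by omega)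
    have c2 := ne_of_path T hr (show 2 < m + 1 by omega) (show 0 < m + 1 by omega) (by omega)
    have c3 := ne_of_path T hr (show 1 < m + 1 by omega) (show 0 < m + 1 by omega) (by omega)
    rw [hq0] at b2 b3
    rw [hr0] at c2 c3
    have x1 := d1 1 (by omega) 1 (by omega) le_rfl le_rfl
    have x2 := d1 1 (by omega) 2 (by omega) le_rfl one_le_two
    have x3 := d1 2 (by omega) 1 (by omega) one_le_two le_rfl
    have x4 := d1 2 (by omega) 2 (by omega) one_le_two one_le_two
    have y1 := d2 1 (by omega) 1 (by omega) le_rfl le_rfl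
    have y2 := d2 1 (by omega) 2 (by omega) le_rfl one_le_two
    have y3 := d2 2 (by omega) 1 (by omega) one_le_two le_rfl
    have y4 := d2 2 (by omega) 2 (by omega) one_le_two one_le_two
    have z1 := d3 1 (by omega) 1 (by omega) le_rfl le_rfl
    have z2 := d3 1 (by omega) 2 (by omega) le_rfl one_le_two
    have z3 := d3 2 (by omega) 1 (by omega) one_le_two le_rfl
    have z4 := d3 2 (by omega) 2 (by omega) one_le_two one_le_two
    intro a b e
    fin_cases a <;> fin_cases b <;> simp_all [f, eq_comm]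
  obtain ⟨hn, ⟨t, -, ht⟩, hl', hz⟩ := e6_test T ⟨f, hf⟩ (fun j => hall _) (by
    intro a
    fin_cases a
    · exact a_comm T (p 1) (p 2) ▸ hp.adj 1 (by omega)
    · exact a_comm T (p 0) (p 1) ▸ hp.adj 0 (by omega)
    · exact (show 0 < T.a (p 0) (q 1) by have h := hq.adj 0 (by omega); rwa [hq0] at h)
    · exact hq.adj 1 (by omega)
    · exact (show 0 < T.a (p 0) (r 1) by have h := hr.adj 0 (by omega); rwa [hr0] at h)
    · exact hr.adj 1 (by omega))
  refine Or.inr <| Or.inr <| Or.inr <| Or.inr <| Or.inr <| Or.inr <| Or.inr <| Or.inr <| Or.inr <| Or.inr <|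
    Or.inr <| Or.inl ⟨hn, emb_data hs hn ⟨f, hf⟩ _ (by decide) hl' hz ![1, 2, 3, 2, 1, 2, 1] (q := t)
      (fun j => by rw [ht j]; fin_cases j <;> norm_num)
      ![0, 1, 2, 4, 3, 6, 5] (by decide) 0 rfl _ _ (by decide) (by decide)⟩

theorem e7_data (hall : ∀ i, T.IsMinusTwo i) (hnc : NoCycle T) (hs : ∀ i j, 0 < T.a i j → Simple T i j)
    {p q r : ℕ → Fin n} {k l m : ℕ} (hp : IsPath T p (k + 1)) (hq : IsPath T q (l + 1)) (hr : IsPath T r (m + 1))
    (hq0 : q 0 = p 0) (hr0 : r 0 = p 0) (h1 : p 1 ≠ q 1) (h2 : p 1 ≠ r 1) (h3 : q 1 ≠ r 1)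
    (hk : 1 ≤ k) (hl : 3 ≤ l) (hm : 3 ≤ m) : IsAffine T := by
  have d1 := fun i hi j hj => (arms_disjoint hnc hp hq hq0.symm h1 i hi j hj : 1 ≤ i → 1 ≤ j → p i ≠ q j)
  have d2 := fun i hi j hj => (arms_disjoint hnc hp hr hr0.symm h2 i hi j hj : 1 ≤ i → 1 ≤ j → p i ≠ r j)
  have d3 := fun i hi j hj => (arms_disjoint hnc hq hr (hq0.trans hr0.symm) h3 i hi j hj : 1 ≤ i → 1 ≤ j → q i ≠ r j)
  let g : Fin 8 → Fin 3 × ℕ := ![(1, 3), (1, 2), (1, 1), (0, 0), (2, 1), (2, 2), (2, 3), (0, 1)]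
  let f : Fin 8 → Fin n := fun i => ![p, q, r] (g i).1 (g i).2
  have hf : Function.Injective f := by
    intro a b e
    by_contra hab
    have hg : ∀ i : Fin 8, ((g i).1 = 0 ∧ (g i).2 ≤ 1) ∨ ((g i).1 ≠ 0 ∧ 1 ≤ (g i).2 ∧ (g i).2 ≤ 3) := by decide
    have hgi : g a ≠ g b := fun e => hab ((by decide : Function.Injective g) e)

    have ha := hg a
    have hb := hg b
    obtain ⟨i, x, hga⟩ : ∃ i x, g a = (i, x) := ⟨_, _, rfl⟩
    obtain ⟨j, y, hgb⟩ : ∃ j y, g b = (j, y) := ⟨_, _, rfl⟩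
    simp only [f, hga, hgb] at e ha hb
    rw [hga, hgb, ne_eq, Prod.ext_iff] at hgi
    fin_cases i <;> fin_cases j <;> simp at e ha hb hgi
    · exact hgi (hp.inj (show x < k + 1 by omega) (show y < k + 1 by omega) e)
    · rcases Nat.eq_zero_or_pos x with rfl | hx
      · exact ne_of_path T hq (show 0 < l + 1 by omega) (show y < l + 1 by omega) (by omega) (hq0.trans e)
      · exact d1 x (by omega) y (by omega) hx (by omega) e
    · rcases Nat.eq_zero_or_pos x with rfl | hx
      · exact ne_of_path T hr (show 0 < m + 1 by omega) (show y < m + 1 by omega) (by omega) (hr0.trans e)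
      · exact d2 x (by omega) y (by omega) hx (by omega) e
    · rcases Nat.eq_zero_or_pos y with rfl | hy
      · exact ne_of_path T hq (show 0 < l + 1 by omega) (show x < l + 1 by omega) (by omega) (hq0.trans e.symm)
      · exact d1 y (by omega) x (by omega) hy (by omega) e.symm
    · exact hgi (hq.inj (show x < l + 1 by omega) (show y < l + 1 by omega) e)
    · exact d3 x (by omega) y (by omega) (by omega) (by omega) e
    · rcases Nat.eq_zero_or_pos y with rfl | hy
      · exact ne_of_path T hr (show 0 < m + 1 by omega) (show x < m + 1 by omega) (by omega) (hr0.trans e.symm)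
      · exact d2 y (by omega) x (by omega) hy (by omega) e.symm
    · exact d3 y (by omega) x (by omega) (by omega) (by omega) e.symm
    · exact hgi (hr.inj (show x < m + 1 by omega) (show y < m + 1 by omega) e)
  obtain ⟨hn, ⟨t, -, ht⟩, hl', hz⟩ := e7_test T ⟨f, hf⟩ (fun j => hall _) (by
    intro a
    fin_cases a
    · exact a_comm T (q 2) (q 3) ▸ hq.adj 2 (by omega)
    · exact a_comm T (q 1) (q 2) ▸ hq.adj 1 (by omega)
    · exact a_comm T (p 0) (q 1) ▸ (hq0 ▸ hq.adj 0 (by omega) : 0 < T.a (p 0) (q 1))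
    · exact (show 0 < T.a (p 0) (r 1) by have h := hr.adj 0 (by omega); rwa [hr0] at h)
    · exact hr.adj 1 (by omega)
    · exact hr.adj 2 (by omega)
    · exact hp.adj 0 (by omega))
  refine Or.inr <| Or.inr <| Or.inr <| Or.inr <| Or.inr <| Or.inr <| Or.inr <| Or.inr <| Or.inr <| Or.inr <|
    Or.inr <| Or.inr <| Or.inl ⟨hn, emb_data hs hn ⟨f, hf⟩ _ (by decide) hl' hz ![1, 2, 3, 4, 3, 2, 1, 2] (q := t)
      (fun j => by rw [ht j]; fin_cases j <;> norm_num) id Function.injective_id 0 rfl _ _ (by decide) (by decide)⟩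

theorem e8_data (hall : ∀ i, T.IsMinusTwo i) (hnc : NoCycle T) (hs : ∀ i j, 0 < T.a i j → Simple T i j)
    {p q r : ℕ → Fin n} {k l m : ℕ} (hp : IsPath T p (k + 1)) (hq : IsPath T q (l + 1)) (hr : IsPath T r (m + 1))
    (hq0 : q 0 = p 0) (hr0 : r 0 = p 0) (h1 : p 1 ≠ q 1) (h2 : p 1 ≠ r 1) (h3 : q 1 ≠ r 1)
    (hk : 1 ≤ k) (hl : 2 ≤ l) (hm : 5 ≤ m) : IsAffine T := by
  have d1 := fun i hi j hj => (arms_disjoint hnc hp hq hq0.symm h1 i hi j hj : 1 ≤ i → 1 ≤ j → p i ≠ q j)
  have d2 := fun i hi j hj => (arms_disjoint hnc hp hr hr0.symm h2 i hi j hj : 1 ≤ i → 1 ≤ j → p i ≠ r j)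
  have d3 := fun i hi j hj => (arms_disjoint hnc hq hr (hq0.trans hr0.symm) h3 i hi j hj : 1 ≤ i → 1 ≤ j → q i ≠ r j)
  let g : Fin 9 → Fin 3 × ℕ := ![(2, 5), (2, 4), (2, 3), (2, 2), (2, 1), (0, 0), (1, 1), (1, 2), (0, 1)]
  let f : Fin 9 → Fin n := fun i => ![p, q, r] (g i).1 (g i).2
  have hf : Function.Injective f := by
    intro a b e
    by_contra hab
    have hg : ∀ i : Fin 9, ((g i).1 = 0 ∧ (g i).2 ≤ 1) ∨ ((g i).1 = 1 ∧ 1 ≤ (g i).2 ∧ (g i).2 ≤ 2) ∨
        ((g i).1 = 2 ∧ 1 ≤ (g i).2 ∧ (g i).2 ≤ 5) := by decide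
    have hgi : g a ≠ g b := fun e => hab ((by decide : Function.Injective g) e)
    have ha := hg a
    have hb := hg b
    obtain ⟨i, x, hga⟩ : ∃ i x, g a = (i, x) := ⟨_, _, rfl⟩
    obtain ⟨j, y, hgb⟩ : ∃ j y, g b = (j, y) := ⟨_, _, rfl⟩
    simp only [f, hga, hgb] at e ha hb
    rw [hga, hgb, ne_eq, Prod.ext_iff] at hgi
    fin_cases i <;> fin_cases j <;> simp at e ha hb hgi
    · exact hgi (hp.inj (show x < k + 1 by omega) (show y < k + 1 by omega) e)
    · rcases Nat.eq_zero_or_pos x with rfl | hx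
      · exact ne_of_path T hq (show 0 < l + 1 by omega) (show y < l + 1 by omega) (by omega) (hq0.trans e)
      · exact d1 x (by omega) y (by omega) hx (by omega) e
    · rcases Nat.eq_zero_or_pos x with rfl | hx
      · exact ne_of_path T hr (show 0 < m + 1 by omega) (show y < m + 1 by omega) (by omega) (hr0.trans e)
      · exact d2 x (by omega) y (by omega) hx (by omega) e
    · rcases Nat.eq_zero_or_pos y with rfl | hy
      · exact ne_of_path T hq (show 0 < l + 1 by omega) (show x < l + 1 by omega) (by omega) (hq0.trans e.symm)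
      · exact d1 y (by omega) x (by omega) hy (by omega) e.symm
    · exact hgi (hq.inj (show x < l + 1 by omega) (show y < l + 1 by omega) e)
    · exact d3 x (by omega) y (by omega) (by omega) (by omega) e
    · rcases Nat.eq_zero_or_pos y with rfl | hy
      · exact ne_of_path T hr (show 0 < m + 1 by omega) (show x < m + 1 by omega) (by omega) (hr0.trans e.symm)
      · exact d2 y (by omega) x (by omega) hy (by omega) e.symm
    · exact d3 y (by omega) x (by omega) (by omega) (by omega) e.symm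
    · exact hgi (hr.inj (show x < m + 1 by omega) (show y < m + 1 by omega) e)
  obtain ⟨hn, ⟨t, -, ht⟩, hl', hz⟩ := e8_test T ⟨f, hf⟩ (fun j => hall _) (by
    intro a
    fin_cases a
    · exact a_comm T (r 4) (r 5) ▸ hr.adj 4 (by omega)
    · exact a_comm T (r 3) (r 4) ▸ hr.adj 3 (by omega)
    · exact a_comm T (r 2) (r 3) ▸ hr.adj 2 (by omega)
    · exact a_comm T (r 1) (r 2) ▸ hr.adj 1 (by omega)
    · exact a_comm T (p 0) (r 1) ▸ (hr0 ▸ hr.adj 0 (by omega) : 0 < T.a (p 0) (r 1))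
    · exact (show 0 < T.a (p 0) (q 1) by have h := hq.adj 0 (by omega); rwa [hq0] at h)
    · exact hq.adj 1 (by omega)
    · exact hp.adj 0 (by omega))
  refine Or.inr <| Or.inr <| Or.inr <| Or.inr <| Or.inr <| Or.inr <| Or.inr <| Or.inr <| Or.inr <| Or.inr <|
    Or.inr <| Or.inr <| Or.inr ⟨hn, emb_data hs hn ⟨f, hf⟩ _ (by decide) hl' hz ![1, 2, 3, 4, 5, 6, 4, 2, 3] (q := t)
      (fun j => by rw [ht j]; fin_cases j <;> norm_num) id Function.injective_id 0 rfl _ _ (by decide) (by decide)⟩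

theorem one_branch_data (hall : ∀ i, T.IsMinusTwo i) (hnc : NoCycle T) (hs : ∀ i j, 0 < T.a i j → Simple T i j)
    {c x y z : Fin n} (hu : ∀ d, IsBranch T d → d = c) (hxy : x ≠ y) (hxz : x ≠ z) (hyz : y ≠ z)
    (hx : 0 < T.a c x) (hy : 0 < T.a c y) (hz : 0 < T.a c z)
    (h3 : ∀ j, 0 < T.a c j → j = x ∨ j = y ∨ j = z) : IsAffine T := by
  classical
  obtain ⟨p, k, hk, hp, p0, p1, e, he, m1, m1'⟩ := arm_spec hall hnc hs hu hx
  obtain ⟨q, l, hl, hq, q0, q1, f, hf, m2, m2'⟩ := arm_spec hall hnc hs hu hy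
  obtain ⟨r, m, hm, hr, r0, r1, g, hg, m3, m3'⟩ := arm_spec hall hnc hs hu hz
  have hW : ∀ j, 0 < T.a c j → T.a c j = T.w c := fun j h => (hs c j h).1
  have hsum : T.m x + T.m y + T.m z = 2 * T.m c := by
    have h0 := row_split T c
    have hsub : ({x, y, z} : Finset (Fin n)) ⊆ univ.erase c := by
      intro j hj
      simp only [mem_insert, mem_singleton] at hj
      refine mem_erase.2 ⟨?_, mem_univ j⟩
      rcases hj with rfl | rfl | rfl
      exacts [(ne_of_pos T hx).symm, (ne_of_pos T hy).symm, (ne_of_pos T hz).symm]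
    rw [← sum_subset hsub (fun j hj hj' => by
      simp only [mem_insert, mem_singleton] at hj'
      rw [le_antisymm (not_lt.1 fun hh => hj' (h3 j hh)) (T.offDiag_nonneg c j (mem_erase.1 hj).1.symm), zero_mul]),
      sum_insert (by simp [hxy, hxz]), sum_pair hyz, hW x hx, hW y hy, hW z hz, (hall c).2] at h0
    have := T.w_pos c
    nlinarith
  have key : ∀ {p q r : ℕ → Fin n} {k l m : ℕ} {e f g : ℤ}, IsPath T p (k + 1) → IsPath T q (l + 1) →
      IsPath T r (m + 1) → q 0 = p 0 → r 0 = p 0 → p 1 ≠ q 1 → p 1 ≠ r 1 → q 1 ≠ r 1 → k = 1 → 1 ≤ l → l ≤ m →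
      0 < g → T.m c = ((k : ℤ) + 1) * e → T.m c = ((l : ℤ) + 1) * f → T.m c = ((m : ℤ) + 1) * g →
      (k : ℤ) * e + l * f + m * g = 2 * T.m c → IsAffine T := by
    intro p q r k l m e f g hp hq hr q0 r0 a1 a2 a3 hk hl hlm hg e1 e2 e3 hsum
    by_cases h3 : 3 ≤ l
    · exact e7_data hall hnc hs hp hq hr q0 r0 a1 a2 a3 (by omega) h3 (by omega)
    by_cases h5 : l = 2 ∧ 5 ≤ m
    · exact e8_data hall hnc hs hp hq hr q0 r0 a1 a2 a3 (by omega) (by omega) h5.2
    exfalso
    subst hk
    obtain rfl | rfl : l = 1 ∨ l = 2 := by omega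
    · push_cast at *
      nlinarith
    · have hm4 : (m : ℤ) ≤ 4 := by omega
      push_cast at *
      nlinarith
  subst p1 q1 r1
  rw [m1', m2', m3'] at hsum
  by_cases hk1 : k = 1
  · rcases le_total l m with h | h
    · exact key hp hq hr (q0.trans p0.symm) (r0.trans p0.symm) hxy hxz hyz hk1 hl h hg m1 m2 m3 hsum
    · exact key hp hr hq (r0.trans p0.symm) (q0.trans p0.symm) hxz hxy hyz.symm hk1 hm h hf m1 m3 m2 (by linarith)
  by_cases hl1 : l = 1
  · rcases le_total k m with h | h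
    · exact key hq hp hr (p0.trans q0.symm) (r0.trans q0.symm) hxy.symm hyz hxz hl1 hk h hg m2 m1 m3 (by linarith)
    · exact key hq hr hp (r0.trans q0.symm) (p0.trans q0.symm) hyz hxy.symm hxz.symm hl1 hm h he m2 m3 m1 (by linarith)
  by_cases hm1 : m = 1
  · rcases le_total k l with h | h
    · exact key hr hp hq (p0.trans r0.symm) (q0.trans r0.symm) hxz.symm hyz.symm hxy hm1 hk h hf m3 m1 m2 (by linarith)
    · exact key hr hq hp (q0.trans r0.symm) (p0.trans r0.symm) hyz.symm hxz.symm hxy.symm hm1 hl h he m3 m2 m1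
        (by linarith)
  exact e6_data hall hnc hs hp hq hr (q0.trans p0.symm) (r0.trans p0.symm) hxy hxz hyz (by omega) (by omega) (by omega)

/-- A path through all indices without cycle. -/
theorem chain_data (hall : ∀ i, T.IsMinusTwo i) (hn : 3 ≤ n) {p : ℕ → Fin n} (hp : IsPath T p n)
    (hnb : ∀ i < n, ∀ j, 0 < T.a (p i) j → (1 ≤ i ∧ j = p (i - 1)) ∨ (i + 1 < n ∧ j = p (i + 1))) :
    IsAffine T := by
  classical
  by_cases hbb : ∃ i j, i < j ∧ j + 1 < n ∧ Big T (p i) (p (i + 1)) ∧ Big T (p j) (p (j + 1))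
  · obtain ⟨i, j, hij, hj, hi', hj'⟩ := hbb
    refine dd_data (k := j - i - 1) (hp.mono (i := i + 1) (k := j - i - 1 + 1) (by omega)) (x := p i) (z := p (j + 1))
      (ne_of_path T hp (by omega) hj (by omega)) (fun a ha => ne_of_path T hp (by omega) (by omega) (by omega))
      (fun a ha => ne_of_path T hp hj (by omega) (by omega)) (hall _) (hall _) ?_ ?_
    · simpa using hi'.symm
    · show Big T (p (i + 1 + (j - i - 1))) (p (j + 1))
      rwa [show i + 1 + (j - i - 1) = j by omega]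
  simp only [not_exists, not_and] at hbb
  have first : ∀ {q : ℕ → Fin n}, IsPath T q n →
      (∀ i < n, ∀ j, 0 < T.a (q i) j → (1 ≤ i ∧ j = q (i - 1)) ∨ (i + 1 < n ∧ j = q (i + 1))) →
      T.a (q 0) (q 1) * T.m (q 1) = 2 * T.w (q 0) * T.m (q 0) ∧
        ∀ i, i + 2 < n → T.a (q i) (q (i + 1)) * T.m (q i) + T.a (q (i + 1)) (q (i + 2)) * T.m (q (i + 2)) =
          2 * T.w (q (i + 1)) * T.m (q (i + 1)) := by
    intro q hq hnb
    refine ⟨row_nbr1 hall (hq.adj 0 (by omega)) (fun j hj => ?_), fun i hi => ?_⟩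
    · rcases hnb 0 (by omega) j hj with ⟨h, -⟩ | ⟨-, h⟩
      exacts [absurd h (by omega), h]
    · have h1 := hq.adj i (by omega)
      rw [a_comm] at h1 ⊢
      exact row_nbr2 hall (ne_of_path T hq (by omega) (by omega) (by omega)) h1 (hq.adj (i + 1) (by omega))
        fun j hj => by
          rcases hnb (i + 1) (by omega) j hj with ⟨-, h⟩ | ⟨-, h⟩
          exacts [Or.inl h, Or.inr h]
  have hnb' : ∀ i < n, ∀ j, 0 < T.a (p (n - 1 - i)) j →
      (1 ≤ i ∧ j = p (n - 1 - (i - 1))) ∨ (i + 1 < n ∧ j = p (n - 1 - (i + 1))) := by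
    intro i hi j hj
    rcases hnb (n - 1 - i) (by omega) j hj with ⟨h, rfl⟩ | ⟨h, rfl⟩
    · exact Or.inr ⟨by omega, congrArg p (by omega)⟩
    · exact Or.inl ⟨by omega, congrArg p (by omega)⟩
  -- all edges but the last are simple: only possible for `n = 3`
  have last : ∀ {q : ℕ → Fin n}, IsPath T q n →
      (∀ i < n, ∀ j, 0 < T.a (q i) j → (1 ≤ i ∧ j = q (i - 1)) ∨ (i + 1 < n ∧ j = q (i + 1))) →
      (∀ i, i + 2 < n → Simple T (q i) (q (i + 1))) → IsAffine T := by
    intro q hq hnb hs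
    obtain ⟨r0, r⟩ := first hq hnb
    have hw := w_const hs
    have pw := T.w_pos (q 0)
    have ha : ∀ i, i + 2 < n → T.a (q i) (q (i + 1)) = T.w (q 0) := fun i hi => (hs i hi).1.trans (hw i (by omega))
    have hlin : ∀ i, i + 2 ≤ n → T.m (q i) = ((i : ℤ) + 1) * T.m (q 0) := by
      intro i
      induction i using Nat.twoStepInduction with
      | zero => simp
      | one =>
        intro _
        rw [ha 0 (by omega)] at r0
        push_cast
        nlinarith
      | more i ih1 ih2 =>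
        intro hi
        have h := r i (by omega)
        rw [ha i (by omega), ha (i + 1) (by omega), hw (i + 1) (by omega), ih2 (by omega), ih1 (by omega)] at h
        push_cast at h ⊢
        nlinarith
    obtain ⟨j, hj⟩ : ∃ j, n = j + 3 := ⟨n - 3, by omega⟩
    have rl : T.a (q (j + 1)) (q (j + 2)) * T.m (q (j + 1)) = 2 * T.w (q (j + 2)) * T.m (q (j + 2)) := by
      have h := hq.adj (j + 1) (by omega)
      rw [a_comm] at h ⊢
      refine row_nbr1 hall h fun i hi => ?_
      rcases hnb (j + 2) (by omega) i hi with ⟨-, h⟩ | ⟨h, -⟩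
      exacts [h, absurd h (by omega)]
    have rm := r j (by omega)
    rw [ha j (by omega), hw (j + 1) (by omega), hlin j (by omega), hlin (j + 1) (by omega)] at rm
    rw [hlin (j + 1) (by omega)] at rl
    push_cast at rm rl
    have m0 := T.m_pos (q 0)
    have h3 : T.a (q (j + 1)) (q (j + 2)) * T.m (q (j + 2)) = T.w (q 0) * ((j : ℤ) + 3) * T.m (q 0) := by linarith
    have hw1 := hw (j + 1) (by omega)
    have pwl := T.w_pos (q (j + 2))
    have m1 : T.m (q 1) = 2 * T.m (q 0) := by simpa using hlin 1 (by omega)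
    have pp := mul_pos pw m0
    have pp' := mul_pos pwl m0
    have pj : 0 ≤ (j : ℤ) * (T.w (q 0) * T.m (q 0)) := by positivity
    have pj' : 0 ≤ (j : ℤ) * (T.w (q (j + 2)) * T.m (q 0)) := by positivity
    rcases pair_class T (by omega) (hall (q (j + 1))) (hall (q (j + 2))) (hq.adj (j + 1) (by omega)) with
      ⟨h1, h2⟩ | ⟨h1, h2⟩ | ⟨h1, h2⟩ | ⟨h1, h2⟩ | ⟨h1, h2⟩
    · rw [h1] at rl h3; rw [hw1] at rl h3; rw [show T.w (q (j + 2)) = T.w (q 0) by omega] at rl
      exfalso; nlinarith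
    · rw [h1, h2] at rl; rw [h1] at h3; rw [hw1] at rl h3
      exfalso; nlinarith
    · rw [h1] at rl h3; rw [hw1] at h2; rw [h2] at h3
      exfalso; nlinarith
    · rw [h1, h2] at rl; rw [h1] at h3; rw [hw1] at rl h3
      have hmul : (j : ℤ) * (T.w (q 0) * T.m (q 0)) = 0 := by nlinarith
      have hj0 : j = 0 := by
        rcases mul_eq_zero.1 hmul with hh | hh
        · exact_mod_cast hh
        · exact absurd hh (mul_pos pw m0).ne'
      subst hj0
      have m2 : T.m (q 2) = T.m (q 0) := by push_cast at rl; nlinarith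
      refine Or.inr <| Or.inr <| Or.inr <| Or.inr <| Or.inr <| Or.inr <| Or.inr <| Or.inr <| Or.inr <| Or.inl
        ⟨by omega, q, T.m (q 0), T.w (q 0), hq.inj, fun i hi => ?_, fun a b hab hb => ?_⟩
      · obtain rfl | rfl | rfl : i = 0 ∨ i = 1 ∨ i = 2 := by omega
        · simp
        · simp [m1, hw1, mul_comm]
        · simp [m2, h2, hw1, mul_comm]
      · obtain ⟨rfl, rfl⟩ | ⟨rfl, rfl⟩ | ⟨rfl, rfl⟩ : (a = 0 ∧ b = 1) ∨ (a = 1 ∧ b = 2) ∨ (a = 0 ∧ b = 2) := by omega
        · simp [ha 0 (by omega)]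
        · simp [h1, hw1, mul_comm]
        · have : T.a (q 0) (q 2) = 0 := le_antisymm (not_lt.1 fun hh => by
            rcases hnb 0 (by omega) _ hh with ⟨h, -⟩ | ⟨-, h⟩
            · omega
            · exact ne_of_path T hq (show 2 < n by omega) (show 1 < n by omega) (by omega) h)
            (T.offDiag_nonneg _ _ (ne_of_path T hq (by omega) (by omega) (by omega)))
          simp [this]
    · rw [h1] at rl h3; rw [hw1] at h2; rw [h2] at h3
      have hmul : (j : ℤ) * (T.w (q (j + 2)) * T.m (q 0)) = 0 := by nlinarith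
      have hj0 : j = 0 := by
        rcases mul_eq_zero.1 hmul with hh | hh
        · exact_mod_cast hh
        · exact absurd hh (mul_pos pwl m0).ne'
      subst hj0
      have m2 : T.m (q 2) = 3 * T.m (q 0) := by push_cast at rl; nlinarith
      refine Or.inr <| Or.inr <| Or.inr <| Or.inr <| Or.inr <| Or.inr <| Or.inr <| Or.inr <| Or.inr <| Or.inr <|
        Or.inl ⟨by omega, q, T.m (q 0), T.w (q 2), hq.inj, fun i hi => ?_, fun a b hab hb => ?_⟩
      · obtain rfl | rfl | rfl : i = 0 ∨ i = 1 ∨ i = 2 := by omega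
        · simp [h2, mul_comm]
        · simp [m1, hw1, h2, mul_comm]
        · simp [m2, mul_comm]
      · obtain ⟨rfl, rfl⟩ | ⟨rfl, rfl⟩ | ⟨rfl, rfl⟩ : (a = 0 ∧ b = 1) ∨ (a = 1 ∧ b = 2) ∨ (a = 0 ∧ b = 2) := by omega
        · simp [ha 0 (by omega), h2, mul_comm]
        · simp [h1, mul_comm]
        · have : T.a (q 0) (q 2) = 0 := le_antisymm (not_lt.1 fun hh => by
            rcases hnb 0 (by omega) _ hh with ⟨h, -⟩ | ⟨-, h⟩
            · omega
            · exact ne_of_path T hq (show 2 < n by omega) (show 1 < n by omega) (by omega) h)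
            (T.offDiag_nonneg _ _ (ne_of_path T hq (by omega) (by omega) (by omega)))
          simp [this]
  by_cases hmid : ∀ i, 1 ≤ i → i + 2 < n → Simple T (p i) (p (i + 1))
  · rcases simple_or_big T (hp.adj 0 (by omega)) with h0 | h0
    · refine last hp hnb fun i hi => ?_
      rcases Nat.eq_zero_or_pos i with rfl | hpos
      exacts [h0, hmid i hpos hi]
    · refine last hp.rev hnb' fun i hi => ?_
      refine (simple_or_big T (hp.rev.adj i (by omega))).resolve_right fun hb => ?_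
      have hb' := hb.symm
      have e : n - 1 - i = n - 1 - (i + 1) + 1 := by omega
      rw [e] at hb'
      exact hbb 0 (n - 1 - (i + 1)) (by omega) (by omega) h0 hb'
  simp only [not_forall] at hmid
  obtain ⟨i, hi1, hi2, hni⟩ := hmid
  have hb := (simple_or_big T (hp.adj i (by omega))).resolve_left hni
  rcases (show n = 4 ∨ 5 ≤ n by omega) with h4 | h5
  · exfalso
    obtain rfl : i = 1 := by omega
    have hz : ∀ a, a + 1 < n → a ≠ 1 → Simple T (p a) (p (a + 1)) := fun a ha hne =>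
      (simple_or_big T (hp.adj a ha)).resolve_right fun hb' => by
        rcases lt_or_gt_of_ne hne with h | h
        exacts [hbb a 1 h (by omega) hb' hb, hbb 1 a h ha hb hb']
    obtain ⟨s0, s0'⟩ := hz 0 (by omega) (by omega)
    obtain ⟨s2, s2'⟩ := hz 2 (by omega) (by omega)
    obtain ⟨r0, r⟩ := first hp hnb
    have r1 := r 0 (by omega)
    have r2 := r 1 (by omega)
    obtain ⟨q0, -⟩ := first hp.rev hnb'
    simp only [h4, Nat.reduceSub] at q0
    simp only [Nat.zero_add, Nat.reduceAdd] at *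
    rw [a_comm T (p 3) (p 2), s2'] at q0
    rw [show T.w (p 1) = T.w (p 0) by omega] at r1
    rw [s0] at r0 r1
    rw [s2] at r2
    rw [show T.w (p 3) = T.w (p 2) by omega] at q0
    have := T.w_pos (p 0); have := T.w_pos (p 2); have := T.m_pos (p 0); have := T.m_pos (p 3)
    have e1 : T.m (p 1) = 2 * T.m (p 0) := by nlinarith
    have e2 : T.m (p 2) = 2 * T.m (p 3) := by nlinarith
    rw [e1, e2] at r1 r2
    have hw1 : T.w (p 1) = T.w (p 0) := by omega
    have hm := (mid_class T (show 3 < n by omega) (i := p 2) (c := p 1) (k := p 0)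
      (ne_of_path T hp (by omega) (by omega) (by omega)) (hall _) (hall _) (hall _) hb.1
      (by rw [a_comm]; exact hp.adj 0 (by omega))).1
    rw [hw1] at hm
    rcases hm with hm | ⟨h1, h2⟩ | ⟨h1, h2⟩
    · exact hni hm
    · rw [h1, h2] at r2; rw [h1] at r1
      nlinarith
    · rw [h1, h2] at r1; rw [h1] at r2
      nlinarith
  -- extended F4
  have f4 : ∀ {q : ℕ → Fin n}, IsPath T q 5 → Big T (q 2) (q 3) → IsAffine T := by
    intro q hq hb
    obtain ⟨hn5, e01, e12, e23, e34, z02, z03, z04, z13, z14, z24, t, -, u0, u1, u2, u3, u4⟩ := f4_test T hq hb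
    obtain ⟨s0, s0'⟩ := simple_of_nA (ne_of_path T hq (by omega) (by omega) (by omega)) e01
    obtain ⟨s1, s1'⟩ := simple_of_nA (ne_of_path T hq (by omega) (by omega) (by omega)) e12
    obtain ⟨s3, s3'⟩ := simple_of_nA (ne_of_path T hq (by omega) (by omega) (by omega)) e34
    have cases5 : ∀ y, y = q 0 ∨ y = q 1 ∨ y = q 2 ∨ y = q 3 ∨ y = q 4 := fun y => by
      have hbij : Function.Bijective (fun i : Fin 5 => q i) :=
        (Fintype.bijective_iff_injective_and_card _).2
          ⟨fun a b e => Fin.ext (hq.inj a.2 b.2 e), by simp [hn5]⟩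
      obtain ⟨i, rfl⟩ := hbij.2 y
      fin_cases i <;> simp
    have w1 : T.w (q 1) = T.w (q 0) := by omega
    have w2 : T.w (q 2) = T.w (q 0) := by omega
    have w4 : T.w (q 4) = T.w (q 3) := by omega
    have mu : ∀ {i j : Fin n} (c : ℤ) (r : ℝ), T.w i = T.w j → nu T j = r → nu T i = (c : ℝ) * r →
        T.m i = c * T.m j := by
      intro i j c r hw hj hi
      rw [← hj, nu, nu, sw, sw, hw] at hi
      have h3 : (T.m i : ℝ) = c * T.m j :=
        mul_right_cancel₀ (Real.sqrt_pos.2 (show (0 : ℝ) < (T.w j : ℝ) by exact_mod_cast T.w_pos j)).ne'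
          (by linarith)
      exact_mod_cast h3
    have m1 := mu 2 t w1 u0 (by rw [u1]; norm_num)
    have m2 := mu 3 t w2 u0 (by rw [u2]; norm_num)
    have m3 := mu 2 _ w4.symm u4 (by rw [u3]; push_cast; ring)
    have r4 := row_one (hall (q 4)) (x := q 3) (ne_of_path T hq (by omega) (by omega) (by omega)) fun j hj hj' => by
      rcases cases5 j with rfl | rfl | rfl | rfl | rfl
      · rw [a_comm]; exact z04
      · rw [a_comm]; exact z14
      · rw [a_comm]; exact z24
      · exact absurd rfl hj'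
      · exact absurd rfl hj
    have r2 := row_split T (q 2)
    rw [sum_eq_add_of_mem (q 1) (q 3)
      (mem_erase.2 ⟨ne_of_path T hq (by omega) (by omega) (by omega), mem_univ _⟩)
      (mem_erase.2 ⟨ne_of_path T hq (by omega) (by omega) (by omega), mem_univ _⟩)
      (ne_of_path T hq (by omega) (by omega) (by omega)) (fun j hj hne => by
        rcases cases5 j with rfl | rfl | rfl | rfl | rfl
        · rw [a_comm, z02, zero_mul]
        · exact absurd rfl hne.1
        · exact absurd rfl (mem_erase.1 hj).1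
        · exact absurd rfl hne.2
        · rw [z24, zero_mul]), (hall _).2, a_comm T (q 2) (q 1), s1, w1, w2, m1, m2] at r2
    have p0 := T.w_pos (q 0)
    have p3 := T.w_pos (q 3)
    have five : ∀ i < n, i = 0 ∨ i = 1 ∨ i = 2 ∨ i = 3 ∨ i = 4 := fun i hi => by omega
    have inj : Set.InjOn q (Set.Iio n) := fun a ha b hb e =>
      hq.inj (show a < 5 from hn5 ▸ ha) (show b < 5 from hn5 ▸ hb) e
    rcases dbl_of_nA (ne_of_path T hq (by omega) (by omega) (by omega)) e23 with ⟨d1, d2⟩ | ⟨d1, d2⟩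
    · rw [d1, w2] at r2
      rw [w2] at d1 d2
      have m4 : T.m (q 4) = T.m (q 0) := by nlinarith
      refine Or.inr <| Or.inr <| Or.inr <| Or.inr <| Or.inr <| Or.inr <| Or.inr <| Or.inl
        ⟨hn5, q, T.m (q 0), T.w (q 0), inj, fun i hi => ?_, fun a b hab hb => ?_⟩
      · rcases five i hi with rfl | rfl | rfl | rfl | rfl <;> simp <;> omega
      · rcases five a (by omega) with rfl | rfl | rfl | rfl | rfl <;>
          rcases five b hb with rfl | rfl | rfl | rfl | rfl <;> simp at hab ⊢ <;> omega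
    · rw [w2] at d2
      rw [d1, d2] at r2
      have m4 : T.m (q 4) = 2 * T.m (q 0) := by nlinarith
      refine Or.inr <| Or.inr <| Or.inr <| Or.inr <| Or.inr <| Or.inr <| Or.inr <| Or.inr <| Or.inl
        ⟨hn5, q, T.m (q 0), T.w (q 3), inj, fun i hi => ?_, fun a b hab hb => ?_⟩
      · rcases five i hi with rfl | rfl | rfl | rfl | rfl <;> simp <;> omega
      · rcases five a (by omega) with rfl | rfl | rfl | rfl | rfl <;>
          rcases five b hb with rfl | rfl | rfl | rfl | rfl <;> simp at hab ⊢ <;> omega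
  by_cases h2 : 2 ≤ i
  · refine f4 (hp.mono (i := i - 2) (k := 5) (by omega)) ?_
    show Big T (p (i - 2 + 2)) (p (i - 2 + 3))
    rwa [show i - 2 + 2 = i by omega, show i - 2 + 3 = i + 1 by omega]
  · obtain rfl : i = 1 := by omega
    exact f4 (hp.mono (i := 0) (k := 5) (by omega)).rev (by simpa using hb.symm)

/-- A (-2)-configuration on all of at least three indices is affine. -/
theorem isAffine_of_minusTwo (hn : 3 ≤ n) (hall : ∀ i, T.IsMinusTwo i) : IsAffine T := by
  classical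
  by_cases hnc : NoCycle T
  swap
  · simp only [NoCycle, not_forall, not_not] at hnc
    obtain ⟨p, t, ht, hp, hc⟩ := hnc
    exact cycle_data ht hp hc
  by_cases hbr : ∃ c, IsBranch T c
  · obtain ⟨c, hc⟩ := hbr
    by_cases h2 : ∃ d, d ≠ c ∧ IsBranch T d
    · obtain ⟨d, hd, hd'⟩ := h2
      exact two_branch_data hall hnc hd.symm hc hd'
    by_cases hbig : ∃ u v, Big T u v
    · obtain ⟨u, v, huv⟩ := hbig
      exact branch_big_data hall hnc hc huv
    have hs : ∀ i j, 0 < T.a i j → Simple T i j := fun i j h =>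
      (simple_or_big T h).resolve_right fun hb => hbig ⟨i, j, hb⟩
    have hu : ∀ d, IsBranch T d → d = c := fun d hd => by_contra fun hne => h2 ⟨d, hne, hd⟩
    obtain ⟨x, y, z, hxy, hxz, hyz, hx, hy, hz⟩ := hc
    by_cases h4 : ∀ j, 0 < T.a c j → j = x ∨ j = y ∨ j = z
    · exact one_branch_data hall hnc hs hu hxy hxz hyz hx hy hz h4
    · simp only [not_forall, not_or] at h4
      obtain ⟨u, hu', n1, n2, n3⟩ := h4
      refine four_data hall (x := x) (y := y) (z := z) (u := u) ?_ hx hy hz hu'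
      intro a b e
      fin_cases a <;> fin_cases b <;> simp_all [eq_comm]
  · let P : ℕ → Prop := fun k => ∃ p, IsPath T p (k + 1)
    have hbd : ∀ k, P k → k < n := fun k ⟨p, hp⟩ => by
      have := Fintype.card_le_of_injective (fun i : Fin (k + 1) => p i) fun a b e => Fin.ext (hp.inj a.2 b.2 e)
      simp only [Fintype.card_fin] at this
      omega
    obtain ⟨y, hy, hy'⟩ := exists_nbr T (show 1 < n by omega) ⟨0, by omega⟩
    have h0 : IsPath T (fun _ => (⟨0, by omega⟩ : Fin n)) (0 + 1) :=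
      ⟨fun a ha b hb _ => by rw [Set.mem_Iio] at ha hb; omega, fun _ _ => hall _, fun a ha => by omega⟩
    have h1 : P 1 := ⟨_, h0.snoc (hall y) (fun i _ => hy) hy'⟩
    let k := Nat.findGreatest P n
    obtain ⟨p, hp⟩ : P k := Nat.findGreatest_spec (hbd 1 h1).le h1
    have hk1 : 1 ≤ k := Nat.le_findGreatest (hbd 1 h1).le h1
    have hend : ∀ {q : ℕ → Fin n}, IsPath T q (k + 1) → ∀ j, 0 < T.a (q k) j → j = q (k - 1) := by
      intro q hq j hj
      by_cases hjp : ∃ i ≤ k, j = q i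
      · obtain ⟨i, hi, rfl⟩ := hjp
        rw [← nbr_last hnc hq hi hj, Nat.add_sub_cancel]
      · simp only [not_exists, not_and] at hjp
        have hP : P (k + 1) := ⟨_, hq.snoc (hall j) hjp hj⟩
        have := Nat.le_findGreatest (hbd _ hP).le hP
        omega
    have hnb : ∀ i ≤ k, ∀ j, 0 < T.a (p i) j → (1 ≤ i ∧ j = p (i - 1)) ∨ (i < k ∧ j = p (i + 1)) := by
      intro i hi j hj
      rcases (show i = 0 ∨ i = k ∨ (1 ≤ i ∧ i < k) by omega) with rfl | rfl | ⟨hi1, hi2⟩
      · have h := hend hp.rev j (by simpa using hj)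
        simp only [show k + 1 - 1 - (k - 1) = 1 by omega] at h
        exact Or.inr ⟨hk1, h⟩
      · exact Or.inl ⟨hk1, hend hp j hj⟩
      · by_contra hh
        simp only [not_or, not_and] at hh
        have h1' := hp.adj (i - 1) (by omega)
        rw [show i - 1 + 1 = i by omega, a_comm] at h1'
        exact hbr ⟨p i, p (i - 1), p (i + 1), j, ne_of_path T hp (by omega) (by omega) (by omega),
          Ne.symm (hh.1 hi1), Ne.symm (hh.2 hi2), h1', hp.adj i (by omega), hj⟩
    have hnk : n = k + 1 := by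
      let I : Finset (Fin n) := univ.image fun i : Fin (k + 1) => p i
      have hI : I = univ := by
        by_contra hne
        obtain ⟨a, ha, b, hb, hab⟩ := T.connected I ⟨p 0, mem_image.2 ⟨0, mem_univ _, rfl⟩⟩ hne
        obtain ⟨⟨i, hi⟩, -, rfl⟩ := mem_image.1 ha
        have hpos := pos_of_ne (fun e : p i = b => hb (e ▸ ha)) hab
        rcases hnb i (by omega) b hpos with ⟨h, rfl⟩ | ⟨h, rfl⟩
        · exact hb (mem_image.2 ⟨⟨i - 1, by omega⟩, mem_univ _, rfl⟩)
        · exact hb (mem_image.2 ⟨⟨i + 1, by omega⟩, mem_univ _, rfl⟩)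
      have := congrArg card hI
      rw [card_image_of_injective _ fun a b e => Fin.ext (hp.inj a.2 b.2 e)] at this
      simpa using this.symm
    rw [← hnk] at hp
    refine chain_data hall hn hp fun i hi j hj => ?_
    rcases hnb i (by omega) j hj with h | ⟨h1, h2⟩
    exacts [Or.inl h, Or.inr ⟨by omega, h2⟩]

theorem allMinusTwo_of_genus_one (hn : 1 < n) (hmin : T.IsMinimal) (hg : T.genus = 1) (i : Fin n) :
    T.IsMinusTwo i := by
  refine (isMinusTwo_iff T hn i).2 ?_
  have h := two_genus T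
  rw [hg, sub_self, mul_zero] at h
  exact (sum_eq_zero_iff_of_nonneg fun j _ => contrib_nonneg T hmin hn j).1 h.symm i (mem_univ i)

end Groth.ModelsGraphs

namespace Groth.ModelsGraphs

open Finset Matrix Models

theorem IsListed.perm {n : ℕ} {T : NumericalType n} {f : ℕ → Fin n} {m w : ℤ} {M W : ℕ → ℤ} {A : ℕ → ℕ → ℤ}
    (h : IsListed T f m w M W A) :
    ∃ σ : Equiv.Perm (Fin n), (∀ i : Fin n, σ i = f i) := by
  refine ⟨Equiv.ofBijective (fun i : Fin n => f i) (Finite.injective_iff_bijective.1 fun a b e => ?_), fun i => rfl⟩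
  exact Fin.ext (h.1 a.2 b.2 e)

theorem facts_of_genus_one {n : ℕ} {T : NumericalType n} (hn : 3 ≤ n) (hmin : T.IsMinimal) (hg : T.genus = 1) :
    (∀ i, T.g i = 0) ∧ (∀ i, T.a i i = -2 * T.w i) ∧ IsAffine T := by
  have hall := allMinusTwo_of_genus_one (T := T) (by omega) hmin hg
  exact ⟨fun i => (hall i).1, fun i => (hall i).2, isAffine_of_minusTwo hn hall⟩

end Groth.ModelsGraphs
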