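import Groth.Agent.ModelsGraphs.AffineData

/-! Paths in the graph of a type all of whose indices are (-2)-indices. -/

namespace Groth.ModelsGraphs

open Finset Matrix Models

variable {n : ℕ} {T : NumericalType n}

/-- There is no cycle. -/
def NoCycle (T : NumericalType n) : Prop :=
  ∀ p : ℕ → Fin n, ∀ t, 3 ≤ t → IsPath T p t → ¬ 0 < T.a (p (t - 1)) (p 0)

theorem cycle_data {p : ℕ → Fin n} {t : ℕ} (ht : 3 ≤ t) (h : IsPath T p t) (hc : 0 < T.a (p (t - 1)) (p 0)) :
    IsAffine T := by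
  obtain ⟨hn, ⟨q, -, hq⟩, he, hl, hz⟩ := cycle_test T ht h hc
  subst hn
  have hs : ∀ i, i + 1 < n → Simple T (p i) (p (i + 1)) := fun i hi =>
    simple_of_nA (ne_of_path T h (by omega) hi (by omega)) (he i hi)
  have hw : ∀ i < n, T.w (p i) = T.w (p 0) := fun i hi =>
    w_const (t := n + 1) (fun j hj => hs j (by omega)) i (by omega)
  have hm : ∀ i < n, T.m (p i) = T.m (p 0) := fun i hi =>
    m_eq_of_nu (hw i hi) ((hq i hi).trans (hq 0 (by omega)).symm)
  refine Or.inl ⟨p, T.m (p 0), T.w (p 0), h.inj, fun i hi => by simp [cycM, hm i hi, hw i hi], fun i j hij hj => ?_⟩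
  simp only [cycA]
  split_ifs with h1
  · rcases h1 with rfl | ⟨rfl, h2⟩
    · rw [(hs i hj).1, hw i (by omega), mul_one]
    · have := simple_of_nA (ne_of_path T h (by omega) (by omega) (by omega)) hl
      rw [show j = n - 1 by omega, a_comm, this.2, mul_one]
  · rw [hz i j (by omega) hj (by omega), mul_zero]

/-- Append a vertex after `p k`. -/
def snoc (p : ℕ → Fin n) (k : ℕ) (y : Fin n) (i : ℕ) : Fin n := if i ≤ k then p i else y

theorem IsPath.snoc {p : ℕ → Fin n} {k : ℕ} (h : IsPath T p (k + 1)) {y : Fin n} (hy : T.IsMinusTwo y)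
    (hnp : ∀ i ≤ k, y ≠ p i) (ha : 0 < T.a (p k) y) : IsPath T (snoc p k y) (k + 2) where
  inj a ha' b hb e := by
    rw [Set.mem_Iio] at ha' hb
    simp only [Groth.ModelsGraphs.snoc] at e
    split_ifs at e with h1 h2 h2
    · exact h.inj (show a < k + 1 by omega) (show b < k + 1 by omega) e
    · exact absurd e.symm (hnp a h1)
    · exact absurd e (hnp b h2)
    · omega
  two a _ := by
    simp only [Groth.ModelsGraphs.snoc]
    split_ifs with h1
    exacts [h.two a (by omega), hy]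
  adj a ha' := by
    simp only [Groth.ModelsGraphs.snoc, if_pos (show a ≤ k by omega)]
    split_ifs with h1
    · exact h.adj a (by omega)
    · rwa [show a = k by omega]

theorem snoc_of_le {p : ℕ → Fin n} {k i : ℕ} {y : Fin n} (h : i ≤ k) : Groth.ModelsGraphs.snoc p k y i = p i :=
  if_pos h

theorem snoc_self {p : ℕ → Fin n} {k : ℕ} {y : Fin n} : Groth.ModelsGraphs.snoc p k y (k + 1) = y :=
  if_neg (by omega)

theorem nbr_last {p : ℕ → Fin n} {k : ℕ} (hnc : NoCycle T) (h : IsPath T p (k + 1)) {i : ℕ} (hi : i ≤ k)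
    (ha : 0 < T.a (p k) (p i)) : i + 1 = k := by
  have hne := ne_of_pos T ha
  by_contra hh
  have hik : i ≠ k := fun e => hne (by rw [e])
  refine hnc _ (k - i + 1) (by omega) (h.mono (i := i) (k := k - i + 1) (by omega)) ?_
  show 0 < T.a (p (i + (k - i + 1 - 1))) (p (i + 0))
  rw [show i + (k - i + 1 - 1) = k by omega, Nat.add_zero]
  exact ha

theorem nbr_first {p : ℕ → Fin n} {k : ℕ} (hnc : NoCycle T) (h : IsPath T p (k + 1)) {i : ℕ} (hi : i ≤ k)
    (ha : 0 < T.a (p 0) (p i)) : i = 1 := by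
  have hne := ne_of_pos T ha
  by_contra hh
  have hik : i ≠ 0 := fun e => hne (by rw [e])
  refine hnc _ (i + 1) (by omega) (h.mono (i := 0) (k := i + 1) (by omega)) ?_
  show 0 < T.a (p (0 + (i + 1 - 1))) (p (0 + 0))
  rw [show 0 + (i + 1 - 1) = i by omega, Nat.add_zero, a_comm]
  exact ha

theorem not_on_path {p : ℕ → Fin n} {k : ℕ} (hnc : NoCycle T) (h : IsPath T p (k + 1)) {x : Fin n}
    (ha : 0 < T.a (p 0) x) (h1 : x ≠ p 1) : ∀ i ≤ k, x ≠ p i := by
  intro i hi e
  subst e
  exact h1 (by rw [nbr_first hnc h hi ha])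

theorem exists_path (hall : ∀ i, T.IsMinusTwo i) (c x : Fin n) :
    ∃ p k, IsPath T p (k + 1) ∧ p 0 = c ∧ p k = x := by
  classical
  by_contra hx
  obtain ⟨a, ha, b, hb, hab⟩ := T.connected
    (univ.filter fun y => ∃ p k, IsPath T p (k + 1) ∧ p 0 = c ∧ p k = y)
    ⟨c, mem_filter.2 ⟨mem_univ c, fun _ => c, 0,
      ⟨fun a ha b hb _ => by rw [Set.mem_Iio] at ha hb; omega, fun _ _ => hall c, fun a ha => by omega⟩, rfl, rfl⟩⟩
    (fun e => by
      have := mem_univ x
      rw [← e] at this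
      exact hx (mem_filter.1 this).2)
  rw [mem_filter] at ha
  obtain ⟨-, p, k, hp, h0, hk⟩ := ha
  refine hb (mem_filter.2 ⟨mem_univ b, ?_⟩)
  by_cases hbp : ∃ i ≤ k, b = p i
  · obtain ⟨i, hi, rfl⟩ := hbp
    exact ⟨p, i, by simpa using hp.mono (i := 0) (k := i + 1) (by omega), h0, rfl⟩
  · simp only [not_exists, not_and] at hbp
    have hab' : a ≠ b := fun e => hbp k le_rfl (hk ▸ e.symm)
    exact ⟨_, k + 1, hp.snoc (hall b) hbp (hk ▸ pos_of_ne hab' hab), (snoc_of_le (Nat.zero_le k)).trans h0, snoc_self⟩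

theorem arms_disjoint {p q : ℕ → Fin n} {k l : ℕ} (hnc : NoCycle T) (hp : IsPath T p (k + 1))
    (hq : IsPath T q (l + 1)) (h0 : p 0 = q 0) (h1 : p 1 ≠ q 1) :
    ∀ i ≤ k, ∀ j ≤ l, 1 ≤ i → 1 ≤ j → p i ≠ q j := by
  intro i
  induction i using Nat.strong_induction_on with
  | _ i ih =>
    intro hi j hj hi1 hj1 e
    have ht : 3 ≤ i + j := by
      by_contra hh
      obtain ⟨rfl, rfl⟩ : i = 1 ∧ j = 1 := by omega
      exact h1 e
    refine hnc (fun a => if a ≤ i then p a else q (i + j - a)) (i + j) ht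
      ⟨fun a ha b hb e' => ?_, fun a ha => ?_, fun a ha => ?_⟩ ?_
    · rw [Set.mem_Iio] at ha hb
      try simp only at e'
      have key : ∀ a ≤ i, ∀ b, i < b → b < i + j → p a ≠ q (i + j - b) := by
        intro a ha b hb hb' he
        rcases (show a = 0 ∨ (1 ≤ a ∧ a < i) ∨ a = i by omega) with rfl | ⟨ha1, ha2⟩ | rfl
        · exact ne_of_path T hq (show 0 < l + 1 by omega) (show i + j - b < l + 1 by omega) (by omega)
            (h0.symm.trans he)
        · exact ih a ha2 (by omega) (i + j - b) (by omega) ha1 (by omega) he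
        · exact ne_of_path T hq (show j < l + 1 by omega) (show a + j - b < l + 1 by omega) (by omega)
            (e.symm.trans he)
      split_ifs at e' with c1 c2 c2
      · exact hp.inj (show a < k + 1 by omega) (show b < k + 1 by omega) e'
      · exact absurd e' (key a c1 b (by omega) hb)
      · exact absurd e'.symm (key b c2 a (by omega) ha)
      · have := hq.inj (show i + j - a < l + 1 by omega) (show i + j - b < l + 1 by omega) e'
        omega
    · beta_reduce
      split_ifs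
      exacts [hp.two a (by omega), hq.two _ (by omega)]
    · beta_reduce
      split_ifs with c1 c2 c2
      · exact hp.adj a (by omega)
      · obtain rfl : a = i := by omega
        have h := hq.adj (j - 1) (by omega)
        rw [show j - 1 + 1 = j by omega, a_comm, ← e] at h
        rwa [show a + j - (a + 1) = j - 1 by omega]
      · omega
      · have h := hq.adj (i + j - (a + 1)) (by omega)
        rwa [show i + j - (a + 1) + 1 = i + j - a by omega, a_comm] at h
    · simp only [if_pos (Nat.zero_le i)]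
      have h := hq.adj 0 (by omega)
      rw [a_comm] at h
      split_ifs with c
      · obtain rfl : j = 1 := by omega
        rw [show i + 1 - 1 = i by omega, e, h0]
        exact h
      · rw [show i + j - (i + j - 1) = 1 by omega, h0]
        exact h

theorem exists_two_ne {x y z d : Fin n} (hxy : x ≠ y) (hxz : x ≠ z) (hyz : y ≠ z) {P : Fin n → Prop}
    (hx : P x) (hy : P y) (hz : P z) : ∃ u v, u ≠ v ∧ u ≠ d ∧ v ≠ d ∧ P u ∧ P v := by
  by_cases h1 : x = d
  · exact ⟨y, z, hyz, h1 ▸ hxy.symm, h1 ▸ hxz.symm, hy, hz⟩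
  · by_cases h2 : y = d
    · exact ⟨x, z, hxz, h1, h2 ▸ hyz.symm, hx, hz⟩
    · exact ⟨x, y, hxy, h1, h2, hx, hy⟩

/-- A vertex with three neighbours. -/
def IsBranch (T : NumericalType n) (c : Fin n) : Prop :=
  ∃ x y z, x ≠ y ∧ x ≠ z ∧ y ≠ z ∧ 0 < T.a c x ∧ 0 < T.a c y ∧ 0 < T.a c z

theorem four_data (hall : ∀ i, T.IsMinusTwo i) {c x y z u : Fin n} (hd : Function.Injective ![x, y, z, u])
    (hx : 0 < T.a c x) (hy : 0 < T.a c y) (hz : 0 < T.a c z) (hu : 0 < T.a c u) : IsAffine T := by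
  refine ff_data (p := fun _ => c) (k := 0) ⟨fun a ha b hb _ => by rw [Set.mem_Iio] at ha hb; omega,
    fun _ _ => hall c, fun a ha => by omega⟩ hd (fun a i _ => ?_) (fun a => hall _) hx hy hz hu
  fin_cases a
  exacts [(ne_of_pos T hx).symm, (ne_of_pos T hy).symm, (ne_of_pos T hz).symm, (ne_of_pos T hu).symm]

theorem two_branch_data (hall : ∀ i, T.IsMinusTwo i) (hnc : NoCycle T) {c c' : Fin n} (hcc : c ≠ c')
    (hc : IsBranch T c) (hc' : IsBranch T c') : IsAffine T := by
  obtain ⟨p, k, hp, h0, hk⟩ := exists_path hall c c'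
  subst h0 hk
  obtain ⟨x, y, z, a1, a2, a3, a4, a5, a6⟩ := hc
  obtain ⟨x', y', z', b1, b2, b3, b4, b5, b6⟩ := hc'
  obtain ⟨u, v, huv, hu1, hv1, hu, hv⟩ := exists_two_ne (d := p 1) (P := fun j => 0 < T.a (p 0) j) a1 a2 a3 a4 a5 a6
  obtain ⟨u', v', huv', hu1', hv1', hu', hv'⟩ :=
    exists_two_ne (d := p (k - 1)) (P := fun j => 0 < T.a (p k) j) b1 b2 b3 b4 b5 b6
  have hr := hp.rev
  have nu' := not_on_path hnc hr (x := u') (by simpa using hu') (by simpa using hu1')
  have nv' := not_on_path hnc hr (x := v') (by simpa using hv') (by simpa using hv1')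
  have flip : ∀ {w : Fin n}, (∀ i ≤ k, w ≠ p (k + 1 - 1 - i)) → ∀ i ≤ k, w ≠ p i := fun h i hi => by
    have := h (k - i) (by omega)
    rwa [show k + 1 - 1 - (k - i) = i by omega] at this
  have nu := not_on_path hnc hp hu hu1
  have nv := not_on_path hnc hp hv hv1
  have k1 : 1 ≤ k := by
    by_contra hh
    exact hcc (by rw [show k = 0 by omega])
  have cross : ∀ {w w' : Fin n}, 0 < T.a (p 0) w → 0 < T.a (p k) w' → (∀ i ≤ k, w' ≠ p i) → w ≠ w' := by
    intro w w' h1 h2 h3 e
    subst e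
    refine hnc _ (k + 2) (by omega) (hp.snoc (hall w) h3 h2) ?_
    rw [show k + 2 - 1 = k + 1 by omega, snoc_self, snoc_of_le (Nat.zero_le k), a_comm]
    exact h1
  refine ff_data hp (x := u) (y := v) (z := u') (u := v') ?_ ?_ (fun a => hall _) hu hv hu' hv'
  · intro a b e
    have := cross hu hu' (flip nu'); have := cross hu hv' (flip nv')
    have := cross hv hu' (flip nu'); have := cross hv hv' (flip nv')
    fin_cases a <;> fin_cases b <;> simp_all [eq_comm]
  · intro a
    fin_cases a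
    exacts [nu, nv, flip nu', flip nv']

theorem branch_big_data (hall : ∀ i, T.IsMinusTwo i) (hnc : NoCycle T) {c u v : Fin n} (hc : IsBranch T c)
    (hb : Big T u v) : IsAffine T := by
  obtain ⟨x, y, z, a1, a2, a3, a4, a5, a6⟩ := hc
  obtain ⟨p, k, hp, h0, hk⟩ : ∃ p k, IsPath T p (k + 2) ∧ p 0 = c ∧ Big T (p k) (p (k + 1)) := by
    obtain ⟨p, k, hp, h0, hk⟩ := exists_path hall c u
    by_cases hvp : ∃ i ≤ k, v = p i
    · obtain ⟨i, hi, rfl⟩ := hvp
      obtain rfl := nbr_last hnc hp hi (hk ▸ hb.1)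
      exact ⟨p, i, hp, h0, (hk ▸ hb).symm⟩
    · simp only [not_exists, not_and] at hvp
      refine ⟨_, k, hp.snoc (hall v) hvp (hk ▸ hb.1), (snoc_of_le (Nat.zero_le k)).trans h0, ?_⟩
      rw [snoc_of_le le_rfl, snoc_self]
      exact hk ▸ hb
  subst h0
  obtain ⟨u, v, huv, hu1, hv1, hu, hv⟩ := exists_two_ne (d := p 1) (P := fun j => 0 < T.a (p 0) j) a1 a2 a3 a4 a5 a6
  have nu := not_on_path hnc hp hu hu1
  have nv := not_on_path hnc hp hv hv1
  have hq : IsPath T (fun i => p (k + 2 - 1 - (1 + i))) (k + 1) := hp.rev.mono (i := 1) (k := k + 1) (by omega)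
  refine fd_data hq (x := u) (y := v) (z := p (k + 1)) huv (nu _ le_rfl) (nv _ le_rfl)
    (fun i _ => nu _ (by omega)) (fun i _ => nv _ (by omega))
    (fun i _ => ne_of_path T hp (by omega) (by omega) (by omega)) (hall _) (hall _) (hall _) ?_ ?_ ?_
  · simpa [show k + 2 - 1 - (1 + k) = 0 by omega] using hu
  · simpa [show k + 2 - 1 - (1 + k) = 0 by omega] using hv
  · simpa [show k + 2 - 1 - (1 + 0) = k by omega] using hk

end Groth.ModelsGraphs
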