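import Groth.Agent.Misc14.GraphTree
import Groth.Prelude.Def_W4c4cptpiccptjacBI
import Mathlib

/-! The Basic Inequality on weighted graphs. -/

namespace Groth.ModelsGraphs.BI

open Finset LabGraph Groth.Misc14.GraphTree

universe u
variable {V E : Type u} [Fintype V] [Fintype E] [DecidableEq V] [DecidableEq E]
variable {ends : E → V × V} {w : V → ℕ}

/-- Indicator of a vertex set. -/
def ind (Y : Finset V) (v : V) : ℤ := if v ∈ Y then 1 else 0

/-- Scaled excess of `d` on `Y`. -/
def F (ends : E → V × V) (w : V → ℕ) (d : V → ℤ) (Y : Finset V) : ℤ :=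
  canDeg ends w univ * (∑ v ∈ Y, d v) - (∑ v, d v) * canDeg ends w Y

omit [DecidableEq E] in
theorem bi_iff (d : V → ℤ) :
    SatisfiesBI ends w d ↔ ∀ Y, 2 * |F ends w d Y| ≤ (cut ends Y : ℤ) * canDeg ends w univ :=
  Iff.rfl

omit [DecidableEq E] in
theorem cut_cast (Y : Finset V) : (cut ends Y : ℤ) = ∑ e, (ind Y (ends e).1 - ind Y (ends e).2) ^ 2 := by
  rw [cut, card_filter]
  push_cast
  refine sum_congr rfl fun e _ => ?_
  by_cases h1 : (ends e).1 ∈ Y <;> by_cases h2 : (ends e).2 ∈ Y <;> simp [ind, h1, h2]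

omit [DecidableEq E] in
theorem cut_compl (Y : Finset V) : (cut ends Yᶜ : ℤ) = cut ends Y := by
  rw [cut_cast, cut_cast]
  refine sum_congr rfl fun e _ => ?_
  by_cases h1 : (ends e).1 ∈ Y <;> by_cases h2 : (ends e).2 ∈ Y <;> simp [ind, h1, h2]

omit [DecidableEq E] in
theorem twist_pair (ψ φ : V → ℤ) :
    ∑ v, ψ v * twist ends φ v = -∑ e, (ψ (ends e).1 - ψ (ends e).2) * (φ (ends e).1 - φ (ends e).2) := by
  simp only [twist, mul_sum]
  rw [sum_comm, ← sum_neg_distrib]
  refine sum_congr rfl fun e _ => ?_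
  simp only [mul_add, mul_ite, mul_zero, sum_add_distrib, sum_ite_eq, mem_univ, if_true]
  ring

omit [DecidableEq E] in
theorem twist_set (Y : Finset V) (φ : V → ℤ) :
    ∑ v ∈ Y, twist ends φ v =
      -∑ e, (ind Y (ends e).1 - ind Y (ends e).2) * (φ (ends e).1 - φ (ends e).2) := by
  rw [← twist_pair]
  simp [ind, sum_ite_mem]

omit [DecidableEq E] in
theorem sum_twist (φ : V → ℤ) : ∑ v, twist ends φ v = 0 := by
  rw [twist_set]
  simp [ind]

omit [DecidableEq E] in
theorem canDeg_univ (ends : E → V × V) (w : V → ℕ) : canDeg ends w univ = 2 * genus ends w - 2 := by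
  have h : ((∑ v, endCount ends univ v : ℕ) : ℤ) = 2 * (Fintype.card E : ℤ) := by
    classical
    rw [sum_endCount, card_univ]; push_cast; ring
  rw [canDeg, genus, sum_add_distrib, sum_sub_distrib, ← mul_sum, sum_const, card_univ, nsmul_eq_mul]
  push_cast at h
  rw [h]
  ring

omit [DecidableEq E] in
theorem F_add_twist (d φ : V → ℤ) (Y : Finset V) :
    F ends w (fun v => d v + twist ends φ v) Y =
      F ends w d Y + canDeg ends w univ * ∑ v ∈ Y, twist ends φ v := by
  simp only [F, sum_add_distrib, sum_twist]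
  ring

omit [DecidableEq E] in
theorem F_compl (d : V → ℤ) (Y : Finset V) : F ends w d Yᶜ = -F ends w d Y := by
  have h1 := sum_add_sum_compl Y d
  have h2 : canDeg ends w Y + canDeg ends w Yᶜ = canDeg ends w univ := sum_add_sum_compl Y _
  simp only [F]
  linear_combination canDeg ends w univ * h1 - (∑ v, d v) * h2

omit [DecidableEq E] in
theorem F_modular (d : V → ℤ) (Y Z : Finset V) :
    F ends w d (Y ∪ Z) + F ends w d (Y ∩ Z) = F ends w d Y + F ends w d Z := by
  have h1 := sum_union_inter (s₁ := Y) (s₂ := Z) (f := d)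
  have h2 : canDeg ends w (Y ∪ Z) + canDeg ends w (Y ∩ Z) = canDeg ends w Y + canDeg ends w Z :=
    sum_union_inter
  simp only [F]
  linear_combination canDeg ends w univ * h1 - (∑ v, d v) * h2

omit [DecidableEq E] in
/-- A one-sided bound on every set gives the inequality. -/
theorem bi_of_upper {d : V → ℤ}
    (h : ∀ Y, 2 * F ends w d Y ≤ (cut ends Y : ℤ) * canDeg ends w univ) : SatisfiesBI ends w d := by
  rw [bi_iff]
  intro Y
  have h1 := h Y
  have h2 := h Yᶜ
  rw [F_compl, cut_compl] at h2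
  have : |F ends w d Y| * 2 ≤ (cut ends Y : ℤ) * canDeg ends w univ := by
    rcases abs_cases (F ends w d Y) with ⟨he, -⟩ | ⟨he, -⟩ <;> rw [he] <;> linarith
  linarith

omit [DecidableEq E] in
theorem exists_flow (hG : Connected ends) (f : V → ℤ) (hf : ∑ v, f v = 0) :
    ∃ x : E → ℤ, ∀ φ : V → ℤ, ∑ v, f v * φ v = ∑ e, x e * (φ (ends e).1 - φ (ends e).2) := by
  classical
  obtain ⟨r⟩ := hG.1
  have key : ∀ v, ∃ x : E → ℤ, ∀ φ : V → ℤ, φ v - φ r = ∑ e, x e * (φ (ends e).1 - φ (ends e).2) := by
    intro v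
    induction hG.2 r v with
    | refl => exact ⟨0, fun φ => by simp⟩
    | @tail a b _ hab ih =>
      obtain ⟨x, hx⟩ := ih
      obtain ⟨e, he⟩ := hab
      rcases he with he | he
      · refine ⟨x - Pi.single e 1, fun φ => ?_⟩
        simp only [Pi.sub_apply, sub_mul, sum_sub_distrib, Pi.single_apply, ite_mul, one_mul, zero_mul,
          sum_ite_eq', mem_univ, if_true, ← hx, he]
        ring
      · refine ⟨x + Pi.single e 1, fun φ => ?_⟩
        simp only [Pi.add_apply, add_mul, sum_add_distrib, Pi.single_apply, ite_mul, one_mul, zero_mul,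
          sum_ite_eq', mem_univ, if_true, ← hx, he]
        ring
  choose X hX using key
  refine ⟨fun e => ∑ v, f v * X v e, fun φ => ?_⟩
  calc ∑ v, f v * φ v = ∑ v, f v * (φ v - φ r) := by
        simp only [mul_sub, sum_sub_distrib, ← sum_mul, hf, zero_mul, sub_zero]
    _ = _ := by
        simp only [hX, mul_sum, sum_mul]
        rw [sum_comm]
        exact sum_congr rfl fun e _ => sum_congr rfl fun v _ => by ring

omit [DecidableEq E] in
/-- Existence of a representative satisfying the Basic Inequality. -/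
theorem exists_bi (hG : Connected ends) (hg : 2 ≤ genus ends w) (d : V → ℤ) :
    ∃ φ : V → ℤ, SatisfiesBI ends w (fun v => d v + twist ends φ v) := by
  have hK : 1 ≤ canDeg ends w univ := by rw [canDeg_univ]; linarith
  let f : V → ℤ := fun v => F ends w d {v}
  have hfY : ∀ Y : Finset V, ∑ v ∈ Y, f v = F ends w d Y := fun Y => by
    simp [f, F, canDeg, sum_sub_distrib, mul_sum]
  obtain ⟨x, hx⟩ := exists_flow hG f (by rw [hfY]; simp [F, mul_comm])
  let Q : (V → ℤ) → ℤ := fun φ =>
    canDeg ends w univ * ∑ e, (φ (ends e).1 - φ (ends e).2) ^ 2 - 2 * ∑ v, f v * φ v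
  have hbd : ∀ φ, -∑ e, x e ^ 2 ≤ Q φ := fun φ => by
    simp only [Q]
    rw [hx, mul_sum, mul_sum, ← sum_sub_distrib, ← sum_neg_distrib]
    refine sum_le_sum fun e _ => ?_
    nlinarith [sq_nonneg (φ (ends e).1 - φ (ends e).2 - x e),
      mul_nonneg (sub_nonneg.2 hK) (sq_nonneg (φ (ends e).1 - φ (ends e).2))]
  obtain ⟨q, ⟨φ, hφ⟩, hmin⟩ := Int.exists_least_of_bdd (P := fun z => ∃ φ, Q φ = z)
    ⟨-∑ e, x e ^ 2, fun z ⟨φ, hz⟩ => hz ▸ hbd φ⟩ ⟨Q 0, 0, rfl⟩
  refine ⟨φ, bi_of_upper (d := fun v => d v + twist ends φ v) fun Y => ?_⟩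
  have hm := hmin (Q fun v => φ v + ind Y v) ⟨fun v => φ v + ind Y v, rfl⟩
  have hQ : Q (fun v => φ v + ind Y v) - Q φ =
      (cut ends Y : ℤ) * canDeg ends w univ - 2 * F ends w (fun v => d v + twist ends φ v) Y := by
    have hlin : ∑ v, f v * ind Y v = F ends w d Y := by
      rw [← hfY]; simp [ind, sum_ite_mem]
    have hsq : ∑ e, (φ (ends e).1 + ind Y (ends e).1 - (φ (ends e).2 + ind Y (ends e).2)) ^ 2 =
        ∑ e, (φ (ends e).1 - φ (ends e).2) ^ 2 - 2 * ∑ v ∈ Y, twist ends φ v + cut ends Y := by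
      rw [twist_set, cut_cast]
      simp only [mul_neg, sub_neg_eq_add, mul_sum, ← sum_add_distrib]
      exact sum_congr rfl fun e _ => by ring
    rw [F_add_twist]
    simp only [Q, hsq, mul_add, sum_add_distrib, hlin]
    ring
  linarith

omit [DecidableEq E] in
/-- Adding the twist of a set at its upper extreme keeps the inequality. -/
theorem bi_add_twist {d : V → ℤ} (hK : 0 ≤ canDeg ends w univ) (hBI : SatisfiesBI ends w d) (Z : Finset V)
    (hZ : 2 * F ends w d Z = (cut ends Z : ℤ) * canDeg ends w univ) :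
    SatisfiesBI ends w (fun v => d v + twist ends (fun u => if u ∈ Z then 1 else 0) v) := by
  refine bi_of_upper fun Y => ?_
  have hu := (bi_iff d).1 hBI (Y ∪ Z)
  have hi := (bi_iff d).1 hBI (Y ∩ Z)
  have hm := F_modular (ends := ends) (w := w) d Y Z
  have hU := le_abs_self (F ends w d (Y ∪ Z))
  have hI := le_abs_self (F ends w d (Y ∩ Z))
  have hc : (cut ends (Y ∪ Z) : ℤ) + cut ends (Y ∩ Z) - cut ends Z +
      2 * (∑ v ∈ Y, twist ends (ind Z) v) ≤ cut ends Y := by
    simp only [cut_cast, twist_set, mul_neg, mul_sum, ← sum_neg_distrib, ← sum_add_distrib, ← sum_sub_distrib]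
    refine sum_le_sum fun e _ => ?_
    by_cases h1 : (ends e).1 ∈ Y <;> by_cases h2 : (ends e).2 ∈ Y <;> by_cases h3 : (ends e).1 ∈ Z <;>
      by_cases h4 : (ends e).2 ∈ Z <;> simp [ind, h1, h2, h3, h4]
  change 2 * F ends w (fun v => d v + twist ends (ind Z) v) Y ≤ _
  rw [F_add_twist]
  nlinarith [mul_le_mul_of_nonneg_left hc hK]

omit [DecidableEq E] in
/-- Two twist-equivalent multidegrees satisfying the inequality differ by a twist with unit steps. -/
theorem normal_form (hG : Connected ends) (hg : 2 ≤ genus ends w) {d d' : V → ℤ}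
    (hBI : SatisfiesBI ends w d) (hBI' : SatisfiesBI ends w d') (heq : TwistEquiv ends d d') :
    ∃ (q : ℕ) (h : V → ℕ), (∀ v : V, h v ≤ q) ∧ (∀ i : ℕ, i ≤ q → ∃ v : V, h v = i) ∧
      (∀ v : V, d v - d' v = twist ends (fun u => (h u : ℤ)) v) ∧
      (∀ i j : ℕ, i ≤ q → j ≤ q → i ≠ j →
        ((∃ e : E, (h (ends e).1 = i ∧ h (ends e).2 = j) ∨ (h (ends e).1 = j ∧ h (ends e).2 = i)) ↔
          (i + 1 = j ∨ j + 1 = i))) := by
  classical
  have hK : 1 ≤ canDeg ends w univ := by rw [canDeg_univ]; linarith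
  obtain ⟨φ, hφ⟩ := heq
  haveI := hG.1
  obtain ⟨m, -, hm⟩ := exists_min_image univ φ univ_nonempty
  let h : V → ℕ := fun v => (φ v - φ m).toNat
  have hh : ∀ v, (h v : ℤ) = φ v - φ m := fun v => Int.toNat_of_nonneg (by linarith [hm v (mem_univ v)])
  have htw : ∀ v, d v - d' v = twist ends (fun u => (h u : ℤ)) v := fun v => by
    rw [hφ v, twist, twist]
    refine sum_congr rfl fun e _ => ?_
    simp only [hh, sub_sub_sub_cancel_right]
  -- every edge has step at most one
  have hstep : ∀ e, |(h (ends e).1 : ℤ) - h (ends e).2| ≤ 1 := by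
    by_contra hh'
    push Not at hh'
    obtain ⟨e, he⟩ := hh'
    set t := min (h (ends e).1) (h (ends e).2) + 1
    let Y : Finset V := univ.filter fun v => t ≤ h v
    have hd : d = fun v => d' v + twist ends (fun u => (h u : ℤ)) v := funext fun v => by linarith [htw v]
    have h1 : F ends w d Y = F ends w d' Y + canDeg ends w univ * ∑ v ∈ Y, twist ends (fun u => (h u : ℤ)) v := by
      conv_lhs => rw [hd]
      exact F_add_twist _ _ _
    have a := (bi_iff d).1 hBI Y
    have a' := (bi_iff d').1 hBI' Y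
    have hlt : (cut ends Y : ℤ) + ∑ v ∈ Y, twist ends (fun u => (h u : ℤ)) v < 0 := by
      rw [cut_cast, twist_set, ← sum_neg_distrib, ← sum_add_distrib]
      refine sum_neg' (fun f _ => ?_) ⟨e, mem_univ e, ?_⟩
      · by_cases h1 : t ≤ h (ends f).1 <;> by_cases h2 : t ≤ h (ends f).2 <;> simp [ind, Y, h1, h2] <;> omega
      · rcases abs_cases ((h (ends e).1 : ℤ) - h (ends e).2) with ⟨q, -⟩ | ⟨q, -⟩ <;> rw [q] at he
        · have h1 : t ≤ h (ends e).1 := by omega
          have h2 : ¬ t ≤ h (ends e).2 := by omega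
          simp [ind, Y, h1, h2]; omega
        · have h1 : ¬ t ≤ h (ends e).1 := by omega
          have h2 : t ≤ h (ends e).2 := by omega
          simp [ind, Y, h1, h2]; omega
    nlinarith [le_abs_self (F ends w d' Y), neg_abs_le (F ends w d Y),
      mul_le_mul_of_nonneg_left (Int.le_sub_one_of_lt hlt) (by linarith : (0 : ℤ) ≤ canDeg ends w univ)]
  -- consecutive levels meet
  set q := univ.sup h
  obtain ⟨M, -, hM⟩ := exists_mem_eq_sup univ univ_nonempty h
  have hq : ∀ v, h v ≤ q := fun v => le_sup (mem_univ v)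
  have hnext : ∀ i, i < q → ∃ e, (h (ends e).1 = i ∧ h (ends e).2 = i + 1) ∨
      (h (ends e).1 = i + 1 ∧ h (ends e).2 = i) := by
    intro i hi
    have key : ∀ v, i < h v → ∃ e, (h (ends e).1 = i ∧ h (ends e).2 = i + 1) ∨
        (h (ends e).1 = i + 1 ∧ h (ends e).2 = i) := by
      intro v
      induction hG.2 m v with
      | refl => intro hv; simp [h] at hv
      | @tail a b _ hab ih =>
        intro hb
        by_cases ha : i < h a
        · exact ih ha
        obtain ⟨e, he⟩ := hab
        have := abs_le.1 (hstep e)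
        refine ⟨e, ?_⟩
        rcases he with he | he <;> rw [he] at this ⊢ <;> simp only at this ⊢
        · exact Or.inl ⟨by omega, by omega⟩
        · exact Or.inr ⟨by omega, by omega⟩
    exact key M (hM ▸ hi)
  refine ⟨q, h, hq, fun i hi => ?_, htw, fun i j hi hj hij => ⟨?_, ?_⟩⟩
  · rcases hi.lt_or_eq with hi | hi
    · obtain ⟨e, he | he⟩ := hnext i hi
      exacts [⟨_, he.1⟩, ⟨_, he.2⟩]
    · exact ⟨M, by rw [hi]; exact hM.symm⟩
  · rintro ⟨e, he⟩
    have := abs_le.1 (hstep e)
    omega
  · rintro (rfl | rfl)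
    · exact hnext i (by omega)
    · obtain ⟨e, he⟩ := hnext j (by omega)
      exact ⟨e, he.symm⟩

omit [DecidableEq E] in
/-- Along a nested family of extreme sets the strictly balanced multidegree is fixed. -/
theorem eq_of_nested (hg : 2 ≤ genus ends w) {d d' : V → ℤ}
    (hBI : SatisfiesBI ends w d)
    (hone : ∀ v : V, IsExceptional ends w v → d v = 1) (hone' : ∀ v : V, IsExceptional ends w v → d' v = 1)
    (hstrict : ∀ Y : Finset V, Y.Nonempty → Y ≠ univ →
      2 * F ends w d Y = (cut ends Y : ℤ) * canDeg ends w univ →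
      ∀ e : E, (((ends e).1 ∈ Y ∧ (ends e).2 ∉ Y) ∨ ((ends e).1 ∉ Y ∧ (ends e).2 ∈ Y)) →
        (IsExceptional ends w (ends e).1 ∨ IsExceptional ends w (ends e).2))
    {ι : Type} [Fintype ι] (Z : ι → Finset V)
    (hext : ∀ i, 2 * F ends w d (Z i) = (cut ends (Z i) : ℤ) * canDeg ends w univ)
    (hsum : ∀ v : V, d' v = d v + ∑ i, twist ends (fun u => if u ∈ Z i then (1 : ℤ) else 0) v) :
    d = d' := by
  have hK : 1 ≤ canDeg ends w univ := by rw [canDeg_univ]; linarith
  -- a neighbour of an exceptional vertex in an extreme set pulls the vertex in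
  have hpull : ∀ v, IsExceptional ends w v → ∀ i, v ∉ Z i → ∀ e : E,
      ((ends e).1 = v → (ends e).2 ∉ Z i) ∧ ((ends e).2 = v → (ends e).1 ∉ Z i) := by
    intro v hv i hvi e
    obtain ⟨hw, hl, hcut⟩ := hv
    let g : E → ℤ := fun e => (if (ends e).1 = v ∧ (ends e).2 ∈ Z i then 1 else 0) +
      (if (ends e).2 = v ∧ (ends e).1 ∈ Z i then 1 else 0)
    have hper : ∀ e, (ind (insert v (Z i)) (ends e).1 - ind (insert v (Z i)) (ends e).2) ^ 2 + 2 * g e =
        (ind (Z i) (ends e).1 - ind (Z i) (ends e).2) ^ 2 + (ind {v} (ends e).1 - ind {v} (ends e).2) ^ 2 := by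
      intro e
      by_cases h1 : (ends e).1 = v <;> by_cases h2 : (ends e).2 = v
      · exact absurd (Prod.ext h1 h2) (hl e)
      all_goals by_cases h3 : (ends e).1 ∈ Z i <;> by_cases h4 : (ends e).2 ∈ Z i <;>
        simp_all [ind, g]
    have hcuteq : (cut ends (insert v (Z i)) : ℤ) + 2 * ∑ e, g e = cut ends (Z i) + cut ends {v} := by
      simp only [cut_cast, mul_sum, ← sum_add_distrib]
      exact sum_congr rfl fun e _ => hper e
    have hend : (endCount ends univ v : ℤ) = 2 := by
      have : (endCount ends univ v : ℤ) = (cut ends {v} : ℤ) := by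
        rw [cut_cast, endCount]
        push_cast
        refine sum_congr rfl fun e _ => ?_
        by_cases h1 : (ends e).1 = v <;> by_cases h2 : (ends e).2 = v
        · exact absurd (Prod.ext h1 h2) (hl e)
        all_goals simp [ind, h1, h2]
      rw [this, hcut]; rfl
    have hF : F ends w d (insert v (Z i)) = F ends w d (Z i) + canDeg ends w univ := by
      simp only [F, canDeg, sum_insert hvi, hw, hend, hone v ⟨hw, hl, hcut⟩]
      push_cast; ring
    have hb := (bi_iff d).1 hBI (insert v (Z i))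
    have hge : ∑ e, g e ≤ 0 := by
      by_contra hlt
      rw [hcut] at hcuteq
      have := le_abs_self (F ends w d (insert v (Z i)))
      push_cast at hcuteq
      nlinarith [hext i]
    have hg0 := (sum_eq_zero_iff_of_nonneg fun e _ => ?_).1 (le_antisymm hge (sum_nonneg fun e _ => ?_)) e (mem_univ e)
    · constructor <;> intro h1 h2 <;> simp [g, h1, h2] at hg0 <;> split_ifs at hg0 <;> simp at hg0
    all_goals simp only [g]; split_ifs <;> simp
  let h : V → ℤ := fun u => ∑ i, if u ∈ Z i then (1 : ℤ) else 0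
  have htw : ∀ v, ∑ i, twist ends (fun u => if u ∈ Z i then (1 : ℤ) else 0) v = twist ends h v := by
    intro v
    simp only [twist, h]
    rw [sum_comm]
    refine sum_congr rfl fun e _ => ?_
    simp only [sum_add_distrib, ← sum_sub_distrib]
    split_ifs <;> simp
  -- the labelling is constant along edges at exceptional vertices
  have hexc : ∀ v, IsExceptional ends w v → ∀ e : E,
      ((ends e).1 = v → h (ends e).2 = h v) ∧ ((ends e).2 = v → h (ends e).1 = h v) := by
    intro v hv
    have h0 : twist ends h v = 0 := by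
      have := hsum v
      rw [htw, hone v hv, hone' v hv] at this
      linarith
    have hnp : ∀ e ∈ (univ : Finset E), (if (ends e).1 = v then h (ends e).2 - h (ends e).1 else 0) +
        (if (ends e).2 = v then h (ends e).1 - h (ends e).2 else 0) ≤ 0 := by
      intro e _
      refine add_nonpos ?_ ?_ <;> split_ifs with hev <;> try exact le_rfl
      all_goals
        rw [sub_nonpos, hev]
        refine sum_le_sum fun i _ => ?_
        split_ifs with ha hb <;> try simp
        first | exact absurd ha ((hpull v hv i hb e).1 hev) | exact absurd ha ((hpull v hv i hb e).2 hev)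
    intro e
    have he := (sum_eq_zero_iff_of_nonpos hnp).1 h0 e (mem_univ e)
    have hl := hv.2.1 e
    constructor <;> intro h1
    · have h2 : (ends e).2 ≠ v := fun h2 => hl (Prod.ext h1 h2)
      simp only [h1, if_true, if_neg h2, add_zero] at he
      linarith
    · have h2 : (ends e).1 ≠ v := fun h2 => hl (Prod.ext h2 h1)
      simp only [h1, if_true, if_neg h2, zero_add] at he
      linarith
  -- hence constant along every edge
  have hedge : ∀ e : E, h (ends e).1 = h (ends e).2 := by
    intro e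
    by_cases hx : IsExceptional ends w (ends e).1 ∨ IsExceptional ends w (ends e).2
    · rcases hx with hx | hx
      exacts [((hexc _ hx e).1 rfl).symm, (hexc _ hx e).2 rfl]
    refine sum_congr rfl fun i _ => if_congr ⟨fun h1 => ?_, fun h2 => ?_⟩ rfl rfl
    · by_contra h2
      exact hx (hstrict (Z i) ⟨_, h1⟩ (fun hu => h2 (hu ▸ mem_univ _)) (hext i) e (Or.inl ⟨h1, h2⟩))
    · by_contra h1
      exact hx (hstrict (Z i) ⟨_, h2⟩ (fun hu => h1 (hu ▸ mem_univ _)) (hext i) e (Or.inr ⟨h1, h2⟩))
  funext v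
  rw [hsum v, htw v, twist, sum_eq_zero fun e _ => by rw [hedge e]; simp, add_zero]

omit [DecidableEq E] in
/-- Pull-back along the contraction of exceptional vertices. -/
theorem bi_pullback (hZ : IsQuasistableGraph ends w) (hg : 2 ≤ genus ends w) (S : Finset V)
    (hS : ∀ v ∈ S, IsExceptional ends w v) (dt : V → ℤ) (hzero : ∀ v ∈ S, dt v = 0) (sat : Finset V → Finset V)
    (hsat : ∀ W v, v ∈ sat W ↔ v ∈ W ∨ (v ∈ S ∧ ∀ e : E, ((ends e).1 = v → (ends e).2 ∈ W) ∧ ((ends e).2 = v → (ends e).1 ∈ W)))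
    (hBI : ∀ W : Finset V, Disjoint W S →
      2 * |canDeg ends w univ * (∑ v ∈ W, dt v) - (∑ v, dt v) * canDeg ends w (sat W)|
        ≤ (cut ends (sat W) : ℤ) * canDeg ends w univ) :
    SatisfiesBI ends w dt := by
  classical
  have hK : 0 ≤ canDeg ends w univ := by rw [canDeg_univ]; linarith
  intro Y
  have hc0 : ∀ v ∈ S, 2 * (w v : ℤ) - 2 + (endCount ends univ v : ℤ) = 0 := by
    intro v hv
    obtain ⟨hw, hl, hcut⟩ := hS v hv
    have : (endCount ends univ v : ℤ) = (cut ends {v} : ℤ) := by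
      rw [cut_cast, endCount]
      push_cast
      refine sum_congr rfl fun e _ => ?_
      by_cases h1 : (ends e).1 = v <;> by_cases h2 : (ends e).2 = v
      · exact absurd (Prod.ext h1 h2) (hl e)
      all_goals simp [ind, h1, h2]
    rw [this, hw, hcut]; norm_num
  set W := Y \ S
  have hWS : Disjoint W S := sdiff_disjoint
  -- the extra vertices of a superset of `W` inside `W ∪ S`
  let f : V → E → ℤ := fun s e =>
    (if (ends e).1 = s then 1 - 2 * ind W (ends e).2 else 0) + (if (ends e).2 = s then 1 - 2 * ind W (ends e).1 else 0)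
  have hcutT : ∀ T ⊆ S, (cut ends (W ∪ T) : ℤ) = cut ends W + ∑ s ∈ T, ∑ e, f s e := by
    intro T hT
    rw [sum_comm, cut_cast, cut_cast, ← sum_add_distrib]
    refine sum_congr rfl fun e _ => ?_
    simp only [f, sum_add_distrib, sum_ite_eq]
    have hd : ∀ v, v ∈ T → v ∉ W := fun v h1 h2 => disjoint_left.1 hWS h2 (hT h1)
    have hnot : ¬ ((ends e).1 ∈ T ∧ (ends e).2 ∈ T) := by
      rintro ⟨h1, h2⟩
      by_cases hne : (ends e).1 = (ends e).2
      · exact (hS _ (hT h1)).2.1 e (Prod.ext rfl hne.symm)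
      · exact hZ.2 e hne ⟨hS _ (hT h1), hS _ (hT h2)⟩
    have := hd (ends e).1
    have := hd (ends e).2
    by_cases h1 : (ends e).1 ∈ T <;> by_cases h2 : (ends e).2 ∈ T <;>
      by_cases h3 : (ends e).1 ∈ W <;> by_cases h4 : (ends e).2 ∈ W <;> simp_all [ind]
  -- the sign of the contribution of one vertex
  let good : V → Prop := fun s => ∀ e : E, ((ends e).1 = s → (ends e).2 ∈ W) ∧ ((ends e).2 = s → (ends e).1 ∈ W)
  have hsign : ∀ s ∈ S, (good s → ∑ e, f s e ≤ 0) ∧ (¬ good s → 0 ≤ ∑ e, f s e) := by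
    intro s hs
    obtain ⟨-, hl, hcut⟩ := hS s hs
    refine ⟨fun hgd => sum_nonpos fun e _ => ?_, fun hng => ?_⟩
    · simp only [f]
      refine add_nonpos ?_ ?_ <;> split_ifs with he
      exacts [by simp [ind, (hgd e).1 he], le_rfl, by simp [ind, (hgd e).2 he], le_rfl]
    · obtain ⟨e₀, he₀⟩ := not_forall.1 hng
      have h2 : ∑ e, (ind {s} (ends e).1 - ind {s} (ends e).2) ^ 2 = 2 := by
        rw [← cut_cast, hcut]; rfl
      have hle : ∀ e, -(ind {s} (ends e).1 - ind {s} (ends e).2) ^ 2 + (if e = e₀ then 2 else 0) ≤ f s e := by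
        intro e
        simp only [f]
        by_cases h1 : (ends e).1 = s <;> by_cases h2 : (ends e).2 = s
        · exact absurd (Prod.ext h1 h2) (hl e)
        all_goals by_cases he : e = e₀
        all_goals try subst he
        all_goals by_cases h3 : (ends e).1 ∈ W <;> by_cases h4 : (ends e).2 ∈ W <;> simp_all [ind]
      have := sum_le_sum (s := univ) fun e _ => hle e
      rw [sum_add_distrib, sum_neg_distrib, h2, sum_ite_eq', if_pos (mem_univ e₀)] at this
      linarith
  have hY : Y = W ∪ (Y ∩ S) := (sdiff_union_inter Y S).symm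
  have hsat' : sat W = W ∪ S.filter good := by
    ext v; simp [hsat, good]
  have hcle : (cut ends (sat W) : ℤ) ≤ cut ends Y := by
    rw [hsat', hY, hcutT _ (filter_subset _ _), hcutT _ inter_subset_right, add_le_add_iff_left,
      ← sum_filter_add_sum_filter_not (Y ∩ S) good]
    have h1 : ∑ s ∈ S.filter good, ∑ e, f s e ≤ ∑ s ∈ (Y ∩ S).filter good, ∑ e, f s e := by
      rw [← sum_sdiff (filter_subset_filter good (inter_subset_right : Y ∩ S ⊆ S))]
      refine add_le_of_nonpos_left (sum_nonpos fun s hs => ?_)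
      have := mem_filter.1 (mem_sdiff.1 hs).1
      exact (hsign s this.1).1 this.2
    have h2 : 0 ≤ ∑ s ∈ (Y ∩ S).filter (fun s => ¬ good s), ∑ e, f s e := sum_nonneg fun s hs => by
      have := mem_filter.1 hs
      exact (hsign s (mem_inter.1 this.1).2).2 this.2
    linarith
  have hd : ∑ v ∈ Y, dt v = ∑ v ∈ W, dt v := by
    refine (sum_subset sdiff_subset fun v hv hn => hzero v ?_).symm
    simp only [W, mem_sdiff, not_and, not_not] at hn
    exact hn hv
  have hcd : ∀ T, T ⊆ S → canDeg ends w (W ∪ T) = canDeg ends w W := fun T hT => by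
    refine (sum_subset subset_union_left fun v hv hn => hc0 v (hT ?_)).symm
    exact (mem_union.1 hv).resolve_left hn
  have hc : canDeg ends w Y = canDeg ends w (sat W) := by
    rw [hY, hsat', hcd _ inter_subset_right, hcd _ (filter_subset _ _)]
  rw [hd, hc]
  exact (hBI W hWS).trans (mul_le_mul_of_nonneg_right hcle hK)

end Groth.ModelsGraphs.BI
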