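import Groth.Agent.ModelsGraphs.Circuits

/-! The multidegree operator on the total blow-up graph. -/

namespace Groth.ModelsGraphs.Blow

open Finset LabGraph Groth.ModelsGraphs.Circ

universe u
variable {V E : Type u} [Fintype V] [Fintype E] [DecidableEq V] [DecidableEq E]
variable {ends : E → V × V} {l : E → ℕ}

omit [Fintype V] [Fintype E] [DecidableEq V] [DecidableEq E] in
theorem pv_zero (e : E) : pathVert ends l e 0 = Sum.inl (ends e).1 := by simp [pathVert]

omit [Fintype V] [Fintype E] [DecidableEq V] [DecidableEq E] in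
theorem pv_last (e : E) (hl : 0 < l e) : pathVert ends l e (l e) = Sum.inl (ends e).2 := by
  simp [pathVert, hl.ne']

omit [Fintype V] [Fintype E] [DecidableEq V] [DecidableEq E] in
theorem pv_succ (e : E) (i : Fin (l e - 1)) : pathVert ends l e (i.val + 1) = Sum.inr ⟨e, i⟩ := by
  have := i.isLt
  simp [pathVert, show i.val + 1 < l e by omega]

omit [Fintype V] [Fintype E] [DecidableEq V] [DecidableEq E] in
theorem pv_eq_inr (e : E) (k : ℕ) (e₀ : E) (i : Fin (l e₀ - 1)) :
    pathVert ends l e k = Sum.inr ⟨e₀, i⟩ ↔ e = e₀ ∧ k = i.val + 1 := by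
  constructor
  · intro h
    unfold pathVert at h
    split_ifs at h with h0 h1
    obtain ⟨rfl, h2⟩ := Sigma.mk.inj_iff.1 (Sum.inr.inj h)
    refine ⟨rfl, ?_⟩
    have := congrArg Fin.val (eq_of_heq h2)
    simp only at this
    omega
  · rintro ⟨rfl, rfl⟩
    exact pv_succ e i

omit [Fintype V] [Fintype E] [DecidableEq V] [DecidableEq E] in
theorem pv_eq_inl (e : E) (k : ℕ) (hk : k ≤ l e) (hl : 0 < l e) (v : V) :
    pathVert ends l e k = Sum.inl v ↔ (k = 0 ∧ (ends e).1 = v) ∨ (k = l e ∧ (ends e).2 = v) := by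
  unfold pathVert
  split_ifs with h0 h1
  · simp [h0, show ¬ (0 = l e) by omega]
  · simp [h0, h1.ne]
  · simp [h0, show k = l e by omega, hl.ne']

omit [DecidableEq E] in
theorem mdeg_const (ψ : V → ℤ) (v : V) : mdeg ends (fun _ => 1) ψ v =
    ∑ e, ((if (ends e).1 = v then ψ (ends e).2 - ψ (ends e).1 else 0) +
      (if (ends e).2 = v then ψ (ends e).1 - ψ (ends e).2 else 0)) := by
  simp [mdeg]

theorem mdeg_bl (ψ : BlVert V E l → ℤ) (w : BlVert V E l) :
    mdeg (blEnds ends l) (fun _ => 1) ψ w = ∑ e, ∑ k ∈ range (l e),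
      ((if pathVert ends l e k = w then ψ (pathVert ends l e (k + 1)) - ψ (pathVert ends l e k) else 0) +
        (if pathVert ends l e (k + 1) = w then ψ (pathVert ends l e k) - ψ (pathVert ends l e (k + 1)) else 0)) := by
  rw [mdeg_const, Fintype.sum_sigma]
  refine sum_congr rfl fun e _ => ?_
  simp only [blEnds]
  exact Fin.sum_univ_eq_sum_range (fun k => (if pathVert ends l e k = w then
      ψ (pathVert ends l e (k + 1)) - ψ (pathVert ends l e k) else 0) +
    (if pathVert ends l e (k + 1) = w then ψ (pathVert ends l e k) - ψ (pathVert ends l e (k + 1)) else 0)) (l e)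

theorem mdeg_inr (ψ : BlVert V E l → ℤ) (e : E) (i : Fin (l e - 1)) :
    mdeg (blEnds ends l) (fun _ => 1) ψ (Sum.inr ⟨e, i⟩) =
      ψ (pathVert ends l e (i.val + 2)) + ψ (pathVert ends l e i.val) - 2 * ψ (pathVert ends l e (i.val + 1)) := by
  have := i.isLt
  rw [mdeg_bl, sum_eq_single e (fun f _ hf => sum_eq_zero fun k _ => ?_) (fun h => absurd (mem_univ e) h)]
  · simp only [pv_eq_inr, true_and, Nat.succ_inj, sum_add_distrib, sum_ite_eq', mem_range]
    rw [if_pos (by omega), if_pos (by omega)]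
    ring
  · simp [pv_eq_inr, hf]

theorem mdeg_inl (hl : ∀ e, 0 < l e) (ψ : BlVert V E l → ℤ) (v : V) :
    mdeg (blEnds ends l) (fun _ => 1) ψ (Sum.inl v) = ∑ e,
      ((if (ends e).1 = v then ψ (pathVert ends l e 1) - ψ (pathVert ends l e 0) else 0) +
        (if (ends e).2 = v then ψ (pathVert ends l e (l e - 1)) - ψ (pathVert ends l e (l e)) else 0)) := by
  rw [mdeg_bl]
  refine sum_congr rfl fun e _ => ?_
  have := hl e
  rw [sum_add_distrib, sum_eq_single 0 (fun k hk hk0 => ?_) (fun h => absurd (mem_range.2 this) h),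
    sum_eq_single (l e - 1) (fun k hk hk1 => ?_) (fun h => absurd (mem_range.2 (by omega)) h)]
  · simp only [pv_eq_inl e 0 (Nat.zero_le _) this, Nat.sub_add_cancel this,
      pv_eq_inl e (l e) le_rfl this, this.ne', this.ne, false_and, or_false, false_or, true_and, zero_add]
  · have := mem_range.1 hk
    rw [if_neg]
    rw [pv_eq_inl e (k + 1) (by omega) (hl e)]
    rintro (⟨h, -⟩ | ⟨h, -⟩) <;> omega
  · have := mem_range.1 hk
    rw [if_neg]
    rw [pv_eq_inl e k (by omega) (hl e)]
    rintro (⟨h, -⟩ | ⟨h, -⟩) <;> omega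

theorem linear_of_second_diff (U : ℕ → ℤ) (n : ℕ) (h : ∀ k, k + 2 ≤ n → U (k + 2) + U k - 2 * U (k + 1) = 0) :
    ∀ k, k ≤ n → U k = U 0 + k * (U 1 - U 0) := by
  intro k
  induction k using Nat.twoStepInduction with
  | zero => simp
  | one => intro; simp
  | more k h1 h2 =>
    intro hk
    have h3 := h1 (by omega)
    have h4 := h2 (by omega)
    have := h k hk
    push_cast at h3 h4 ⊢
    linarith

/-- Two successive values of the solution of a second-order recursion. -/
def solPair (g : ℕ → ℤ) : ℕ → ℤ × ℤ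
  | 0 => (0, 0)
  | k + 1 => ((solPair g k).2, 2 * (solPair g k).2 - (solPair g k).1 - g k)

/-- The solution of the second-order recursion. -/
def sol (g : ℕ → ℤ) (k : ℕ) : ℤ := (solPair g k).1

theorem sol_rec (g : ℕ → ℤ) (k : ℕ) : sol g (k + 2) + sol g k - 2 * sol g (k + 1) = -g k := by
  simp only [sol, solPair]
  ring

theorem sol_zero (g : ℕ → ℤ) : sol g 0 = 0 := rfl

/-- Descent of multidegrees from the blow-up. -/
theorem descend (hl : ∀ e, 0 < l e) (α : V → ℤ) (ψ : BlVert V E l → ℤ)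
    (hψ : ∀ w : BlVert V E l, mdeg (blEnds ends l) (fun _ => 1) ψ w = Sum.elim α (fun _ => (0 : ℤ)) w) :
    ∃ φ : V → ℤ, IsCartier ends l φ ∧ ∀ v : V, mdeg ends l φ v = α v := by
  have hlin : ∀ e k, k ≤ l e → ψ (pathVert ends l e k) =
      ψ (pathVert ends l e 0) + k * (ψ (pathVert ends l e 1) - ψ (pathVert ends l e 0)) := fun e =>
    linear_of_second_diff (fun k => ψ (pathVert ends l e k)) (l e) fun k hk => by
      have h := hψ (Sum.inr ⟨e, ⟨k, by omega⟩⟩)
      rw [mdeg_inr] at h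
      simpa using h
  have hd : ∀ e, ψ (Sum.inl (ends e).2) - ψ (Sum.inl (ends e).1) =
      (l e : ℤ) * (ψ (pathVert ends l e 1) - ψ (pathVert ends l e 0)) := fun e => by
    have := hlin e (l e) le_rfl
    rw [pv_last e (hl e)] at this
    rw [this, pv_zero]
    ring
  refine ⟨fun v => ψ (Sum.inl v), fun e => ⟨-(ψ (pathVert ends l e 1) - ψ (pathVert ends l e 0)), by
    linarith [hd e]⟩, fun v => ?_⟩
  have h := hψ (Sum.inl v)
  rw [mdeg_inl hl, Sum.elim_inl] at h
  rw [← h]
  refine sum_congr rfl fun e _ => ?_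
  have h0 : (l e : ℤ) ≠ 0 := by exact_mod_cast (hl e).ne'
  have h1 := hlin e (l e - 1) (Nat.sub_le _ _)
  rw [Nat.cast_sub (hl e), Nat.cast_one] at h1
  have h2 : ψ (pathVert ends l e (l e - 1)) - ψ (pathVert ends l e (l e)) =
      -(ψ (pathVert ends l e 1) - ψ (pathVert ends l e 0)) := by
    rw [h1, hlin e (l e) le_rfl]; ring
  rw [h2]
  simp only
  rw [hd e, Int.mul_ediv_cancel_left _ h0,
    show ψ (Sum.inl (ends e).1) - ψ (Sum.inl (ends e).2) =
      (l e : ℤ) * -(ψ (pathVert ends l e 1) - ψ (pathVert ends l e 0)) by linarith [hd e],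
    Int.mul_ediv_cancel_left _ h0]

theorem surjective_iff (hG : Connected ends) (hl : ∀ e, 0 < l e) :
    (∀ β : BlVert V E l → ℤ, ∃ (ψ : BlVert V E l → ℤ) (α : V → ℤ),
        ∀ w : BlVert V E l,
          mdeg (blEnds ends l) (fun _ => 1) ψ w + β w = Sum.elim α (fun _ => (0 : ℤ)) w) ↔
      IsCircuitCoprime ends l := by
  constructor
  · intro h
    refine coprime_of_decomp l fun x => ?_
    let β : BlVert V E l → ℤ := Sum.elim (fun _ => 0) fun p => if p.2.val + 2 = l p.1 then x p.1 else 0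
    obtain ⟨ψ, α, hψ⟩ := h β
    let φ : V → ℤ := fun v => ψ (Sum.inl v)
    have key : ∀ e, ∃ y, x e = dd ends φ e + (l e : ℤ) * y := by
      intro e
      rcases Nat.lt_or_ge (l e) 2 with h1 | h1
      · exact ⟨x e - dd ends φ e, by rw [show l e = 1 by have := hl e; omega]; push_cast; ring⟩
      have hlin := linear_of_second_diff (fun k => ψ (pathVert ends l e k)) (l e - 1) fun k hk => by
        have h := hψ (Sum.inr ⟨e, ⟨k, by omega⟩⟩)
        rw [mdeg_inr] at h
        simpa [β, show ¬ k + 2 = l e by omega] using h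
      obtain ⟨m, hm⟩ : ∃ m, l e = m + 2 := ⟨l e - 2, by omega⟩
      have h2 := hψ (Sum.inr ⟨e, ⟨m, by omega⟩⟩)
      rw [mdeg_inr] at h2
      simp only [β, Sum.elim_inr, hm, if_true] at h2
      have hlast := pv_last (ends := ends) e (hl e)
      rw [hm] at hlast
      rw [hlin m (by omega), hlin (m + 1) (by omega), hlast, pv_zero] at h2
      refine ⟨ψ (pathVert ends l e 1) - ψ (Sum.inl (ends e).1), ?_⟩
      simp only [dd, φ, hm]
      push_cast at h2 ⊢
      linarith
    choose y hy using key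
    refine ⟨y, fun γ hγ => ?_⟩
    simp only [hy, add_sub_cancel_right, sum_cycle_dd hγ φ]
  · intro hc β
    let g : E → ℕ → ℤ := fun e k => if h : k < l e - 1 then β (Sum.inr ⟨e, ⟨k, h⟩⟩) else 0
    obtain ⟨φ, y, hφ⟩ := exists_decomp_of_coprime l hl hc fun e => -sol (g e) (l e)
    let ψ : BlVert V E l → ℤ :=
      Sum.elim φ fun p => φ (ends p.1).1 + ((p.2.val + 1 : ℕ) : ℤ) * y p.1 + sol (g p.1) (p.2.val + 1)
    have hU : ∀ e k, k ≤ l e → ψ (pathVert ends l e k) = φ (ends e).1 + (k : ℤ) * y e + sol (g e) k := by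
      intro e k hk
      rcases Nat.eq_zero_or_pos k with rfl | hk0
      · simp [pv_zero, ψ, sol_zero]
      rcases hk.lt_or_eq with hk | rfl
      · obtain ⟨j, rfl⟩ : ∃ j, k = j + 1 := ⟨k - 1, by omega⟩
        rw [pv_succ e ⟨j, by omega⟩]
        rfl
      · rw [pv_last e hk0]
        have := hφ e
        simp only [dd] at this
        simp only [ψ, Sum.elim_inl]
        linarith
    refine ⟨ψ, fun v => mdeg (blEnds ends l) (fun _ => 1) ψ (Sum.inl v) + β (Sum.inl v), ?_⟩
    rintro (v | ⟨e, i⟩)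
    · rfl
    · have := i.isLt
      rw [mdeg_inr, hU e _ (by omega), hU e _ (by omega), hU e _ (by omega), Sum.elim_inr]
      have h1 := sol_rec (g e) i.val
      have h2 : g e i.val = β (Sum.inr ⟨e, i⟩) := dif_pos this
      push_cast
      linarith

omit [DecidableEq E] in
theorem mdeg_zero_iff (hG : Connected ends) (hl : ∀ e, 0 < l e) (φ : V → ℤ) (hφ : IsCartier ends l φ) :
    (∀ v : V, mdeg ends l φ v = 0) ↔ ∀ v w : V, φ v = φ w := by
  classical
  refine ⟨fun h => const_of_dd hG fun e => ?_, fun h v => sum_eq_zero fun e _ => by simp [h (ends e).2 (ends e).1]⟩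
  have h1 : ∑ v, φ v * mdeg ends l φ v = 0 := sum_eq_zero fun v _ => by rw [h v, mul_zero]
  simp only [mdeg, mul_sum] at h1
  rw [sum_comm] at h1
  simp only [mul_add, mul_ite, mul_zero, sum_add_distrib, sum_ite_eq, mem_univ, if_true] at h1
  rw [← sum_add_distrib, sum_eq_zero_iff_of_nonpos fun e _ => ?_] at h1
  · obtain ⟨k, hk⟩ := hφ e
    have h2 := h1 e (mem_univ e)
    have h0 : (l e : ℤ) ≠ 0 := by exact_mod_cast (hl e).ne'
    rw [show φ (ends e).2 - φ (ends e).1 = (l e : ℤ) * -k by linarith, hk, Int.mul_ediv_cancel_left _ h0,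
      Int.mul_ediv_cancel_left _ h0] at h2
    have h3 : ((l e : ℤ) * k) * k = 0 := by rw [← hk]; linarith
    rcases mul_eq_zero.1 h3 with h4 | h4
    · simpa [dd, hk] using h4
    · simp [dd, hk, h4]
  · obtain ⟨k, hk⟩ := hφ e
    have h0 : (l e : ℤ) ≠ 0 := by exact_mod_cast (hl e).ne'
    rw [show φ (ends e).2 - φ (ends e).1 = (l e : ℤ) * -k by linarith, hk, Int.mul_ediv_cancel_left _ h0,
      Int.mul_ediv_cancel_left _ h0]
    have h4 : φ (ends e).1 * -k + φ (ends e).2 * k = -((l e : ℤ) * k * k) := by rw [← hk]; ring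
    rw [h4, mul_assoc]
    nlinarith [mul_self_nonneg k, Int.natCast_nonneg (l e)]

end Groth.ModelsGraphs.Blow
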