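import Mathlib.LinearAlgebra.Matrix.Symmetric
import Mathlib.LinearAlgebra.Matrix.ToLin
import Mathlib.Algebra.BigOperators.Fin
import Mathlib.Algebra.Order.BigOperators.Ring.Finset
import Mathlib.Tactic

/-! Quadratic forms of matrices with non-negative off-diagonal entries. -/

namespace Groth.ModelsGraphs

open Finset Matrix

variable {ι : Type*} [Fintype ι] {K : Type*} [Field K] [LinearOrder K] [IsStrictOrderedRing K]
  {A : Matrix ι ι K} {m y : ι → K}

omit [LinearOrder K] [IsStrictOrderedRing K] in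
theorem two_mul_form (hs : A.IsSymm) (m y : ι → K) :
    2 * ∑ i, ∑ j, A i j * (m i * y i) * (m j * y j) =
      2 * ∑ i, (A.mulVec m) i * (m i * y i ^ 2) -
        ∑ i, ∑ j, A i j * m i * m j * (y i - y j) ^ 2 := by
  have h : ∀ i, (A.mulVec m) i * (m i * y i ^ 2) = ∑ j, A i j * m j * (m i * y i ^ 2) := fun i => by
    simp [Matrix.mulVec, dotProduct, Finset.sum_mul]
  simp only [h]
  have h2 : ∑ i, ∑ j, A i j * m i * (m j * y j ^ 2) = ∑ i, ∑ j, A i j * m j * (m i * y i ^ 2) := by
    rw [Finset.sum_comm]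
    simp [hs.apply]
  have h3 : ∀ i j, A i j * m i * m j * (y i - y j) ^ 2 = A i j * m j * (m i * y i ^ 2) +
      A i j * m i * (m j * y j ^ 2) - 2 * (A i j * (m i * y i) * (m j * y j)) := fun i j => by ring
  simp only [h3, sum_sub_distrib, sum_add_distrib, ← mul_sum, h2]
  ring

omit [LinearOrder K] [IsStrictOrderedRing K] in
theorem form_eq_dot (x : ι → K) : dotProduct x (A.mulVec x) = ∑ i, ∑ j, A i j * x i * x j := by
  simp [dotProduct, Matrix.mulVec, Finset.mul_sum]; congr! 2; ring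

/-- The form is non-positive; when it vanishes, `x / m` vanishes off the rows killing `m` and is constant
along the graph of `A`. -/
theorem form_nonpos (hs : A.IsSymm) (hA : ∀ i j, i ≠ j → 0 ≤ A i j) (hm : ∀ i, 0 < m i)
    (hle : ∀ i, (A.mulVec m) i ≤ 0) (x : ι → K) :
    dotProduct x (A.mulVec x) ≤ 0 ∧ (dotProduct x (A.mulVec x) = 0 →
      (∀ i, x i ≠ 0 → (A.mulVec m) i = 0) ∧
        ∀ i j, A i j ≠ 0 → x i / m i = x j / m j) := by
  have key := two_mul_form hs m (fun i => x i / m i)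
  have hx : ∀ i, m i * (x i / m i) = x i := fun i => mul_div_cancel₀ _ (hm i).ne'
  simp only [hx] at key
  rw [← form_eq_dot] at key
  have p1 : ∀ i ∈ (univ : Finset ι), 0 ≤ -((A.mulVec m) i * (m i * (x i / m i) ^ 2)) := fun i _ => by
    have := mul_nonneg (neg_nonneg.2 (hle i)) (mul_nonneg (hm i).le (sq_nonneg (x i / m i))); linarith
  have p2 : ∀ i j, 0 ≤ A i j * m i * m j * (x i / m i - x j / m j) ^ 2 := fun i j => by
    by_cases h : i = j
    · subst h; simp
    · have := hA i j h; have := hm i; have := hm j; positivity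
  have q2 : 0 ≤ ∑ i, ∑ j, A i j * m i * m j * (x i / m i - x j / m j) ^ 2 :=
    sum_nonneg fun i _ => sum_nonneg fun j _ => p2 i j
  have q1 := sum_nonneg p1
  rw [sum_neg_distrib] at q1
  refine ⟨by linarith, fun h0 => ⟨fun i hi => ?_, fun i j hij => ?_⟩⟩
  · have hz : ∑ i, -((A.mulVec m) i * (m i * (x i / m i) ^ 2)) = 0 := by rw [sum_neg_distrib]; linarith
    have := (sum_eq_zero_iff_of_nonneg p1).1 hz i (mem_univ i)
    simpa [(hm i).ne', hi] using this
  · have hz : ∑ i, ∑ j, A i j * m i * m j * (x i / m i - x j / m j) ^ 2 = 0 := by linarith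
    have h1 := (sum_eq_zero_iff_of_nonneg fun i _ => sum_nonneg fun j _ => p2 i j).1 hz i (mem_univ i)
    have h2 := (sum_eq_zero_iff_of_nonneg fun j _ => p2 i j).1 h1 j (mem_univ j)
    simpa [(hm i).ne', (hm j).ne', hij, sub_eq_zero] using h2

omit [Fintype ι] [LinearOrder K] [IsStrictOrderedRing K] in
theorem exists_eq_of_connected {M : Type*} [Zero M] {B : Matrix ι ι M} [Fintype ι] {β : Type*} (f : ι → β)
    (hconn : ∀ I : Finset ι, I.Nonempty → I ≠ univ → ∃ i ∈ I, ∃ j ∉ I, B i j ≠ 0)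
    (h : ∀ i j, B i j ≠ 0 → f i = f j) (i k : ι) : f i = f k := by
  classical
  by_contra hk
  obtain ⟨a, ha, b, hb, hab⟩ := hconn (univ.filter fun j => f j = f i) ⟨i, by simp⟩ (fun he => by
    have : k ∈ univ.filter (fun j => f j = f i) := by rw [he]; exact mem_univ k
    exact hk (mem_filter.1 this).2.symm)
  simp only [mem_filter, mem_univ, true_and] at ha hb
  exact hb ((h a b hab).symm.trans ha)

/-- With `A m = 0` and connectedness, the form vanishes only on multiples of `m`. -/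
theorem eq_smul_of_form_zero (hs : A.IsSymm) (hA : ∀ i j, i ≠ j → 0 ≤ A i j) (hm : ∀ i, 0 < m i)
    (hAm : A.mulVec m = 0)
    (hconn : ∀ I : Finset ι, I.Nonempty → I ≠ univ → ∃ i ∈ I, ∃ j ∉ I, A i j ≠ 0)
    (x : ι → K) (h0 : dotProduct x (A.mulVec x) = 0) : ∃ q : K, x = q • m := by
  have h := ((form_nonpos hs hA hm (fun i => by simp [hAm]) x).2 h0).2
  rcases isEmpty_or_nonempty ι with he | ⟨⟨i0⟩⟩
  · exact ⟨0, funext fun i => (he.false i).elim⟩
  · refine ⟨x i0 / m i0, funext fun i => ?_⟩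
    have := exists_eq_of_connected (fun i => x i / m i) hconn h i0 i
    rw [Pi.smul_apply, smul_eq_mul, this, div_mul_cancel₀ _ (hm i).ne']

end Groth.ModelsGraphs
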