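import Groth.Agent.ModelsGraphs.NT
import Groth.Agent.ModelsGraphs.Form
import Mathlib

/-! Picard groups and contractions of numerical types; torsion bounds for graph cokernels. -/

namespace Groth.ModelsGraphs

open Finset Models Matrix

variable {n : ℕ}

theorem pic_mul (T : NumericalType n) (i j : Fin n) : T.w i * T.picMatrix i j = T.a i j :=
  Int.mul_ediv_cancel' (T.w_dvd i j)

theorem pic_mulVec (T : NumericalType n) (x : Fin n → ℤ) (i : Fin n) :
    T.w i * T.picMatrix.mulVec x i = T.a.mulVec x i := by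
  simp only [mulVec, dotProduct, mul_sum, ← mul_assoc, pic_mul]

theorem propto_of_ker (T : NumericalType n) (x : Fin n → ℤ) (hx : T.a.mulVec x = 0) (i j : Fin n) :
    x i * T.m j = x j * T.m i := by
  let A : Matrix (Fin n) (Fin n) ℚ := fun i j => (T.a i j : ℚ)
  have hcast : ∀ y : Fin n → ℤ, A.mulVec (fun i => (y i : ℚ)) = fun i => ((T.a.mulVec y i : ℤ) : ℚ) := fun y => by
    funext i; simp [A, mulVec, dotProduct]
  obtain ⟨q, hq⟩ := eq_smul_of_form_zero (A := A) (m := fun i => (T.m i : ℚ))
    (Matrix.IsSymm.ext fun i j => by simp [A, a_comm T j i])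
    (fun i j h => Int.cast_nonneg (T.offDiag_nonneg i j h))
    (fun i => by exact_mod_cast (T.m_pos i : (0 : ℤ) < T.m i))
    (by rw [hcast, T.mulVec_m]; simp; rfl)
    (fun I h1 h2 => by
      obtain ⟨a, ha, b, hb, hab⟩ := T.connected I h1 h2
      exact ⟨a, ha, b, hb, by simpa [A] using hab⟩)
    (fun i => (x i : ℚ)) (by rw [hcast, hx]; simp [dotProduct])
  have hi := congrFun hq i
  have hj := congrFun hq j
  simp only [Pi.smul_apply, smul_eq_mul] at hi hj
  have : ((x i * T.m j : ℤ) : ℚ) = ((x j * T.m i : ℤ) : ℚ) := by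
    push_cast; rw [hi, hj]; ring
  exact_mod_cast this

theorem ker_pic (T : NumericalType n) (x : Fin n → ℤ) :
    T.picMatrix.mulVec x = 0 ↔ T.a.mulVec x = 0 := by
  constructor <;> intro h <;> funext i <;> have hi := congrFun h i
  · rw [← pic_mulVec, hi]; simp
  · rw [← pic_mulVec] at hi
    exact (mul_eq_zero.1 hi).resolve_left (T.w_pos i).ne'

theorem finrank_pic (T : NumericalType n) : Module.finrank ℤ T.Pic = 1 := by
  let L := Matrix.mulVecLin T.picMatrix
  let i0 : Fin n := ⟨0, T.pos⟩
  have hmem : T.m ∈ LinearMap.ker L := (ker_pic T T.m).2 T.mulVec_m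
  let ev : LinearMap.ker L →ₗ[ℤ] ℤ := (LinearMap.proj i0) ∘ₗ (LinearMap.ker L).subtype
  have hinj : Function.Injective ev := by
    rw [← LinearMap.ker_eq_bot, LinearMap.ker_eq_bot']
    rintro ⟨x, hx⟩ h0
    refine Subtype.ext (funext fun i => ?_)
    have h1 := propto_of_ker T x ((ker_pic T x).1 hx) i i0
    rw [show x i0 = 0 from h0, zero_mul] at h1
    exact (mul_eq_zero.1 h1).resolve_right (T.m_pos i0).ne'
  have hle : Module.finrank ℤ (LinearMap.ker L) ≤ 1 :=
    (LinearMap.finrank_le_finrank_of_injective hinj).trans (Module.finrank_self ℤ).le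
  have hge : 0 < Module.finrank ℤ (LinearMap.ker L) := by
    refine Module.finrank_pos_iff.2 ⟨⟨⟨T.m, hmem⟩, 0, fun h => ?_⟩⟩
    exact (T.m_pos i0).ne' (congrFun (congrArg Subtype.val h) i0)
  have h1 := Submodule.finrank_quotient_add_finrank (LinearMap.ker L)
  rw [LinearEquiv.finrank_eq L.quotKerEquivRange] at h1
  have h2 : Module.finrank ℤ T.Pic + Module.finrank ℤ (LinearMap.range L) = Module.finrank ℤ (Fin n → ℤ) :=
    Submodule.finrank_quotient_add_finrank _
  omega

/-- The map `x ↦ w x`. -/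
def scaleW (T : NumericalType n) : (Fin n → ℤ) →ₗ[ℤ] (Fin n → ℤ) :=
  LinearMap.pi fun i => T.w i • LinearMap.proj i

theorem scaleW_apply (T : NumericalType n) (x : Fin n → ℤ) (i : Fin n) : scaleW T x i = T.w i * x i := rfl

theorem pic_embeds (T : NumericalType n) : ∃ f : T.Pic →+ T.CokerA, Function.Injective f ∧
    ∀ x : Fin n → ℤ, f (Submodule.Quotient.mk x) = Submodule.Quotient.mk (fun i => T.w i * x i) := by
  have hle : LinearMap.range (Matrix.mulVecLin T.picMatrix) ≤
      (LinearMap.range (Matrix.mulVecLin T.a)).comap (scaleW T) := by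
    rintro _ ⟨y, rfl⟩
    exact ⟨y, funext fun i => (pic_mulVec T y i).symm⟩
  refine ⟨((LinearMap.range (Matrix.mulVecLin T.picMatrix)).mapQ _ (scaleW T) hle).toAddMonoidHom, ?_, fun x => rfl⟩
  rw [injective_iff_map_eq_zero]
  intro q hq
  obtain ⟨x, rfl⟩ := Submodule.Quotient.mk_surjective _ q
  change (Submodule.Quotient.mk (scaleW T x) : T.CokerA) = 0 at hq
  obtain ⟨y, hy⟩ := (Submodule.Quotient.mk_eq_zero _).1 hq
  refine (Submodule.Quotient.mk_eq_zero _).2 ⟨y, funext fun i => ?_⟩
  have h := congrFun hy i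
  rw [scaleW_apply, Matrix.mulVecLin_apply, ← pic_mulVec] at h
  exact mul_left_cancel₀ (T.w_pos i).ne' h

section Contract

variable (T : NumericalType (n + 1))

/-- `a i l / w l`. -/
def cC (i : Fin n) : ℤ := T.a i.castSucc (Fin.last n) / T.w (Fin.last n)

/-- `a i l / w i`. -/
def uC (i : Fin n) : ℤ := T.a i.castSucc (Fin.last n) / T.w i.castSucc

/-- Whether `w i` is halved. -/
def halved (i : Fin n) : Prop := 2 ∣ cC T i ∧ ¬ 2 ∣ uC T i

instance (i : Fin n) : Decidable (halved T i) := inferInstanceAs (Decidable (_ ∧ _))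

/-- The factor `w / w'`. -/
def kC (i : Fin n) : ℤ := if halved T i then 2 else 1

theorem cC_mul (i : Fin n) : T.w (Fin.last n) * cC T i = T.a i.castSucc (Fin.last n) :=
  Int.mul_ediv_cancel' (w_dvd' T _ _)

theorem uC_mul (i : Fin n) : T.w i.castSucc * uC T i = T.a i.castSucc (Fin.last n) :=
  Int.mul_ediv_cancel' (T.w_dvd _ _)

theorem cC_nonneg (i : Fin n) : 0 ≤ cC T i :=
  Int.ediv_nonneg (T.offDiag_nonneg _ _ (Fin.castSucc_ne_last i)) (T.w_pos _).le

theorem uC_nonneg (i : Fin n) : 0 ≤ uC T i :=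
  Int.ediv_nonneg (T.offDiag_nonneg _ _ (Fin.castSucc_ne_last i)) (T.w_pos _).le

theorem w_even_of_halved {i : Fin n} (hi : halved T i) : (2 : ℤ) ∣ T.w i.castSucc := by
  obtain ⟨⟨c, hc⟩, hu⟩ := hi
  have h1 : (2 : ℤ) ∣ T.w i.castSucc * uC T i := by
    rw [uC_mul, ← cC_mul, hc]; exact ⟨T.w (Fin.last n) * c, by ring⟩
  exact (Int.prime_two.dvd_or_dvd h1).resolve_right hu

/-- The new `w`. -/
def wC (i : Fin n) : ℤ := if halved T i then T.w i.castSucc / 2 else T.w i.castSucc

theorem wC_mul (i : Fin n) : wC T i * kC T i = T.w i.castSucc := by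
  unfold wC kC
  split_ifs with h
  exacts [Int.ediv_mul_cancel (w_even_of_halved T h), mul_one _]

theorem wC_pos (i : Fin n) : 0 < wC T i := by
  have h := wC_mul T i
  have h2 := T.w_pos i.castSucc
  by_contra hh
  have : 0 ≤ kC T i := by unfold kC; split_ifs <;> omega
  nlinarith

/-- The new matrix. -/
def aC : Matrix (Fin n) (Fin n) ℤ := fun i j =>
  T.a i.castSucc j.castSucc + T.w (Fin.last n) * cC T i * cC T j

/-- The halved quotient `(c - 1) u k / 2`. -/
def eC (i : Fin n) : ℤ := uC T i * (cC T i - 1) * kC T i / 2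

theorem eC_mul (i : Fin n) : 2 * eC T i = uC T i * (cC T i - 1) * kC T i := by
  refine Int.mul_ediv_cancel' ?_
  unfold kC
  split_ifs with h
  · exact dvd_mul_left _ _
  · rw [mul_one]
    simp only [halved, not_and, not_not] at h
    rcases Int.emod_two_eq_zero_or_one (cC T i) with hc | hc
    · exact (h (Int.dvd_of_emod_eq_zero hc)).mul_right _
    · exact (show (2 : ℤ) ∣ cC T i - 1 by omega).mul_left _

variable {T} (h : T.IsMinusOne (Fin.last n))
include h

theorem all_succ : 0 < n := by
  rcases Nat.eq_zero_or_pos n with rfl | hn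
  · exfalso
    have h1 := row_sum T (Fin.last 0)
    haveI : Subsingleton (Fin (0 + 1)) := inferInstanceAs (Subsingleton (Fin 1))
    rw [Fintype.sum_subsingleton _ (Fin.last 0), mul_eq_zero] at h1
    rcases h1 with h1 | h1
    · rw [h.2] at h1
      linarith [T.w_pos (Fin.last 0)]
    · exact (T.m_pos _).ne' h1
  · exact hn

theorem sub_eq_aC (i j : Fin n) : T.a i.castSucc j.castSucc -
    T.a i.castSucc (Fin.last n) * T.a j.castSucc (Fin.last n) / T.a (Fin.last n) (Fin.last n) = aC T i j := by
  have hw := (T.w_pos (Fin.last n)).ne'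
  rw [h.2, ← cC_mul, ← cC_mul, Int.ediv_neg, aC,
    show T.w (Fin.last n) * cC T i * (T.w (Fin.last n) * cC T j) =
      T.w (Fin.last n) * (T.w (Fin.last n) * cC T i * cC T j) by ring, Int.mul_ediv_cancel_left _ hw]
  ring

omit h in
theorem quot_eq_eC (i : Fin n) :
    (T.a i.castSucc (Fin.last n) ^ 2 - T.w (Fin.last n) * T.a i.castSucc (Fin.last n)) /
      (2 * wC T i * T.w (Fin.last n)) = eC T i := by
  have h1 : T.a i.castSucc (Fin.last n) ^ 2 - T.w (Fin.last n) * T.a i.castSucc (Fin.last n) =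
      2 * wC T i * T.w (Fin.last n) * eC T i := by
    rw [show 2 * wC T i * T.w (Fin.last n) * eC T i = wC T i * T.w (Fin.last n) * (2 * eC T i) by ring, eC_mul]
    have hk := wC_mul T i
    have hc := cC_mul T i
    have hu := uC_mul T i
    linear_combination (-(uC T i * (cC T i - 1) * T.w (Fin.last n))) * hk +
      (-(cC T i - 1) * T.w (Fin.last n)) * hu + (-T.a i.castSucc (Fin.last n)) * hc
  rw [h1, Int.mul_ediv_cancel_left _ (mul_ne_zero (mul_ne_zero two_ne_zero (wC_pos T i).ne') (T.w_pos _).ne')]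

/-- The contraction. -/
def contract : NumericalType n where
  m i := T.m i.castSucc
  a := aC T
  w := wC T
  g i := kC T i * (T.g i.castSucc - 1) + 1 + eC T i
  pos := all_succ h
  m_pos _ := T.m_pos _
  w_pos := wC_pos T
  g_nonneg i := by
    show 0 ≤ kC T i * (T.g i.castSucc - 1) + 1 + eC T i
    have he := eC_mul T i
    have hg := T.g_nonneg i.castSucc
    have hu := uC_nonneg T i
    have hc0 := cC_nonneg T i
    rcases hc0.lt_or_eq with hc | hc
    · by_cases hh : halved T i
      · simp only [kC, if_pos hh] at he ⊢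
        obtain ⟨⟨d, hd⟩, hodd⟩ := hh
        have h1 : 0 < uC T i := lt_of_le_of_ne hu fun e => hodd (e ▸ dvd_zero 2)
        have h2 : 1 ≤ cC T i - 1 := by omega
        have h3 := mul_le_mul h1 h2 zero_le_one hu
        linarith
      · simp only [kC, if_neg hh] at he ⊢
        nlinarith
    · have h0 : uC T i = 0 := by
        have := uC_mul T i
        rw [← cC_mul, ← hc, mul_zero, mul_eq_zero] at this
        exact this.resolve_left (T.w_pos _).ne'
      have hk : kC T i = 1 := if_neg fun hh => hh.2 (h0 ▸ dvd_zero 2)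
      rw [h0, zero_mul, zero_mul] at he
      rw [hk]; omega
  symm := Matrix.IsSymm.ext fun i j => by simp only [aC, a_comm T i.castSucc]; ring
  offDiag_nonneg i j hij := add_nonneg (T.offDiag_nonneg _ _ fun e => hij (Fin.castSucc_injective n e))
    (mul_nonneg (mul_nonneg (T.w_pos _).le (cC_nonneg T i)) (cC_nonneg T j))
  connected I hI hIu := by
    by_contra hno
    push Not at hno
    have key : ∀ i ∈ I, ∀ j ∉ I, T.a i.castSucc j.castSucc = 0 ∧ (cC T i = 0 ∨ cC T j = 0) := by
      intro i hi j hj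
      have h1 := hno i hi j hj
      simp only [aC] at h1
      have h2 : 0 ≤ T.a i.castSucc j.castSucc :=
        T.offDiag_nonneg _ _ fun e => hj (Fin.castSucc_injective n e ▸ hi)
      have h3 := mul_nonneg (mul_nonneg (T.w_pos (Fin.last n)).le (cC_nonneg T i)) (cC_nonneg T j)
      refine ⟨by linarith, ?_⟩
      rcases mul_eq_zero.1 (show T.w (Fin.last n) * cC T i * cC T j = 0 by linarith) with h4 | h4
      · exact Or.inl ((mul_eq_zero.1 h4).resolve_left (T.w_pos _).ne')
      · exact Or.inr h4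
    have side : ∀ J : Finset (Fin n), J.Nonempty → (∀ i ∈ J, cC T i = 0) →
        (∀ i ∈ J, ∀ j ∉ J, T.a i.castSucc j.castSucc = 0) → False := by
      intro J hJ hc0 hz
      obtain ⟨i, hi, j, hj, hij⟩ := T.connected (J.map Fin.castSuccEmb) (hJ.map) (fun e => by
        have : Fin.last n ∈ J.map Fin.castSuccEmb := by rw [e]; exact mem_univ _
        obtain ⟨a, -, ha⟩ := mem_map.1 this
        exact Fin.castSucc_ne_last a ha)
      obtain ⟨i, hi', rfl⟩ := mem_map.1 hi
      rcases Fin.eq_castSucc_or_eq_last j with ⟨j, rfl⟩ | rfl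
      · exact hij (hz i hi' j fun hj' => hj (mem_map.2 ⟨j, hj', rfl⟩))
      · exact hij (by rw [Fin.coe_castSuccEmb, ← cC_mul, hc0 i hi', mul_zero])
    by_cases hall : ∀ i ∈ I, cC T i = 0
    · exact side I hI hall fun i hi j hj => (key i hi j hj).1
    · push Not at hall
      obtain ⟨i, hi, hci⟩ := hall
      refine side Iᶜ ?_ (fun j hj => ((key i hi j (mem_compl.1 hj)).2).resolve_left hci) fun j hj k hk => ?_
      · rw [nonempty_iff_ne_empty, Ne, compl_eq_empty_iff]; exact hIu
      · rw [a_comm]; exact (key k (by simpa using hk) j (mem_compl.1 hj)).1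
  mulVec_m := by
    funext i
    have h1 := row_sum T i.castSucc
    have h2 := row_sum T (Fin.last n)
    rw [Fin.sum_univ_castSucc] at h1 h2
    rw [h.2] at h2
    have h3 : ∀ j : Fin n, T.a (Fin.last n) j.castSucc = T.w (Fin.last n) * cC T j := fun j => by
      rw [cC_mul, a_comm]
    simp only [h3] at h2
    show ∑ j, aC T i j * T.m j.castSucc = 0
    simp only [aC, add_mul, sum_add_distrib]
    rw [show ∑ j, T.w (Fin.last n) * cC T i * cC T j * T.m j.castSucc =
      cC T i * ∑ j, T.w (Fin.last n) * cC T j * T.m j.castSucc by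
        rw [mul_sum]; exact sum_congr rfl fun j _ => by ring]
    linear_combination h1 + cC T i * h2 + T.m (Fin.last n) * cC_mul T i
  w_dvd i j := by
    have hw : wC T i ∣ T.w i.castSucc := ⟨kC T i, (wC_mul T i).symm⟩
    refine dvd_add (hw.trans (T.w_dvd _ _)) (hw.trans ⟨uC T i * cC T j, ?_⟩)
    linear_combination cC T j * (cC_mul T i) - cC T j * (uC_mul T i)

theorem isContraction_contract : T.IsContraction (contract h) := by
  refine ⟨fun i => rfl, fun i j => (sub_eq_aC h i j).symm, fun i => rfl, fun i => ?_⟩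
  show kC T i * (T.g i.castSucc - 1) + 1 + eC T i = T.w i.castSucc / wC T i * (T.g i.castSucc - 1) + 1 + _
  rw [show (contract h).w i = wC T i from rfl, quot_eq_eC, show T.w i.castSucc / wC T i = kC T i by
    conv_lhs => rw [← wC_mul]
    exact Int.mul_ediv_cancel_left _ (wC_pos T i).ne']

theorem eq_contract {T' : NumericalType n} (hT' : T.IsContraction T') :
    T'.m = (contract h).m ∧ T'.a = (contract h).a ∧ T'.w = (contract h).w ∧ T'.g = (contract h).g := by
  obtain ⟨h1, h2, h3, h4⟩ := hT'
  obtain ⟨e1, e2, e3, e4⟩ := isContraction_contract h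
  have ew : T'.w = (contract h).w := funext fun i => by rw [h3, e3]
  exact ⟨funext fun i => by rw [h1, e1], funext₂ fun i j => by rw [h2, e2], ew,
    funext fun i => by rw [h4, e4, ew]⟩

theorem genus_contract {T' : NumericalType n} (hT' : T.IsContraction T') : T'.genus = T.genus := by
  obtain ⟨em, ea, ew, eg⟩ := eq_contract h hT'
  have hc : ∀ i, contrib T' i = contrib T i.castSucc - T.m i.castSucc * T.a i.castSucc (Fin.last n) := by
    intro i
    simp only [contrib, em, ea, ew, eg]
    show T.m i.castSucc * (2 * wC T i * (kC T i * (T.g i.castSucc - 1) + 1 + eC T i - 1) - aC T i i) = _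
    simp only [aC]
    linear_combination (T.m i.castSucc * (2 * (T.g i.castSucc - 1) + uC T i * (cC T i - 1))) * wC_mul T i +
      (T.m i.castSucc * wC T i) * eC_mul T i + (T.m i.castSucc * (cC T i - 1)) * uC_mul T i -
      (T.m i.castSucc * cC T i) * cC_mul T i
  have h1 := two_genus T'
  have h2 := two_genus T
  rw [Fin.sum_univ_castSucc] at h2
  simp only [hc, sum_sub_distrib] at h1
  have h3 := row_sum T (Fin.last n)
  rw [Fin.sum_univ_castSucc, h.2] at h3
  have h4 : ∑ i : Fin n, T.m i.castSucc * T.a i.castSucc (Fin.last n) =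
      ∑ i : Fin n, T.a (Fin.last n) i.castSucc * T.m i.castSucc :=
    sum_congr rfl fun i _ => by rw [a_comm]; ring
  have h5 : contrib T (Fin.last n) = -(T.m (Fin.last n) * T.w (Fin.last n)) := by
    rw [contrib, h.1, h.2]; ring
  linarith

/-- The map behind `Pic(T) → Pic(T')`. -/
def downMap : (Fin (n + 1) → ℤ) →ₗ[ℤ] (Fin n → ℤ) :=
  LinearMap.pi fun i => kC T i • (LinearMap.proj i.castSucc + uC T i • LinearMap.proj (Fin.last n))

theorem pic_embeds_contraction {T' : NumericalType n} (hT' : T.IsContraction T') :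
    ∃ f : T.Pic →+ T'.Pic, Function.Injective f ∧ ∀ y : T'.Pic, ∃ x : T.Pic, 2 • y = f x := by
  obtain ⟨-, ea, ew, -⟩ := eq_contract h hT'
  have hk : ∀ i, kC T i ≠ 0 := fun i => by unfold kC; split_ifs <;> omega
  have hd : ∀ x i, (downMap (T := T)) x i = kC T i * (x i.castSucc + uC T i * x (Fin.last n)) := fun x i => rfl
  have hpu : ∀ i : Fin n, T.picMatrix i.castSucc (Fin.last n) = uC T i := fun i => rfl
  have hpl : ∀ j : Fin n, T.picMatrix (Fin.last n) j.castSucc = cC T j := fun j => by
    simp only [NumericalType.picMatrix, cC, a_comm T (Fin.last n)]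
  have hpll : T.picMatrix (Fin.last n) (Fin.last n) = -1 := by
    simp only [NumericalType.picMatrix, h.2, Int.neg_ediv_of_dvd dvd_rfl, Int.ediv_self (T.w_pos _).ne']
  have hP' : ∀ i j, T'.picMatrix i j = kC T i * (T.picMatrix i.castSucc j.castSucc + uC T i * cC T j) := by
    intro i j
    refine mul_left_cancel₀ (T'.w_pos i).ne' ?_
    rw [pic_mul, ea, ew]
    show aC T i j = wC T i * _
    simp only [aC]
    linear_combination (-(T.picMatrix i.castSucc j.castSucc + uC T i * cC T j)) * wC_mul T i -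
      pic_mul T i.castSucc j.castSucc - cC T j * uC_mul T i + cC T j * cC_mul T i
  have heq : ∀ (y : Fin (n + 1) → ℤ), (downMap (T := T)) (T.picMatrix.mulVec y) = T'.picMatrix.mulVec (fun j => y j.castSucc) := by
    intro y
    funext i
    rw [hd]
    simp only [mulVec, dotProduct, Fin.sum_univ_castSucc, hpu, hpl, hpll, hP']
    simp only [mul_add, add_mul, sum_add_distrib, mul_sum]
    ring_nf
  have hle : LinearMap.range (Matrix.mulVecLin T.picMatrix) ≤
      (LinearMap.range (Matrix.mulVecLin T'.picMatrix)).comap ((downMap (T := T))) := by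
    rintro _ ⟨y, rfl⟩
    exact ⟨fun j => y j.castSucc, (heq y).symm⟩
  refine ⟨((LinearMap.range (Matrix.mulVecLin T.picMatrix)).mapQ _ ((downMap (T := T))) hle).toAddMonoidHom, ?_, fun q => ?_⟩
  · rw [injective_iff_map_eq_zero]
    intro q hq
    obtain ⟨x, rfl⟩ := Submodule.Quotient.mk_surjective _ q
    change (Submodule.Quotient.mk ((downMap (T := T)) x) : T'.Pic) = 0 at hq
    obtain ⟨z, hz⟩ := (Submodule.Quotient.mk_eq_zero _).1 hq
    let y : Fin (n + 1) → ℤ := Fin.snoc z (∑ j, cC T j * z j - x (Fin.last n))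
    have hlast : T.picMatrix.mulVec y (Fin.last n) = x (Fin.last n) := by
      simp only [mulVec, dotProduct, Fin.sum_univ_castSucc, hpl, hpll, y, Fin.snoc_castSucc, Fin.snoc_last]
      ring
    refine (Submodule.Quotient.mk_eq_zero _).2 ⟨y, funext fun i => ?_⟩
    rcases Fin.eq_castSucc_or_eq_last i with ⟨i, rfl⟩ | rfl
    · have h1 := congrFun (heq y) i
      rw [show (fun j : Fin n => y j.castSucc) = z from funext fun j => by simp [y],
        show T'.picMatrix.mulVec z = (downMap (T := T)) x from hz, hd, hd, hlast] at h1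
      have := mul_left_cancel₀ (hk i) h1
      rw [Matrix.mulVecLin_apply]
      linarith
    · exact hlast
  · obtain ⟨y, rfl⟩ := Submodule.Quotient.mk_surjective _ q
    refine ⟨Submodule.Quotient.mk (Fin.snoc (fun i => (if halved T i then 1 else 2) * y i) 0), ?_⟩
    show _ = (Submodule.Quotient.mk ((downMap (T := T)) _) : T'.Pic)
    rw [two_nsmul, ← Submodule.Quotient.mk_add]
    congr 1
    funext i
    rw [hd, Fin.snoc_castSucc, Fin.snoc_last, Pi.add_apply]
    unfold kC
    split_ifs <;> ring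

end Contract

section Perm

variable (T : NumericalType n) (σ : Equiv.Perm (Fin n))

/-- Relabelling the indices. -/
def relabel : NumericalType n where
  m i := T.m (σ i)
  a := T.a.submatrix σ σ
  w i := T.w (σ i)
  g i := T.g (σ i)
  pos := T.pos
  m_pos _ := T.m_pos _
  w_pos _ := T.w_pos _
  g_nonneg _ := T.g_nonneg _
  symm := T.symm.submatrix σ
  offDiag_nonneg i j h := T.offDiag_nonneg _ _ fun e => h (σ.injective e)
  connected I hI hIu := by
    obtain ⟨i, hi, j, hj, hij⟩ := T.connected (I.map σ.toEmbedding) hI.map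
      (fun e => hIu (Finset.map_injective σ.toEmbedding (by rw [e, map_univ_equiv])))
    obtain ⟨i, hi', rfl⟩ := mem_map.1 hi
    refine ⟨i, hi', σ.symm j, fun h => hj (mem_map.2 ⟨_, h, σ.apply_symm_apply j⟩), ?_⟩
    simpa using hij
  mulVec_m := by
    funext i
    exact (Equiv.sum_comp σ fun j => T.a (σ i) j * T.m j).trans (row_sum T (σ i))
  w_dvd _ _ := T.w_dvd _ _

theorem genus_relabel : (relabel T σ).genus = T.genus := by
  have h1 := two_genus (relabel T σ)
  have h2 := two_genus T
  have : ∑ i, contrib (relabel T σ) i = ∑ i, contrib T i := Equiv.sum_comp σ (fun i => contrib T i)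
  linarith

/-- Relabelling does not change the Picard group. -/
noncomputable def picRelabel : T.Pic ≃ₗ[ℤ] (relabel T σ).Pic :=
  Submodule.Quotient.equiv _ _ (LinearEquiv.funCongrLeft ℤ ℤ σ) (by
    ext x
    simp only [Submodule.mem_map, LinearMap.mem_range]
    constructor
    · rintro ⟨_, ⟨y, rfl⟩, rfl⟩
      exact ⟨y ∘ σ, funext fun i => Equiv.sum_comp σ fun j => T.picMatrix (σ i) j * y j⟩
    · rintro ⟨y, rfl⟩
      refine ⟨_, ⟨y ∘ σ.symm, rfl⟩, funext fun i => ?_⟩
      show T.picMatrix.mulVec (y ∘ σ.symm) (σ i) = (relabel T σ).picMatrix.mulVec y i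
      simp only [mulVec, dotProduct]
      rw [← Equiv.sum_comp σ]
      simp [relabel, NumericalType.picMatrix])

theorem exists_relabel {k : ℕ} (T : NumericalType (k + 1)) (i : Fin (k + 1)) (hi : T.IsMinusOne i) :
    ∃ σ : Equiv.Perm (Fin (k + 1)), (relabel T σ).IsMinusOne (Fin.last k) := by
  refine ⟨Equiv.swap i (Fin.last k), ?_⟩
  simpa [NumericalType.IsMinusOne, relabel] using hi

end Perm

theorem pic_equiv_int (T : NumericalType n) (hg : T.genus ≤ 0) : Nonempty (T.Pic ≃+ ℤ) := by
  induction n with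
  | zero => exact absurd T.pos (lt_irrefl 0)
  | succ k ih =>
    by_cases hmin : T.IsMinimal
    · obtain rfl : k = 0 := by
        by_contra hk
        have := one_le_genus T hmin (by omega)
        omega
      have hbot : LinearMap.range (Matrix.mulVecLin T.picMatrix) = ⊥ := by
        rw [LinearMap.range_eq_bot]
        refine LinearMap.ext fun x => funext fun i => ?_
        obtain rfl : i = 0 := Subsingleton.elim (α := Fin 1) _ _
        simp [mulVec, dotProduct, NumericalType.picMatrix, (single_index_aux T).1]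
      exact ⟨((Submodule.quotEquivOfEqBot _ hbot).trans (LinearEquiv.funUnique (Fin 1) ℤ ℤ)).toAddEquiv⟩
    · simp only [NumericalType.IsMinimal, not_forall, not_not] at hmin
      obtain ⟨i, hi⟩ := hmin
      obtain ⟨σ, hσ⟩ := exists_relabel T i hi
      have hc := isContraction_contract hσ
      obtain ⟨e⟩ := ih (contract hσ) (by rw [genus_contract hσ hc, genus_relabel]; exact hg)
      obtain ⟨f, hf, -⟩ := pic_embeds_contraction hσ hc
      let F : T.Pic →+ ℤ := e.toAddMonoidHom.comp (f.comp (picRelabel T σ).toAddEquiv.toAddMonoidHom)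
      have hF : Function.Injective F := e.injective.comp (hf.comp (picRelabel T σ).injective)
      let G : T.Pic ≃ₗ[ℤ] LinearMap.range F.toIntLinearMap := LinearEquiv.ofInjective F.toIntLinearMap hF
      obtain ⟨g, hg'⟩ := (IsPrincipalIdealRing.principal (LinearMap.range F.toIntLinearMap : Ideal ℤ)).1
      have hg0 : g ≠ 0 := by
        rintro rfl
        have h1 := finrank_pic T
        rw [LinearEquiv.finrank_eq G, hg', Submodule.span_zero_singleton, finrank_bot] at h1
        exact zero_ne_one h1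
      exact ⟨(G.trans ((LinearEquiv.ofEq _ _ hg').trans (LinearEquiv.toSpanNonzeroSingleton ℤ ℤ g hg0).symm)).toAddEquiv⟩

section Torsion

variable {A : Matrix (Fin n) (Fin n) ℤ} {m : Fin n → ℤ}

theorem ker_mod_card (hsymm : A.IsSymm) (hA : ∀ i j, i ≠ j → 0 ≤ A i j) (hm0 : A.mulVec m = 0)
    (hconn : ∀ I : Finset (Fin n), I.Nonempty → I ≠ univ → ∃ i ∈ I, ∃ j ∉ I, A i j ≠ 0)
    (hn : 0 < n) (K : Type*) [Field K] (hAK : ∀ i j, A i j ≠ 0 → (A i j : K) ≠ 0) (hmK : ∀ i, (m i : K) ≠ 0) :
    Module.finrank K (LinearMap.ker (Matrix.mulVecLin (A.map (fun z => (z : K))))) + n ≤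
      (univ.filter fun p : Fin n × Fin n => p.1 < p.2 ∧ 0 < A p.1 p.2).card + 2 := by
  classical
  set Es := univ.filter fun p : Fin n × Fin n => p.1 < p.2 ∧ 0 < A p.1 p.2
  let AK := Matrix.mulVecLin (A.map (fun z => (z : K)))
  let L : (Fin n → K) →ₗ[K] (Es → K) := LinearMap.pi fun p =>
    (A p.1.1 p.1.2 : K) • ((m p.1.2 : K) • LinearMap.proj p.1.1 - (m p.1.1 : K) • LinearMap.proj p.1.2)
  let D : (Es → K) →ₗ[K] (Fin n → K) := LinearMap.pi fun i =>
    ∑ p : Es, ((if p.1.1 = i then (1 : K) else 0) - (if p.1.2 = i then 1 else 0)) • LinearMap.proj p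
  have hedge : ∀ i j, i ≠ j → A i j ≠ 0 → (i, j) ∈ Es ∨ (j, i) ∈ Es := by
    intro i j hij h
    have h1 : 0 < A i j := lt_of_le_of_ne (hA i j hij) (Ne.symm h)
    rcases lt_or_gt_of_ne hij with hlt | hlt
    · exact Or.inl (mem_filter.2 ⟨mem_univ _, hlt, h1⟩)
    · exact Or.inr (mem_filter.2 ⟨mem_univ _, hlt, by rwa [hsymm.apply i j]⟩)
  have hDL : ∀ y i, D (L y) i = -(m i : K) * AK y i := by
    intro y i
    have hr : (A i i : K) * m i = -∑ j ∈ univ.erase i, (A i j : K) * m j := by
      have h := congrArg (fun z : ℤ => (z : K)) (congrFun hm0 i)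
      simp only [mulVec, dotProduct, Int.cast_sum, Int.cast_mul, Pi.zero_apply, Int.cast_zero] at h
      rw [← add_sum_erase _ _ (mem_univ i)] at h
      exact eq_neg_of_add_eq_zero_left h
    simp only [D, L, LinearMap.pi_apply, LinearMap.sum_apply, LinearMap.smul_apply, LinearMap.proj_apply,
      LinearMap.sub_apply, smul_eq_mul]
    let G : Fin n → Fin n → K := fun a b => (A a b : K) * ((m b : K) * y a - (m a : K) * y b)
    have hG : ∀ a b, G b a = -G a b := fun a b => by simp only [G, hsymm.apply a b]; ring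
    have h1 : ∑ p : Es, ((if p.1.1 = i then (1 : K) else 0) - if p.1.2 = i then 1 else 0) * G p.1.1 p.1.2 =
        ∑ j ∈ univ.erase i, G i j := by
      rw [sum_coe_sort Es (fun p => ((if p.1 = i then (1 : K) else 0) - if p.2 = i then 1 else 0) * G p.1 p.2)]
      simp only [Es, sum_filter, sub_mul, ite_mul, one_mul, zero_mul]
      rw [Fintype.sum_prod_type]
      have : ∀ a b : Fin n, (if a < b ∧ 0 < A a b then ((if a = i then G a b else 0) - if b = i then G a b else 0) else 0) =
          (if a = i then (if a < b ∧ 0 < A a b then G a b else 0) else 0) +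
            (if b = i then (if a < b ∧ 0 < A a b then G b a else 0) else 0) := fun a b => by
        rw [hG a b]; split_ifs <;> ring
      simp only [this, sum_add_distrib]
      rw [sum_comm (f := fun a b => if b = i then (if a < b ∧ 0 < A a b then G b a else 0) else 0)]
      simp only [sum_ite_irrel, sum_const_zero, sum_ite_eq', mem_univ, if_true, ← sum_add_distrib]
      rw [← add_sum_erase _ _ (mem_univ i), if_neg (fun h => lt_irrefl _ h.1), add_zero, zero_add]
      refine sum_congr rfl fun j hj => ?_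
      have hji := (mem_erase.1 hj).1
      by_cases h0 : A i j = 0
      · have : A j i = 0 := by rw [hsymm.apply i j]; exact h0
        simp [h0, this, G]
      · have h1 : 0 < A i j := lt_of_le_of_ne (hA i j hji.symm) (Ne.symm h0)
        have h2 : 0 < A j i := by rwa [hsymm.apply i j]
        rcases lt_or_gt_of_ne hji with h | h
        · rw [if_neg (fun h' => lt_asymm h h'.1), if_pos ⟨h, h2⟩, zero_add]
        · rw [if_pos ⟨h, h1⟩, if_neg (fun h' => lt_asymm h h'.1), add_zero]
    simp only [G] at h1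
    rw [h1]
    have h2 : AK y i = (A i i : K) * y i + ∑ j ∈ univ.erase i, (A i j : K) * y j := by
      rw [add_sum_erase _ (fun j => (A i j : K) * y j) (mem_univ i)]
      rfl
    rw [h2, sum_congr rfl fun j _ => show (A i j : K) * ((m j : K) * y i - (m i : K) * y j) =
      y i * ((A i j : K) * m j) - (m i : K) * ((A i j : K) * y j) by ring, sum_sub_distrib, ← mul_sum, ← mul_sum]
    linear_combination (y i) * hr
  let i0 : Fin n := ⟨0, hn⟩
  have hkerL : Module.finrank K (LinearMap.ker L) ≤ 1 := by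
    let ev : LinearMap.ker L →ₗ[K] K := (LinearMap.proj i0) ∘ₗ (LinearMap.ker L).subtype
    have hinj : Function.Injective ev := by
      rw [← LinearMap.ker_eq_bot, LinearMap.ker_eq_bot']
      rintro ⟨y, hy⟩ (h0 : y i0 = 0)
      refine Subtype.ext (funext fun i => ?_)
      have hc : y i0 / m i0 = y i / m i := by
        refine exists_eq_of_connected (fun i => y i / (m i : K)) hconn (fun a b hab => ?_) i0 i
        by_cases he : a = b
        · rw [he]
        rw [div_eq_div_iff (hmK a) (hmK b)]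
        rcases hedge a b he hab with h | h
        · have := congrFun (LinearMap.mem_ker.1 hy) ⟨_, h⟩
          simp only [L, LinearMap.pi_apply, LinearMap.smul_apply, LinearMap.sub_apply, LinearMap.proj_apply,
            smul_eq_mul, Pi.zero_apply, mul_eq_zero] at this
          linear_combination this.resolve_left (hAK _ _ hab)
        · have := congrFun (LinearMap.mem_ker.1 hy) ⟨_, h⟩
          simp only [L, LinearMap.pi_apply, LinearMap.smul_apply, LinearMap.sub_apply, LinearMap.proj_apply,
            smul_eq_mul, Pi.zero_apply, mul_eq_zero] at this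
          linear_combination -this.resolve_left (hAK _ _ (by rwa [hsymm.apply a b]))
      rw [h0, zero_div, eq_comm, div_eq_zero_iff] at hc
      exact hc.resolve_right (hmK i)
    exact (LinearMap.finrank_le_finrank_of_injective hinj).trans (Module.finrank_self K).le
  have hrange : n ≤ Module.finrank K (LinearMap.range D) + 1 := by
    have htop : LinearMap.range D ⊔ K ∙ (Pi.single i0 (1 : K)) = ⊤ := by
      set S := LinearMap.range D ⊔ K ∙ (Pi.single i0 (1 : K))
      have hall : ∀ i, Pi.single i (1 : K) ∈ S := by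
        intro i
        have := exists_eq_of_connected (fun i => decide (Pi.single i (1 : K) ∈ S)) hconn (fun a b hab => ?_) i0 i
        · exact (decide_eq_decide.1 this).1 (Submodule.mem_sup_right (Submodule.mem_span_singleton_self _))
        by_cases he : a = b
        · rw [he]
        obtain ⟨p, q, hpq, hp⟩ : ∃ p q, (p, q) ∈ Es ∧ ((p = a ∧ q = b) ∨ (p = b ∧ q = a)) := by
          rcases hedge a b he hab with h | h
          exacts [⟨a, b, h, Or.inl ⟨rfl, rfl⟩⟩, ⟨b, a, h, Or.inr ⟨rfl, rfl⟩⟩]
        have hd : Pi.single p (1 : K) - Pi.single q 1 ∈ S := by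
          refine Submodule.mem_sup_left ⟨Pi.single ⟨(p, q), hpq⟩ 1, funext fun i => ?_⟩
          simp [D, Pi.single_apply, eq_comm]
        rw [decide_eq_decide]
        rcases hp with ⟨rfl, rfl⟩ | ⟨rfl, rfl⟩
        · exact ⟨fun h => by simpa using S.sub_mem h hd, fun h => by simpa using S.add_mem hd h⟩
        · exact ⟨fun h => by simpa using S.add_mem hd h, fun h => by simpa using S.sub_mem h hd⟩
      refine eq_top_iff.2 fun x _ => ?_
      rw [pi_eq_sum_univ x]
      refine S.sum_mem fun i _ => S.smul_mem _ ?_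
      convert hall i using 1
      funext j
      simp [Pi.single_apply, eq_comm]
    have h1 := Submodule.finrank_add_le_finrank_add_finrank (LinearMap.range D) (K ∙ (Pi.single i0 (1 : K)))
    rw [htop, finrank_top, Module.finrank_fintype_fun_eq_card, Fintype.card_fin] at h1
    exact h1.trans (Nat.add_le_add_left (finrank_span_le_card _ |>.trans (by simp)) _)
  have hD := D.finrank_range_add_finrank_ker
  rw [Module.finrank_fintype_fun_eq_card, Fintype.card_coe] at hD
  let L' : LinearMap.ker AK →ₗ[K] LinearMap.ker D :=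
    (L ∘ₗ (LinearMap.ker AK).subtype).codRestrict _ fun y => LinearMap.mem_ker.2 (funext fun i => by
      show D (L y.1) i = 0
      rw [hDL, show AK y.1 = 0 from y.2]; simp)
  have hL' := L'.finrank_range_add_finrank_ker
  have hk' : Module.finrank K (LinearMap.ker L') ≤ 1 := by
    let ι : LinearMap.ker L' →ₗ[K] LinearMap.ker L :=
      ((LinearMap.ker AK).subtype ∘ₗ (LinearMap.ker L').subtype).codRestrict _ fun y =>
        LinearMap.mem_ker.2 (congrArg Subtype.val y.2)
    exact (LinearMap.finrank_le_finrank_of_injective (f := ι)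
      fun a b e => Subtype.ext (Subtype.ext (congrArg Subtype.val e :))).trans hkerL
  have hr' := Submodule.finrank_le (LinearMap.range L')
  show Module.finrank K (LinearMap.ker AK) + n ≤ _
  omega

theorem card_torsion_le (hsymm : A.IsSymm) (hA : ∀ i j, i ≠ j → 0 ≤ A i j) (hm : ∀ i, 0 < m i)
    (hAm : A.mulVec m = 0)
    (hconn : ∀ I : Finset (Fin n), I.Nonempty → I ≠ univ → ∃ i ∈ I, ∃ j ∉ I, A i j ≠ 0)
    (ℓ : ℕ) (hℓ : ℓ.Prime) (hℓA : ∀ i j, A i j ≠ 0 → ¬ ((ℓ : ℤ) ∣ A i j))
    (hℓm : ∀ i, ¬ ((ℓ : ℤ) ∣ m i)) :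
    Nat.card (Submodule.torsionBy ℤ ((Fin n → ℤ) ⧸ LinearMap.range (Matrix.mulVecLin A)) (ℓ : ℤ))
      ≤ ℓ ^ ((univ.filter fun p : Fin n × Fin n => p.1 < p.2 ∧ 0 < A p.1 p.2).card + 1 - n) := by
  classical
  haveI := Fact.mk hℓ
  rcases Nat.eq_zero_or_pos n with rfl | hn
  · haveI : Subsingleton ((Fin 0 → ℤ) ⧸ LinearMap.range (Matrix.mulVecLin A)) :=
      (Submodule.mkQ_surjective _).subsingleton
    exact le_trans (Finite.card_le_one_iff_subsingleton.2 inferInstance) (Nat.one_le_pow _ _ hℓ.pos)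
  set R := LinearMap.range (Matrix.mulVecLin A)
  set Tor := Submodule.torsionBy ℤ ((Fin n → ℤ) ⧸ R) (ℓ : ℤ)
  set AK := Matrix.mulVecLin (A.map (fun z => (z : ZMod ℓ)))
  have hcast : ∀ (y : Fin n → ℤ) i, AK (fun j => (y j : ZMod ℓ)) i = ((A.mulVec y i : ℤ) : ZMod ℓ) := by
    intro y i; simp [AK, mulVec, dotProduct]
  let lift : (Fin n → ZMod ℓ) → Fin n → ℤ := fun y j => ((y j).val : ℤ)
  have hlift : ∀ y, (fun j => ((lift y j : ℤ) : ZMod ℓ)) = y := fun y => funext fun j => by simp [lift]
  have hdiv : ∀ (y : LinearMap.ker AK) i, (ℓ : ℤ) ∣ A.mulVec (lift y.1) i := fun y i => by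
    rw [← ZMod.intCast_zmod_eq_zero_iff_dvd, ← hcast, hlift, show AK y.1 = 0 from y.2]; rfl
  let q : LinearMap.ker AK → Fin n → ℤ := fun y i => A.mulVec (lift y.1) i / ℓ
  have hq : ∀ y, (ℓ : ℤ) • q y = A.mulVec (lift y.1) := fun y => funext fun i => Int.mul_ediv_cancel' (hdiv y i)
  let g : LinearMap.ker AK → Tor := fun y => ⟨Submodule.Quotient.mk (q y), by
    rw [Submodule.mem_torsionBy_iff, ← Submodule.Quotient.mk_smul, hq, Submodule.Quotient.mk_eq_zero]
    exact ⟨lift y.1, rfl⟩⟩
  have key : ∀ (y : LinearMap.ker AK) (z u : Fin n → ℤ), (fun j => (z j : ZMod ℓ)) = y.1 →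
      (ℓ : ℤ) • u = A.mulVec z → ((g y).1 = Submodule.Quotient.mk u) := by
    intro y z u hz hu
    show Submodule.Quotient.mk (q y) = Submodule.Quotient.mk u
    rw [Submodule.Quotient.eq]
    have hd : ∀ j, (ℓ : ℤ) ∣ lift y.1 j - z j := fun j => by
      rw [← ZMod.intCast_zmod_eq_zero_iff_dvd, Int.cast_sub, sub_eq_zero, congrFun (hlift y.1) j, congrFun hz j]
    choose v hv using hd
    refine ⟨v, funext fun i => mul_left_cancel₀ (by exact_mod_cast hℓ.ne_zero : (ℓ : ℤ) ≠ 0) ?_⟩
    have h1 : A.mulVec (lift y.1) - A.mulVec z = (ℓ : ℤ) • A.mulVec v := by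
      rw [← Matrix.mulVec_sub, ← Matrix.mulVec_smul]
      congr 1; funext j; exact hv j
    have h2 := congrFun h1 i
    rw [← hq y, ← hu] at h2
    simp only [Pi.sub_apply, Pi.smul_apply, smul_eq_mul] at h2
    rw [Matrix.mulVecLin_apply, ← h2, Pi.sub_apply, mul_sub]
  have hsurj : Function.Surjective g := by
    rintro ⟨x, hx⟩
    obtain ⟨u, rfl⟩ := Submodule.Quotient.mk_surjective _ x
    rw [Submodule.mem_torsionBy_iff, ← Submodule.Quotient.mk_smul, Submodule.Quotient.mk_eq_zero] at hx
    obtain ⟨z, hz⟩ := hx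
    refine ⟨⟨fun j => (z j : ZMod ℓ), LinearMap.mem_ker.2 (funext fun i => ?_)⟩, Subtype.ext (key _ z u rfl hz.symm)⟩
    rw [hcast, show A.mulVec z = (ℓ : ℤ) • u from hz]
    simp
  have hmK : (fun j => (m j : ZMod ℓ)) ∈ LinearMap.ker AK := LinearMap.mem_ker.2 (funext fun i => by
    rw [hcast, hAm]; simp)
  let mb : LinearMap.ker AK := ⟨_, hmK⟩
  have hshift : ∀ y (s : ZMod ℓ), g (y + s • mb) = g y := by
    intro y s
    refine Subtype.ext (key _ (lift y.1 + (s.val : ℤ) • m) (q y) ?_ ?_)
    · funext j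
      simp only [lift, mb, Pi.add_apply, Pi.smul_apply, smul_eq_mul, Submodule.coe_add, SetLike.val_smul, Int.cast_add,
        Int.cast_mul, Int.cast_natCast, ZMod.natCast_zmod_val]
    · rw [Matrix.mulVec_add, Matrix.mulVec_smul, hAm, smul_zero, add_zero, hq]
  obtain ⟨sec, hsec⟩ := hsurj.hasRightInverse
  let φ : Tor × ZMod ℓ → LinearMap.ker AK := fun p => sec p.1 + p.2 • mb
  have hφ : Function.Injective φ := by
    rintro ⟨t, s⟩ ⟨t', s'⟩ he
    have h1 := congrArg g he
    simp only [φ, hshift, hsec t, hsec t'] at h1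
    subst h1
    have h2 := congrFun (congrArg Subtype.val (add_left_cancel he)) ⟨0, hn⟩
    simp only [mb, SetLike.val_smul, Pi.smul_apply, smul_eq_mul] at h2
    exact Prod.ext rfl (mul_right_cancel₀ (fun h => hℓm _ ((ZMod.intCast_zmod_eq_zero_iff_dvd _ _).1 h)) h2)
  have hcard := Nat.card_le_card_of_injective φ hφ
  rw [Nat.card_prod, Nat.card_zmod, Module.natCard_eq_pow_finrank (K := ZMod ℓ) (V := LinearMap.ker AK), Nat.card_zmod] at hcard
  have hfr : Module.finrank (ZMod ℓ) (LinearMap.ker AK) + n ≤ _ := ker_mod_card hsymm hA hAm hconn hn (ZMod ℓ)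
    (fun i j h h' => hℓA i j h ((ZMod.intCast_zmod_eq_zero_iff_dvd _ _).1 h'))
    (fun i h' => hℓm i ((ZMod.intCast_zmod_eq_zero_iff_dvd _ _).1 h'))
  refine Nat.le_of_mul_le_mul_right (hcard.trans ?_) hℓ.pos
  rw [← pow_succ]
  exact Nat.pow_le_pow_right hℓ.pos (by omega)

end Torsion

end Groth.ModelsGraphs
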