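import Groth.Agent.ModelsGraphs.Chain
import Groth.Agent.ModelsGraphs.Pic

/-! The bound `m |a| ≤ 768 g` for minimal numerical types and the torsion bound. -/

namespace Groth.ModelsGraphs

open Finset Models Matrix

variable {n : ℕ} {T : NumericalType n}

/-- `m |a i i|`. -/
def uu (T : NumericalType n) (i : Fin n) : ℤ := T.m i * |T.a i i|

theorem uu_two {i : Fin n} (h : T.IsMinusTwo i) : uu T i = 2 * (T.w i * T.m i) := by
  rw [uu, h.2, abs_of_nonpos (by linarith [T.w_pos i])]
  ring

theorem uu_step {i j : Fin n} (hi : T.IsMinusTwo i) (h : 0 < T.a i j) : uu T i ≤ 2 * uu T j := by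
  have h1 := a_mul_le T (ne_of_pos T h)
  have h2 := mul_le_mul_of_nonneg_left (w_le_of_pos T h).1 (T.m_pos i).le
  rw [uu_two hi]
  simp only [uu]
  linarith

/-- Within `k` steps of an index which is not a (-2)-index. -/
def Near (T : NumericalType n) : ℕ → Fin n → Prop
  | 0, i => ¬ T.IsMinusTwo i
  | k + 1, i => Near T k i ∨ ∃ j, 0 < T.a i j ∧ Near T k j

theorem Near.mono {k k' : ℕ} (h : k ≤ k') {i : Fin n} (hi : Near T k i) : Near T k' i := by
  induction h with
  | refl => exact hi
  | step _ ih => exact Or.inl ih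

theorem exists_near (hne : ∃ j, ¬ T.IsMinusTwo j) (i : Fin n) : ∃ k, Near T k i := by
  classical
  by_contra hi
  obtain ⟨j, hj⟩ := hne
  obtain ⟨a, ha, b, hb, hab⟩ := T.connected (univ.filter fun x => ¬ ∃ k, Near T k x)
    ⟨i, mem_filter.2 ⟨mem_univ i, hi⟩⟩ (fun e => by
      have : j ∈ univ.filter (fun x => ¬ ∃ k, Near T k x) := by rw [e]; exact mem_univ j
      exact (mem_filter.1 this).2 ⟨0, hj⟩)
  simp only [mem_filter, mem_univ, true_and, not_not] at ha hb
  obtain ⟨k, hk⟩ := hb
  exact ha ⟨k + 1, Or.inr ⟨b, pos_of_ne (fun e => ha (e ▸ ⟨k, hk⟩)) hab, hk⟩⟩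

theorem near_bound (hmin : T.IsMinimal) (hn : 1 < n) (hg : 2 ≤ T.genus) :
    ∀ k i, Near T k i → uu T i ≤ 2 ^ k * (6 * T.genus - 6) := by
  classical
  have base : ∀ i, ¬ T.IsMinusTwo i → uu T i ≤ 6 * T.genus - 6 := fun i hi =>
    ((bounds_non_minusTwo T hmin hn hg).2 i hi).2.1
  intro k
  induction k with
  | zero => intro i hi; simpa using base i hi
  | succ k ih =>
    intro i hi
    have h0 : (0 : ℤ) ≤ 6 * T.genus - 6 := by linarith
    have h1 : (1 : ℤ) ≤ 2 ^ k := one_le_pow₀ (by norm_num)
    rw [pow_succ]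
    rcases hi with hi | ⟨j, hij, hj⟩
    · have := ih i hi
      nlinarith
    · by_cases h2 : T.IsMinusTwo i
      · have := uu_step h2 hij
        have := ih j hj
        linarith
      · have := base i h2
        nlinarith

/-- Prepend a vertex. -/
def pcons (x : Fin n) (p : ℕ → Fin n) : ℕ → Fin n
  | 0 => x
  | i + 1 => p i

theorem IsPath.pcons {p : ℕ → Fin n} {t : ℕ} (h : IsPath T p t) {x : Fin n} (hx : T.IsMinusTwo x)
    (hnp : ∀ i < t, x ≠ p i) (ha : 0 < T.a x (p 0)) : IsPath T (Groth.ModelsGraphs.pcons x p) (t + 1) where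
  inj a ha' b hb e := by
    rw [Set.mem_Iio] at ha' hb
    match a, b with
    | 0, 0 => rfl
    | 0, b + 1 => exact absurd e (hnp b (by omega))
    | a + 1, 0 => exact absurd e.symm (hnp a (by omega))
    | a + 1, b + 1 => exact congrArg (· + 1) (h.inj (show a < t by omega) (show b < t by omega) e)
  two a ha' := by
    match a with
    | 0 => exact hx
    | a + 1 => exact h.two a (by omega)
  adj a ha' := by
    match a with
    | 0 => exact ha
    | a + 1 => exact h.adj a (by omega)

theorem row_eq (c : Fin n) (hc : T.IsMinusTwo c) (R : Finset (Fin n)) (hR : ∀ z, 0 < T.a c z → z ∈ R)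
    (hcR : c ∉ R) : ∑ z ∈ R, T.a c z * T.m z = 2 * T.w c * T.m c := by
  have h := row_split T c
  rw [hc.2, ← sum_subset (s₁ := R) (fun z hz => mem_erase.2 ⟨fun e => hcR (by rw [← e]; exact hz), mem_univ z⟩) (fun z hz hzR => by
    have := T.offDiag_nonneg c z (mem_erase.1 hz).1.symm
    rw [show T.a c z = 0 from le_antisymm (not_lt.1 fun h => hzR (hR z h)) this, zero_mul])] at h
  linarith

theorem inj_four {α : Type*} {a b c d : α} (hab : a ≠ b) (hac : a ≠ c) (had : a ≠ d) (hbc : b ≠ c) (hbd : b ≠ d)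
    (hcd : c ≠ d) : Function.Injective ![a, b, c, d] := by
  intro i j e
  fin_cases i <;> fin_cases j <;> simp_all [eq_comm]

/-- A (-2)-index of maximal `m w`, eight steps from the others, does not exist. -/
theorem far_false {p : ℕ → Fin n} (hp : IsPath T p 8) (hn : 8 < n) (hne : ∃ j, ¬ T.IsMinusTwo j)
    (h2 : ∀ z, 0 < T.a (p 0) z → T.IsMinusTwo z ∧ ∀ z', 0 < T.a z z' → T.IsMinusTwo z')
    (hmax : ∀ z, T.IsMinusTwo z → T.w z * T.m z ≤ T.w (p 0) * T.m (p 0))
    (hlt : T.w (p 1) * T.m (p 1) < T.w (p 0) * T.m (p 0)) : False := by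
  classical
  set c := p 0
  have hc := hp.two 0 (by omega)
  have h01 : 0 < T.a c (p 1) := hp.adj 0 (by omega)
  have hw1 := T.w_pos c
  -- facts on a further neighbour
  have hout : ∀ x, 0 < T.a c x → x ≠ p 1 → (∀ i < 8, x ≠ p i) := by
    intro x hx hx1 i hi e
    rcases Nat.eq_zero_or_pos i with rfl | h0
    · exact ne_of_pos T hx e.symm
    rcases eq_or_ne i 1 with rfl | h1
    · exact hx1 e
    exact hx.ne' (e ▸ hp.no_chord hn (show 0 + 1 < i by omega) hi)
  have hq : ∀ x, 0 < T.a c x → x ≠ p 1 → IsPath T (pcons x p) 8 := fun x hx hx1 =>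
    ((hp.mono (i := 0) (k := 7) (by omega)).pcons (h2 x hx).1
      (fun i hi => by simpa using hout x hx hx1 i (by omega)) (by simpa [a_comm T x] using hx)) |> fun h => by
        simpa [show (fun j => p (0 + j)) = p from funext fun j => by rw [Nat.zero_add]] using h
  have hleaf : ∀ x, 0 < T.a c x → x ≠ p 1 → ∀ y, 0 < T.a x y → y ≠ c →
      (∀ i < 8, y ≠ pcons x p i) ∧ T.IsMinusTwo y := by
    intro x hx hx1 y hy hyc
    refine ⟨fun i hi e => ?_, (h2 x hx).2 y hy⟩
    rcases Nat.eq_zero_or_pos i with rfl | h0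
    · exact ne_of_pos T hy e.symm
    rcases eq_or_ne i 1 with rfl | h1
    · exact hyc e
    exact hy.ne' (e ▸ (hq x hx hx1).no_chord hn (show 0 + 1 < i by omega) hi)
  by_cases hs : Simple T c (p 1)
  swap
  · -- the end of the path is a double edge
    have hleaf0 : ∀ x, 0 < T.a c x → x = p 1 := by
      intro x hx
      by_contra hx1
      exact hs (interior_simple ((hq x hx hx1).mono (i := 0) (k := 5) (by omega)) (by omega) le_rfl
        (i := 1) le_rfl (by omega))
    have hr := row_eq c hc {p 1} (fun z hz => mem_singleton.2 (hleaf0 z hz))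
      (by simpa using (ne_of_pos T h01))
    rw [sum_singleton] at hr
    rcases (mid_class T (show 3 < n by omega) (i := c) (c := p 1) (k := p 2)
      (ne_of_path T hp (by omega) (by omega) (by omega)) hc (hp.two 1 (by omega)) (hp.two 2 (by omega))
      (by rwa [a_comm]) (hp.adj 1 (by omega))).1 with h | ⟨ha, hw⟩ | ⟨ha, hw⟩
    · exact hs h.symm
    · rw [a_comm] at ha
      rw [ha, hw] at hr
      rw [hw] at hlt
      nlinarith [T.m_pos c]
    · rw [a_comm] at ha
      rw [ha] at hr
      rw [hw] at hlt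
      nlinarith [T.m_pos c]
  -- the end of the path is a simple edge
  have hwp : T.w (p 1) = T.w c := hs.2.symm.trans hs.1
  rw [hwp] at hlt
  have hm1 : T.m (p 1) < T.m c := lt_of_mul_lt_mul_left hlt hw1.le
  obtain ⟨X, hX⟩ : ∃ X : Finset (Fin n), X = univ.filter (fun z => 0 < T.a c z ∧ z ≠ p 1) := ⟨_, rfl⟩
  have hXmem : ∀ z, z ∈ X ↔ 0 < T.a c z ∧ z ≠ p 1 := fun z => by simp [hX]
  have hp1X : p 1 ∉ X := fun h => ((hXmem _).1 h).2 rfl
  have hr := row_eq c hc (insert (p 1) X)
    (fun z hz => mem_insert.2 ((eq_or_ne z (p 1)).imp id fun h => (hXmem z).2 ⟨hz, h⟩))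
    (fun h => by
      rcases mem_insert.1 h with h | h
      exacts [ne_of_pos T h01 h, ne_of_pos T ((hXmem _).1 h).1 rfl])
  rw [sum_insert hp1X, hs.1] at hr
  rcases X.eq_empty_or_nonempty with hX0 | ⟨x, hx⟩
  · rw [hX0, sum_empty] at hr
    nlinarith [T.m_pos c]
  obtain ⟨hcx, hx1⟩ := (hXmem x).1 hx
  have hx2 := (h2 x hcx).1
  rcases (X.erase x).eq_empty_or_nonempty with hX1 | ⟨y, hy⟩
  · -- one further neighbour
    have hXx : X = {x} := by
      refine eq_singleton_iff_unique_mem.2 ⟨hx, fun z hz => ?_⟩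
      by_contra hne'
      exact notMem_empty z (hX1 ▸ mem_erase.2 ⟨hne', hz⟩)
    rw [hXx, sum_singleton] at hr
    have hxmax := hmax x hx2
    rcases (mid_class T (show 3 < n by omega) (i := x) (c := c) (k := p 1) hx1 hx2 hc (hp.two 1 (by omega))
      hcx h01).1 with h | h
    · have hwx : T.w x = T.w c := h.2.symm.trans h.1
      rw [h.1] at hr
      rw [hwx] at hxmax
      nlinarith [le_of_mul_le_mul_left hxmax hw1]
    have hxleaf : ∀ y, 0 < T.a x y → y = c := by
      intro y hy
      by_contra hyc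
      obtain ⟨hyq, hy2⟩ := hleaf x hcx hx1 y hy hyc
      have hq5 := (((hq x hcx hx1).mono (i := 0) (k := 4) (by omega)).pcons hy2
        (fun i hi => by simpa using hyq i (by omega)) (by simpa [pcons, a_comm T y] using hy))
      have hsx : Simple T x c := by
        simpa [pcons] using interior_simple hq5 (by omega) le_rfl (i := 1) le_rfl (by omega)
      have h1 := T.w_pos x
      rcases h with ⟨ha, hw⟩ | ⟨ha, hw⟩ <;> linarith [hsx.symm.1, hsx.symm.2]
    have hrx := row_eq x hx2 {c} (fun z hz => mem_singleton.2 (hxleaf z hz))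
      (by simpa using (ne_of_pos T hcx).symm)
    rw [sum_singleton, a_comm T x c] at hrx
    rcases h with ⟨ha, hw⟩ | ⟨ha, hw⟩
    · rw [ha] at hr hrx
      rw [hw] at hrx
      have e : T.m c = 2 * T.m x := mul_left_cancel₀ (mul_ne_zero two_ne_zero hw1.ne') (by linarith)
      nlinarith
    · rw [ha] at hr hrx
      have e : T.m c = T.m x := mul_left_cancel₀ (mul_ne_zero two_ne_zero (T.w_pos x).ne') (by linarith)
      rw [hw, ← e] at hr
      nlinarith [T.w_pos x]
  -- a branch
  obtain ⟨hyx, hyX⟩ := mem_erase.1 hy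
  obtain ⟨hcy, hy1⟩ := (hXmem y).1 hyX
  have hy2 := (h2 y hcy).1
  have hsx : Simple T c x := branch_simple T (show 4 < n by omega) hyx.symm hx1 hy1 hc hx2 hy2 (hp.two 1 (by omega))
    hcx hcy h01
  have hsy : Simple T c y := branch_simple T (show 4 < n by omega) hyx hy1 hx1 hc hy2 hx2 (hp.two 1 (by omega))
    hcy hcx h01
  have hXxy : X = {x, y} := by
    refine eq_of_subset_of_card_le (fun z hz => ?_) ?_ |>.symm.symm
    · by_contra hz'
      simp only [mem_insert, mem_singleton, not_or] at hz'
      obtain ⟨hcz, hz1⟩ := (hXmem z).1 hz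
      refine star4_false T (show 5 < n by omega) c x y z (p 1) ?_ hc ?_ ?_
      · exact inj_four hyx.symm (Ne.symm hz'.1) hx1 (Ne.symm hz'.2) hy1 hz1
      · intro a; fin_cases a; exacts [hx2, hy2, (h2 z hcz).1, hp.two 1 (by omega)]
      · intro a; fin_cases a; exacts [hcx, hcy, hcz, h01]
    · exact card_le_card (by simp [insert_subset_iff, hx, hyX])
  have hleafs : ∀ x y, x ≠ y → 0 < T.a c x → x ≠ p 1 → 0 < T.a c y → y ≠ p 1 → ∀ z, 0 < T.a y z → z = c := by
    intro x y hxy hcx hx1 hcy hy1 z hz
    by_contra hzc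
    obtain ⟨hzq, hz2⟩ := hleaf y hcy hy1 z hz hzc
    have hxz : x ≠ z := by
      rintro rfl
      refine cycle_false T (t := 3) le_rfl (by omega)
        (((hp.mono (i := 0) (k := 1) (by omega)).pcons (h2 y hcy).1
          (fun i hi => by simpa [show i = 0 by omega] using (ne_of_pos T hcy).symm) (by simpa [a_comm T y] using hcy)).pcons
          hz2 (fun i hi => ?_) (by simpa [pcons, a_comm T x] using hz)) ?_
      · match i with
        | 0 => exact hxy
        | 1 => simpa [pcons] using hzc
      · simpa [pcons] using hcx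
    have hxp := hout x hcx hx1
    let f : Fin 9 → Fin n := ![p 5, p 4, p 3, p 2, p 1, c, y, z, x]
    have hr8 : IsPath T (pcons z (pcons y p)) 8 := by
      have hy7 := (hq y hcy hy1).mono (i := 0) (k := 7) (by omega)
      have := hy7.pcons hz2 (fun i hi => by simpa using hzq i (by omega)) (by simpa [pcons, a_comm T z] using hz)
      simpa [show (fun j => pcons y p (0 + j)) = pcons y p from funext fun j => by rw [Nat.zero_add]] using this
    have hxr : ∀ i < 8, x ≠ pcons z (pcons y p) i := fun i hi => by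
      match i with
      | 0 => exact hxz
      | 1 => exact hxy
      | i + 2 => exact hxp i (by omega)
    have hfe : ∀ a : Fin 9, f a = if a.val < 8 then pcons z (pcons y p) (7 - a.val) else x := by
      intro a; fin_cases a <;> rfl
    have hf : Function.Injective f := by
      intro a b e
      rw [hfe, hfe] at e
      split_ifs at e with h1 h2 h2
      · exact Fin.ext (by have := hr8.inj (show 7 - a.val < 8 by omega) (show 7 - b.val < 8 by omega) e; omega)
      · exact absurd e.symm (hxr _ (by omega))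
      · exact absurd e (hxr _ (by omega))
      · exact Fin.ext (by omega)
    have hv : ∀ a, T.IsMinusTwo (f a) := by
      intro a
      fin_cases a
      exacts [hp.two 5 (by omega), hp.two 4 (by omega), hp.two 3 (by omega), hp.two 2 (by omega), hp.two 1 (by omega),
        hc, (h2 y hcy).1, hz2, (h2 x hcx).1]
    obtain ⟨j, hj⟩ := hne
    have h9 := (e8_test T ⟨f, hf⟩ hv (fun a => by
      fin_cases a <;> simp [f]
      exacts [by rw [a_comm]; exact hp.adj 4 (by omega), by rw [a_comm]; exact hp.adj 3 (by omega),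
        by rw [a_comm]; exact hp.adj 2 (by omega), by rw [a_comm]; exact hp.adj 1 (by omega),
        by rw [a_comm]; exact h01, hcy, hz, hcx])).1
    have hsurj : Function.Surjective f :=
      ((Fintype.bijective_iff_injective_and_card f).2 ⟨hf, by simp [h9]⟩).2
    obtain ⟨a, ha⟩ := hsurj j
    exact hj (ha ▸ hv a)
  have hrx := row_eq x hx2 {c} (fun z hz => mem_singleton.2 (hleafs y x hyx hcy hy1 hcx hx1 z hz))
    (by simpa using (ne_of_pos T hcx).symm)
  have hry := row_eq y hy2 {c} (fun z hz => mem_singleton.2 (hleafs x y hyx.symm hcx hx1 hcy hy1 z hz))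
    (by simpa using (ne_of_pos T hcy).symm)
  rw [sum_singleton, a_comm T x c, hsx.1, show T.w x = T.w c from hsx.2.symm.trans hsx.1] at hrx
  rw [sum_singleton, a_comm T y c, hsy.1, show T.w y = T.w c from hsy.2.symm.trans hsy.1] at hry
  rw [hXxy, sum_pair hyx.symm, hsx.1, hsy.1] at hr
  nlinarith

theorem uu_le (hmin : T.IsMinimal) (hn : 1 < n) (hg : 2 ≤ T.genus) (i : Fin n) : uu T i ≤ 768 * T.genus := by
  classical
  have hne : ∃ j, ¬ T.IsMinusTwo j := by
    by_contra h
    push Not at h
    have h1 := two_genus T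
    rw [sum_eq_zero fun j _ => (isMinusTwo_iff T hn j).1 (h j) |>.trans rfl] at h1
    omega
  haveI : Nonempty (Fin n) := ⟨i⟩
  let dist : Fin n → ℕ := fun x => Nat.find (exists_near hne x)
  obtain ⟨M, -, hM⟩ := exists_max_image univ (uu T) univ_nonempty
  obtain ⟨c, hc, hcmin⟩ := exists_min_image (univ.filter fun x => uu T x = uu T M) dist ⟨M, by simp⟩
  simp only [mem_filter, mem_univ, true_and] at hc hcmin
  refine (hM i (mem_univ i)).trans (hc ▸ ?_)
  by_contra hbig
  have hnear : ∀ k, k ≤ 7 → ¬ Near T k c := fun k hk h => by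
    have h1 := near_bound hmin hn hg k c h
    have h3 : (2 : ℤ) ^ k ≤ 2 ^ 7 := pow_le_pow_right₀ (by norm_num) hk
    nlinarith
  have hd8 : 8 ≤ dist c := Nat.le_of_not_lt fun h => hnear (dist c) (by omega) (Nat.find_spec (exists_near hne c))
  have hlip : ∀ x y, 0 < T.a x y → dist x ≤ dist y + 1 := fun x y h =>
    Nat.find_min' _ (Or.inr ⟨y, h, Nat.find_spec (exists_near hne y)⟩)
  have htwo : ∀ x, 1 ≤ dist x → T.IsMinusTwo x := fun x hx => by
    by_contra h
    exact absurd (Nat.find_min' (exists_near hne x) (show Near T 0 x from h)) (not_le.2 hx)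
  have hnext : ∀ x, ∃ y, 1 ≤ dist x → 0 < T.a x y ∧ dist y + 1 = dist x := by
    intro x
    by_cases h : 1 ≤ dist x
    · obtain ⟨k, hk⟩ : ∃ k, dist x = k + 1 := ⟨dist x - 1, by omega⟩
      have h1 : Near T (dist x) x := Nat.find_spec (exists_near hne x)
      rw [hk] at h1
      rcases h1 with h1 | ⟨y, hy, hyk⟩
      · have : dist x ≤ k := Nat.find_min' _ h1
        omega
      · refine ⟨y, fun _ => ⟨hy, ?_⟩⟩
        have : dist y ≤ k := Nat.find_min' _ hyk
        have := hlip x y hy
        omega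
    · exact ⟨x, fun h' => absurd h' h⟩
  choose f hf using hnext
  let p : ℕ → Fin n := fun k => f^[k] c
  have hpd : ∀ k, k ≤ 8 → dist (p k) + k = dist c := by
    intro k
    induction k with
    | zero => intro; rfl
    | succ k ih =>
      intro hk
      have := ih (by omega)
      have h1 := (hf (p k) (by omega)).2
      simp only [p, Function.iterate_succ_apply'] at this h1 ⊢
      omega
  have hpath : IsPath T p 8 := by
    refine ⟨fun a ha b hb e => ?_, fun k hk => htwo _ (by have := hpd k (by omega); omega), fun k hk => ?_⟩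
    · rw [Set.mem_Iio] at ha hb
      have := hpd a (by omega)
      have := hpd b (by omega)
      rw [e] at *
      omega
    · have := hpd k (by omega)
      have h1 := (hf (p k) (by omega)).1
      simpa [p, Function.iterate_succ_apply'] using h1
  have hn8 : 8 < n := by
    obtain ⟨j, hj⟩ := hne
    let v : Option (Fin 8) → Fin n := fun o => o.elim j fun k => p k
    have hv : Function.Injective v := by
      rintro (_ | a) (_ | b) e
      · rfl
      · exact absurd (hpath.two b b.2) (by rwa [show p b = j from e.symm])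
      · exact absurd (hpath.two a a.2) (by rwa [show p a = j from e])
      · exact congrArg some (Fin.ext (hpath.inj a.2 b.2 e))
    have := Fintype.card_le_of_injective v hv
    simp at this
    omega
  have hp0 : p 0 = c := rfl
  have hc2 := hpath.two 0 (by omega)
  refine far_false hpath hn8 hne (fun z hz => ?_) (fun z hz => ?_) ?_
  · rw [hp0] at hz
    have h1 := hlip c z hz
    exact ⟨htwo z (by omega), fun z' hz' => htwo z' (by have := hlip z z' hz'; omega)⟩
  · have h1 := hM z (mem_univ z)
    rw [← hc, ← hp0, uu_two hz, uu_two hc2] at h1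
    linarith
  · have h2 := hpath.two 1 (by omega)
    have h1 : uu T (p 1) < uu T c := by
      refine lt_of_le_of_ne (hc ▸ hM _ (mem_univ _)) fun e => ?_
      have := hcmin (p 1) (e.trans hc)
      have := hpd 1 (by omega)
      omega
    rw [← hp0, uu_two h2, uu_two hc2] at h1
    linarith

theorem bound768 (T : NumericalType n) (hmin : T.IsMinimal) (hg : 2 ≤ T.genus) (i j : Fin n) :
    T.m i * |T.a i j| ≤ 768 * T.genus := by
  rcases Nat.lt_or_ge 1 n with hn | hn
  · rcases eq_or_ne i j with rfl | hij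
    · exact uu_le hmin hn hg i
    · rw [abs_of_nonneg (T.offDiag_nonneg i j hij)]
      exact (a_mul_le T hij).trans (uu_le hmin hn hg j)
  · obtain rfl : n = 1 := by have := T.pos; omega
    obtain rfl : i = 0 := Subsingleton.elim _ _
    obtain rfl : j = 0 := Subsingleton.elim _ _
    rw [(single_index_aux T).1]
    simp; omega

theorem finite_torsionBy {M : Type*} [AddCommGroup M] [Module.Finite ℤ M] {ℓ : ℕ} (hℓ : ℓ ≠ 0) :
    Finite (Submodule.torsionBy ℤ M (ℓ : ℤ)) := by
  haveI : Module.Finite ℤ (Submodule.torsionBy ℤ M (ℓ : ℤ)) :=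
    Module.Finite.iff_fg.2 (IsNoetherian.noetherian _)
  exact Module.finite_of_fg_torsion _ fun {x} =>
    ⟨⟨(ℓ : ℤ), mem_nonZeroDivisors_of_ne_zero (by exact_mod_cast hℓ)⟩, Subtype.ext x.2⟩

theorem card_torsionBy_le_of_injective {M N : Type*} [AddCommGroup M] [AddCommGroup N] [Module.Finite ℤ N]
    {ℓ : ℕ} (hℓ : ℓ ≠ 0) (f : M →+ N) (hf : Function.Injective f) :
    Nat.card (Submodule.torsionBy ℤ M (ℓ : ℤ)) ≤ Nat.card (Submodule.torsionBy ℤ N (ℓ : ℤ)) := by
  haveI := finite_torsionBy (M := N) hℓ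
  refine Nat.card_le_card_of_injective (fun x => ⟨f x.1, ?_⟩)
    fun a b e => Subtype.ext (hf (congrArg Subtype.val e))
  have := x.2
  rw [Submodule.mem_torsionBy_iff] at this ⊢
  rw [← map_zsmul, this, map_zero]

theorem torsion_minimal (T : NumericalType n) (hmin : T.IsMinimal) (hg : 2 ≤ T.genus) (ℓ : ℕ) (hℓ : ℓ.Prime)
    (hℓg : 768 * T.genus < ℓ) :
    Nat.card (Submodule.torsionBy ℤ T.Pic (ℓ : ℤ)) ≤ ℓ ^ T.topGenus.toNat ∧ T.topGenus ≤ T.genus := by
  rcases Nat.lt_or_ge 1 n with hn | hn
  · refine ⟨?_, topGenus_le_genus T hmin hn⟩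
    have hdvd : ∀ z : ℤ, z ≠ 0 → |z| ≤ 768 * T.genus → ¬ (ℓ : ℤ) ∣ z := fun z hz hle hd => by
      have := Int.le_of_dvd (abs_pos.2 hz) ((dvd_abs _ _).2 hd)
      omega
    have h1 := card_torsion_le T.symm T.offDiag_nonneg T.m_pos T.mulVec_m T.connected ℓ hℓ
      (fun i j h => hdvd _ h (le_trans (le_mul_of_one_le_left (abs_nonneg _) (T.m_pos i))
        (bound768 T hmin hg i j)))
      (fun i => hdvd _ (T.m_pos i).ne' (by
        rw [abs_of_pos (T.m_pos i)]
        exact le_trans (le_mul_of_one_le_right (T.m_pos i).le (abs_pos.2 (diag_neg T hn i).ne))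
          (bound768 T hmin hg i i)))
    obtain ⟨f, hf, -⟩ := pic_embeds T
    refine (card_torsionBy_le_of_injective hℓ.ne_zero f hf).trans (h1.trans ?_)
    refine Nat.pow_le_pow_right hℓ.pos ?_
    simp only [NumericalType.topGenus, NumericalType.edgeCount]
    omega
  · obtain rfl : n = 1 := by have := T.pos; omega
    have htop : T.topGenus = 0 := by
      have : T.edgeCount = 0 := by
        simp only [NumericalType.edgeCount, card_eq_zero, filter_eq_empty_iff, mem_univ, true_implies]
        rintro ⟨a, b⟩ ⟨h, -⟩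
        have := Fin.lt_def.1 h
        omega
      simp [NumericalType.topGenus, this]
    refine ⟨?_, by omega⟩
    rw [htop, Int.toNat_zero, pow_zero]
    haveI : Subsingleton (Submodule.torsionBy ℤ T.Pic (ℓ : ℤ)) := by
      refine ⟨fun a b => Subtype.ext ?_⟩
      have key : ∀ a : Submodule.torsionBy ℤ T.Pic (ℓ : ℤ), a.1 = 0 := by
        rintro ⟨a, ha⟩
        obtain ⟨x, rfl⟩ := Submodule.Quotient.mk_surjective _ a
        rw [Submodule.mem_torsionBy_iff, ← Submodule.Quotient.mk_smul, Submodule.Quotient.mk_eq_zero] at ha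
        obtain ⟨y, hy⟩ := ha
        refine (Submodule.Quotient.mk_eq_zero _).2 ⟨0, funext fun i => ?_⟩
        have h1 := congrFun hy i
        obtain rfl : i = 0 := Subsingleton.elim _ _
        simp [mulVec, dotProduct, NumericalType.picMatrix, (single_index_aux T).1, hℓ.ne_zero] at h1 ⊢
        exact h1.symm
      rw [key a, key b]
    exact Finite.card_le_one_iff_subsingleton.2 inferInstance

theorem torsion_bound (T : NumericalType n) (hg : 2 ≤ T.genus) (ℓ : ℕ) (hℓ : ℓ.Prime) (hℓg : 768 * T.genus < ℓ) :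
    Nat.card (Submodule.torsionBy ℤ T.Pic (ℓ : ℤ)) ≤ ℓ ^ T.genus.toNat := by
  induction n with
  | zero => exact absurd T.pos (lt_irrefl 0)
  | succ k ih =>
    by_cases hmin : T.IsMinimal
    · obtain ⟨h1, h2⟩ := torsion_minimal T hmin hg ℓ hℓ hℓg
      exact h1.trans (Nat.pow_le_pow_right hℓ.pos (Int.toNat_le_toNat h2))
    · simp only [NumericalType.IsMinimal, not_forall, not_not] at hmin
      obtain ⟨i, hi⟩ := hmin
      obtain ⟨σ, hσ⟩ := exists_relabel T i hi
      have hc := isContraction_contract hσ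
      have hge : (contract hσ).genus = T.genus := by rw [genus_contract hσ hc, genus_relabel]
      obtain ⟨f, hf, -⟩ := pic_embeds_contraction hσ hc
      have h1 := ih (contract hσ) (hge ▸ hg) (hge ▸ hℓg)
      rw [hge] at h1
      refine le_trans ?_ h1
      exact card_torsionBy_le_of_injective hℓ.ne_zero (f.comp (picRelabel T σ).toAddEquiv.toAddMonoidHom)
        (hf.comp (picRelabel T σ).injective)

end Groth.ModelsGraphs
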