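import Groth.Agent.ModelsGraphs.Templates

/-! Classification of proper configurations of (-2)-indices. -/

namespace Groth.ModelsGraphs

open Finset Matrix Models

variable {n : ℕ} {T : NumericalType n} {p : ℕ → Fin n} {t : ℕ}

theorem IsPath.mono (h : IsPath T p t) {i k : ℕ} (hik : i + k ≤ t) : IsPath T (fun j => p (i + j)) k where
  inj a ha b hb e := by
    have := h.inj (show i + a < t from by have := Set.mem_Iio.1 ha; omega)
      (show i + b < t from by have := Set.mem_Iio.1 hb; omega) e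
    omega
  two a ha := h.two _ (by omega)
  adj a ha := h.adj (i + a) (by omega)

theorem IsPath.rev (h : IsPath T p t) : IsPath T (fun i => p (t - 1 - i)) t where
  inj a ha b hb e := by
    have := Set.mem_Iio.1 ha
    have := Set.mem_Iio.1 hb
    have := h.inj (show t - 1 - a < t by omega) (show t - 1 - b < t by omega) e
    omega
  two a _ := h.two _ (by omega)
  adj a ha := by
    have := h.adj (t - 1 - (a + 1)) (by omega)
    rw [show t - 1 - (a + 1) + 1 = t - 1 - a by omega] at this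
    rwa [a_comm]

theorem IsPath.no_chord (h : IsPath T p t) (ht : t < n) {i k : ℕ} (hik : i + 1 < k) (hk : k < t) :
    T.a (p i) (p k) = 0 := by
  by_contra hne
  have hpos : 0 < T.a (p i) (p k) :=
    lt_of_le_of_ne (T.offDiag_nonneg _ _ (ne_of_path T h (by omega) hk (by omega))) (Ne.symm hne)
  refine cycle_false T (show 3 ≤ k - i + 1 by omega) (by omega) (h.mono (i := i) (k := k - i + 1) (by omega)) ?_
  show 0 < T.a (p (i + (k - i + 1 - 1))) (p (i + 0))
  rw [show i + (k - i + 1 - 1) = k by omega, Nat.add_zero, a_comm]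
  exact hpos

/-- The embedding of a path with attachments at its two ends. -/
def endsEmb {k : ℕ} {α β : Type*} (hp : Set.InjOn p (Set.Iio (k + 1))) (xa : α → Fin n) (xb : β → Fin n)
    (hia : Function.Injective xa) (hib : Function.Injective xb) (hab : ∀ a b, xa a ≠ xb b)
    (ha : ∀ a, ∀ i ≤ k, xa a ≠ p i) (hb : ∀ b, ∀ i ≤ k, xb b ≠ p i) : Fin (k + 1) ⊕ (α ⊕ β) ↪ Fin n :=
  ⟨Sum.elim (fun i => p i) (Sum.elim xa xb), by
    refine Function.Injective.sumElim (fun a b e => Fin.ext (hp a.2 b.2 e)) (hia.sumElim hib hab) ?_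
    rintro i (a | b)
    exacts [(ha a i (Nat.lt_succ_iff.1 i.2)).symm, (hb b i (Nat.lt_succ_iff.1 i.2)).symm]⟩

theorem ends_false {k : ℕ} {α β : Type*} [Fintype α] [Fintype β] (hp : IsPath T p (k + 1))
    (xa : α → Fin n) (xb : β → Fin n)
    (hia : Function.Injective xa) (hib : Function.Injective xb) (hab : ∀ a b, xa a ≠ xb b)
    (ha : ∀ a, ∀ i ≤ k, xa a ≠ p i) (hb : ∀ b, ∀ i ≤ k, xb b ≠ p i)
    (h2a : ∀ a, T.IsMinusTwo (xa a)) (h2b : ∀ b, T.IsMinusTwo (xb b))
    (la ya : α → ℝ) (lb yb : β → ℝ) (hya : ∀ a, 0 < ya a) (hyb : ∀ b, 0 < yb b)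
    (ha1 : ∑ a, ya a ^ 2 = 2) (ha2 : ∑ a, la a * ya a = 2) (hb1 : ∑ b, yb b ^ 2 = 2) (hb2 : ∑ b, lb b * yb b = 2)
    (hla : ∀ a, la a ≤ nA T (p 0) (xa a)) (hlb : ∀ b, lb b ≤ nA T (p k) (xb b))
    (hn : k + 1 + (Fintype.card α + Fintype.card β) < n) : False := by
  have h := (ends_test T (endsEmb hp.inj xa xb hia hib hab ha hb)
    (by rintro (i | a | b); exacts [hp.two i i.2, h2a a, h2b b])
    (fun i => hp.adj i (by omega)) la ya lb yb hya hyb ha1 ha2 hb1 hb2 hla hlb).1
  have := Fintype.card_le_of_surjective _ h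
  simp only [Fintype.card_fin, Fintype.card_sum] at this
  omega

theorem two_big_false (h : IsPath T p t) (ht : t < n) {i j : ℕ} (hij : i < j) (hj : j + 1 < t)
    (hi' : Big T (p i) (p (i + 1))) (hj' : Big T (p j) (p (j + 1))) : False := by
  have hs2 : (0 : ℝ) < Real.sqrt 2 := Real.sqrt_pos.2 two_pos
  refine ends_false (k := j - i - 1) (h.mono (i := i + 1) (k := j - i - 1 + 1) (by omega))
    (fun _ : Fin 1 => p i) (fun _ : Fin 1 => p (j + 1)) (fun a b _ => Subsingleton.elim a b)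
    (fun a b _ => Subsingleton.elim a b) (fun _ _ => ne_of_path T h (by omega) hj (by omega))
    (fun _ a ha => ne_of_path T h (by omega) (by omega) (by omega))
    (fun _ a ha => ne_of_path T h hj (by omega) (by omega))
    (fun _ => h.two i (by omega)) (fun _ => h.two _ hj)
    (fun _ => Real.sqrt 2) (fun _ => Real.sqrt 2) (fun _ => Real.sqrt 2) (fun _ => Real.sqrt 2)
    (fun _ => hs2) (fun _ => hs2) ending_double.1 ending_double.2 ending_double.1 ending_double.2
    (fun _ => ?_) (fun _ => ?_) (by simp only [Fintype.card_fin]; omega)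
  · rw [nA_comm]; simpa using hi'.le_nA
  · show Real.sqrt 2 ≤ nA T (p (i + 1 + (j - i - 1))) (p (j + 1))
    rw [show i + 1 + (j - i - 1) = j by omega]
    exact hj'.le_nA

/-- A fork at one end excludes a double edge at the other. -/
theorem fork_big_false {k : ℕ} (h : IsPath T p (k + 1)) {x y z : Fin n} (hxy : x ≠ y) (hxz : x ≠ z) (hyz : y ≠ z)
    (hx : ∀ i ≤ k, x ≠ p i) (hy : ∀ i ≤ k, y ≠ p i) (hz : ∀ i ≤ k, z ≠ p i)
    (h2x : T.IsMinusTwo x) (h2y : T.IsMinusTwo y) (h2z : T.IsMinusTwo z)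
    (hpx : 0 < T.a (p 0) x) (hpy : 0 < T.a (p 0) y) (hpz : Big T (p k) z) (hn : k + 4 < n) : False := by
  refine ends_false h ![x, y] (fun _ : Fin 1 => z)
    (by intro a b e; fin_cases a <;> fin_cases b <;> simp_all [eq_comm])
    (fun a b _ => Subsingleton.elim a b) (Fin.forall_fin_two.2 ⟨fun _ => hxz, fun _ => hyz⟩)
    (Fin.forall_fin_two.2 ⟨hx, hy⟩) (fun _ => hz) (Fin.forall_fin_two.2 ⟨h2x, h2y⟩) (fun _ => h2z)
    (fun _ => 1) (fun _ => 1) (fun _ => Real.sqrt 2) (fun _ => Real.sqrt 2)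
    (fun _ => one_pos) (fun _ => Real.sqrt_pos.2 two_pos) ending_fork.1 ending_fork.2 ending_double.1 ending_double.2
    (Fin.forall_fin_two.2 ⟨one_le_nA T hpx, one_le_nA T hpy⟩) (fun _ => hpz.le_nA)
    (by simp only [Fintype.card_fin]; omega)

/-- Two forks on a path do not fit in a proper configuration. -/
theorem fork_fork_false {k : ℕ} (h : IsPath T p (k + 1)) {x y z u : Fin n}
    (hd : Function.Injective ![x, y, z, u]) (hnp : ∀ a, ∀ i ≤ k, ![x, y, z, u] a ≠ p i)
    (h2 : ∀ a, T.IsMinusTwo (![x, y, z, u] a))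
    (hpx : 0 < T.a (p 0) x) (hpy : 0 < T.a (p 0) y) (hpz : 0 < T.a (p k) z) (hpu : 0 < T.a (p k) u)
    (hn : k + 5 < n) : False := by
  refine ends_false h ![x, y] ![z, u] (fun a b e => ?_) (fun a b e => ?_) (fun a b e => ?_)
    (Fin.forall_fin_two.2 ⟨hnp 0, hnp 1⟩) (Fin.forall_fin_two.2 ⟨hnp 2, hnp 3⟩)
    (Fin.forall_fin_two.2 ⟨h2 0, h2 1⟩) (Fin.forall_fin_two.2 ⟨h2 2, h2 3⟩)
    (fun _ => 1) (fun _ => 1) (fun _ => 1) (fun _ => 1) (fun _ => one_pos) (fun _ => one_pos)
    ending_fork.1 ending_fork.2 ending_fork.1 ending_fork.2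
    (Fin.forall_fin_two.2 ⟨one_le_nA T hpx, one_le_nA T hpy⟩)
    (Fin.forall_fin_two.2 ⟨one_le_nA T hpz, one_le_nA T hpu⟩)
    (by simp only [Fintype.card_fin]; omega)
  · have := @hd (a.castLE (by omega)) (b.castLE (by omega)) (by fin_cases a <;> fin_cases b <;> simpa using e)
    exact Fin.castLE_injective _ this
  · have := @hd (Fin.natAdd 2 a) (Fin.natAdd 2 b) (by fin_cases a <;> fin_cases b <;> simpa using e)
    exact Fin.natAdd_injective _ _ this
  · have := @hd (a.castLE (by omega)) (Fin.natAdd 2 b) (by fin_cases a <;> fin_cases b <;> simpa using e)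
    have := congrArg Fin.val this
    simp at this
    omega

theorem interior_simple (h : IsPath T p t) (ht : t < n) (h5 : 5 ≤ t) {i : ℕ} (h1 : 1 ≤ i) (h2 : i + 2 < t) :
    Simple T (p i) (p (i + 1)) := by
  refine (simple_or_big T (h.adj i (by omega))).resolve_right fun hb => ?_
  by_cases hi : 2 ≤ i
  · have := (f4_test T (h.mono (i := i - 2) (k := 5) (by omega)) ?_).1
    · omega
    show Big T (p (i - 2 + 2)) (p (i - 2 + 3))
    rwa [show i - 2 + 2 = i by omega, show i - 2 + 3 = i + 1 by omega]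
  · obtain rfl : i = 1 := by omega
    have := (f4_test T (h.mono (i := 0) (k := 5) (by omega)).rev ?_).1
    · omega
    simpa using hb.symm

/-- All edges of an arm at a branch vertex are simple. -/
theorem arm_simple {k : ℕ} (h : IsPath T p (k + 2)) {x y : Fin n} (hxy : x ≠ y)
    (hx : ∀ i ≤ k + 1, x ≠ p i) (hy : ∀ i ≤ k + 1, y ≠ p i) (h2x : T.IsMinusTwo x) (h2y : T.IsMinusTwo y)
    (hpx : 0 < T.a (p 0) x) (hpy : 0 < T.a (p 0) y) (hn : k + 4 < n) : Simple T (p k) (p (k + 1)) := by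
  refine (simple_or_big T (h.adj k (by omega))).resolve_right fun hb => ?_
  have hk := h.mono (i := 0) (k := k + 1) (by omega)
  simp only [Nat.zero_add] at hk
  exact fork_big_false hk hxy (hx _ le_rfl) (hy _ le_rfl) (fun i hi => hx i (by omega)) (fun i hi => hy i (by omega))
    (fun i hi => ne_of_path T h (by omega) (by omega) (by omega)) h2x h2y (h.two _ (by omega)) hpx hpy hb hn

/-- The three shapes of a chain with distinguished last edge. -/
def ChainForm (T : NumericalType n) (p : ℕ → Fin n) (t : ℕ) (w : ℤ) : Prop :=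
  ((∀ i < t, T.w (p i) = w) ∧ ∀ i, i + 1 < t → T.a (p i) (p (i + 1)) = w) ∨
    ((∀ i, i + 1 < t → T.w (p i) = w) ∧ T.w (p (t - 1)) = 2 * w ∧
      (∀ i, i + 2 < t → T.a (p i) (p (i + 1)) = w) ∧ T.a (p (t - 2)) (p (t - 1)) = 2 * w) ∨
    ((∀ i, i + 1 < t → T.w (p i) = 2 * w) ∧ T.w (p (t - 1)) = w ∧
      ∀ i, i + 1 < t → T.a (p i) (p (i + 1)) = 2 * w)

theorem w_const (hs : ∀ i, i + 2 < t → Simple T (p i) (p (i + 1))) :
    ∀ i, i + 1 < t → T.w (p i) = T.w (p 0) := by
  intro i
  induction i with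
  | zero => simp
  | succ i ih =>
    intro hi
    have h := hs i (by omega)
    rw [← h.2, h.1]
    exact ih (by omega)

theorem chain_last (h : IsPath T p t) (h3 : 3 ≤ t) (ht : t < n)
    (hs : ∀ i, i + 2 < t → Simple T (p i) (p (i + 1))) : ∃ w, ChainForm T p t w := by
  have hw := w_const hs
  have hm := (mid_class T (show 3 < n by omega) (i := p (t - 1)) (c := p (t - 2)) (k := p (t - 3))
    (ne_of_path T h (by omega) (by omega) (by omega)) (h.two _ (by omega)) (h.two _ (by omega)) (h.two _ (by omega))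
    (by simpa [show t - 2 + 1 = t - 1 by omega] using h.adj (t - 2) (by omega))
    (by rw [a_comm]; simpa [show t - 3 + 1 = t - 2 by omega] using h.adj (t - 3) (by omega))).1
  have hw2 := hw (t - 2) (by omega)
  have ha : ∀ i, i + 2 < t → T.a (p i) (p (i + 1)) = T.w (p 0) := fun i hi => (hs i hi).1.trans (hw i (by omega))
  have hall : ∀ i, i + 1 < t → (i + 2 < t ∨ (i = t - 2 ∧ i + 1 = t - 1)) := fun i hi => by omega
  rcases hm with hm | ⟨h1, h2⟩ | ⟨h1, h2⟩
  · refine ⟨T.w (p 0), Or.inl ⟨fun i hi => ?_, fun i hi => ?_⟩⟩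
    · rcases (show i + 1 < t ∨ i = t - 1 by omega) with hh | rfl
      · exact hw i hh
      · rw [← hm.2, hm.1, hw2]
    · rcases hall i hi with hh | ⟨hh, hh'⟩
      · exact ha i hh
      · rw [hh', hh, hm.1, hw2]
  · refine ⟨T.w (p 0), Or.inr (Or.inl ⟨hw, ?_, ha, ?_⟩)⟩ <;> rw [← hw2] <;> assumption
  · refine ⟨T.w (p (t - 1)), Or.inr (Or.inr ⟨fun i hi => ?_, rfl, fun i hi => ?_⟩)⟩
    · rw [hw i hi, ← hw2, h2]
    · rcases hall i hi with hh | ⟨hh, hh'⟩
      · rw [ha i hh, ← hw2, h2]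
      · rw [hh', hh, h1]

theorem chain_class (h : IsPath T p t) (h3 : 3 ≤ t) (ht : t < n)
    (hs : ∀ i, 1 ≤ i → i + 2 < t → Simple T (p i) (p (i + 1))) :
    ∃ w, ChainForm T p t w ∨ ChainForm T (fun i => p (t - 1 - i)) t w := by
  rcases simple_or_big T (h.adj 0 (by omega)) with h0 | h0
  · obtain ⟨w, hw⟩ := chain_last h h3 ht fun i hi => by
      rcases Nat.eq_zero_or_pos i with rfl | hp
      exacts [h0, hs i hp hi]
    exact ⟨w, Or.inl hw⟩
  · obtain ⟨w, hw⟩ := chain_last h.rev h3 ht fun i hi => by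
      refine Simple.symm ?_
      have e : t - 1 - i = t - 1 - (i + 1) + 1 := by omega
      rw [e]
      rcases (show i = 0 ∨ 0 < i by omega) with rfl | hp
      · refine (simple_or_big T (h.adj _ (by omega))).resolve_right fun hb => ?_
        exact two_big_false h ht (show 0 < t - 1 - (0 + 1) by omega) (by omega) h0 hb
      · exact hs _ (by omega) (by omega)
    exact ⟨w, Or.inr hw⟩

theorem IsPath.of_emb {v : Fin t ↪ Fin n} (ht : 0 < t) (hv : ∀ j, T.IsMinusTwo (v j))
    (hchain : ∀ j j' : Fin t, j'.val = j.val + 1 → T.a (v j) (v j') ≠ 0) :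
    IsPath T (fun i => if h : i < t then v ⟨i, h⟩ else v ⟨0, ht⟩) t where
  inj a ha b hb e := by
    rw [Set.mem_Iio] at ha hb
    simp only [dif_pos ha, dif_pos hb] at e
    exact congrArg Fin.val (v.injective e)
  two a ha := by simp only [dif_pos ha]; exact hv _
  adj a ha := by
    simp only [dif_pos ha, dif_pos (show a < t by omega)]
    refine lt_of_le_of_ne (T.offDiag_nonneg _ _ fun e => ?_) (hchain _ _ rfl).symm
    have := congrArg Fin.val (v.injective e)
    simp at this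

theorem pos_of_ne {i j : Fin n} (hij : i ≠ j) (h : T.a i j ≠ 0) : 0 < T.a i j :=
  lt_of_le_of_ne (T.offDiag_nonneg i j hij) h.symm

/-- Inequalities from a row: the sum over a set of others is at most `2 w m`. -/
theorem row_le {i : Fin n} (hi : T.IsMinusTwo i) {t : ℕ} (x : Fin t → Fin n) (hx : Function.Injective x)
    (hne : ∀ a, x a ≠ i) : ∑ a, T.a i (x a) * T.m (x a) ≤ 2 * T.w i * T.m i := by
  classical
  have := sum_le_row T i (univ.image x) (by simpa using hne)
  rw [sum_image fun a _ b _ e => hx e, hi.2] at this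
  linarith

theorem row_le1 {i x : Fin n} (hi : T.IsMinusTwo i) (hx : x ≠ i) : T.a i x * T.m x ≤ 2 * T.w i * T.m i := by
  simpa using row_le hi ![x] (fun a b _ => Subsingleton.elim a b) (by simpa using hx)

theorem row_le2 {i x y : Fin n} (hi : T.IsMinusTwo i) (hx : x ≠ i) (hy : y ≠ i) (hxy : x ≠ y) :
    T.a i x * T.m x + T.a i y * T.m y ≤ 2 * T.w i * T.m i := by
  simpa [Fin.sum_univ_two] using row_le hi ![x, y]
    (by intro a b e; fin_cases a <;> fin_cases b <;> simp_all [eq_comm]) (Fin.forall_fin_two.2 ⟨hx, hy⟩)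

theorem row_le3 {i x y z : Fin n} (hi : T.IsMinusTwo i) (hx : x ≠ i) (hy : y ≠ i) (hz : z ≠ i)
    (hxy : x ≠ y) (hxz : x ≠ z) (hyz : y ≠ z) :
    T.a i x * T.m x + T.a i y * T.m y + T.a i z * T.m z ≤ 2 * T.w i * T.m i := by
  simpa [Fin.sum_univ_three] using row_le hi ![x, y, z]
    (by intro a b e; fin_cases a <;> fin_cases b <;> simp_all [eq_comm])
    (by intro a; fin_cases a; exacts [hx, hy, hz])

end Groth.ModelsGraphs
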