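import Groth.Prelude.Def_W4c2conddiscmodels
import Mathlib.Tactic

/-! Contraction of a connecting chain of a multigraph with a multiplicity function. -/

namespace Groth.ModelsGraphs.Ctr

open Finset LabGraph

universe u
variable {V E : Type u} [Fintype V] [Fintype E] [DecidableEq V] [DecidableEq E] {ends : E → V × V} {β : V → ℤ}

omit [Fintype V] [DecidableEq E] in
theorem mult_comm (v w : V) : edgeMult ends v w = edgeMult ends w v := by
  simp only [edgeMult, or_comm]

omit [Fintype V] [DecidableEq E] in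
theorem mult_split (v w : V) (h : v ≠ w) : edgeMult ends v w =
    ∑ e : E, ((if ends e = (v, w) then 1 else 0) + (if ends e = (w, v) then 1 else 0)) := by
  rw [edgeMult, card_filter]
  refine sum_congr rfl fun e _ => ?_
  by_cases h1 : ends e = (v, w)
  · have h2 : ends e ≠ (w, v) := fun h2 => h (congrArg Prod.fst (h1.symm.trans h2))
    simp [h1, h]
  · simp [h1]

omit [Fintype V] [DecidableEq E] in
theorem mult_pos_of_edge {v w : V} (e : E) (he : ends e = (v, w) ∨ ends e = (w, v)) : 1 ≤ edgeMult ends v w :=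
  card_pos.2 ⟨e, mem_filter.2 ⟨mem_univ e, he⟩⟩

/-- The off-diagonal part of a row. -/
def offRow (ends : E → V × V) (g : V → ℤ) (v : V) : ℤ := ∑ u ∈ univ.erase v, g u * (edgeMult ends v u : ℤ)

omit [DecidableEq E] in
theorem mulVec_apply (β h : V → ℤ) (v : V) :
    (mfMatrix ends β).mulVec h v = mfMatrix ends β v v * h v + offRow ends h v := by
  simp only [Matrix.mulVec, dotProduct, offRow]
  rw [← add_sum_erase univ _ (mem_univ v)]
  congr 1
  refine sum_congr rfl fun u hu => ?_
  rw [mfMatrix, if_neg (mem_erase.1 hu).1.symm]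
  ring

omit [DecidableEq E] in
theorem diag_mul (hβ : IsMultFn ends β) (v : V) :
    mfMatrix ends β v v * β v = -offRow ends β v := by
  rw [mfMatrix, if_pos rfl, Int.ediv_mul_cancel (dvd_neg.2 (hβ v).2)]
  rfl

omit [DecidableEq E] in
theorem mulVec_beta (hβ : IsMultFn ends β) : (mfMatrix ends β).mulVec β = 0 := by
  funext v
  rw [mulVec_apply, diag_mul hβ]
  simp

omit [DecidableEq E] in
theorem isSymm (β : V → ℤ) : (mfMatrix ends β).IsSymm := by
  refine Matrix.IsSymm.ext fun v w => ?_
  rcases eq_or_ne v w with rfl | h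
  · rfl
  · simp [mfMatrix, h, h.symm, mult_comm v w]

omit [DecidableEq E] in
theorem sum_beta_mulVec (hβ : IsMultFn ends β) (h : V → ℤ) :
    ∑ v, (mfMatrix ends β).mulVec h v * β v = 0 := by
  have : ∑ v, (mfMatrix ends β).mulVec h v * β v = ∑ u, (mfMatrix ends β).mulVec β u * h u := by
    simp only [Matrix.mulVec, dotProduct, sum_mul]
    rw [sum_comm]
    refine sum_congr rfl fun u _ => sum_congr rfl fun v _ => ?_
    rw [(isSymm β).apply]; ring
  simp [this, mulVec_beta hβ]

theorem betaHom_apply (β x : V → ℤ) : betaHom β x = ∑ v, x v * β v := by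
  simp [betaHom, Fintype.linearCombination_apply]

/-! ### The contracted graph -/

section Chain

variable (β : V → ℤ) {m : ℕ} {f : Fin (m + 1) → V} {e : Fin m → E}

omit [Fintype V] [Fintype E] [DecidableEq V] in
theorem mk_eq_iff (hC : IsChain ends f e) (u v : V) :
    DualGr.ctrMk ends (univ.image e) u = DualGr.ctrMk ends (univ.image e) v ↔
      u = v ∨ (u ∈ Set.range f ∧ v ∈ Set.range f) := by
  constructor
  · intro h
    have h' : Relation.EqvGen (DualGr.CtrRel ends (univ.image e)) u v := Quotient.exact h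
    clear h
    induction h' with
    | rel x y hxy =>
      obtain ⟨d, hd, hde⟩ := hxy
      obtain ⟨i, -, rfl⟩ := mem_image.1 hd
      rcases hC.2.2 i with h | h <;> rw [hde, Prod.mk.injEq] at h <;> exact Or.inr ⟨⟨_, h.1.symm⟩, ⟨_, h.2.symm⟩⟩
    | refl x => exact Or.inl rfl
    | symm x y _ ih => exact ih.imp Eq.symm And.symm
    | trans x y z _ _ i1 i2 =>
      rcases i1 with rfl | ⟨a, b⟩
      · exact i2
      · rcases i2 with rfl | ⟨c, d⟩
        exacts [Or.inr ⟨a, b⟩, Or.inr ⟨a, d⟩]
  · rintro (rfl | ⟨⟨i, rfl⟩, ⟨j, rfl⟩⟩)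
    · rfl
    · have key : ∀ i, DualGr.ctrMk ends (univ.image e) (f i) = DualGr.ctrMk ends (univ.image e) (f 0) := by
        intro i
        induction i using Fin.induction with
        | zero => rfl
        | succ i ih =>
          rw [← ih]
          have h := DualGr.ctrMk_fst_eq_ctrMk_snd ends (univ.image e) (mem_image.2 ⟨i, mem_univ i, rfl⟩)
          rcases hC.2.2 i with h' | h' <;> rw [h'] at h
          exacts [h.symm, h]
      rw [key i, key j]

omit [Fintype V] [Fintype E] [DecidableEq V] in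
theorem mk_range (hC : IsChain ends f e) (i : Fin (m + 1)) :
    DualGr.ctrMk ends (univ.image e) (f i) = DualGr.ctrMk ends (univ.image e) (f 0) :=
  (mk_eq_iff hC _ _).2 (Or.inr ⟨⟨i, rfl⟩, ⟨0, rfl⟩⟩)

/-- The preimage in `V` of a vertex of the contraction. -/
noncomputable def fib (ends : E → V × V) (D : Finset E) (c : DualGr.CtrVert ends D) : Finset V :=
  univ.filter fun u => DualGr.ctrMk ends D u = c

theorem edgeMult_ctr (D : Finset E) {c d : DualGr.CtrVert ends D} (hcd : c ≠ d) :
    edgeMult (DualGr.ctrEnds ends D) c d = ∑ u ∈ fib ends D c, ∑ v ∈ fib ends D d, edgeMult ends u v := by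
  have hne : ∀ u ∈ fib ends D c, ∀ v ∈ fib ends D d, u ≠ v := fun u hu v hv e => by
    subst e
    exact hcd ((mem_filter.1 hu).2.symm.trans (mem_filter.1 hv).2)
  rw [mult_split _ _ hcd, sum_congr rfl fun u hu => sum_congr rfl fun v hv => mult_split u v (hne u hu v hv)]
  simp only [sum_comm (s := fib ends D d) (t := (univ : Finset E))]
  rw [sum_comm (s := fib ends D c) (t := (univ : Finset E))]
  have h2 : ∀ (x : E) (p q : DualGr.CtrVert ends D),
      ∑ u ∈ fib ends D p, ∑ v ∈ fib ends D q, (if ends x = (u, v) then 1 else 0) =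
        if DualGr.ctrMk ends D (ends x).1 = p ∧ DualGr.ctrMk ends D (ends x).2 = q then 1 else 0 := by
    intro x p q
    simp only [Prod.ext_iff, ite_and, sum_ite_eq, sum_ite_irrel, sum_const_zero, fib, mem_filter, mem_univ,
      true_and]
  have h3 : ∀ x : E,
      ∑ u ∈ fib ends D c, ∑ v ∈ fib ends D d, ((if ends x = (u, v) then 1 else 0) + (if ends x = (v, u) then 1 else 0)) =
      (if DualGr.ctrMk ends D (ends x).1 = c ∧ DualGr.ctrMk ends D (ends x).2 = d then 1 else 0) +
        (if DualGr.ctrMk ends D (ends x).1 = d ∧ DualGr.ctrMk ends D (ends x).2 = c then 1 else 0) := by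
    intro x
    simp only [sum_add_distrib, h2]
    congr 1
    rw [sum_comm, h2]
  simp only [h3]
  rw [← sum_filter_add_sum_filter_not univ (fun x => x ∈ D)]
  have hz : ∀ x ∈ univ.filter (fun x => x ∈ D),
      ((if DualGr.ctrMk ends D (ends x).1 = c ∧ DualGr.ctrMk ends D (ends x).2 = d then 1 else 0) +
        (if DualGr.ctrMk ends D (ends x).1 = d ∧ DualGr.ctrMk ends D (ends x).2 = c then 1 else 0) : ℕ) = 0 := by
    intro x hx
    have h := DualGr.ctrMk_fst_eq_ctrMk_snd ends D (mem_filter.1 hx).2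
    rw [if_neg, if_neg]
    · rintro ⟨a, b⟩; exact hcd (b.symm.trans (h.symm.trans a))
    · rintro ⟨a, b⟩; exact hcd (a.symm.trans (h.trans b))
  rw [sum_eq_zero hz, zero_add, sum_subtype (univ.filter fun x => x ∉ D) (p := fun x => x ∉ D) (fun x => by simp)]
  refine sum_congr rfl fun x _ => ?_
  simp only [DualGr.ctrEnds, Prod.ext_iff]

variable {β}

omit [Fintype V] [Fintype E] [DecidableEq V] in
theorem ctrFn_mk (hC : IsChain ends f e) (hβm : ∀ i, β (f i) = m) (u : V) :
    ctrFn ends (univ.image e) β (DualGr.ctrMk ends (univ.image e) u) = β u := by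
  rcases (mk_eq_iff hC _ u).1 (Quotient.out_eq (s := DualGr.ctrSetoid ends (univ.image e))
    (DualGr.ctrMk ends (univ.image e) u)) with h | ⟨⟨i, hi⟩, j, hj⟩
  · exact congrArg β h
  · show β _ = β u
    rw [← hi, ← hj, hβm, hβm]

theorem fib_of_notMem (hC : IsChain ends f e) {u : V} (hu : u ∉ Set.range f) :
    fib ends (univ.image e) (DualGr.ctrMk ends (univ.image e) u) = {u} := by
  ext v
  simp only [fib, mem_filter, mem_univ, true_and, mem_singleton, mk_eq_iff hC]
  exact ⟨fun h => h.resolve_right fun h => hu h.2, fun h => Or.inl h⟩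

theorem offRow_ctr (hC : IsChain ends f e) {u : V} (hu : u ∉ Set.range f)
    (g : DualGr.CtrVert ends (univ.image e) → ℤ) :
    offRow (DualGr.ctrEnds ends (univ.image e)) g (DualGr.ctrMk ends (univ.image e) u) =
      offRow ends (fun v => g (DualGr.ctrMk ends (univ.image e) v)) u := by
  have hh : ∀ d ∈ univ.erase (DualGr.ctrMk ends (univ.image e) u),
      g d * (edgeMult (DualGr.ctrEnds ends (univ.image e)) (DualGr.ctrMk ends (univ.image e) u) d : ℤ) =
        ∑ v ∈ fib ends (univ.image e) d, g (DualGr.ctrMk ends (univ.image e) v) * (edgeMult ends u v : ℤ) := by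
    intro d hd
    rw [edgeMult_ctr (univ.image e) (mem_erase.1 hd).1.symm, fib_of_notMem hC hu, sum_singleton, Nat.cast_sum, mul_sum]
    exact sum_congr rfl fun v hv => by rw [(mem_filter.1 hv).2]
  rw [offRow, sum_congr rfl hh, offRow]
  have : univ.erase u = univ.filter (fun v => DualGr.ctrMk ends (univ.image e) v ∈ univ.erase (DualGr.ctrMk ends (univ.image e) u)) := by
    ext v
    simp only [mem_erase, mem_univ, and_true, mem_filter, true_and, ne_eq, mk_eq_iff hC]
    exact ⟨fun h h' => h'.elim h fun h => hu h.2, fun h h' => h (Or.inl h')⟩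
  rw [this, ← sum_fiberwise_of_maps_to (g := DualGr.ctrMk ends (univ.image e)) (t := univ.erase (DualGr.ctrMk ends (univ.image e) u))
    (fun v hv => (mem_filter.1 hv).2)]
  refine sum_congr rfl fun d hd => sum_congr ?_ fun _ _ => rfl
  ext v
  simp only [fib, mem_filter, mem_univ, true_and]
  exact ⟨fun h => ⟨h ▸ hd, h⟩, fun h => h.2⟩

/-- A row outside the chain is unchanged by contraction. -/
theorem mulVec_ctr (hC : IsChain ends f e) (hβm : ∀ i, β (f i) = m) {u : V} (hu : u ∉ Set.range f)
    (g : DualGr.CtrVert ends (univ.image e) → ℤ) :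
    (mfMatrix (DualGr.ctrEnds ends (univ.image e)) (ctrFn ends (univ.image e) β)).mulVec g
        (DualGr.ctrMk ends (univ.image e) u) =
      (mfMatrix ends β).mulVec (fun v => g (DualGr.ctrMk ends (univ.image e) v)) u := by
  rw [mulVec_apply, mulVec_apply, offRow_ctr hC hu]
  congr 2
  simp only [mfMatrix, if_true]
  rw [ctrFn_mk hC hβm]
  congr 2
  have := offRow_ctr hC hu (ctrFn ends (univ.image e) β)
  simp only [offRow, ctrFn_mk hC hβm] at this
  exact this

theorem isMultFn_ctr (hβ : IsMultFn ends β) (hC : IsChain ends f e) (hconst : ∀ i j, β (f i) = β (f j)) :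
    IsMultFn (DualGr.ctrEnds ends (univ.image e)) (ctrFn ends (univ.image e) β) := by
  set D := univ.image e
  have hmk : ∀ u, ctrFn ends D β (DualGr.ctrMk ends D u) = β u := fun u => by
    rcases (mk_eq_iff hC _ u).1 (Quotient.out_eq (s := DualGr.ctrSetoid ends D) (DualGr.ctrMk ends D u))
      with h | ⟨⟨i, hi⟩, j, hj⟩
    · exact congrArg β h
    · show β _ = β u
      rw [← hi, ← hj]; exact hconst i j
  intro c
  obtain ⟨u, rfl⟩ := DualGr.ctrMk_surjective ends D c
  refine ⟨by rw [hmk]; exact (hβ u).1, ?_⟩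
  rw [hmk]
  by_cases hu : u ∈ Set.range f
  · -- the class of the chain
    have hfib : ∀ v, v ∈ fib ends D (DualGr.ctrMk ends D u) ↔ v ∈ Set.range f := fun v => by
      simp only [fib, mem_filter, mem_univ, true_and, D, mk_eq_iff hC]
      exact ⟨fun h => h.elim (fun h => h ▸ hu) And.left, fun h => Or.inr ⟨h, hu⟩⟩
    have key : ∀ d ∈ univ.erase (DualGr.ctrMk ends D u),
        ctrFn ends D β d * (edgeMult (DualGr.ctrEnds ends D) (DualGr.ctrMk ends D u) d : ℤ) =
          ∑ v ∈ fib ends D (DualGr.ctrMk ends D u), ∑ w ∈ fib ends D d, β w * (edgeMult ends v w : ℤ) := by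
      intro d hd
      rw [edgeMult_ctr D (mem_erase.1 hd).1.symm, Nat.cast_sum, mul_sum]
      refine sum_congr rfl fun v _ => ?_
      rw [Nat.cast_sum, mul_sum]
      exact sum_congr rfl fun w hw => by rw [← (mem_filter.1 hw).2, hmk]
    rw [sum_congr rfl key, sum_comm]
    refine dvd_sum fun v hv => ?_
    obtain ⟨i, rfl⟩ := (hfib v).1 hv
    obtain ⟨j, rfl⟩ := hu
    have hsplit : ∑ w ∈ univ.erase (f i), β w * (edgeMult ends (f i) w : ℤ) =
        (∑ d ∈ univ.erase (DualGr.ctrMk ends D (f j)), ∑ w ∈ fib ends D d, β w * (edgeMult ends (f i) w : ℤ)) +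
          ∑ w ∈ (fib ends D (DualGr.ctrMk ends D (f j))).erase (f i), β w * (edgeMult ends (f i) w : ℤ) := by
      rw [← sum_filter_add_sum_filter_not (univ.erase (f i)) (fun w => DualGr.ctrMk ends D w ≠ DualGr.ctrMk ends D (f j))]
      congr 1
      · rw [← sum_fiberwise_of_maps_to (g := DualGr.ctrMk ends D) (t := univ.erase (DualGr.ctrMk ends D (f j)))
          (fun w hw => mem_erase.2 ⟨(mem_filter.1 hw).2, mem_univ _⟩)]
        refine sum_congr rfl fun d hd => sum_congr ?_ fun _ _ => rfl
        ext w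
        simp only [fib, mem_filter, mem_univ, true_and, mem_erase, and_true]
        refine ⟨fun h => h.2, fun h => ⟨⟨fun hw => ?_, h ▸ (mem_erase.1 hd).1⟩, h⟩⟩
        exact (mem_erase.1 hd).1 (h.symm.trans ((congrArg _ hw).trans ((mk_range hC i).trans (mk_range hC j).symm)))
      · refine sum_congr ?_ fun _ _ => rfl
        ext w
        simp only [fib, mem_filter, mem_univ, true_and, mem_erase, and_true, not_not]
    have hd : β (f j) ∣ ∑ w ∈ (fib ends D (DualGr.ctrMk ends D (f j))).erase (f i),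
        β w * (edgeMult ends (f i) w : ℤ) := dvd_sum fun w hw => by
      obtain ⟨k, rfl⟩ := (hfib w).1 (mem_of_mem_erase hw)
      exact Dvd.intro _ (by rw [hconst j k])
    have h2 := (hβ (f i)).2
    rw [hsplit, hconst i j] at h2
    exact (dvd_add_left hd).1 h2
  · have h := offRow_ctr hC hu (ctrFn ends D β)
    simp only [offRow, D] at h
    rw [h]
    simp only [hmk, D] at *
    convert (hβ u).2 using 3 with v

/-! ### Chains of length `m` with value `m` and diagonal `-2` -/

omit [DecidableEq E] in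
theorem offRow_beta_chain (hβ : IsMultFn ends β) (hβm : ∀ i, β (f i) = m)
    (hα : ∀ i, mfMatrix ends β (f i) (f i) = -2) (i : Fin (m + 1)) : offRow ends β (f i) = 2 * m := by
  have := diag_mul hβ (f i)
  rw [hα, hβm] at this
  linarith

omit [DecidableEq E] in
theorem m_pos (hβ : IsMultFn ends β) (hβm : ∀ i, β (f i) = m) : 0 < m := by
  have := (hβ (f 0)).1
  rw [hβm] at this
  exact_mod_cast this

omit [Fintype V] [DecidableEq E] in
theorem one_le_adj (hC : IsChain ends f e) (i : Fin m) : 1 ≤ edgeMult ends (f i.castSucc) (f i.succ) :=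
  mult_pos_of_edge (e i) (hC.2.2 i)

omit [DecidableEq E] in
/-- An interior vertex of the chain is joined only to its two neighbours, by one edge each. -/
theorem interior (hβ : IsMultFn ends β) (hC : IsChain ends f e) (hβm : ∀ i, β (f i) = m)
    (hα : ∀ i, mfMatrix ends β (f i) (f i) = -2) (j : Fin m) (j' : Fin m) (hj : j'.val = j.val + 1) (g : V → ℤ) :
    offRow ends g (f j.succ) = g (f j.castSucc) + g (f j'.succ) ∧
      ∀ u, u ≠ f j.succ → u ≠ f j.castSucc → u ≠ f j'.succ → edgeMult ends (f j.succ) u = 0 := by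
  have hmid : j'.castSucc = j.succ := Fin.ext (by simp [hj])
  have h1 := one_le_adj hC j
  rw [mult_comm] at h1
  have h2 := one_le_adj hC j'
  rw [hmid] at h2
  set c := f j.succ with hc
  have hne1 : f j.castSucc ≠ c := hC.1.ne (Fin.castSucc_lt_succ (i := j)).ne
  have hne2 : f j'.succ ≠ c := hC.1.ne fun h => by have := congrArg Fin.val h; simp [hj] at this
  have hne3 : f j.castSucc ≠ f j'.succ := hC.1.ne fun h => by have := congrArg Fin.val h; simp [hj] at this; omega
  have hsub : ({f j.castSucc, f j'.succ} : Finset V) ⊆ univ.erase c := by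
    intro u hu; simp only [mem_insert, mem_singleton] at hu; rcases hu with rfl | rfl <;> simp [hne1, hne2]
  have hs := offRow_beta_chain hβ hβm hα j.succ
  rw [← hc, offRow, ← sum_sdiff hsub, sum_pair hne3, hβm, hβm] at hs
  have hm : (0 : ℤ) < m := by exact_mod_cast m_pos hβ hβm
  have hnn : ∀ u ∈ univ.erase c \ {f j.castSucc, f j'.succ}, 0 ≤ β u * (edgeMult ends c u : ℤ) := fun u _ =>
    mul_nonneg (hβ u).1.le (Int.natCast_nonneg _)
  have h0 := sum_nonneg hnn
  have a1 : (1 : ℤ) ≤ edgeMult ends c (f j.castSucc) := by exact_mod_cast h1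
  have a2 : (1 : ℤ) ≤ edgeMult ends c (f j'.succ) := by exact_mod_cast h2
  have e1 : (edgeMult ends c (f j.castSucc) : ℤ) = 1 := by nlinarith
  have e2 : (edgeMult ends c (f j'.succ) : ℤ) = 1 := by nlinarith
  rw [e1, e2] at hs
  have hz := (sum_eq_zero_iff_of_nonneg hnn).1 (by linarith)
  have hzero : ∀ u, u ≠ c → u ≠ f j.castSucc → u ≠ f j'.succ → edgeMult ends c u = 0 := fun u a b d => by
    have := hz u (mem_sdiff.2 ⟨mem_erase.2 ⟨a, mem_univ u⟩, by simp [b, d]⟩)
    simpa [(hβ u).1.ne'] using this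
  refine ⟨?_, hzero⟩
  rw [offRow, ← sum_sdiff hsub, sum_pair hne3, e1, e2, sum_eq_zero fun u hu => ?_]
  · ring
  · simp only [mem_sdiff, mem_erase, mem_insert, mem_singleton, not_or] at hu
    rw [hzero u hu.1.1 hu.2.1 hu.2.2, Nat.cast_zero, mul_zero]

end Chain

/-! ### The side of the last edge -/

section Side

variable {m : ℕ} {f : Fin (m + 1) → V} {e : Fin m → E}

/-- The side `B` of the last edge containing the last vertex. -/
theorem exists_side (hC : IsChain ends f e) (hconn : ∀ i, IsConnecting ends (e i)) (j : Fin m) (hj : j.val + 1 = m) :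
    ∃ B : Finset V, f (Fin.last m) ∈ B ∧ (∀ i : Fin (m + 1), i.val < m → f i ∉ B) ∧
      edgeMult ends (f (Fin.last m)) (f j.castSucc) = 1 ∧
      ∀ u ∈ B, ∀ v ∉ B, edgeMult ends u v ≠ 0 → u = f (Fin.last m) ∧ v = f j.castSucc := by
  obtain ⟨S, hS⟩ := hconn j
  have hl : j.succ = Fin.last m := Fin.ext (by simpa using hj)
  have hcr : ∀ x, x ≠ e j → ((ends x).1 ∈ S ↔ (ends x).2 ∈ S) := fun x hx => by
    have := (hS x)
    tauto
  have hjS : ((ends (e j)).1 ∈ S ↔ (ends (e j)).2 ∉ S) := (hS (e j)).2 rfl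
  have hsame : ∀ i : Fin (m + 1), i.val < m → (f i ∈ S ↔ f j.castSucc ∈ S) := by
    intro i
    induction i using Fin.reverseInduction with
    | last => intro h; simp at h
    | cast i ih =>
      intro _
      rcases (show i.val + 1 < m ∨ i = j from
        if h : i.val + 1 < m then Or.inl h else Or.inr (Fin.ext (by omega))) with h | rfl
      · have hne : e i ≠ e j := hC.2.1.ne fun hh => by subst hh; omega
        have h' := hcr _ hne
        rw [← ih (by simpa using h)]
        rcases hC.2.2 i with hh | hh <;> rw [hh] at h'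
        exacts [h', h'.symm]
      · rfl
  have hopp : (f j.castSucc ∈ S ↔ f (Fin.last m) ∉ S) := by
    rcases hC.2.2 j with hh | hh <;> rw [hh, hl] at hjS
    · exact hjS
    · tauto
  let B : Finset V := if f (Fin.last m) ∈ S then S else Sᶜ
  have hB : ∀ u, u ∈ B ↔ (u ∈ S ↔ f (Fin.last m) ∈ S) := fun u => by
    simp only [B]; split_ifs with h <;> simp [h]
  have hcross : ∀ x : E, ∀ u ∈ B, ∀ v ∉ B, ends x = (u, v) ∨ ends x = (v, u) →
      x = e j ∧ u = f (Fin.last m) ∧ v = f j.castSucc := by
    intro x u hu v hv hx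
    rw [hB] at hu hv
    have hxe : x = e j := by
      by_contra hh
      have := hcr x hh
      rcases hx with hx | hx <;> rw [hx] at this <;> tauto
    subst hxe
    refine ⟨rfl, ?_⟩
    rcases hC.2.2 j with hh | hh <;> rw [hh, hl, Prod.mk.injEq, Prod.mk.injEq] at hx <;>
      rcases hx with ⟨a, b⟩ | ⟨a, b⟩
    all_goals first
      | exact ⟨a.symm, b.symm⟩ | exact ⟨b.symm, a.symm⟩
      | (exfalso; subst a b; tauto)
  refine ⟨B, (hB _).2 Iff.rfl, fun i hi hiB => ?_, ?_, fun u hu v hv hne => ?_⟩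
  · rw [hB, hsame i hi] at hiB
    tauto
  · refine card_eq_one.2 ⟨e j, ?_⟩
    ext x
    simp only [mem_filter, mem_univ, true_and, mem_singleton]
    refine ⟨fun h => ?_, fun h => h ▸ (hl ▸ (hC.2.2 j).symm)⟩
    refine (hcross x _ ((hB _).2 Iff.rfl) _ ?_ h).1
    rw [hB]; tauto
  · obtain ⟨x, hx⟩ := card_pos.1 (Nat.pos_of_ne_zero hne)
    exact (hcross x u hu v hv (mem_filter.1 hx).2).2

end Side

end Groth.ModelsGraphs.Ctr
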