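import Groth.Agent.ModelsGraphs.Chain

/-! Helpers for configurations indexed by `Fin`. -/

namespace Groth.ModelsGraphs

open Finset Matrix Models

variable {n : ℕ} {T : NumericalType n}

/-- The path along an embedding, as a function on naturals. -/
def seqOf {s t : ℕ} (v : Fin s ↪ Fin n) (g : Fin (t + 1) → Fin s) (i : ℕ) : Fin n :=
  if h : i < t + 1 then v (g ⟨i, h⟩) else v (g 0)

theorem seqOf_apply {s t : ℕ} (v : Fin s ↪ Fin n) (g : Fin (t + 1) → Fin s) (i : Fin (t + 1)) :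
    seqOf v g i = v (g i) := dif_pos i.2

theorem isPath_seqOf {s t : ℕ} {v : Fin s ↪ Fin n} (hv : ∀ j, T.IsMinusTwo (v j)) (g : Fin (t + 1) → Fin s)
    (hg : Function.Injective g) (hadj : ∀ i : Fin t, T.a (v (g i.castSucc)) (v (g i.succ)) ≠ 0) :
    IsPath T (seqOf v g) (t + 1) where
  inj a ha b hb e := by
    rw [Set.mem_Iio] at ha hb
    rw [seqOf, seqOf, dif_pos ha, dif_pos hb] at e
    exact congrArg Fin.val (hg (v.injective e))
  two a ha := by rw [seqOf, dif_pos ha]; exact hv _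
  adj a ha := by
    rw [seqOf, seqOf, dif_pos ha, dif_pos (show a < t + 1 by omega)]
    exact pos_of_ne (fun e => by simpa using congrArg Fin.val (hg (v.injective e))) (hadj ⟨a, by omega⟩)

theorem chord0 {s t : ℕ} {v : Fin s ↪ Fin n} (hv : ∀ j, T.IsMinusTwo (v j)) (hs : s < n) (ht : 2 ≤ t)
    (g : Fin (t + 1) → Fin s) (hg : Function.Injective g)
    (hadj : ∀ i : Fin t, T.a (v (g i.castSucc)) (v (g i.succ)) ≠ 0) :
    T.a (v (g 0)) (v (g (Fin.last t))) = 0 := by
  have hts := Fintype.card_le_of_injective g hg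
  simp only [Fintype.card_fin] at hts
  have := (isPath_seqOf hv g hg hadj).no_chord (i := 0) (k := t) (by omega) (by omega) (by omega)
  rwa [seqOf, seqOf, dif_pos (by omega), dif_pos (by omega)] at this

theorem arm0 {s k : ℕ} {v : Fin s ↪ Fin n} (hv : ∀ j, T.IsMinusTwo (v j)) (hs : s < n)
    (g : Fin (k + 2) → Fin s) (hg : Function.Injective g)
    (hadj : ∀ i : Fin (k + 1), T.a (v (g i.castSucc)) (v (g i.succ)) ≠ 0) (x y : Fin s) (hxy : x ≠ y)
    (hx : ∀ i, x ≠ g i) (hy : ∀ i, y ≠ g i) (hpx : T.a (v (g 0)) (v x) ≠ 0) (hpy : T.a (v (g 0)) (v y) ≠ 0) :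
    Simple T (v (g ⟨k, by omega⟩)) (v (g ⟨k + 1, by omega⟩)) := by
  have hcard : k + 4 ≤ s := by
    have h1 := Fintype.card_le_of_injective (Sum.elim g ![x, y]) (hg.sumElim
      (by intro a b e; fin_cases a <;> fin_cases b <;> simp_all [eq_comm])
      (fun a b => by fin_cases b; exacts [(hx a).symm, (hy a).symm]))
    simp only [Fintype.card_fin, Fintype.card_sum] at h1
    omega
  have hp : ∀ z, ∀ i : Fin (k + 2), z ≠ g i → v z ≠ seqOf v g i := fun z i hz => by
    rw [seqOf_apply]; exact v.injective.ne hz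
  have h := arm_simple (isPath_seqOf hv g hg hadj) (v.injective.ne hxy)
    (fun i hi => hp x ⟨i, by omega⟩ (hx _)) (fun i hi => hp y ⟨i, by omega⟩ (hy _)) (hv x) (hv y)
    (by rw [seqOf, dif_pos (by omega)]; exact pos_of_ne (v.injective.ne (hx 0).symm) hpx)
    (by rw [seqOf, dif_pos (by omega)]; exact pos_of_ne (v.injective.ne (hy 0).symm) hpy) (by omega)
  rwa [seqOf, seqOf, dif_pos (by omega), dif_pos (by omega)] at h

theorem branch0 {s : ℕ} {v : Fin s ↪ Fin n} (hv : ∀ j, T.IsMinusTwo (v j)) (hn : 4 < n) (c x y z : Fin s)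
    (hxy : x ≠ y) (hxz : x ≠ z) (hyz : y ≠ z) (hcx : c ≠ x) (hcy : c ≠ y) (hcz : c ≠ z)
    (h1 : T.a (v c) (v x) ≠ 0) (h2 : T.a (v c) (v y) ≠ 0) (h3 : T.a (v c) (v z) ≠ 0) :
    Simple T (v c) (v x) :=
  branch_simple T hn (v.injective.ne hxy) (v.injective.ne hxz) (v.injective.ne hyz) (hv c) (hv x) (hv y) (hv z)
    (pos_of_ne (v.injective.ne hcx) h1) (pos_of_ne (v.injective.ne hcy) h2) (pos_of_ne (v.injective.ne hcz) h3)

theorem ne_comm' {i j : Fin n} (h : T.a i j ≠ 0) : T.a j i ≠ 0 := by rwa [a_comm]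

theorem cancel_w {w A B : ℤ} (hw : 0 < w) (h : w * A ≤ w * B) : A ≤ B := le_of_mul_le_mul_left h hw

end Groth.ModelsGraphs
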