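import Groth.Agent.ModelsGraphs.ChainContract

/-! The component group after contracting a chain of length `m` and value `m`. -/

namespace Groth.ModelsGraphs.Ctr

open Finset LabGraph

universe u
variable {V E : Type u} [Fintype V] [Fintype E] [DecidableEq V] [DecidableEq E] {ends : E → V × V} {β : V → ℤ}
  {m : ℕ} {f : Fin (m + 1) → V} {e : Fin m → E}

/-- The hypotheses on the chain. -/
structure Good (ends : E → V × V) (β : V → ℤ) (m : ℕ) (f : Fin (m + 1) → V) (e : Fin m → E) : Prop where
  mult : IsMultFn ends β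
  chain : IsChain ends f e
  conn : ∀ i, IsConnecting ends (e i)
  val : ∀ i, β (f i) = m
  diag : ∀ i, mfMatrix ends β (f i) (f i) = -2

variable (hG : Good ends β m f e)
include hG

omit [DecidableEq E] in
theorem Good.m_pos : 0 < m := Ctr.m_pos hG.mult hG.val

/-- The index `k` as a member of `Fin (m + 1)`. -/
theorem Good.int_zero {a : Fin (m + 1)} (h0 : 0 < a.val) (hm : a.val < m) (u : V) (hu : u ∉ Set.range f) :
    edgeMult ends (f a) u = 0 := by
  obtain ⟨i, hi⟩ := a
  have h := (interior hG.mult hG.chain hG.val hG.diag ⟨i - 1, by simp at h0; omega⟩ ⟨i, by simpa using hm⟩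
    (by simp at h0 ⊢; omega) β).2 u
  have e1 : (⟨i - 1, by simp at h0; omega⟩ : Fin m).succ = ⟨i, hi⟩ := Fin.ext (by simp at h0 ⊢; omega)
  rw [e1] at h
  exact h (fun e => hu ⟨_, e.symm⟩) (fun e => hu ⟨_, e.symm⟩) (fun e => hu ⟨_, e.symm⟩)

theorem Good.int_row {k : ℕ} (hk : k + 2 ≤ m) (g : V → ℤ) :
    (mfMatrix ends β).mulVec g (f ⟨k + 1, by omega⟩) =
      g (f ⟨k, by omega⟩) - 2 * g (f ⟨k + 1, by omega⟩) + g (f ⟨k + 2, by omega⟩) := by
  have h := (interior hG.mult hG.chain hG.val hG.diag ⟨k, by omega⟩ ⟨k + 1, by omega⟩ rfl g).1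
  simp only [Fin.succ_mk, Fin.castSucc_mk] at h
  rw [mulVec_apply, hG.diag, h]
  ring

omit hG in
theorem ext_ker {β : V → ℤ} {x y : V → ℤ} (v₀ : V) (h0 : β v₀ ≠ 0) (h : ∀ v, v ≠ v₀ → x v = y v)
    (hs : ∑ v, x v * β v = ∑ v, y v * β v) : x = y := by
  funext v
  by_cases hv : v = v₀
  · subst hv
    rw [← add_sum_erase univ _ (mem_univ v), ← add_sum_erase univ (fun u => y u * β u) (mem_univ v),
      sum_congr rfl fun u hu => by rw [h u (mem_erase.1 hu).1]] at hs
    exact mul_right_cancel₀ h0 (add_right_cancel hs)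
  · exact h v hv

omit [DecidableEq E] in
theorem Good.v0_ne_zero : β (f 0) ≠ 0 := (hG.mult (f 0)).1.ne'

theorem Good.sum_liftAt (x : DualGr.CtrVert ends (univ.image e) → ℤ) :
    ∑ v, liftAt ends (univ.image e) (f 0) x v * β v = ∑ c, x c * ctrFn ends (univ.image e) β c := by
  rw [← sum_fiberwise univ (DualGr.ctrMk ends (univ.image e))]
  refine sum_congr rfl fun c _ => ?_
  obtain ⟨u, rfl⟩ := DualGr.ctrMk_surjective ends (univ.image e) c
  obtain ⟨r, hr, hr'⟩ : ∃ r, DualGr.ctrMk ends (univ.image e) r = DualGr.ctrMk ends (univ.image e) u ∧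
      ∀ v, DualGr.ctrMk ends (univ.image e) v = DualGr.ctrMk ends (univ.image e) u →
        (v = r ↔ ¬ (DualGr.ctrMk ends (univ.image e) v = DualGr.ctrMk ends (univ.image e) (f 0) ∧ v ≠ f 0)) := by
    by_cases hu : u ∈ Set.range f
    · obtain ⟨i, rfl⟩ := hu
      refine ⟨f 0, (mk_range hG.chain i).symm, fun v hv => ?_⟩
      rw [hv, mk_range hG.chain i]
      tauto
    · refine ⟨u, rfl, fun v hv => ?_⟩
      rcases (mk_eq_iff hG.chain v u).1 hv with rfl | ⟨_, h⟩
      · refine iff_of_true rfl fun h => hu ?_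
        rcases (mk_eq_iff hG.chain _ _).1 h.1 with h' | ⟨h', _⟩
        exacts [⟨0, h'.symm⟩, h']
      · exact absurd h hu
  rw [sum_eq_single_of_mem r (mem_filter.2 ⟨mem_univ r, hr⟩) fun v hv hne => ?_]
  · rw [liftAt, if_neg ((hr' r hr).1 rfl), ← hr, ctrFn_mk hG.chain hG.val]
  · rw [liftAt, if_pos (not_not.1 fun h => hne ((hr' v (mem_filter.1 hv).2).2 h)), zero_mul]

theorem Good.liftAt_of_notMem {u : V} (hu : u ∉ Set.range f) (x : DualGr.CtrVert ends (univ.image e) → ℤ) :
    liftAt ends (univ.image e) (f 0) x u = x (DualGr.ctrMk ends (univ.image e) u) := by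
  rw [liftAt, if_neg fun h => hu ?_]
  rcases (mk_eq_iff hG.chain _ _).1 h.1 with h' | ⟨h', _⟩
  exacts [⟨0, h'.symm⟩, h']

theorem Good.liftAt_of_ne {i : Fin (m + 1)} (hi : i ≠ 0) (x : DualGr.CtrVert ends (univ.image e) → ℤ) :
    liftAt ends (univ.image e) (f 0) x (f i) = 0 :=
  if_pos ⟨mk_range hG.chain i, hG.chain.1.ne hi⟩

/-- The potential used to pass between the two graphs. -/
theorem Good.exists_potential : ∃ (G : V → ℤ) (E' : (V → ℤ) → ℤ),
    (∀ i : Fin (m + 1), G (f i) = i.val) ∧
    (∀ u, u ∉ Set.range f → (mfMatrix ends β).mulVec G u = 0) ∧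
    (∀ g : V → ℤ, (mfMatrix ends β).mulVec g (f (Fin.last m)) =
      g (f ⟨m - 1, by omega⟩) - 2 * g (f (Fin.last m)) + E' g) ∧
    (∀ g g' : V → ℤ, ∀ c : ℤ, E' (g + c • g') = E' g + c * E' g') ∧ E' G = m ∧
    (∀ a b : Fin (m + 1), a.val + 2 ≤ b.val → edgeMult ends (f a) (f b) = 0) ∧
    edgeMult ends (f (Fin.last m)) (f ⟨m - 1, by omega⟩) = 1 := by
  have hm := hG.m_pos
  obtain ⟨B, hlast, hbefore, hone, hcross⟩ := exists_side hG.chain hG.conn ⟨m - 1, by omega⟩ (by simp; omega)
  have hprev : (⟨m - 1, by omega⟩ : Fin m).castSucc = (⟨m - 1, by omega⟩ : Fin (m + 1)) := rfl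
  rw [hprev] at hone hcross
  have hB : ∀ u ∈ B, u ∈ Set.range f → u = f (Fin.last m) := by
    rintro u hu ⟨i, rfl⟩
    rcases (show i.val < m ∨ i = Fin.last m from
      (lt_or_eq_of_le (Nat.lt_succ_iff.1 i.2)).imp id fun h => Fin.ext h) with h | h
    exacts [absurd hu (hbefore i h), congrArg f h]
  let G : V → ℤ := fun v => if v ∈ B then β v else ∑ i, if f i = v then (i.val : ℤ) else 0
  have hG0 : ∀ i : Fin (m + 1), G (f i) = i.val := by
    intro i
    simp only [G]
    split_ifs with h
    · rw [hB _ h ⟨i, rfl⟩, hG.val, hG.chain.1 (hB _ h ⟨i, rfl⟩)]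
      simp
    · rw [sum_eq_single i (fun j _ hj => if_neg (hG.chain.1.ne hj)) (by simp), if_pos rfl]
  have hlast' : ∀ g : V → ℤ, offRow ends g (f (Fin.last m)) = g (f ⟨m - 1, by omega⟩) +
      ∑ u ∈ B.erase (f (Fin.last m)), g u * (edgeMult ends (f (Fin.last m)) u : ℤ) := by
    intro g
    have hp : f ⟨m - 1, by omega⟩ ∉ B := hbefore _ (by simp; omega)
    have hsub : insert (f ⟨m - 1, by omega⟩) (B.erase (f (Fin.last m))) ⊆ univ.erase (f (Fin.last m)) := by
      intro u hu
      rcases mem_insert.1 hu with rfl | hu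
      · exact mem_erase.2 ⟨fun h => hp (h ▸ hlast), mem_univ _⟩
      · exact mem_erase.2 ⟨(mem_erase.1 hu).1, mem_univ _⟩
    rw [offRow, ← sum_subset hsub fun u hu hu' => ?_, sum_insert fun h => hp (mem_of_mem_erase h), hone]
    · simp
    · rw [mem_insert, not_or, mem_erase] at hu'
      have huB : u ∉ B := fun h => hu'.2 ⟨(mem_erase.1 hu).1, h⟩
      have : edgeMult ends (f (Fin.last m)) u = 0 := by
        by_contra hne
        exact hu'.1 (hcross _ hlast u huB hne).2
      rw [this, Nat.cast_zero, mul_zero]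
  refine ⟨G, fun g => ∑ u ∈ B.erase (f (Fin.last m)), g u * (edgeMult ends (f (Fin.last m)) u : ℤ), hG0,
    fun u hu => ?_, fun g => ?_, fun g g' c => ?_, ?_, fun a b hab => ?_, hone⟩
  · -- rows outside the chain
    have hcongr : ∀ w, edgeMult ends u w ≠ 0 → w ≠ u →
        (u ∈ B → w ∈ B) ∧ (u ∉ B → w ∉ B) := by
      intro w hw _
      refine ⟨fun h => by_contra fun h' => hu ⟨_, (hcross u h w h' hw).1.symm⟩, fun h h' => ?_⟩
      rw [mult_comm] at hw
      exact hu ⟨_, (hcross w h' u h hw).2.symm⟩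
    by_cases huB : u ∈ B
    · have : offRow ends G u = offRow ends β u := sum_congr rfl fun w hw => by
        by_cases hne : edgeMult ends u w = 0
        · simp [hne]
        · simp only [G, if_pos ((hcongr w hne (mem_erase.1 hw).1).1 huB)]
      rw [mulVec_apply, this]
      simp only [G, if_pos huB]
      rw [diag_mul hG.mult]
      ring
    · have : offRow ends G u = 0 := sum_eq_zero fun w hw => by
        by_cases hne : edgeMult ends u w = 0
        · simp [hne]
        · have hwB := (hcongr w hne (mem_erase.1 hw).1).2 huB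
          simp only [G, if_neg hwB]
          by_cases hwr : w ∈ Set.range f
          · obtain ⟨a, rfl⟩ := hwr
            rcases Nat.eq_zero_or_pos a.val with h | h
            · rw [sum_eq_single a (fun j _ hj => if_neg (hG.chain.1.ne hj)) (by simp), if_pos rfl, h]
              simp
            · exfalso
              rcases lt_or_eq_of_le (Nat.lt_succ_iff.1 a.2) with h' | h'
              · exact hne ((mult_comm u (f a)).trans (hG.int_zero h h' u hu))
              · exact hwB ((congrArg f (Fin.ext h' : a = Fin.last m)) ▸ hlast)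
          · rw [sum_eq_zero fun i _ => if_neg fun h => hwr ⟨i, h⟩, zero_mul]
      rw [mulVec_apply, this]
      simp only [G, if_neg huB]
      rw [sum_eq_zero fun i _ => if_neg fun h => hu ⟨i, h⟩]
      simp
  · rw [mulVec_apply, hG.diag, hlast']; ring
  · simp only [Pi.add_apply, Pi.smul_apply, smul_eq_mul, add_mul, sum_add_distrib, mul_sum, mul_assoc]
  · have h := offRow_beta_chain hG.mult hG.val hG.diag (Fin.last m)
    rw [hlast', hG.val] at h
    have : ∑ u ∈ B.erase (f (Fin.last m)), G u * (edgeMult ends (f (Fin.last m)) u : ℤ) =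
        ∑ u ∈ B.erase (f (Fin.last m)), β u * (edgeMult ends (f (Fin.last m)) u : ℤ) :=
      sum_congr rfl fun u hu => by simp only [G, if_pos (mem_of_mem_erase hu)]
    show ∑ u ∈ B.erase (f (Fin.last m)), G u * (edgeMult ends (f (Fin.last m)) u : ℤ) = m
    linarith
  · rcases lt_or_eq_of_le (Nat.lt_succ_iff.1 b.2) with h | h
    · obtain ⟨b, hb⟩ := b
      simp only at hab h
      have h' := (interior hG.mult hG.chain hG.val hG.diag ⟨b - 1, by omega⟩ ⟨b, h⟩ (by simp; omega) β).2 (f a)
      have e1 : (⟨b - 1, by omega⟩ : Fin m).succ = ⟨b, hb⟩ := Fin.ext (by simp; omega)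
      rw [e1] at h'
      rw [mult_comm]
      refine h' (hG.chain.1.ne fun e => ?_) (hG.chain.1.ne fun e => ?_) (hG.chain.1.ne fun e => ?_) <;>
      · have := congrArg Fin.val e
        simp at this
        omega
    · obtain rfl : b = Fin.last m := Fin.ext h
      simp at hab
      by_contra hne
      rw [mult_comm] at hne
      have := congrArg Fin.val (hG.chain.1 (hcross _ hlast _ (hbefore a (by omega)) hne).2)
      simp at this
      omega

/-- `f ∘ α' = α ∘ h`. -/
theorem Good.lift_range (h' : DualGr.CtrVert ends (univ.image e) → ℤ) :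
    ∃ H : V → ℤ, (mfMatrix ends β).mulVec H = liftAt ends (univ.image e) (f 0)
      ((mfMatrix (DualGr.ctrEnds ends (univ.image e)) (ctrFn ends (univ.image e) β)).mulVec h') := by
  obtain ⟨G, E', hG0, hGout, hlast, hlin, hEG, -, -⟩ := hG.exists_potential
  set P : V → ℤ := fun v => h' (DualGr.ctrMk ends (univ.image e) v) with hP
  set δ : ℤ := E' P - h' (DualGr.ctrMk ends (univ.image e) (f 0)) with hδ
  refine ⟨P + δ • G, ext_ker (f 0) hG.v0_ne_zero (fun v hv => ?_) ?_⟩
  · by_cases hr : v ∈ Set.range f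
    · obtain ⟨i, rfl⟩ := hr
      have hi : i ≠ 0 := fun e => hv (by rw [e])
      rw [hG.liftAt_of_ne hi]
      have hval : ∀ j, (P + δ • G) (f j) = h' (DualGr.ctrMk ends (univ.image e) (f 0)) + δ * j.val := fun j => by
        simp only [Pi.add_apply, Pi.smul_apply, smul_eq_mul, hG0, P, mk_range hG.chain j]
      obtain ⟨i, hi'⟩ := i
      obtain ⟨k, rfl⟩ : ∃ k, i = k + 1 := ⟨i - 1, by
        have : i ≠ 0 := fun e => hi (Fin.ext e)
        omega⟩
      rcases (show k + 2 ≤ m ∨ k + 1 = m by omega) with hk | hk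
      · rw [hG.int_row hk, hval, hval, hval]
        simp only
        push_cast
        ring
      · have e1 : (⟨k + 1, hi'⟩ : Fin (m + 1)) = Fin.last m := Fin.ext hk
        rw [e1, hlast, hlin, hEG, hval, hval, hδ]
        simp only [Fin.val_last]
        rw [show ((m - 1 : ℕ) : ℤ) = (m : ℤ) - 1 by omega]
        ring
    · rw [hG.liftAt_of_notMem hr, mulVec_ctr hG.chain hG.val hr, Matrix.mulVec_add, Matrix.mulVec_smul,
        Pi.add_apply, Pi.smul_apply, hGout v hr, smul_zero, add_zero]
  · rw [sum_beta_mulVec hG.mult, hG.sum_liftAt,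
      sum_beta_mulVec (isMultFn_ctr hG.mult hG.chain fun i j => (hG.val i).trans (hG.val j).symm)]

/-- Injectivity of the induced map. -/
theorem Good.injective (x : DualGr.CtrVert ends (univ.image e) → ℤ)
    (hx : ∑ c, x c * ctrFn ends (univ.image e) β c = 0) (h : V → ℤ)
    (hh : (mfMatrix ends β).mulVec h = liftAt ends (univ.image e) (f 0) x) :
    ∃ h', (mfMatrix (DualGr.ctrEnds ends (univ.image e)) (ctrFn ends (univ.image e) β)).mulVec h' = x := by
  have hm := hG.m_pos
  obtain ⟨G, E', hG0, hGout, -, -, -, -, -⟩ := hG.exists_potential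
  set δ : ℤ := h (f ⟨1, by omega⟩) - h (f 0) with hδ
  have hlinr : ∀ k (hk : k < m + 1), h (f ⟨k, hk⟩) = h (f 0) + δ * k := by
    intro k
    induction k using Nat.twoStepInduction with
    | zero => intro hk; simp
    | one => intro hk; simp [hδ]
    | more k ih1 ih2 =>
      intro hk
      have h0 := congrFun hh (f ⟨k + 1, by omega⟩)
      rw [hG.int_row (show k + 2 ≤ m by omega), hG.liftAt_of_ne (fun e => by simpa using congrArg Fin.val e),
        ih1 (by omega), ih2 (by omega)] at h0
      push_cast at h0 ⊢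
      linarith
  set H : V → ℤ := h + (-δ) • G with hH
  let h' : DualGr.CtrVert ends (univ.image e) → ℤ := fun c => H (Quotient.out (s := DualGr.ctrSetoid ends (univ.image e)) c)
  have hmk : (fun v => h' (DualGr.ctrMk ends (univ.image e) v)) = H := by
    funext v
    rcases (mk_eq_iff hG.chain _ v).1 (Quotient.out_eq (s := DualGr.ctrSetoid ends (univ.image e))
      (DualGr.ctrMk ends (univ.image e) v)) with h1 | ⟨⟨i, hi⟩, j, hj⟩
    · exact congrArg H h1
    · show H _ = H v
      rw [← hi, ← hj, hH]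
      simp only [Pi.add_apply, Pi.smul_apply, smul_eq_mul, hG0, hlinr i.val i.2, hlinr j.val j.2]
      ring
  refine ⟨h', ?_⟩
  have hm' := isMultFn_ctr hG.mult hG.chain fun i j => (hG.val i).trans (hG.val j).symm
  refine ext_ker (β := ctrFn ends (univ.image e) β) (DualGr.ctrMk ends (univ.image e) (f 0))
    (hm' _).1.ne' (fun c hc => ?_) (by rw [sum_beta_mulVec hm', hx])
  obtain ⟨u, rfl⟩ := DualGr.ctrMk_surjective ends (univ.image e) c
  have hu : u ∉ Set.range f := by
    rintro ⟨i, rfl⟩
    exact hc (mk_range hG.chain i)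
  rw [mulVec_ctr hG.chain hG.val hu, hmk, hH, Matrix.mulVec_add, Matrix.mulVec_smul,
    Pi.add_apply, Pi.smul_apply, hGout u hu, smul_zero, add_zero, hh, hG.liftAt_of_notMem hu]

/-- Surjectivity of the induced map. -/
theorem Good.surjective (y : V → ℤ) :
    ∃ h : V → ℤ, ∀ i : Fin (m + 1), i ≠ 0 → y (f i) = (mfMatrix ends β).mulVec h (f i) := by
  obtain ⟨G, E', -, -, -, -, -, hfar, hone⟩ := hG.exists_potential
  have key : ∀ j, j ≤ m → ∃ h : V → ℤ, ∀ i : Fin (m + 1), m + 1 ≤ i.val + j →
      y (f i) = (mfMatrix ends β).mulVec h (f i) := by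
    intro j
    induction j with
    | zero => exact fun _ => ⟨0, fun i hi => by have := i.2; omega⟩
    | succ j ih =>
      intro hj
      obtain ⟨h, hh⟩ := ih (by omega)
      obtain ⟨k, hk⟩ : ∃ k, k + 1 + j = m := ⟨m - 1 - j, by omega⟩
      let a : Fin (m + 1) := ⟨k + 1, by omega⟩
      let b : Fin (m + 1) := ⟨k, by omega⟩
      have hab : edgeMult ends (f a) (f b) = 1 := by
        rcases (show k + 2 ≤ m ∨ k + 1 = m by omega) with hk' | hk'
        · have h1 := hG.int_row hk' (Pi.single (f b) 1)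
          rw [Matrix.mulVec_single_one, Matrix.col_apply, mfMatrix,
            if_neg (hG.chain.1.ne fun e => by have := congrArg Fin.val e; simp [b] at this)] at h1
          rw [Pi.single_eq_same, Pi.single_eq_of_ne (hG.chain.1.ne fun e => by
              have := congrArg Fin.val e; simp [b] at this),
            Pi.single_eq_of_ne (hG.chain.1.ne fun e => by
              have := congrArg Fin.val e; simp [b] at this)] at h1
          simpa using h1
        · have e1 : a = Fin.last m := Fin.ext hk'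
          have e2 : b = ⟨m - 1, by omega⟩ := Fin.ext (show k = m - 1 by omega)
          rw [e1, e2]
          exact hone
      let c : ℤ := y (f a) - (mfMatrix ends β).mulVec h (f a)
      refine ⟨h + c • Pi.single (f b) 1, fun i hi => ?_⟩
      rw [Matrix.mulVec_add, Matrix.mulVec_smul, Matrix.mulVec_single_one, Pi.add_apply, Pi.smul_apply,
        Matrix.col_apply]
      rcases (show i.val = k + 1 ∨ k + 2 ≤ i.val by omega) with h1 | h1
      · obtain rfl : i = a := Fin.ext h1
        rw [mfMatrix, if_neg (hG.chain.1.ne fun e => by have := congrArg Fin.val e; simp [a, b] at this), hab]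
        simp only [smul_eq_mul, Nat.cast_one, mul_one, c]
        ring
      · rw [mfMatrix, if_neg (hG.chain.1.ne fun e => by
          have := congrArg Fin.val e; simp [b] at this; omega), mult_comm, hfar b i (by simpa [b] using h1),
          hh i (by omega)]
        simp
  obtain ⟨h, hh⟩ := key m le_rfl
  exact ⟨h, fun i hi => hh i (by
    have : i.val ≠ 0 := fun e => hi (Fin.ext e)
    omega)⟩

/-- The homomorphism of component groups. -/
theorem Good.exists_hom :
    ∃ φ : CompGrp (DualGr.ctrEnds ends (univ.image e)) (ctrFn ends (univ.image e) β) →+ CompGrp ends β,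
      Function.Surjective φ ∧
      ∀ (x : LinearMap.ker (betaHom (ctrFn ends (univ.image e) β))) (y : LinearMap.ker (betaHom β)),
        (y : V → ℤ) = liftAt ends (univ.image e) (f 0) (x : DualGr.CtrVert ends (univ.image e) → ℤ) →
        φ (Submodule.Quotient.mk x) = Submodule.Quotient.mk y := by
  let L : (DualGr.CtrVert ends (univ.image e) → ℤ) →ₗ[ℤ] (V → ℤ) :=
    { toFun := liftAt ends (univ.image e) (f 0)
      map_add' := fun x y => by funext v; simp only [liftAt, Pi.add_apply]; split_ifs <;> simp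
      map_smul' := fun c x => by funext v; simp only [liftAt, Pi.smul_apply, RingHom.id_apply]; split_ifs <;> simp }
  have hker : ∀ x ∈ LinearMap.ker (betaHom (ctrFn ends (univ.image e) β)), L x ∈ LinearMap.ker (betaHom β) := by
    intro x hx
    rw [LinearMap.mem_ker, betaHom_apply] at hx ⊢
    exact (hG.sum_liftAt x).trans hx
  refine ⟨(Submodule.mapQ _ _ (L.restrict hker) fun x hx => ?_).toAddMonoidHom, fun z => ?_, fun x y hy => ?_⟩
  · obtain ⟨h', hh'⟩ := hx
    obtain ⟨H, hH⟩ := hG.lift_range h'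
    exact ⟨H, hH.trans (congrArg L hh')⟩
  · obtain ⟨y, rfl⟩ := Submodule.Quotient.mk_surjective _ z
    obtain ⟨h, hh⟩ := hG.surjective y.1
    set y' : V → ℤ := y.1 - (mfMatrix ends β).mulVec h with hy'
    have hy0 : ∑ v, y' v * β v = 0 := by
      have h1 := y.2
      rw [LinearMap.mem_ker, betaHom_apply] at h1
      simp only [hy', Pi.sub_apply, sub_mul, sum_sub_distrib, h1, sum_beta_mulVec hG.mult, sub_zero]
    let x0 : DualGr.CtrVert ends (univ.image e) → ℤ :=
      fun c => ∑ v ∈ fib ends (univ.image e) c, y' v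
    have hLx : L x0 = y' := by
      refine ext_ker (f 0) hG.v0_ne_zero (fun v hv => ?_) ?_
      · by_cases hr : v ∈ Set.range f
        · obtain ⟨i, rfl⟩ := hr
          have hi : i ≠ 0 := fun e => hv (by rw [e])
          show liftAt ends (univ.image e) (f 0) x0 _ = _
          rw [hG.liftAt_of_ne hi, hy', Pi.sub_apply, hh i hi, sub_self]
        · show liftAt ends (univ.image e) (f 0) x0 _ = _
          rw [hG.liftAt_of_notMem hr]
          simp only [x0, fib_of_notMem hG.chain hr, sum_singleton]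
      · refine (hG.sum_liftAt x0).trans ?_
        rw [← sum_fiberwise univ (DualGr.ctrMk ends (univ.image e)) (fun v => y' v * β v)]
        refine sum_congr rfl fun c _ => ?_
        simp only [x0, sum_mul]
        exact sum_congr rfl fun v hv => by rw [← (mem_filter.1 hv).2, ctrFn_mk hG.chain hG.val]
    have hx0 : x0 ∈ LinearMap.ker (betaHom (ctrFn ends (univ.image e) β)) := by
      rw [LinearMap.mem_ker, betaHom_apply, ← hG.sum_liftAt]
      rw [show liftAt ends (univ.image e) (f 0) x0 = y' from hLx]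
      exact hy0
    refine ⟨Submodule.Quotient.mk ⟨x0, hx0⟩, (Submodule.Quotient.eq _).2 ⟨-h, ?_⟩⟩
    show (mfMatrix ends β).mulVec (-h) = L x0 - y.1
    rw [hLx, hy', Matrix.mulVec_neg]
    abel
  · show Submodule.Quotient.mk (L.restrict hker x) = _
    exact congrArg _ (Subtype.ext hy.symm)

end Groth.ModelsGraphs.Ctr
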