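import Groth.Agent.ModelsGraphs.GenusFormula

/-!
# Euler characteristic after adding one component
-/

set_option autoImplicit false

universe u

open CategoryTheory CategoryTheory.Limits AlgebraicGeometry TopologicalSpace

namespace Groth.ModelsGraphs.ChiStep

open Groth.ModelsGraphs.InterPair Groth.ModelsGraphs.InterForm Groth.ModelsGraphs.Inter
open Groth.ModelsGraphs.GenusFormula

variable {R : Type u} [CommRing R] [IsDomain R] [IsDiscreteValuationRing R]
  {X : Over (Spec (CommRingCat.of R))}

lemma chi_eq_lengthH (F : X.left.Modules) :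
    ChiR.chi X.hom F = (Models.lengthH R X F 0 : ℤ) - (Models.lengthH R X F 1 : ℤ) := rfl

variable [IsProper X.hom] [Flat X.hom] {n : ℕ} {Γs : Fin n → ArSurf.VertComp R X}
  {L : Fin n → X.left.Modules}

theorem chi_add_single (hreg : Models.IsRegularScheme X.left) (hΓ : Models.IsComponentList R X Γs)
    (hL : ∀ i, ClSub.IsInverseOf (L i) (ClSub.idealMod (Γs i).ι.ker)) (a : Fin n → ℕ) (i : Fin n) :
    ChiR.chi X.hom (ClSub.quotMod (∏ j, (Γs j).ι.ker ^ (a j + if j = i then 1 else 0))) -
        ChiR.chi X.hom (ClSub.quotMod (∏ j, (Γs j).ι.ker ^ a j)) =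
      -(∑ j, (a j : ℤ) * ArSurf.inter R X (L i) (Γs j)) + chiC (Γs i) := by
  let l : List (Fin n) := (List.finRange n).flatMap fun j => List.replicate (a j) j
  have hsum : ∀ f : Fin n → ℤ, (l.map f).sum = ∑ j, (a j : ℤ) * f j := fun f => by
    simp only [l, List.flatMap_def, List.map_flatten, List.map_replicate, List.sum_flatten,
      List.map_map, Function.comp_def, List.sum_replicate, Fin.sum_univ_def, nsmul_eq_mul]
  have hprod : (l.map fun j => (Γs j).ι.ker).prod = ∏ j, (Γs j).ι.ker ^ a j := by
    simp only [l, List.flatMap_def, List.map_flatten, List.map_replicate, List.prod_flatten,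
      List.map_map, Function.comp_def, List.prod_replicate, Fin.prod_univ_def]
  have hstep : (∏ j, (Γs j).ι.ker ^ (a j + if j = i then 1 else 0)) =
      (Γs i).ι.ker * (l.map fun j => (Γs j).ι.ker).prod := by
    rw [hprod]
    simp only [pow_add, Finset.prod_mul_distrib, Finset.prod_pow_boole, Finset.mem_univ, if_true, pow_ite,
      pow_one, pow_zero, Finset.prod_ite_eq']
    rw [mul_comm]
  obtain ⟨-, -, -, h⟩ := chi_list hreg hΓ hL l
  obtain ⟨-, -, -, h'⟩ := chi_list hreg hΓ hL (i :: l)
  simp only [List.map_cons, List.prod_cons, List.sum_cons, List.sum_map_add] at h h'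
  rw [hstep, ← hprod]
  have hsym : (l.map fun j => ArSurf.inter R X (L j) (Γs i)).sum =
      (l.map fun j => ArSurf.inter R X (L i) (Γs j)).sum :=
    congrArg List.sum (List.map_congr_left fun j _ => InterForm.inter_symm hreg hΓ hL i j)
  rw [hsym] at h'
  rw [← hsum]
  linarith

end Groth.ModelsGraphs.ChiStep
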