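import Groth.Agent.Misc14.GraphTree
import Groth.Agent.Misc14.GraphTree2
import Groth.Prelude.Def_W4c2conddiscmodels
import Mathlib

/-! Circuits, spanning trees, potentials and flows in multigraphs. -/

namespace Groth.ModelsGraphs.Circ

open Finset LabGraph PhiStab Groth.Misc14.GraphTree

universe u v
variable {V E : Type u} [Fintype V] [Fintype E] [DecidableEq V] [DecidableEq E]
variable {ends : E → V × V}

/-- The difference of a potential along an edge. -/
def dd (ends : E → V × V) (φ : V → ℤ) (e : E) : ℤ := φ (ends e).1 - φ (ends e).2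

omit [Fintype V] [Fintype E] in
theorem reach_univ [Fintype E] (hG : Connected ends) (v w : V) : Relation.ReflTransGen (AdjIn ends univ) v w :=
  Relation.ReflTransGen.mono (fun a b => (adj_iff ends a b).mp) v w (hG.2 v w)

theorem exists_tree (hG : Connected ends) : ∃ T : Finset E, DualGr.IsTree (spanEnds ends T) := by
  obtain ⟨T, -, hT⟩ := exists_spanning_tree ends univ hG.1 (reach_univ hG)
  exact ⟨T, hT⟩

omit [Fintype V] in
/-- A forest carries a potential with prescribed differences. -/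
theorem forest_potential [Fintype V] (T : Finset E) (hF : DualGr.IsForest (spanEnds ends T)) (val : E → ℤ) :
    ∃ g : V → ℤ, ∀ x ∈ T, dd ends g x = val x := by
  refine ⟨fun v => ∑ y : {e // e ∈ T}, if v ∈ side (spanEnds ends T) y then val y.1 else 0, fun x hx => ?_⟩
  show (∑ y, _) - (∑ y, _) = _
  rw [← sum_sub_distrib, sum_eq_single ⟨x, hx⟩]
  · have h1 := fst_mem_side (spanEnds ends T) ⟨x, hx⟩
    have h2 := snd_notMem_side (spanEnds ends T) hF ⟨x, hx⟩
    simp only [spanEnds] at h1 h2 ⊢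
    rw [if_pos h1, if_neg h2, sub_zero]
  · intro y _ hy
    have h := side_iff (spanEnds ends T) y (f := (⟨x, hx⟩ : {e // e ∈ T})) (fun h => hy h.symm)
    simp only [spanEnds] at h
    rw [if_congr h rfl rfl, sub_self]
  · exact fun h => absurd (mem_univ _) h

omit [Fintype V] in
/-- A path inside `S` is a flow supported on `S`. -/
theorem flow_of_reach {S : Finset E} {r w : V} (h : Relation.ReflTransGen (AdjIn ends S) r w) :
    ∃ x : E → ℤ, (∀ e, e ∉ S → x e = 0) ∧ ∀ φ : V → ℤ, φ r - φ w = ∑ e, x e * dd ends φ e := by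
  induction h with
  | refl => exact ⟨0, fun _ _ => rfl, fun φ => by simp⟩
  | @tail a b _ hab ih =>
    obtain ⟨x, hx0, hx⟩ := ih
    obtain ⟨e, heS, he⟩ := hab
    have hne : ∀ f, f ∉ S → f ≠ e := fun f hf h => hf (h ▸ heS)
    rcases he with he | he
    · refine ⟨x + Pi.single e 1, fun f hf => by simp [hx0 f hf, hne f hf], fun φ => ?_⟩
      simp only [Pi.add_apply, add_mul, sum_add_distrib, Pi.single_apply, ite_mul, one_mul, zero_mul,
        sum_ite_eq', mem_univ, if_true, ← hx]
      simp only [dd, he]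
      ring
    · refine ⟨x - Pi.single e 1, fun f hf => by simp [hx0 f hf, hne f hf], fun φ => ?_⟩
      simp only [Pi.sub_apply, sub_mul, sum_sub_distrib, Pi.single_apply, ite_mul, one_mul, zero_mul,
        sum_ite_eq', mem_univ, if_true, ← hx]
      simp only [dd, he]
      ring

omit [DecidableEq E] in
theorem pair_boundary (γ : E → ℤ) (φ : V → ℤ) :
    ∑ v, φ v * boundary ends γ v = -∑ e, γ e * dd ends φ e := by
  simp only [boundary, mul_sum]
  rw [sum_comm, ← sum_neg_distrib]
  refine sum_congr rfl fun e _ => ?_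
  simp only [mul_sub, mul_ite, mul_zero, sum_sub_distrib, sum_ite_eq, mem_univ, if_true, dd]
  ring

omit [DecidableEq E] in
theorem sum_cycle_dd {γ : E → ℤ} (hγ : ∀ v, boundary ends γ v = 0) (φ : V → ℤ) :
    ∑ e, γ e * dd ends φ e = 0 := by
  have h := pair_boundary (ends := ends) γ φ
  simp [hγ] at h
  linarith

/-- A path bypassing `e` closes to an integer cycle. -/
theorem cycle_of_reach {S : Finset E} {e : E} (he : e ∉ S)
    (h : Relation.ReflTransGen (AdjIn ends S) (ends e).1 (ends e).2) :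
    ∃ γ : E → ℤ, (∀ v, boundary ends γ v = 0) ∧ γ e = 1 ∧ ∀ f, f ∉ S → f ≠ e → γ f = 0 := by
  obtain ⟨x, hx0, hx⟩ := flow_of_reach h
  refine ⟨Pi.single e 1 - x, fun v => ?_, by simp [hx0 e he], fun f hf hne => by simp [hx0 f hf, hne]⟩
  have h1 := pair_boundary (ends := ends) (Pi.single e 1 - x) (fun u => if u = v then 1 else 0)
  simp only [ite_mul, one_mul, zero_mul, sum_ite_eq', mem_univ, if_true, Pi.sub_apply, sub_mul,
    sum_sub_distrib, Pi.single_apply, ← hx] at h1
  simp only [dd] at h1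
  rw [h1, sub_self, neg_zero]

omit [Fintype V] in
/-- Over a connected edge set avoiding `e` there is a circuit through `e`. -/
theorem circuit_of_reach [Fintype V] {T : Finset E} {e : E} (heT : e ∉ T) (hT : DualGr.IsForest (spanEnds ends T))
    (h : Relation.ReflTransGen (AdjIn ends T) (ends e).1 (ends e).2) :
    ∃ C : Finset E, IsCircuit ends C ∧ e ∈ C ∧ C ⊆ insert e T := by
  obtain ⟨C₀, hC₀, hx⟩ := exists_odd_set ends h
  have heC : e ∉ C₀ := fun he => heT (hC₀ he)
  obtain ⟨C, hsub, hcirc⟩ := exists_circuit ends (insert e C₀) ⟨e, mem_insert_self _ _⟩ fun x => by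
    rw [even_endCount_iff, sum_insert heC, hx x]
    exact CharTwo.add_self_eq_zero _
  refine ⟨C, hcirc, ?_, hsub.trans (insert_subset_insert e hC₀)⟩
  by_contra heC'
  obtain ⟨⟨f, hf⟩, hev, -⟩ := hcirc
  have hCT : ∀ g ∈ C, g ∈ T := fun g hg =>
    hC₀ ((mem_insert.1 (hsub hg)).resolve_left fun h => heC' (h ▸ hg))
  have hr := reach_erase_of_even ends hev hf
  refine not_reach_erase (spanEnds ends T) hT ⟨f, hCT f hf⟩ ?_
  refine Relation.ReflTransGen.mono ?_ _ _ hr
  rintro a b ⟨g, hg, hgab⟩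
  exact ⟨⟨g, hCT g (mem_erase.1 hg).2⟩,
    mem_erase.2 ⟨fun h => (mem_erase.1 hg).1 (congrArg Subtype.val h), mem_univ _⟩, hgab⟩

/-- Edge vectors orthogonal to all cycles are differences of potentials. -/
theorem exists_potential_of_orth (hG : Connected ends) (z : E → ℤ)
    (hz : ∀ γ : E → ℤ, (∀ v, boundary ends γ v = 0) → ∑ e, γ e * z e = 0) :
    ∃ φ : V → ℤ, ∀ e, dd ends φ e = z e := by
  obtain ⟨T, hT⟩ := exists_tree hG
  obtain ⟨φ, hφ⟩ := forest_potential T hT.2 z
  refine ⟨φ, fun e => ?_⟩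
  by_cases he : e ∈ T
  · exact hφ e he
  have hr : Relation.ReflTransGen (AdjIn ends T) (ends e).1 (ends e).2 :=
    (reach_spanEnds_iff ends T _ _).1 (hT.1.2 _ _)
  obtain ⟨γ, hγ, hγe, hγ0⟩ := cycle_of_reach he hr
  have h1 := hz γ hγ
  have h2 := sum_cycle_dd hγ φ
  have h3 : ∑ f, γ f * (dd ends φ f - z f) = 0 := by simp only [mul_sub, sum_sub_distrib, h1, h2, sub_zero]
  rw [sum_eq_single e (fun f _ hf => ?_) (fun h => absurd (mem_univ e) h), hγe, one_mul] at h3
  · exact sub_eq_zero.1 h3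
  · by_cases hfT : f ∈ T
    · rw [hφ f hfT, sub_self, mul_zero]
    · rw [hγ0 f hfT hf, zero_mul]

/-- Circuit-coprimality as surjectivity of potentials modulo the labels. -/
theorem exists_decomp_of_coprime (l : E → ℕ) (hl : ∀ e, 0 < l e) (hc : IsCircuitCoprime ends l) (x : E → ℤ) :
    ∃ (φ : V → ℤ) (y : E → ℤ), ∀ e, x e = dd ends φ e + (l e : ℤ) * y e := by
  let I : Ideal ℤ :=
    { carrier := {c | ∃ (φ : V → ℤ) (y : E → ℤ), ∀ e, c * x e = dd ends φ e + (l e : ℤ) * y e}
      add_mem' := fun {a b} ⟨φ, y, h⟩ ⟨φ', y', h'⟩ => ⟨φ + φ', y + y', fun e => by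
        simp only [dd, Pi.add_apply] at h h' ⊢
        linear_combination h e + h' e⟩
      zero_mem' := ⟨0, 0, fun e => by simp [dd]⟩
      smul_mem' := fun c a ⟨φ, y, h⟩ => ⟨c • φ, c • y, fun e => by
        simp only [dd, Pi.smul_apply, smul_eq_mul] at h ⊢
        linear_combination c * h e⟩ }
  suffices h : (1 : ℤ) ∈ I by
    obtain ⟨φ, y, h⟩ := h
    exact ⟨φ, y, fun e => by simpa using h e⟩
  by_contra h1
  have hne : I ≠ ⊤ := fun h => h1 (h ▸ Submodule.mem_top)
  obtain ⟨M, hM, hIM⟩ := I.exists_le_maximal hne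
  obtain ⟨q, hq⟩ := (IsPrincipalIdealRing.principal M).1
  have hqp : M.IsPrime := hM.isPrime
  classical
  let Fd : Finset E := univ.filter fun e => (l e : ℤ) ∈ M
  have hF : DualGr.IsForest (spanEnds ends Fd) := by
    intro C hC
    obtain ⟨⟨f, hf⟩, hev, -⟩ := hC
    obtain ⟨C', hsub, hcirc⟩ := exists_circuit ends (C.map (Function.Embedding.subtype _)) (map_nonempty.2 ⟨f, hf⟩)
      fun v => by
        have h := hev v
        rwa [endCount, sum_map] 
    have hg := hc C' hcirc
    have : (1 : ℤ) ∈ M := by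
      have key : ∀ D : Finset E, D ⊆ Fd → ((D.gcd l : ℕ) : ℤ) ∈ M := by
        intro D
        induction D using Finset.induction with
        | empty => intro _; simp
        | @insert a s ha ih =>
          intro hD
          have h1 := (mem_filter.1 (hD (mem_insert_self a s))).2
          have h2 := ih ((subset_insert a s).trans hD)
          rw [gcd_insert, gcd_eq_nat_gcd, Nat.gcd_eq_gcd_ab]
          exact M.add_mem (M.mul_mem_right _ h1) (M.mul_mem_right _ h2)
      have := key C' fun g hg => by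
        obtain ⟨g', -, rfl⟩ := mem_map.1 (hsub hg)
        exact g'.2
      rwa [hg, Nat.cast_one] at this
    exact hqp.ne_top ((Ideal.eq_top_iff_one M).2 this)
  obtain ⟨φ, hφ⟩ := forest_potential Fd hF x
  let c : ℤ := ∏ e ∈ univ.filter (fun e => e ∉ Fd), (l e : ℤ)
  have hcI : c ∈ I := by
    refine ⟨c • φ, fun e => (c / l e) * (x e - dd ends φ e), fun e => ?_⟩
    by_cases he : e ∈ Fd
    · show c * x e = dd ends (c • φ) e + (l e : ℤ) * (c / (l e : ℤ) * (x e - dd ends φ e))
      rw [hφ e he, sub_self, mul_zero, mul_zero, add_zero, ← hφ e he]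
      simp [dd, mul_sub]
    · have hdvd : (l e : ℤ) ∣ c := dvd_prod_of_mem _ (mem_filter.2 ⟨mem_univ e, he⟩)
      obtain ⟨k, hk⟩ := hdvd
      simp only [dd, Pi.smul_apply, smul_eq_mul, hk, Int.mul_ediv_cancel_left _
        (by exact_mod_cast (hl e).ne' : (l e : ℤ) ≠ 0)]
      ring
  have hcM := hIM hcI
  obtain ⟨e, he, heM⟩ := (hqp.prod_mem_iff).1 hcM
  exact (mem_filter.1 he).2 (mem_filter.2 ⟨mem_univ e, heM⟩)

theorem coprime_of_decomp (l : E → ℕ)
    (h : ∀ x : E → ℤ, ∃ y : E → ℤ, ∀ γ : E → ℤ, (∀ v : V, boundary ends γ v = 0) →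
        ∑ e : E, γ e * (x e - (l e : ℤ) * y e) = 0) :
    IsCircuitCoprime ends l := by
  intro C hC
  obtain ⟨⟨e, he⟩, hev, -⟩ := hC
  obtain ⟨γ, hγ, hγe, hγ0⟩ := cycle_of_reach (notMem_erase e C) (reach_erase_of_even ends hev he)
  obtain ⟨y, hy⟩ := h (Pi.single e 1)
  have h1 := hy γ hγ
  simp only [mul_sub, sum_sub_distrib, Pi.single_apply, mul_ite, mul_one, mul_zero, sum_ite_eq', mem_univ,
    if_true, hγe, sub_eq_zero] at h1
  have hd : ((C.gcd l : ℕ) : ℤ) ∣ 1 := by
    rw [h1]
    refine dvd_sum fun f _ => ?_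
    by_cases hf : f ∈ C
    · exact dvd_mul_of_dvd_right (dvd_mul_of_dvd_left (Int.natCast_dvd_natCast.2 (gcd_dvd hf)) _) _
    · rw [hγ0 f (fun h => hf (mem_erase.1 h).2) (fun h => hf (h ▸ he)), zero_mul]
      exact dvd_zero _
  exact Nat.dvd_one.1 (Int.natCast_dvd_natCast.1 (by exact_mod_cast hd))

theorem coprime_iff (hG : Connected ends) (l : E → ℕ) (hl : ∀ e, 0 < l e) :
    IsCircuitCoprime ends l ↔
      ∀ x : E → ℤ, ∃ y : E → ℤ, ∀ γ : E → ℤ, (∀ v : V, boundary ends γ v = 0) →
        ∑ e : E, γ e * (x e - (l e : ℤ) * y e) = 0 := by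
  refine ⟨fun hc x => ?_, coprime_of_decomp l⟩
  obtain ⟨φ, y, h⟩ := exists_decomp_of_coprime l hl hc x
  refine ⟨y, fun γ hγ => ?_⟩
  simp only [h, add_sub_cancel_right, sum_cycle_dd hγ φ]

theorem mem_circuit_iff (hG : Connected ends) (v : V) :
    (∃ C : Finset E, IsCircuit ends C ∧ endCount ends C v ≠ 0) ↔
      ∃ T : Finset E, IsSpanningTree ends T ∧ ∃ e : E, e ∉ T ∧ ((ends e).1 = v ∨ (ends e).2 = v) := by
  constructor
  · rintro ⟨C, ⟨-, hev, -⟩, hv⟩
    obtain ⟨e, he, hev'⟩ := exists_ne_zero_of_sum_ne_zero hv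
    have hends : (ends e).1 = v ∨ (ends e).2 = v := by
      by_contra h
      push Not at h
      simp [h.1, h.2] at hev'
    have hr : Relation.ReflTransGen (AdjIn ends (univ.erase e)) (ends e).1 (ends e).2 := by
      refine Relation.ReflTransGen.mono ?_ _ _ (reach_erase_of_even ends hev he)
      rintro a b ⟨g, hg, hgab⟩
      exact ⟨g, mem_erase.2 ⟨(mem_erase.1 hg).1, mem_univ _⟩, hgab⟩
    have hall : ∀ a b, Relation.ReflTransGen (AdjIn ends (univ.erase e)) a b := by
      intro a b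
      induction reach_univ hG a b with
      | refl => exact .refl
      | @tail c d _ hcd ih =>
        obtain ⟨g, -, hg⟩ := hcd
        by_cases hge : g = e
        · subst hge
          rcases hg with h | h <;> rw [h] at hr
          · exact ih.trans hr
          · exact ih.trans (reach_symm ends hr)
        · exact ih.tail ⟨g, mem_erase.2 ⟨hge, mem_univ _⟩, hg⟩
    obtain ⟨T, hsub, hT⟩ := exists_spanning_tree ends (univ.erase e) hG.1 hall
    exact ⟨T, hT, e, fun h => (mem_erase.1 (hsub h)).1 rfl, hends⟩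
  · rintro ⟨T, hT, e, he, hv⟩
    obtain ⟨C, hC, heC, -⟩ :=
      circuit_of_reach he hT.2 ((reach_spanEnds_iff ends T _ _).1 (hT.1.2 (ends e).1 (ends e).2))
    refine ⟨C, hC, fun h => ?_⟩
    have := (sum_eq_zero_iff.1 h) e heC
    rcases hv with hv | hv <;> simp [hv] at this

/-- Splitting a Cartier function along labels constant on circuits. -/
theorem exists_label_part {L : Type v} (hG : Connected ends) (lab : E → L)
    (hcirc : ∀ C : Finset E, IsCircuit ends C → ∀ e ∈ C, ∀ e' ∈ C, lab e = lab e') (f : V → ℤ) (c : L) :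
    ∃ g : V → ℤ, ∀ e, (lab e = c → dd ends g e = dd ends f e) ∧ (lab e ≠ c → dd ends g e = 0) := by
  classical
  let z : E → ℤ := fun e => if lab e = c then dd ends f e else 0
  suffices h : ∃ g : V → ℤ, ∀ e, dd ends g e = z e by
    obtain ⟨g, hg⟩ := h
    exact ⟨g, fun e => ⟨fun h => by rw [hg e]; exact if_pos h, fun h => by rw [hg e]; exact if_neg h⟩⟩
  obtain ⟨T, hT⟩ := exists_tree hG
  obtain ⟨φ, hφ⟩ := forest_potential T hT.2 z
  refine ⟨φ, fun e => ?_⟩
  by_cases he : e ∈ T
  · exact hφ e he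
  obtain ⟨C, hC, heC, hsub⟩ :=
    circuit_of_reach he hT.2 ((reach_spanEnds_iff ends T _ _).1 (hT.1.2 (ends e).1 (ends e).2))
  obtain ⟨γ, hγ, hγe, hγ0⟩ := cycle_of_reach (notMem_erase e C) (reach_erase_of_even ends hC.2.1 heC)
  have h2 := sum_cycle_dd hγ φ
  have h4 := sum_cycle_dd hγ f
  have hzf : ∀ g, γ g * z g = (if lab e = c then 1 else 0) * (γ g * dd ends f g) := by
    intro g
    by_cases hg : g ∈ C
    · simp only [z, hcirc C hC g hg e heC]
      split_ifs <;> ring
    · rw [hγ0 g (fun h => hg (mem_erase.1 h).2) (fun h => hg (h ▸ heC))]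
      simp
  have h5 : ∑ g, γ g * z g = 0 := by simp only [hzf, ← mul_sum, h4, mul_zero]
  have h3 : ∑ g, γ g * (dd ends φ g - z g) = 0 := by simp only [mul_sub, sum_sub_distrib, h2, h5, sub_zero]
  rw [sum_eq_single e (fun g _ hg => ?_) (fun h => absurd (mem_univ e) h), hγe, one_mul] at h3
  · exact sub_eq_zero.1 h3
  · by_cases hgC : g ∈ C
    · rw [hφ g ((mem_insert.1 (hsub hgC)).resolve_left hg), sub_self, mul_zero]
    · rw [hγ0 g (fun h => hgC (mem_erase.1 h).2) hg, zero_mul]

omit [DecidableEq E] in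
theorem const_of_dd {g : V → ℤ} (hG : Connected ends) (h : ∀ e, dd ends g e = 0) (v w : V) : g v = g w := by
  induction hG.2 v w with
  | refl => rfl
  | @tail a b _ hab ih =>
    obtain ⟨e, he | he⟩ := hab <;>
    · have := h e
      simp only [dd, he] at this
      linarith

/-- Sums of single-label parts. -/
theorem cartier_decomp {L : Type v} (hG : Connected ends) (lab : E → L) (n : E → ℕ)
    (hcirc : ∀ C : Finset E, IsCircuit ends C → ∀ e ∈ C, ∀ e' ∈ C, lab e = lab e')
    (f : V → ℤ) (hf : IsCartier ends n f) :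
    f ∈ AddSubmonoid.closure {g : V → ℤ | IsCartier ends n g ∧ (∃ B : Finset E, (∀ e ∈ B, ∀ e' ∈ B, lab e = lab e') ∧ ∀ e, e ∉ B → g (ends e).1 = g (ends e).2)} ∧
    ∀ v₀ : V, f v₀ = 0 →
      f ∈ AddSubmonoid.closure {g : V → ℤ | IsCartier ends n g ∧ (∃ B : Finset E, (∀ e ∈ B, ∀ e' ∈ B, lab e = lab e') ∧ ∀ e, e ∉ B → g (ends e).1 = g (ends e).2) ∧ g v₀ = 0} := by
  classical
  have main : ∀ (f : V → ℤ), IsCartier ends n f → ∀ v₀ : V, f v₀ = 0 →
      f ∈ AddSubmonoid.closure {g : V → ℤ | IsCartier ends n g ∧ (∃ B : Finset E, (∀ e ∈ B, ∀ e' ∈ B, lab e = lab e') ∧ ∀ e, e ∉ B → g (ends e).1 = g (ends e).2) ∧ g v₀ = 0} := by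
    intro f hf v₀ h0
    choose G hG' using exists_label_part hG lab hcirc f
    let S := univ.image lab
    let P : L → V → ℤ := fun c v => G c v - G c v₀
    have hP : ∀ c e, dd ends (P c) e = if lab e = c then dd ends f e else 0 := by
      intro c e
      have : dd ends (P c) e = dd ends (G c) e := by simp [dd, P]
      rw [this]
      split_ifs with h
      exacts [(hG' c e).1 h, (hG' c e).2 h]
    have hsum : f = ∑ c ∈ S, P c := by
      funext v
      have hc := const_of_dd hG (g := f - ∑ c ∈ S, P c) (fun e => ?_) v v₀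
      · simp only [Pi.sub_apply, Finset.sum_apply, h0] at hc ⊢
        simp only [P, sub_self, sum_const_zero, sub_zero] at hc ⊢
        linarith
      · have h1 : dd ends (f - ∑ c ∈ S, P c) e = dd ends f e - ∑ c ∈ S, dd ends (P c) e := by
          simp only [dd, Pi.sub_apply, Finset.sum_apply, sum_sub_distrib]
          ring
        rw [h1, sum_congr rfl fun c _ => hP c e, sum_ite_eq, if_pos (mem_image_of_mem lab (mem_univ e)), sub_self]
    rw [hsum]
    refine sum_mem fun c _ => AddSubmonoid.subset_closure ⟨fun e => ?_, ⟨univ.filter (fun e => lab e = c),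
      fun a ha b hb => (mem_filter.1 ha).2.trans (mem_filter.1 hb).2.symm, fun e he => ?_⟩, sub_self _⟩
    · show (n e : ℤ) ∣ dd ends (P c) e
      rw [hP c e]
      split_ifs
      exacts [hf e, dvd_zero _]
    · have := hP c e
      rw [if_neg fun h => he (mem_filter.2 ⟨mem_univ e, h⟩)] at this
      exact sub_eq_zero.1 this
  refine ⟨?_, main f hf⟩
  obtain ⟨r⟩ := hG.1
  have h := main (fun v => f v - f r) (fun e => by simpa using hf e) r (sub_self _)
  rw [show f = (fun v => f v - f r) + fun _ => f r from funext fun v => by simp]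
  refine add_mem (AddSubmonoid.closure_mono (fun g hg => ?_) h)
    (AddSubmonoid.subset_closure ⟨fun e => by simp, ∅, fun a ha => absurd ha (notMem_empty a), fun _ _ => rfl⟩)
  exact ⟨hg.1, hg.2.1⟩

/-- Elementary functions along a chain of moduli span. -/
theorem chain_span (l : E → ℕ) (N : ℕ → ℕ) (hpos : ∀ i, 0 < N i) (hdvd : ∀ i j, i ≤ j → N i ∣ N j) (i : ℕ)
    (g : V → ℤ) (h0 : ∀ v, (N 0 : ℤ) ∣ g v)
    (hstep : ∀ e j, j < i → ¬ l e ∣ N j → (N (j + 1) : ℤ) ∣ dd ends g e)
    (hzero : ∀ e, ¬ l e ∣ N i → dd ends g e = 0) :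
    g ∈ Submodule.span ℤ {g : V → ℤ | ∃ n : ℕ, 0 < n ∧ (∀ v, (n : ℤ) ∣ g v) ∧
      ∀ e, ¬ (l e ∣ n) → g (ends e).1 = g (ends e).2} := by
  induction i generalizing g with
  | zero => exact Submodule.subset_span ⟨N 0, hpos 0, h0, fun e he => sub_eq_zero.1 (hzero e he)⟩
  | succ i ih =>
    let R : V → V → Prop := fun a b => ∃ e, ¬ l e ∣ N i ∧ ends e = (a, b)
    let rep : V → V := fun v => (Quotient.mk (Relation.EqvGen.setoid R) v).out
    have hrel : ∀ v, Relation.EqvGen R (rep v) v := fun v => Quotient.mk_out (s := Relation.EqvGen.setoid R) v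
    have hcong : ∀ a b, Relation.EqvGen R a b → (N (i + 1) : ℤ) ∣ g a - g b := by
      intro a b h
      induction h with
      | rel a b h =>
        obtain ⟨e, he, hab⟩ := h
        have := hstep e i (Nat.lt_succ_self i) he
        rwa [dd, hab] at this
      | refl a => simp
      | symm a b _ h => rw [← neg_sub]; exact dvd_neg.2 h
      | trans a b c _ _ h1 h2 => simpa using dvd_add h1 h2
    let h : V → ℤ := fun v => g (rep v)
    have hh : ∀ e, ¬ l e ∣ N i → dd ends h e = 0 := by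
      intro e he
      have : rep (ends e).1 = rep (ends e).2 := by
        simp only [rep]
        rw [Quotient.sound (s := Relation.EqvGen.setoid R) (Relation.EqvGen.rel _ _ ⟨e, he, rfl⟩)]
      simp [dd, h, this]
    have hgh : ∀ v, (N (i + 1) : ℤ) ∣ g v - h v := fun v => hcong _ _ (Relation.EqvGen.symm _ _ (hrel v))
    have h1 : h ∈ Submodule.span ℤ {g : V → ℤ | ∃ n : ℕ, 0 < n ∧ (∀ v, (n : ℤ) ∣ g v) ∧
        ∀ e, ¬ (l e ∣ n) → g (ends e).1 = g (ends e).2} := by
      refine ih h (fun v => h0 _) (fun e j hj he => ?_) hh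
      have h2 := hstep e j (hj.trans (Nat.lt_succ_self i)) he
      have h3 : (N (j + 1) : ℤ) ∣ (N (i + 1) : ℤ) := Int.natCast_dvd_natCast.2 (hdvd _ _ (by omega))
      have h4 := dvd_sub (h3.trans (hgh (ends e).1)) (h3.trans (hgh (ends e).2))
      have h5 := dvd_sub h2 h4
      simp only [dd] at h5
      show _ ∣ h (ends e).1 - h (ends e).2
      rwa [show h (ends e).1 - h (ends e).2 = g (ends e).1 - g (ends e).2 -
        (g (ends e).1 - h (ends e).1 - (g (ends e).2 - h (ends e).2)) by ring]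
    have h2 : g - h ∈ {g : V → ℤ | ∃ n : ℕ, 0 < n ∧ (∀ v, (n : ℤ) ∣ g v) ∧
        ∀ e, ¬ (l e ∣ n) → g (ends e).1 = g (ends e).2} := by
      refine ⟨N (i + 1), hpos _, hgh, fun e he => ?_⟩
      have a := hzero e he
      have b := hh e fun hd => he (hd.trans (hdvd _ _ (Nat.le_succ i)))
      simp only [dd] at a b
      simp only [Pi.sub_apply]
      linarith
    have := Submodule.add_mem _ (Submodule.subset_span h2) h1
    rwa [sub_add_cancel] at this

omit [DecidableEq E] in
/-- Cartier functions are spanned by elementary ones. -/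
theorem cartier_span (l : E → ℕ) (hl : ∀ e, 0 < l e) (f : V → ℤ) (hf : IsCartier ends l f) :
    f ∈ Submodule.span ℤ {g : V → ℤ | ∃ n : ℕ, 0 < n ∧ (∀ v, (n : ℤ) ∣ g v) ∧
      ∀ e, ¬ (l e ∣ n) → g (ends e).1 = g (ends e).2} := by
  classical
  set P := Submodule.span ℤ {g : V → ℤ | ∃ n : ℕ, 0 < n ∧ (∀ v, (n : ℤ) ∣ g v) ∧
      ∀ e, ¬ (l e ∣ n) → g (ends e).1 = g (ends e).2}
  let I : Ideal ℤ :=
    { carrier := {c | c • f ∈ P}
      add_mem' := fun {a b} ha hb => by show (a + b) • f ∈ P; rw [add_smul]; exact P.add_mem ha hb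
      zero_mem' := by show (0 : ℤ) • f ∈ P; rw [zero_smul]; exact P.zero_mem
      smul_mem' := fun c a ha => by show (c * a) • f ∈ P; rw [mul_smul]; exact P.smul_mem c ha }
  suffices h : (1 : ℤ) ∈ I by
    have h1 : (1 : ℤ) • f ∈ P := h
    rwa [one_smul] at h1
  set M := ∏ e, l e
  have hM : 0 < M := prod_pos fun e _ => hl e
  have key : ∀ p : ℕ, p.Prime → ((M / p ^ M.factorization p : ℕ) : ℤ) ∈ I := by
    intro p hp
    set a := M.factorization p
    set M' := M / p ^ a
    have hMM : M' * p ^ a = M := Nat.div_mul_cancel (Nat.ordProj_dvd M p)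
    have hM' : 0 < M' := Nat.pos_of_ne_zero fun h => by rw [h, zero_mul] at hMM; omega
    show ((M' : ℤ) • f) ∈ P
    refine chain_span l (fun i => M' * p ^ i) (fun i => mul_pos hM' (pow_pos hp.pos i))
      (fun i j hij => Nat.mul_dvd_mul_left _ (pow_dvd_pow p hij)) a _
      (fun v => by simp) (fun e j hj he => ?_) (fun e he => absurd ?_ he)
    · have hld : l e ∣ M' * p ^ a := by rw [hMM]; exact dvd_prod_of_mem l (mem_univ e)
      obtain ⟨l1, l2, h1, h2, h12⟩ := Nat.dvd_mul.1 hld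
      obtain ⟨b, -, rfl⟩ := (Nat.dvd_prime_pow hp).1 h2
      have hb : j + 1 ≤ b := by
        by_contra hb
        exact he (h12 ▸ Nat.mul_dvd_mul h1 (pow_dvd_pow p (by omega)))
      have hpl : ((p ^ (j + 1) : ℕ) : ℤ) ∣ (l e : ℤ) :=
        Int.natCast_dvd_natCast.2 (h12 ▸ Dvd.dvd.mul_left (pow_dvd_pow p hb) l1)
      have hd : dd ends ((M' : ℤ) • f) e = (M' : ℤ) * dd ends f e := by
        simp only [dd, Pi.smul_apply, smul_eq_mul]; ring
      rw [hd, Nat.cast_mul]
      exact mul_dvd_mul_left _ (hpl.trans (hf e))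
    · rw [hMM]; exact dvd_prod_of_mem l (mem_univ e)
  by_contra h1
  obtain ⟨Q, hQ, hIQ⟩ := I.exists_le_maximal fun h => h1 (h ▸ Submodule.mem_top)
  obtain ⟨q, hq⟩ := (IsPrincipalIdealRing.principal Q).1
  rw [← Ideal.span] at hq
  by_cases hq0 : q = 0
  · have h2 := hIQ (key 2 Nat.prime_two)
    rw [hq, hq0, Ideal.span_singleton_zero, Ideal.mem_bot, Nat.cast_eq_zero] at h2
    exact (Nat.ordCompl_pos 2 hM.ne').ne' h2
  · have hp : Prime q := (Ideal.span_singleton_prime hq0).1 (hq ▸ hQ.isPrime)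
    have hnp : q.natAbs.Prime := Int.prime_iff_natAbs_prime.1 hp
    have h2 := hIQ (key _ hnp)
    rw [hq, Ideal.mem_span_singleton, ← Int.natAbs_dvd, Int.natCast_dvd_natCast] at h2
    exact Nat.not_dvd_ordCompl hnp hM.ne' h2

end Groth.ModelsGraphs.Circ
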