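import Groth.Agent.ModelsGraphs.GlobalFunctions
import Groth.Agent.PropsBasic2.LocNoethScheme
import Groth.Agent.Variety2.Normal
import Groth.Agent.VarietyBC.SmoothChart
import Mathlib.RingTheory.Flat.Basic

/-!
# Proper flat schemes over a DVR with reduced connected special fibre

Sections vanishing on the special fibre are divisible by a uniformizer; when the residue field is
algebraically closed, the generic fibre is smooth and the special fibre is reduced and connected,
global functions are constant and the geometric generic fibre is integral.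
-/

universe u

open CategoryTheory CategoryTheory.Limits AlgebraicGeometry Opposite TopologicalSpace

namespace Groth.ModelsGraphs.DVRFibre

variable {R : Type u} [CommRing R] {X : Scheme.{u}} (f : X ⟶ Spec (CommRingCat.of R))

/-- The ring map from `R` to global functions. -/
noncomputable abbrev gl : R →+* Γ(X, ⊤) := Coh.toGlobal f

/-- The ring map from `R` to sections over an open. -/
noncomputable def ψ (W : X.Opens) : R →+* Γ(X, W) :=
  (X.presheaf.map (homOfLE (le_top : W ≤ ⊤)).op).hom.comp (gl f)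

lemma ψ_top (r : R) : ψ f ⊤ r = gl f r := by
  change X.presheaf.map (𝟙 _) (gl f r) = _
  rw [X.presheaf.map_id]
  rfl

lemma ψ_res {W V : X.Opens} (h : V ≤ W) (r : R) :
    X.presheaf.map (homOfLE h).op (ψ f W r) = ψ f V r := by
  change (X.presheaf.map _ ≫ X.presheaf.map _) (gl f r) = _
  rw [← X.presheaf.map_comp]
  rfl

lemma ψ_eq_appLE (W : X.Opens) (r : R) :
    ψ f W r = f.appLE ⊤ W le_top ((Scheme.ΓSpecIso (CommRingCat.of R)).inv r) := rfl

section Flat

variable [Flat f]

lemma eq_zero_of_mul_eq_zero {s : R} (hs : IsSMulRegular R s) (W : X.Opens) (a : Γ(X, W))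
    (ha : ψ f W s * a = 0) : a = 0 := by
  refine TopCat.Sheaf.eq_of_locally_eq' X.sheaf
    (fun V : {V : X.affineOpens // V.1 ≤ W} => V.1.1) W (fun V => homOfLE V.2) ?_ a 0 fun V => ?_
  · intro x hx
    obtain ⟨_, ⟨V, hV, rfl⟩, hxV, hVW⟩ := X.isBasis_affineOpens.exists_subset_of_mem_open
      (SetLike.mem_coe.mpr hx) W.isOpen
    exact Opens.mem_iSup.2 ⟨⟨⟨V, hV⟩, hVW⟩, hxV⟩
  letI := (ψ f V.1.1).toAlgebra
  haveI : Module.Flat R Γ(X, V.1.1) := by
    have h1 := f.flat_appLE (isAffineOpen_top _) V.1.2 (le_top : V.1.1 ≤ f ⁻¹ᵁ ⊤)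
    have h2 : ((Scheme.ΓSpecIso (CommRingCat.of R)).inv.hom).Flat :=
      RingHom.Flat.of_bijective (ConcreteCategory.bijective_of_isIso _)
    have h3 := RingHom.Flat.comp h2 h1
    have h4 : ψ f V.1.1 = (f.appLE ⊤ V.1.1 le_top).hom.comp
        (Scheme.ΓSpecIso (CommRingCat.of R)).inv.hom := RingHom.ext (ψ_eq_appLE f V.1.1)
    exact RingHom.flat_algebraMap_iff.mp (show RingHom.Flat (ψ f V.1.1) from h4 ▸ h3)
  have hreg : IsSMulRegular Γ(X, V.1.1) s := hs.of_flat
  change X.presheaf.map (homOfLE V.2).op a = X.presheaf.map (homOfLE V.2).op 0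
  refine (hreg (a₁ := _) (a₂ := 0) ?_).trans (map_zero _).symm
  change s • _ = s • (0 : Γ(X, V.1.1))
  rw [smul_zero]
  change ψ f V.1.1 s * X.presheaf.map (homOfLE V.2).op a = 0
  rw [← ψ_res f V.2, ← map_mul, ha, map_zero]

end Flat

section Special

variable [IsLocalRing R] {Xs : Scheme.{u}} {gs : Xs ⟶ X}
  {fs : Xs ⟶ Spec (CommRingCat.of (IsLocalRing.ResidueField R))}
  (hs : IsPullback gs fs f (Spec.map (CommRingCat.ofHom (IsLocalRing.residue R))))
  {π : R} (hπ : IsLocalRing.maximalIdeal R = Ideal.span {π})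

include hs hπ

/-- A section on an affine open vanishing on the special fibre is divisible by `π`. -/
lemma dvd_of_appLE_eq_zero {W : X.Opens} (hW : IsAffineOpen W) (a : Γ(X, W))
    (ha : gs.appLE W (gs ⁻¹ᵁ W) le_rfl a = 0) : ψ f W π ∣ a := by
  let I : Ideal Γ(X, W) := Ideal.span {ψ f W π}
  let q : Γ(X, W) ⟶ CommRingCat.of (Γ(X, W) ⧸ I) := CommRingCat.ofHom (Ideal.Quotient.mk I)
  let l₀ : IsLocalRing.ResidueField R →+* Γ(X, W) ⧸ I :=
    Ideal.Quotient.lift (IsLocalRing.maximalIdeal R) ((Ideal.Quotient.mk I).comp (ψ f W)) (by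
      intro r hr
      rw [hπ, Ideal.mem_span_singleton] at hr
      obtain ⟨c, rfl⟩ := hr
      rw [RingHom.comp_apply, Ideal.Quotient.eq_zero_iff_mem, map_mul]
      exact I.mul_mem_right _ (Ideal.subset_span rfl))
  let l : Γ(Spec (CommRingCat.of (IsLocalRing.ResidueField R)), ⊤) ⟶ CommRingCat.of (Γ(X, W) ⧸ I) :=
    (Scheme.ΓSpecIso _).hom ≫ CommRingCat.ofHom l₀
  let j := Spec.map (CommRingCat.ofHom (IsLocalRing.residue R))
  have hw : f.appLE ⊤ W le_top ≫ q = j.appLE ⊤ ⊤ le_top ≫ l := by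
    rw [← cancel_epi (Scheme.ΓSpecIso (CommRingCat.of R)).inv]
    ext r
    have h1 : j.appLE ⊤ ⊤ le_top ((Scheme.ΓSpecIso (CommRingCat.of R)).inv r) =
        (Scheme.ΓSpecIso _).inv (IsLocalRing.residue R r) := by
      have h := congr($(Scheme.ΓSpecIso_inv_naturality (CommRingCat.ofHom (IsLocalRing.residue R))) r)
      have hj : j.appLE ⊤ ⊤ le_top = j.appTop := by simp [Scheme.Hom.appLE]
      rw [hj]
      exact h.symm
    change q (ψ f W r) = l (j.appLE ⊤ ⊤ le_top ((Scheme.ΓSpecIso (CommRingCat.of R)).inv r))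
    rw [h1]
    change q (ψ f W r) = CommRingCat.ofHom l₀
      ((Scheme.ΓSpecIso _).hom ((Scheme.ΓSpecIso _).inv (IsLocalRing.residue R r)))
    exact congrArg (CommRingCat.ofHom l₀)
      (congr($((Scheme.ΓSpecIso (CommRingCat.of (IsLocalRing.ResidueField R))).inv_hom_id)
        (IsLocalRing.residue R r))).symm
  haveI hiso := isIso_pushoutSection_of_isAffineOpen hs (US := ⊤) (UX := W) (UT := ⊤)
    le_top le_top (UY := gs ⁻¹ᵁ W) (by simp) (isAffineOpen_top _) (isAffineOpen_top _) hW
  have h0 : pushout.inl (f.appLE ⊤ W le_top) (j.appLE ⊤ ⊤ le_top) a = 0 := by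
    apply (ConcreteCategory.bijective_of_isIso (pushoutSection hs (US := ⊤) (UX := W) (UT := ⊤)
      (le_top : (⊤ : (Spec (CommRingCat.of (IsLocalRing.ResidueField R))).Opens) ≤ j ⁻¹ᵁ ⊤)
      (le_top : W ≤ f ⁻¹ᵁ ⊤) (UY := gs ⁻¹ᵁ W) _)).1
    rw [map_zero, ← CommRingCat.comp_apply, pushout.inl_desc]
    exact ha
  have h1 : q a = 0 := by
    have h2 := congr($(pushout.inl_desc q l hw) a)
    rw [CommRingCat.comp_apply, h0, map_zero] at h2
    exact h2.symm
  exact Ideal.mem_span_singleton.mp (Ideal.Quotient.eq_zero_iff_mem.mp h1)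

/-- A global function vanishing on the special fibre is divisible by `π`. -/
lemma exists_eq_mul_of_appTop_eq_zero [Flat f] (hreg : IsSMulRegular R π) (a : Γ(X, ⊤))
    (ha : gs.appTop a = 0) : ∃ b, a = gl f π * b := by
  have hloc : ∀ W : X.affineOpens, ∃ b : Γ(X, W.1),
      X.presheaf.map (homOfLE (le_top : W.1 ≤ ⊤)).op a = ψ f W.1 π * b := by
    intro W
    refine dvd_of_appLE_eq_zero f hs hπ W.2 _ ?_
    rw [← CommRingCat.comp_apply, Scheme.Hom.map_appLE, Scheme.Hom.appLE, CommRingCat.comp_apply]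
    erw [ha]
    exact map_zero _
  choose b hb using hloc
  obtain ⟨c, hc, -⟩ := TopCat.Sheaf.existsUnique_gluing' X.sheaf
    (fun W : X.affineOpens => W.1) ⊤ (fun W => homOfLE le_top) (iSup_affineOpens_eq_top X).ge b
    (fun V W => by
      refine sub_eq_zero.mp (eq_zero_of_mul_eq_zero f hreg (V.1 ⊓ W.1) _ ?_)
      change ψ f (V.1 ⊓ W.1) π * (X.presheaf.map (homOfLE inf_le_left).op (b V) -
        X.presheaf.map (homOfLE inf_le_right).op (b W)) = 0
      refine (mul_sub _ _ _).trans (sub_eq_zero.mpr ?_)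
      have key : ∀ (T : X.affineOpens) (O : X.Opens) (h : O ≤ T.1),
          ψ f O π * X.presheaf.map (homOfLE h).op (b T) =
            X.presheaf.map (homOfLE (le_top : O ≤ ⊤)).op a := by
        intro T O h
        rw [← ψ_res f h, ← map_mul, ← hb, ← CommRingCat.comp_apply, ← X.presheaf.map_comp]
        rfl
      exact (key V _ inf_le_left).trans (key W _ inf_le_right).symm)
  let c : Γ(X, ⊤) := c
  refine ⟨c, TopCat.Sheaf.eq_of_locally_eq' X.sheaf (fun W : X.affineOpens => W.1) ⊤
    (fun W => homOfLE le_top) (iSup_affineOpens_eq_top X).ge _ _ fun W => ?_⟩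
  change X.presheaf.map (homOfLE le_top).op a = X.presheaf.map (homOfLE le_top).op (_ * c)
  rw [map_mul, hb]
  exact congrArg (ψ f W.1 π * ·) (hc W).symm

/-- The kernel of the stalk map to the special fibre is generated by `π`. -/
lemma dvd_of_stalkMap_eq_zero (ξ : Xs) (b : X.presheaf.stalk (gs.base ξ))
    (hb : gs.stalkMap ξ b = 0) :
    (X.presheaf.germ ⊤ (gs.base ξ) trivial).hom (gl f π) ∣ b := by
  obtain ⟨U, hxU, a, rfl⟩ := TopCat.Presheaf.exists_germ_eq X.presheaf b
  have hb' : Xs.presheaf.germ (gs ⁻¹ᵁ U) ξ hxU (gs.app U a) = 0 :=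
    (Scheme.Hom.germ_stalkMap_apply gs U ξ hxU a).symm.trans hb
  rw [← (Xs.presheaf.germ (gs ⁻¹ᵁ U) ξ hxU).hom.map_zero] at hb'
  obtain ⟨O, hξO, i₁, i₂, hO⟩ := TopCat.Presheaf.germ_eq Xs.presheaf ξ hxU hxU _ _ hb'
  haveI : IsClosedImmersion (Spec.map (CommRingCat.ofHom (IsLocalRing.residue R))) :=
    IsClosedImmersion.spec_of_surjective _ IsLocalRing.residue_surjective
  haveI : IsClosedImmersion gs := MorphismProperty.of_isPullback hs.flip inferInstance
  obtain ⟨O', hO', hOO'⟩ := gs.isClosedEmbedding.isInducing.isOpen_iff.mp O.isOpen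
  have hxO' : gs.base ξ ∈ O' := by
    have : ξ ∈ gs.base ⁻¹' O' := by rw [hOO']; exact hξO
    exact this
  obtain ⟨_, ⟨W, hW, rfl⟩, hxW, hWs⟩ := X.isBasis_affineOpens.exists_subset_of_mem_open
    (show gs.base ξ ∈ (U ⊓ ⟨O', hO'⟩ : X.Opens) from ⟨hxU, hxO'⟩) (U ⊓ ⟨O', hO'⟩ : X.Opens).isOpen
  have hWU : W ≤ U := fun y hy => (hWs hy).1
  have hWO : gs ⁻¹ᵁ W ≤ O := fun y hy => by
    have : y ∈ gs.base ⁻¹' O' := (hWs hy).2
    rw [hOO'] at this
    exact this
  have h0 : gs.appLE W (gs ⁻¹ᵁ W) le_rfl (X.presheaf.map (homOfLE hWU).op a) = 0 := by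
    rw [← CommRingCat.comp_apply, Scheme.Hom.map_appLE, Scheme.Hom.appLE, CommRingCat.comp_apply]
    have h1 : Xs.presheaf.map (homOfLE (gs.preimage_mono hWU)).op (gs.app U a) =
        Xs.presheaf.map (homOfLE hWO).op (Xs.presheaf.map i₁.op (gs.app U a)) := by
      rw [← CommRingCat.comp_apply (Xs.presheaf.map i₁.op), ← Xs.presheaf.map_comp]
      rfl
    refine h1.trans ?_
    rw [hO, map_zero, map_zero]
  obtain ⟨c, hc⟩ := dvd_of_appLE_eq_zero f hs hπ hW _ h0
  refine ⟨X.presheaf.germ W _ hxW c, ?_⟩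
  rw [← TopCat.Presheaf.germ_res_apply X.presheaf (homOfLE hWU) _ hxW a, hc, map_mul,
    ← TopCat.Presheaf.germ_res_apply X.presheaf (homOfLE (le_top : W ≤ ⊤)) _ hxW]
  rfl

end Special

section Main

variable [IsDomain R] [IsDiscreteValuationRing R]

/-- Elements of a field algebraic over `R` divisible by all powers of `π` by integral elements
are zero. -/
lemma eq_zero_of_forall_eq_mul {F : Type u} [Field F] [Algebra R F] [FaithfulSMul R F]
    [Algebra.IsAlgebraic R F] {π : R} (hπ : Irreducible π) (x : F)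
    (h : ∀ n : ℕ, ∃ y, IsIntegral R y ∧ x = algebraMap R F π ^ n * y) : x = 0 := by
  by_contra hx
  obtain ⟨s, hs0, hs⟩ := IsAlgebraic.exists_integral_multiple (Algebra.IsAlgebraic.isAlgebraic (R := R) x⁻¹)
  obtain ⟨e, w, rfl⟩ := IsDiscreteValuationRing.eq_unit_mul_pow_irreducible hs0 hπ
  obtain ⟨y, hy, hxy⟩ := h (e + 1)
  have hπF : algebraMap R F π ≠ 0 := by
    rw [Ne, map_eq_zero_iff _ (FaithfulSMul.algebraMap_injective R F)]
    exact hπ.ne_zero
  -- `π⁻¹` would be integral
  have hint : IsIntegral R ((algebraMap R F π)⁻¹) := by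
    have h1 : (algebraMap R F π)⁻¹ = algebraMap R F (↑w⁻¹) *
        (((↑w * π ^ e : R) • x⁻¹) * y) := by
      rw [Algebra.smul_def, map_mul, map_pow]
      have : algebraMap R F ↑w⁻¹ * algebraMap R F ↑w = 1 := by
        rw [← map_mul, Units.inv_mul, map_one]
      have hy0 : y ≠ 0 := fun h0 => hx (by rw [hxy, h0, mul_zero])
      rw [hxy]
      field_simp
      linear_combination (-(algebraMap R F π * algebraMap R F π ^ e)) * this
    rw [h1]
    exact isIntegral_algebraMap.mul (hs.mul hy)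
  haveI : IsIntegrallyClosed R := inferInstance
  obtain ⟨K, _, _, _⟩ : ∃ (K : Type u) (_ : Field K) (_ : Algebra R K), IsFractionRing R K :=
    ⟨FractionRing R, inferInstance, inferInstance, inferInstance⟩
  let ι : K →ₐ[R] F := IsFractionRing.liftAlgHom (K := K) (g := Algebra.ofId R F) (FaithfulSMul.algebraMap_injective R F)
  have h2 : IsIntegral R ((algebraMap R K π)⁻¹) := by
    rw [← isIntegral_algHom_iff ι ι.toRingHom.injective, map_inv₀, AlgHom.commutes]
    exact hint
  obtain ⟨c, hc⟩ := IsIntegrallyClosed.algebraMap_eq_of_integral h2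
  apply hπ.not_isUnit
  refine IsUnit.of_mul_eq_one (a := π) c (IsFractionRing.injective R K ?_)
  rw [map_mul, hc, map_one, mul_inv_cancel₀]
  rw [Ne, map_eq_zero_iff _ (IsFractionRing.injective R K)]
  exact hπ.ne_zero

variable [IsAlgClosed (IsLocalRing.ResidueField R)] [IsProper f] [Flat f]
  {Xs : Scheme.{u}} {gs : Xs ⟶ X} {fs : Xs ⟶ Spec (CommRingCat.of (IsLocalRing.ResidueField R))}
  (hs : IsPullback gs fs f (Spec.map (CommRingCat.ofHom (IsLocalRing.residue R))))
  [ConnectedSpace Xs] [IsReduced Xs]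

include hs

/-- Global functions are constant modulo every power of a uniformizer. -/
lemma exists_sub_eq_mul {π : R} (hπ : Irreducible π) : ∀ (n : ℕ) (a : Γ(X, ⊤)),
    ∃ (r : R) (b : Γ(X, ⊤)), a = gl f r + gl f π ^ n * b
  | 0, a => ⟨0, a, by simp⟩
  | n + 1, a => by
    obtain ⟨r, b, rfl⟩ := exists_sub_eq_mul hπ n a
    haveI : IsProper fs := MorphismProperty.of_isPullback hs inferInstance
    let k := IsLocalRing.ResidueField R
    letI : Algebra k Γ(Xs, ⊤) :=
      (fs.appTop.hom.comp (Scheme.ΓSpecIso (CommRingCat.of k)).inv.hom).toAlgebra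
    haveI : Nonempty (⊤ : Xs.Opens) := ⟨⟨Classical.arbitrary Xs, trivial⟩⟩
    obtain ⟨q, hq, hqb⟩ := isIntegral_appTop_of_universallyClosed fs (gs.appTop b)
    obtain ⟨c, -, hc⟩ := GlobalFun.exists_eq_of_aeval_eq_zero (E := k)
      (GlobalFun.eq_zero_or_one_of_idem (P := Xs)) (gs.appTop b)
      (q.map (Scheme.ΓSpecIso (CommRingCat.of k)).hom.hom) (hq.map _) (by
        rw [Polynomial.aeval_def, Polynomial.eval₂_map]
        have : (algebraMap k Γ(Xs, ⊤)).comp (Scheme.ΓSpecIso (CommRingCat.of k)).hom.hom =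
            fs.appTop.hom := by
          ext t
          exact congrArg fs.appTop (congr($((Scheme.ΓSpecIso (CommRingCat.of k)).hom_inv_id) t))
        rw [this]
        exact hqb)
    obtain ⟨r', rfl⟩ := IsLocalRing.residue_surjective c
    have hg : gs.appTop (gl f r') = algebraMap k Γ(Xs, ⊤) (IsLocalRing.residue R r') := by
      change (f.appTop ≫ gs.appTop) _ = _
      rw [← Scheme.Hom.comp_appTop, hs.w, Scheme.Hom.comp_appTop, CommRingCat.comp_apply]
      exact congrArg fs.appTop
        (congr($(Scheme.ΓSpecIso_inv_naturality (CommRingCat.ofHom (IsLocalRing.residue R))) r')).symm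
    obtain ⟨b', hb'⟩ := exists_eq_mul_of_appTop_eq_zero f hs hπ.maximalIdeal_eq
      (isSMulRegular_iff_right_eq_zero_of_smul.mpr fun m hm =>
        (mul_eq_zero.mp hm).resolve_left hπ.ne_zero)
      (b - gl f r') (by rw [map_sub, hg, hc, sub_self])
    refine ⟨r + π ^ n * r', b', ?_⟩
    rw [map_add, map_mul, map_pow, pow_succ]
    linear_combination gl f π ^ n * hb'

variable {XK : Scheme.{u}} {gK : XK ⟶ X} {fK : XK ⟶ Spec (CommRingCat.of (FractionRing R))}
  (hK : IsPullback gK fK f (Spec.map (CommRingCat.ofHom (algebraMap R (FractionRing R)))))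
  [Smooth fK] [ConnectedSpace XK]

include hK

/-- Global functions are constant. -/
theorem toGlobal_bijective : Function.Bijective (Coh.toGlobal f) := by
  let K := FractionRing R
  let F := AlgebraicClosure K
  let j : Spec (CommRingCat.of K) ⟶ Spec (CommRingCat.of R) :=
    Spec.map (CommRingCat.ofHom (algebraMap R K))
  let jF : Spec (CommRingCat.of F) ⟶ Spec (CommRingCat.of K) :=
    Spec.map (CommRingCat.ofHom (algebraMap K F))
  let P := pullback fK jF
  haveI := Groth.AlgGrp1.geometricallyReduced_of_smooth fK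
  haveI hPr : IsReduced P :=
    GeometricallyReduced.geometrically_isReduced (f := fK) jF (pullback.fst fK jF)
      (pullback.snd fK jF) (IsPullback.of_hasPullback fK jF)
  haveI : IsProper fK := MorphismProperty.of_isPullback hK inferInstance
  haveI : CompactSpace XK := QuasiCompact.compactSpace_of_compactSpace fK
  haveI : Flat jF := (HasRingHomProperty.Spec_iff (P := @Flat)).mpr
    (RingHom.flat_algebraMap_iff.mpr inferInstance)
  haveI : Nonempty (⊤ : XK.Opens) := ⟨⟨Classical.arbitrary XK, trivial⟩⟩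
  let φK : K →+* Γ(XK, ⊤) := fK.appTop.hom.comp (Scheme.ΓSpecIso (CommRingCat.of K)).inv.hom
  letI : Algebra K Γ(XK, ⊤) := φK.toAlgebra
  let φF : F →+* Γ(P, ⊤) :=
    (pullback.snd fK jF).appTop.hom.comp (Scheme.ΓSpecIso (CommRingCat.of F)).inv.hom
  have hKF : (pullback.fst fK jF).appTop.hom.comp φK = φF.comp (algebraMap K F) := by
    ext c
    change (fK.appTop ≫ (pullback.fst fK jF).appTop) _ = (pullback.snd fK jF).appTop _
    rw [← Scheme.Hom.comp_appTop, pullback.condition, Scheme.Hom.comp_appTop]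
    exact congrArg (pullback.snd fK jF).appTop
      (congr($(Scheme.ΓSpecIso_inv_naturality (CommRingCat.ofHom (algebraMap K F))) c)).symm
  have hRK : ∀ r : R, gK.appTop (gl f r) = algebraMap K Γ(XK, ⊤) (algebraMap R K r) := by
    intro r
    change (f.appTop ≫ gK.appTop) _ = _
    rw [← Scheme.Hom.comp_appTop, hK.w, Scheme.Hom.comp_appTop, CommRingCat.comp_apply]
    exact congrArg fK.appTop
      (congr($(Scheme.ΓSpecIso_inv_naturality (CommRingCat.ofHom (algebraMap R K))) r)).symm
  have hφK : Function.Injective (algebraMap K Γ(XK, ⊤)) := (algebraMap K Γ(XK, ⊤)).injective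
  have hinjR : Function.Injective (gl f) := fun x y h =>
    IsFractionRing.injective R K (hφK (by rw [← hRK, ← hRK, h]))
  suffices hsur : ∀ a : Γ(X, ⊤), ∃ r, gl f r = a from ⟨hinjR, hsur⟩
  intro a
  obtain ⟨π, hπ⟩ := IsDiscreteValuationRing.exists_irreducible R
  -- integrality over `R`
  have hint : ∀ c : Γ(X, ⊤), ∃ h : Polynomial R, h.Monic ∧ h.eval₂ (gl f) c = 0 := by
    intro c
    obtain ⟨m, hm, hmc⟩ := isIntegral_appTop_of_universallyClosed f c
    refine ⟨m.map (Scheme.ΓSpecIso (CommRingCat.of R)).hom.hom, hm.map _, ?_⟩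
    rw [Polynomial.eval₂_map]
    have : (gl f).comp (Scheme.ΓSpecIso (CommRingCat.of R)).hom.hom = f.appTop.hom := by
      ext t
      exact congrArg f.appTop (congr($((Scheme.ΓSpecIso (CommRingCat.of R)).hom_inv_id) t))
    rw [this]
    exact hmc
  have hintK : ∀ c : Γ(X, ⊤), ∃ h : Polynomial R, h.Monic ∧
      Polynomial.aeval (gK.appTop c) (h.map (algebraMap R K)) = 0 := by
    intro c
    obtain ⟨h, hh, hc⟩ := hint c
    refine ⟨h, hh, ?_⟩
    rw [Polynomial.aeval_def, Polynomial.eval₂_map]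
    have : (algebraMap K Γ(XK, ⊤)).comp (algebraMap R K) = gK.appTop.hom.comp (gl f) :=
      RingHom.ext fun r => (hRK r).symm
    rw [this, ← Polynomial.hom_eval₂, hc, map_zero]
  set a' : Γ(XK, ⊤) := gK.appTop a with ha'
  have ha'i : IsIntegral K a' := by
    obtain ⟨h, hh, hc⟩ := hintK a
    exact ⟨h.map (algebraMap R K), hh.map _, hc⟩
  set M : Polynomial K := minpoly K a'
  set MF : Polynomial F := M.map (algebraMap K F)
  haveI : FaithfulSMul R F := (faithfulSMul_iff_algebraMap_injective R F).mpr (by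
    rw [IsScalarTower.algebraMap_eq R K F]
    exact (algebraMap K F).injective.comp (IsFractionRing.injective R K))
  haveI : Algebra.IsAlgebraic R F := (IsFractionRing.comap_isAlgebraic_iff (A := R) (K := K)).mpr
    inferInstance
  have hπK : algebraMap R K π ≠ 0 := by
    rw [Ne, map_eq_zero_iff _ (IsFractionRing.injective R K)]
    exact hπ.ne_zero
  -- all roots of `M` agree
  have hroots : ∀ α ∈ MF.roots, ∀ n : ℕ, ∀ r : R, (∃ b, a = gl f r + gl f π ^ n * b) →
      ∃ y : F, IsIntegral R y ∧ α = algebraMap R F r + algebraMap R F π ^ n * y := by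
    rintro α hα n r ⟨b, hb⟩
    obtain ⟨h, hh, hc⟩ := hintK b
    let q : Polynomial K := Polynomial.C ((algebraMap R K π ^ n)⁻¹) *
      (Polynomial.X - Polynomial.C (algebraMap R K r))
    have hq : Polynomial.aeval a' q = gK.appTop b := by
      simp only [q, map_mul, map_sub, Polynomial.aeval_C, Polynomial.aeval_X, ha', hb, map_add,
        map_pow, hRK]
      rw [add_sub_cancel_left, ← mul_assoc, ← map_pow (algebraMap K Γ(XK, ⊤)), ← map_mul, inv_mul_cancel₀ (pow_ne_zero _ hπK),
        map_one, one_mul]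
    have hdvd : M ∣ (h.map (algebraMap R K)).comp q := minpoly.dvd K a' (by
      rw [Polynomial.aeval_comp, hq, hc])
    refine ⟨Polynomial.aeval α q, ⟨h, hh, ?_⟩, ?_⟩
    · have hα' : Polynomial.aeval α M = 0 := by
        have := (Polynomial.mem_roots'.mp hα).2
        rwa [Polynomial.IsRoot, Polynomial.eval_map_algebraMap] at this
      obtain ⟨t, ht⟩ := hdvd
      have h1 : Polynomial.aeval (Polynomial.aeval α q) (h.map (algebraMap R K)) = 0 := by
        rw [← Polynomial.aeval_comp, ht, map_mul, hα', zero_mul]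
      rwa [Polynomial.aeval_map_algebraMap] at h1
    · simp only [q, map_mul, map_sub, Polynomial.aeval_C, Polynomial.aeval_X, map_inv₀, map_pow,
        ← IsScalarTower.algebraMap_apply R K F]
      have : algebraMap R F π ≠ 0 := by
        rw [Ne, map_eq_zero_iff _ (FaithfulSMul.algebraMap_injective R F)]
        exact hπ.ne_zero
      rw [← mul_assoc, mul_inv_cancel₀ (pow_ne_zero _ this), one_mul]
      ring
  have heq : ∀ α ∈ MF.roots, ∀ β ∈ MF.roots, α = β := by
    intro α hα β hβ
    rw [← sub_eq_zero]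
    refine eq_zero_of_forall_eq_mul hπ _ fun n => ?_
    obtain ⟨r, hr⟩ := exists_sub_eq_mul f hs hπ n a
    obtain ⟨y, hy, ey⟩ := hroots α hα n r hr
    obtain ⟨y', hy', ey'⟩ := hroots β hβ n r hr
    exact ⟨y - y', hy.sub hy', by rw [ey, ey']; ring⟩
  have hMmon : MF.Monic := (minpoly.monic ha'i).map _
  have hsplit : MF = (MF.roots.map fun r => Polynomial.X - Polynomial.C r).prod :=
    (IsAlgClosed.splits MF).eq_prod_roots_of_monic hMmon
  have hne : MF.roots ≠ 0 := by
    intro h0
    have h1 := (IsAlgClosed.splits MF).natDegree_eq_card_roots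
    rw [h0, Multiset.card_zero, Polynomial.natDegree_map] at h1
    exact (minpoly.natDegree_pos ha'i).ne' h1
  obtain ⟨α, hα⟩ := Multiset.exists_mem_of_ne_zero hne
  let b : Γ(P, ⊤) := (pullback.fst fK jF).appTop a'
  have hb : b = φF α := by
    letI : Algebra F Γ(P, ⊤) := φF.toAlgebra
    refine sub_eq_zero.mp (IsNilpotent.eq_zero ⟨MF.roots.card, ?_⟩)
    have h1 : Polynomial.aeval b MF = 0 := by
      rw [Polynomial.aeval_def, Polynomial.eval₂_map, RingHom.algebraMap_toAlgebra, ← hKF]
      rw [← Polynomial.hom_eval₂]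
      have := minpoly.aeval K a'
      rw [Polynomial.aeval_def] at this
      erw [this]
      exact map_zero _
    rw [hsplit, Multiset.eq_replicate_card.mpr (fun β hβ => heq β hβ α hα)] at h1
    simpa [map_multiset_prod, Multiset.map_replicate, Multiset.prod_replicate, RingHom.algebraMap_toAlgebra] using h1
  have hfld : IsField Γ(Spec (CommRingCat.of K), ⊤) :=
    MulEquiv.isField (Field.toIsField K)
      (Scheme.ΓSpecIso (CommRingCat.of K)).commRingCatIsoToRingEquiv.toMulEquiv
  obtain ⟨c, hc⟩ := GlobalFun.mem_range_of_baseChange (IsPullback.of_hasPullback fK jF) hfld a'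
    ((Scheme.ΓSpecIso (CommRingCat.of F)).inv α) hb
  let c₀ : K := (Scheme.ΓSpecIso (CommRingCat.of K)).hom c
  have hc₀ : algebraMap K Γ(XK, ⊤) c₀ = a' := by
    rw [← hc]
    exact congrArg fK.appTop (congr($((Scheme.ΓSpecIso (CommRingCat.of K)).hom_inv_id) c))
  obtain ⟨h, hh, hh0⟩ := hintK a
  have hcint : IsIntegral R c₀ := by
    refine ⟨h, hh, hφK ?_⟩
    rw [map_zero, Polynomial.hom_eval₂, hc₀, ← Polynomial.eval₂_map]
    exact hh0
  obtain ⟨r, hr⟩ := IsIntegrallyClosed.algebraMap_eq_of_integral hcint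
  refine ⟨r, GlobalFun.appTop_injective_of_generic f gK fK hK ?_⟩
  rw [hRK, hr, hc₀]

/-- The geometric generic fibre is integral. -/
theorem isIntegral_geometric {P : Scheme.{u}} (pX : P ⟶ X)
    (pF : P ⟶ Spec (CommRingCat.of (AlgebraicClosure (FractionRing R))))
    (hP : IsPullback pX pF f
      (Spec.map (CommRingCat.ofHom (algebraMap R (AlgebraicClosure (FractionRing R)))))) :
    IsIntegral P := by
  let K := FractionRing R
  let F := AlgebraicClosure K
  let jR : Spec (CommRingCat.of F) ⟶ Spec (CommRingCat.of R) :=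
    Spec.map (CommRingCat.ofHom (algebraMap R F))
  let jF : Spec (CommRingCat.of F) ⟶ Spec (CommRingCat.of K) :=
    Spec.map (CommRingCat.ofHom (algebraMap K F))
  let j : Spec (CommRingCat.of K) ⟶ Spec (CommRingCat.of R) :=
    Spec.map (CommRingCat.ofHom (algebraMap R K))
  have hj : jF ≫ j = jR := by
    rw [← Spec.map_comp, ← CommRingCat.ofHom_comp, ← IsScalarTower.algebraMap_eq]
  haveI : Flat jR := (HasRingHomProperty.Spec_iff (P := @Flat)).mpr
    (RingHom.flat_algebraMap_iff.mpr (Module.Flat.trans R K F))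
  have hw : pX ≫ f = (pF ≫ jF) ≫ j := by rw [Category.assoc, hj]; exact hP.w
  have hPK : IsPullback (hK.lift pX (pF ≫ jF) hw) pF fK jF :=
    IsPullback.of_right (by rw [hK.lift_fst]; exact hj ▸ hP) (hK.lift_snd _ _ _) hK
  haveI : Smooth pF := MorphismProperty.of_isPullback hPK ‹Smooth fK›
  haveI : IsProper pF := MorphismProperty.of_isPullback hP inferInstance
  haveI : IsReduced P := Groth.AlgGrp1.isReduced_of_smooth pF
  haveI : IsLocallyNoetherian P := LocallyOfFiniteType.isLocallyNoetherian pF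
  haveI : CompactSpace X := QuasiCompact.compactSpace_of_compactSpace f
  haveI : QuasiSeparatedSpace X := quasiSeparatedSpace_of_quasiSeparated f
  -- `Γ(P) = F`
  haveI hiso := isIso_pushoutSection_of_isQuasiSeparated_of_flat_right hP (US := ⊤) (UT := ⊤)
    (UX := ⊤) (UY := ⊤) le_top le_top (by simp) (isAffineOpen_top _) (isAffineOpen_top _)
    isCompact_univ (isQuasiSeparated_univ (α := X))
  haveI : IsIso (f.appLE ⊤ ⊤ le_top) := by
    have : f.appLE ⊤ ⊤ le_top = f.appTop := by simp [Scheme.Hom.appLE]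
    rw [this, ConcreteCategory.isIso_iff_bijective]
    have hb := toGlobal_bijective f hs hK
    exact (Function.Bijective.of_comp_iff f.appTop
      (ConcreteCategory.bijective_of_isIso (Scheme.ΓSpecIso (CommRingCat.of R)).inv)).mp hb
  have hbij : Function.Bijective pF.appTop := by
    have h1 := ConcreteCategory.bijective_of_isIso
      (pushout.inr (f.appLE ⊤ ⊤ le_top) (jR.appLE ⊤ ⊤ le_top) ≫
        pushoutSection hP (US := ⊤) (UT := ⊤) (UX := ⊤) (UY := ⊤) le_top le_top (by simp))
    rw [pushout.inr_desc] at h1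
    have : pF.appLE ⊤ ⊤ le_top = pF.appTop := by simp [Scheme.Hom.appLE]
    rwa [this] at h1
  haveI : Nonempty P := by
    by_contra hne
    rw [not_nonempty_iff] at hne
    have hsub : Subsingleton Γ(P, ⊤) := inferInstance
    have := hbij.1.subsingleton
    exact false_of_nontrivial_of_subsingleton Γ(Spec (CommRingCat.of F), ⊤)
  have hfld : IsField Γ(P, ⊤) :=
    MulEquiv.isField (MulEquiv.isField (Field.toIsField F)
      (Scheme.ΓSpecIso (CommRingCat.of F)).commRingCatIsoToRingEquiv.toMulEquiv)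
      (RingEquiv.ofBijective pF.appTop.hom hbij).symm.toMulEquiv
  haveI : PreconnectedSpace P := by
    rw [preconnectedSpace_iff_clopen]
    intro s hs'
    obtain ⟨e, he⟩ := Groth.Variety2.exists_basicOpen_eq_of_isClopen (⟨s, hs'.2⟩ : P.Opens) hs'.1
    have he' : (P.basicOpen e : Set P) = s := congrArg SetLike.coe he
    by_cases h0 : e = 0
    · left; rw [← he', h0, Scheme.basicOpen_zero]; rfl
    · right
      obtain ⟨d, hd⟩ := hfld.mul_inv_cancel h0
      rw [← he', Scheme.basicOpen_of_isUnit _ (IsUnit.of_mul_eq_one _ hd)]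
      rfl
  haveI : ConnectedSpace P := ⟨inferInstance⟩
  refine (Groth.PropsBasic2.irreducible_and_integral_iff P).2.mpr ⟨inferInstance, fun x => ?_⟩
  letI : P.Over (Spec (CommRingCat.of F)) := ⟨pF⟩
  haveI : LocallyOfFinitePresentation (P ↘ Spec (CommRingCat.of F)) :=
    inferInstanceAs (LocallyOfFinitePresentation pF)
  haveI := Groth.VarietyBC.isRegularLocalRing_of_mem_smoothLocus (k := F) (x := x) (by
    change x ∈ pF.smoothLocus
    rw [pF.smoothLocus_eq_top]
    trivial)
  exact Groth.Ega4Algebra1.isDomain_of_isRegularLocalRing _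

end Main

end Groth.ModelsGraphs.DVRFibre
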