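import Groth.Agent.PicAux.EffCartierLine
import Groth.Agent.CohFin.Linear
import Groth.Agent.BlowUpBasics.IdealComap
import Groth.Agent.QCohMod.ClosedImm
import Groth.Agent.ModelsGraphs.DualExtend
import Groth.Agent.ModelsGraphs.DVRFibre
import Groth.Prelude.Def_ModelsG

/-!
# Cohomological flatness in dimension zero over a DVR

`H⁰(X, O) → H⁰(X_s, O)` is surjective iff `H¹(X, O)` is torsion-free, for `X` flat over a DVR.
-/

universe u

open CategoryTheory CategoryTheory.Limits AlgebraicGeometry Opposite TopologicalSpace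

namespace Groth.ModelsGraphs.CohFlat

variable {R : Type u} [CommRing R] [IsDomain R] [IsDiscreteValuationRing R] {X : Scheme.{u}}
  (p : X ⟶ Spec (CommRingCat.of R))

lemma ideal_specialFibre {π : R} (hπ : Irreducible π) (W : X.affineOpens) :
    (Models.specialFibreIdeal R (Over.mk p)).ideal W = Ideal.span {DVRFibre.ψ p W.1 π} := by
  change ((Curv2.idealSheaf R (IsLocalRing.maximalIdeal R)).comap p).ideal W = _
  rw [Groth.BlowUpBasics.ideal_comap p _ ⟨⊤, isAffineOpen_top _⟩ W le_top, Curv2.idealSheaf,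
    Scheme.IdealSheafData.ofIdealTop_ideal, hπ.maximalIdeal_eq, Ideal.map_span, Set.image_singleton]
  simp only [homOfLE_refl, op_id, CategoryTheory.Functor.map_id, CommRingCat.hom_id, Ideal.map_id]
  rw [Ideal.map_span, Set.image_singleton]
  rfl

variable [Flat p]

/-- `0 → O →π O → O/π → 0`. -/
theorem shortExact_smul {π : R} (hπ : Irreducible π)
    (w : DualExtend.smulHom (Coh.structureModule X) (DVRFibre.gl p π) ≫
      ClSub.toSubscheme (Models.specialFibreIdeal R (Over.mk p)) = 0) :
    (ShortComplex.mk _ _ w).ShortExact := by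
  set I := Models.specialFibreIdeal R (Over.mk p)
  let lam : Coh.structureModule X ⟶ ClSub.idealMod I := kernel.lift _ _ w
  have hlam : ∀ (W : X.Opens) (s : Γ(X, W)),
      OmegaSh.idealSect I W (lam.app W s) = DVRFibre.ψ p W π * s := fun W s =>
    congr(($(kernel.lift_ι _ _ w)).app W s)
  have hreg : IsSMulRegular R π :=
    isSMulRegular_iff_right_eq_zero_of_smul.mpr fun m hm => (mul_eq_zero.mp hm).resolve_left hπ.ne_zero
  haveI : (Coh.structureModule X).IsQuasicoherent := Groth.QCohMod.isQCoh_unit X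
  haveI : IsIso lam := Groth.QCohMod.isIso_of_affine_bijective lam fun W hW => by
    constructor
    · refine (injective_iff_map_eq_zero _).mpr fun s hs => ?_
      refine DVRFibre.eq_zero_of_mul_eq_zero p hreg W s ?_
      rw [← hlam, hs]
      exact map_zero _
    · intro k
      have h := Groth.OmegaSheaf.idealSect_mem I ⟨W, hW⟩ k
      rw [ideal_specialFibre p hπ, Ideal.mem_span_singleton] at h
      obtain ⟨s, hs⟩ := h
      exact ⟨s, Groth.OmegaSheaf.idealSect_injective I W ((hlam W s).trans hs.symm)⟩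
  let e : ShortComplex.mk _ _ w ≅ ShortComplex.mk (ClSub.idealModι I) (ClSub.toSubscheme I)
      (kernel.condition (ClSub.toSubscheme I)) :=
    ShortComplex.isoMk (asIso lam) (Iso.refl _) (Iso.refl _)
      (by
        change lam ≫ kernel.ι (ClSub.toSubscheme I) = _ ≫ 𝟙 _
        rw [Category.comp_id]
        exact kernel.lift_ι _ _ _)
      (by
        change 𝟙 _ ≫ ClSub.toSubscheme I = ClSub.toSubscheme I ≫ 𝟙 _
        rw [Category.comp_id, Category.id_comp])
  exact ShortComplex.shortExact_of_iso e.symm (Groth.PicAux.shortExact_idealMod I)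

omit [Flat p] in
lemma smulHom_toSubscheme {π : R} (hπ : Irreducible π) :
    DualExtend.smulHom (Coh.structureModule X) (DVRFibre.gl p π) ≫
      ClSub.toSubscheme (Models.specialFibreIdeal R (Over.mk p)) = 0 := by
  set I := Models.specialFibreIdeal R (Over.mk p)
  refine Groth.CohTwo.hom_ext_app fun W s => ?_
  let s' : Γ(X, W) := s
  change I.subschemeι.app W (DVRFibre.ψ p W π * s') = 0
  rw [map_mul]
  refine (mul_eq_zero_of_left ?_ _)
  refine TopCat.Sheaf.eq_of_locally_eq' I.subscheme.sheaf
    (fun V : {V : X.affineOpens // V.1 ≤ W} => I.subschemeι ⁻¹ᵁ V.1.1) _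
    (fun V => homOfLE (I.subschemeι.preimage_mono V.2)) ?_ _ 0 fun V => ?_
  · intro y hy
    obtain ⟨_, ⟨V, hV, rfl⟩, hyV, hVW⟩ := X.isBasis_affineOpens.exists_subset_of_mem_open
      (show I.subschemeι y ∈ (W : Set X) from hy) W.isOpen
    exact Opens.mem_iSup.2 ⟨⟨⟨V, hV⟩, hVW⟩, hyV⟩
  change (I.subschemeι.app W ≫ I.subscheme.presheaf.map _) (DVRFibre.ψ p W π) =
    I.subscheme.presheaf.map _ 0
  rw [map_zero]
  erw [← I.subschemeι.naturality (homOfLE V.2).op]
  rw [CommRingCat.comp_apply, DVRFibre.ψ_res]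
  change DVRFibre.ψ p V.1.1 π ∈ RingHom.ker (I.subschemeι.app V.1.1).hom
  rw [Scheme.IdealSheafData.ker_subschemeι_app, ideal_specialFibre p hπ]
  exact Ideal.mem_span_singleton_self _

end Groth.ModelsGraphs.CohFlat

namespace Groth.ModelsGraphs.CohFlat

variable (R : Type u) [CommRing R] [IsDomain R] [IsDiscreteValuationRing R] (X : Scheme.{u})
  [X.Over (Spec (CommRingCat.of R))] [Flat (X ↘ Spec (CommRingCat.of R))]

/-- Cohomological flatness in dimension zero is torsion-freeness of `H¹`. -/
theorem surjective_iff :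
    Function.Surjective (Sheaf.H.map ((SheafOfModules.toSheaf X.ringCatSheaf).map
      (ClSub.toSubscheme (Models.specialFibreIdeal R (Over.mk (X ↘ Spec (CommRingCat.of R)))))) 0) ↔
      NoZeroSMulDivisors R (Coh.HH X (Coh.structureModule X) 1) := by
  obtain ⟨π, hπ⟩ := IsDiscreteValuationRing.exists_irreducible R
  let p := X ↘ Spec (CommRingCat.of R)
  have w := smulHom_toSubscheme p hπ
  have hS := shortExact_smul p hπ w
  let S := ShortComplex.mk _ _ w
  have h12 := Groth.CohFin.exact_mapL_delta (f := p) hS 0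
  have h23 := Groth.CohFin.exact_delta_mapL (f := p) hS 0
  have hπmul : ∀ x : Coh.HH X (Coh.structureModule X) 1,
      Groth.CohFin.mapL p S.f 1 x = π • x := fun x => rfl
  constructor
  · intro hsur
    have hinj : ∀ x : Coh.HH X (Coh.structureModule X) 1, π • x = 0 → x = 0 := by
      intro x hx
      obtain ⟨y, hy⟩ := (h23 x).mp ((hπmul x).trans hx)
      obtain ⟨z, hz⟩ := hsur y
      exact hy.symm.trans ((h12 y).mpr ⟨z, hz⟩)
    refine ⟨fun {r x} hrx => ?_⟩
    by_cases hr : r = 0
    · exact Or.inl hr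
    right
    obtain ⟨n, u, rfl⟩ := IsDiscreteValuationRing.eq_unit_mul_pow_irreducible hr hπ
    clear hr
    rw [mul_smul] at hrx
    have h0 : π ^ n • x = 0 := by
      have := congrArg ((↑u⁻¹ : R) • ·) hrx
      rwa [smul_smul, Units.inv_mul, one_smul, smul_zero] at this
    clear hrx
    induction n generalizing x with
    | zero => simpa using h0
    | succ n ih => exact hinj x (ih (by rwa [pow_succ, mul_smul] at h0))
  · intro hnz y
    have hy : Groth.CohFin.delta (f := p) hS 0 y = 0 := by
      have h := (hπmul _).symm.trans ((h23 (Groth.CohFin.delta (f := p) hS 0 y)).mpr ⟨y, rfl⟩)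
      exact (hnz.eq_zero_or_eq_zero_of_smul_eq_zero h).resolve_left hπ.ne_zero
    exact (h12 y).mp hy

end Groth.ModelsGraphs.CohFlat
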