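import Groth.Agent.ModelsGraphs.ChainGroup
import Groth.Agent.ModelsGraphs.Form
import Mathlib.LinearAlgebra.FreeModule.Finite.CardQuotient
import Mathlib.RingTheory.PrincipalIdealDomain
import Mathlib.Data.ZMod.Basic
import Mathlib.GroupTheory.Index

/-! The order of the component group in terms of a reduced determinant. -/

namespace Groth.ModelsGraphs.Ctr

open Finset LabGraph Matrix

universe u
variable {V E : Type u} [Fintype V] [Fintype E] [DecidableEq V] [DecidableEq E] {ends : E → V × V} {β : V → ℤ}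

/-- `-α` with the row and column of `r` deleted. -/
def redMat (ends : E → V × V) (β : V → ℤ) (r : V) : Matrix {v // v ≠ r} {v // v ≠ r} ℤ :=
  (-mfMatrix ends β).submatrix Subtype.val Subtype.val

theorem exists_primitive [Nonempty V] (hpos : ∀ v, 0 < β v) :
    ∃ (g : ℤ) (b c : V → ℤ), 0 < g ∧ g = univ.gcd β ∧ (∀ v, β v = g * b v) ∧ (∀ v, 0 < b v) ∧
      ∑ v, b v * c v = 1 := by
  obtain ⟨c, hc⟩ := Finset.gcd_eq_sum_mul univ β
  have hne : univ.gcd β ≠ 0 := fun h => by
    have := Finset.gcd_eq_zero_iff.1 h (Classical.arbitrary V) (mem_univ _)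
    exact (hpos _).ne' this
  have hg : 0 < univ.gcd β := lt_of_le_of_ne (by
    rw [← Finset.normalize_gcd, ← Int.abs_eq_normalize]
    exact abs_nonneg _) (Ne.symm hne)
  have hb : ∀ v, β v = univ.gcd β * (β v / univ.gcd β) := fun v =>
    (Int.mul_ediv_cancel' (Finset.gcd_dvd (mem_univ v))).symm
  refine ⟨_, fun v => β v / univ.gcd β, c, hg, rfl, hb, fun v => ?_, ?_⟩
  · have h := hpos v
    rw [hb v] at h
    exact (pos_iff_pos_of_mul_pos h).1 hg
  · refine mul_left_cancel₀ hne ?_
    rw [mul_one, mul_sum]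
    conv_rhs => rw [hc]
    exact sum_congr rfl fun v _ => by rw [← mul_assoc, ← hb v]

omit [DecidableEq E] in
theorem edgeMult_ne_zero_of_adj (hG : Connected ends) (I : Finset V) (hI : I.Nonempty) (hI' : I ≠ univ) :
    ∃ i ∈ I, ∃ j ∉ I, edgeMult ends i j ≠ 0 := by
  obtain ⟨v, hv⟩ := hI
  obtain ⟨w, hw⟩ : ∃ w, w ∉ I := by
    by_contra h
    exact hI' (eq_univ_of_forall (by simpa using h))
  by_contra hno
  simp only [not_exists, not_and, not_not] at hno
  refine hw ?_
  induction hG.2 v w with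
  | refl => exact hv
  | @tail a b _ hab ih =>
    by_contra hb
    obtain ⟨x, hx⟩ := hab
    exact absurd (hno a (by_contra fun ha => ha (ih ha)) b hb) (Nat.one_le_iff_ne_zero.1 (mult_pos_of_edge x hx))

theorem mulVec_eq_zero_iff (hβ : IsMultFn ends β) (hG : Connected ends) {g : ℤ} {b c : V → ℤ}
    (hb : ∀ v, β v = g * b v) (hg : 0 < g) (hc : ∑ v, b v * c v = 1) (x : V → ℤ) :
    (mfMatrix ends β).mulVec x = 0 ↔ ∃ k : ℤ, x = k • b := by
  constructor
  · intro hx
    let A : Matrix V V ℚ := (mfMatrix ends β).map (Int.castRingHom ℚ)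
    have hA : ∀ y : V → ℤ, A.mulVec (fun v => (y v : ℚ)) = fun v => ((mfMatrix ends β).mulVec y v : ℚ) := fun y => by
      funext v
      exact (RingHom.map_mulVec (Int.castRingHom ℚ) _ y v).symm
    obtain ⟨q, hq⟩ := eq_smul_of_form_zero (A := A) (m := fun v => (β v : ℚ))
      ((isSymm β).map _) (fun i j h => by
        simp only [A, Matrix.map_apply, eq_intCast, mfMatrix, if_neg h]
        exact_mod_cast Int.natCast_nonneg _)
      (fun v => by exact_mod_cast (hβ v).1)
      (by rw [hA, mulVec_beta hβ]; funext v; simp)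
      (fun I h1 h2 => by
        obtain ⟨i, hi, j, hj, h⟩ := edgeMult_ne_zero_of_adj hG I h1 h2
        refine ⟨i, hi, j, hj, ?_⟩
        have hne : i ≠ j := fun e => hj (e ▸ hi)
        simp [A, mfMatrix, hne, h])
      (fun v => (x v : ℚ)) (by rw [hA, hx]; simp [dotProduct])
    refine ⟨∑ v, c v * x v, ?_⟩
    funext v
    have hqv : ∀ w, (x w : ℚ) = q * (g * b w : ℤ) := fun w => by rw [← hb w]; exact congrFun hq w
    have : (x v : ℚ) = ((∑ w, c w * x w : ℤ) : ℚ) * (b v : ℚ) := by
      have hsum : ((∑ w, b w * c w : ℤ) : ℚ) = 1 := by rw [hc]; norm_num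
      push_cast at hsum ⊢
      rw [sum_mul]
      calc (x v : ℚ) = q * g * b v * ∑ w, (b w : ℚ) * c w := by rw [hsum, hqv]; push_cast; ring
        _ = _ := by
          rw [mul_sum]
          refine sum_congr rfl fun w _ => ?_
          rw [hqv w]; push_cast; ring
    show x v = (∑ w, c w * x w) * b v
    exact_mod_cast this
  · rintro ⟨k, rfl⟩
    have h0 : g • (mfMatrix ends β).mulVec (k • b) = 0 := by
      rw [← mulVec_smul, smul_comm, show g • b = β from funext fun v => (hb v).symm, mulVec_smul, mulVec_beta hβ,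
        smul_zero]
    funext v
    exact (mul_eq_zero.1 (congrFun h0 v)).resolve_left hg.ne'

/-- `|Φ| b_r² = |det|`. -/
theorem card_compGrp (hβ : IsMultFn ends β) (hG : Connected ends) (r : V) {g : ℤ} {b c : V → ℤ}
    (hb : ∀ v, β v = g * b v) (hg : 0 < g) (hc : ∑ v, b v * c v = 1) :
    Nat.card (CompGrp ends β) * (b r).natAbs * (b r).natAbs = (redMat ends β r).det.natAbs := by
  set α := mfMatrix ends β with hα
  set W := {v // v ≠ r}
  let π : (V → ℤ) →+ (W → ℤ) := { toFun := fun x w => x w.1, map_zero' := rfl, map_add' := fun _ _ => rfl }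
  let L := LinearMap.ker (betaHom β)
  let πL : L →+ (W → ℤ) := π.comp L.subtype.toAddMonoidHom
  have hsum : ∀ x : V → ℤ, ∑ v, x v * β v = 0 ↔ ∑ v, x v * b v = 0 := fun x => by
    have : ∑ v, x v * β v = g * ∑ v, x v * b v := by
      rw [mul_sum]; exact sum_congr rfl fun v _ => by rw [hb v]; ring
    rw [this, mul_eq_zero]
    simp [hg.ne']
  have hmemL : ∀ x : V → ℤ, x ∈ L ↔ ∑ v, x v * b v = 0 := fun x => by
    rw [LinearMap.mem_ker, betaHom_apply, hsum]
  have hbr : b r ≠ 0 := fun h => by have := (hβ r).1; rw [hb r, h, mul_zero] at this; exact lt_irrefl _ this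
  have hinj : Function.Injective πL := by
    rintro ⟨x, hx⟩ ⟨y, hy⟩ e
    refine Subtype.ext (ext_ker (β := b) r hbr (fun v hv => congrFun e ⟨v, hv⟩) ?_)
    rw [(hmemL x).1 hx, (hmemL y).1 hy]
  let R := (LinearMap.range α.mulVecLin).comap L.subtype
  let πα : (V → ℤ) →+ (W → ℤ) := π.comp α.mulVecLin.toAddMonoidHom
  let χ : (V → ℤ) →+ ZMod (b r).natAbs :=
    { toFun := fun x => (x r : ZMod (b r).natAbs), map_zero' := by simp, map_add' := fun x y => by simp }
  let b' : W → ℤ := fun w => b w.1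
  let ψ : (W → ℤ) →+ ZMod (b r).natAbs :=
    { toFun := fun y => ((∑ w, y w * b' w : ℤ) : ZMod (b r).natAbs)
      map_zero' := by simp
      map_add' := fun x y => by simp [add_mul, sum_add_distrib] }
  have hdvd : ∀ z : ℤ, (z : ZMod (b r).natAbs) = 0 ↔ b r ∣ z := fun z => by
    rw [ZMod.intCast_zmod_eq_zero_iff_dvd, Int.natAbs_dvd]
  have hsplit : ∀ x : V → ℤ, ∑ v, x v * b v = x r * b r + ∑ w : W, x w.1 * b' w := fun x => by
    rw [← add_sum_erase univ _ (mem_univ r)]
    congr 1
    exact sum_subtype (univ.erase r) (p := fun v => v ≠ r) (fun v => by simp) _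
  have hA : (⊤ : AddSubgroup L).map πL = ψ.ker := by
    ext y
    simp only [AddSubgroup.mem_map, AddSubgroup.mem_top, true_and, AddMonoidHom.mem_ker]
    constructor
    · rintro ⟨⟨x, hx⟩, rfl⟩
      rw [hmemL, hsplit] at hx
      refine (hdvd _).2 ⟨-x r, ?_⟩
      show ∑ w : W, x w.1 * b' w = _
      linarith
    · intro hy
      obtain ⟨k, hk⟩ := (hdvd _).1 hy
      let x : V → ℤ := fun v => if h : v = r then -k else y ⟨v, h⟩
      have hxw : ∀ w : W, x w.1 = y w := fun w => dif_neg w.2
      refine ⟨⟨x, (hmemL x).2 ?_⟩, funext hxw⟩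
      rw [hsplit, sum_congr rfl fun w _ => by rw [hxw], hk, show x r = -k from dif_pos rfl]
      ring
  have hψ : ψ.ker.index = (b r).natAbs := by
    rw [AddSubgroup.index_ker, AddMonoidHom.range_eq_top.2, AddSubgroup.card_top, Nat.card_zmod]
    intro z
    obtain ⟨k, rfl⟩ := ZMod.intCast_surjective z
    refine ⟨fun w => k * c w.1, ?_⟩
    show ((∑ w : W, k * c w.1 * b' w : ℤ) : ZMod (b r).natAbs) = _
    rw [← sub_eq_zero, ← Int.cast_sub, hdvd]
    refine ⟨-k * c r, ?_⟩
    have h := hsplit fun v => k * c v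
    have h' : ∑ v, k * c v * b v = k := by
      rw [show ∑ v, k * c v * b v = k * ∑ v, b v * c v by
        rw [mul_sum]; exact sum_congr rfl fun v _ => by ring, hc, mul_one]
    linarith
  have hB : R.toAddSubgroup.map πL = (⊤ : AddSubgroup (V → ℤ)).map πα := by
    ext y
    simp only [AddSubgroup.mem_map, AddSubgroup.mem_top, true_and]
    constructor
    · rintro ⟨l, ⟨h, hh⟩, rfl⟩
      exact ⟨h, congrArg π hh⟩
    · rintro ⟨h, rfl⟩
      refine ⟨⟨α.mulVec h, ?_⟩, ⟨h, rfl⟩, rfl⟩
      rw [hmemL, ← hsum]; exact sum_beta_mulVec hβ h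
  have hkerα : ∀ x : V → ℤ, πα x = 0 → ∃ k : ℤ, x = k • b := by
    intro x hx
    refine (mulVec_eq_zero_iff hβ hG hb hg hc x).1 ?_
    refine ext_ker (β := β) r (hβ r).1.ne' (fun v hv => congrFun hx ⟨v, hv⟩) ?_
    rw [sum_beta_mulVec hβ]; simp
  have hχ : χ.ker.index = (b r).natAbs := by
    rw [AddSubgroup.index_ker, AddMonoidHom.range_eq_top.2, AddSubgroup.card_top, Nat.card_zmod]
    intro z
    obtain ⟨k, rfl⟩ := ZMod.intCast_surjective z
    exact ⟨fun _ => k, rfl⟩
  have hle : πα.ker ≤ χ.ker := fun x hx => by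
    obtain ⟨k, rfl⟩ := hkerα x hx
    exact (hdvd _).2 (Dvd.intro_left k rfl)
  -- the lattice spanned by the reduced matrix
  let M := LinearMap.range (redMat ends β r).mulVecLin
  have hred : ∀ z : W → ℤ, (redMat ends β r).mulVec z =
      πα (fun v => if h : v = r then 0 else -z ⟨v, h⟩) := by
    intro z
    funext w
    show ∑ u : W, -α w.1 u.1 * z u = ∑ v, α w.1 v * _
    rw [← add_sum_erase univ _ (mem_univ r), dif_pos rfl, mul_zero, zero_add,
      sum_subtype (univ.erase r) (p := fun v => v ≠ r) (fun v => by simp)]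
    exact sum_congr rfl fun u _ => by rw [dif_neg u.2]; ring
  have hM : χ.ker.map πα = M.toAddSubgroup := by
    ext y
    simp only [AddSubgroup.mem_map, AddMonoidHom.mem_ker, Submodule.mem_toAddSubgroup, M, LinearMap.mem_range,
      Matrix.mulVecLin_apply]
    constructor
    · rintro ⟨x, hx, rfl⟩
      obtain ⟨k, hk⟩ := (hdvd _).1 hx
      refine ⟨fun w => -(x w.1 - k * b w.1), ?_⟩
      rw [hred]
      have e : (fun v => if h : v = r then 0 else -(-(x v - k * b v))) = x - k • b := by
        funext v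
        split_ifs with h
        · subst h; simp [hk]; ring
        · simp
      rw [show πα x = πα (x - k • b) by
        rw [map_sub, sub_eq_self.2]
        show π (α.mulVec (k • b)) = 0
        rw [hα, (mulVec_eq_zero_iff hβ hG hb hg hc _).2 ⟨k, rfl⟩, map_zero]]
      exact congrArg πα e
    · rintro ⟨z, rfl⟩
      exact ⟨_, by simp [χ], (hred z).symm⟩
  have hMinj : Function.Injective (redMat ends β r).mulVecLin := by
    refine (injective_iff_map_eq_zero _).2 fun z hz => ?_
    obtain ⟨k, hk⟩ := hkerα _ ((hred z).symm.trans hz)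
    have h0 := congrFun hk r
    rw [dif_pos rfl] at h0
    have hk0 : k = 0 := (mul_eq_zero.1 h0.symm).resolve_right hbr
    funext w
    have := congrFun hk w.1
    simpa [w.2, hk0] using this
  have hdet : (redMat ends β r).det.natAbs = M.toAddSubgroup.index := by
    rw [← LinearMap.det_toLin', Matrix.toLin'_apply']
    have e := Submodule.natAbs_det_equiv M (LinearEquiv.ofInjective _ hMinj)
    rw [show M.toAddSubgroup.index = Nat.card ((W → ℤ) ⧸ M) from rfl, ← e]
    rfl
  have h1 : Nat.card (CompGrp ends β) = R.toAddSubgroup.index := rfl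
  rw [← AddSubgroup.relIndex_top_right, ← AddSubgroup.relIndex_map_map_of_injective _ _ hinj, hA, hB] at h1
  have hBA : (⊤ : AddSubgroup (V → ℤ)).map πα ≤ ψ.ker := by
    rw [← hA, ← hB]; exact AddSubgroup.map_mono le_top
  have hMB : M.toAddSubgroup ≤ (⊤ : AddSubgroup (V → ℤ)).map πα := hM ▸ AddSubgroup.map_mono le_top
  have h2 := AddSubgroup.relIndex_mul_index hBA
  have h3 := AddSubgroup.relIndex_mul_index hMB
  have h4 : M.toAddSubgroup.relIndex ((⊤ : AddSubgroup (V → ℤ)).map πα) = (b r).natAbs := by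
    rw [← hM, AddSubgroup.relIndex_map_map, top_sup_eq, sup_eq_left.2 hle, AddSubgroup.relIndex_top_right, hχ]
  rw [h1, hdet, ← h3, h4, ← h2, hψ]
  ring

end Groth.ModelsGraphs.Ctr
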