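import Groth.Agent.CurveBridge.CanonicalPoint
import Groth.Agent.Curves1.RR.Descend
import Groth.Agent.EllGroup.Main
import Groth.Prelude.Def_ModelsG
import Groth.Prelude.Def_Curve

/-!
A genus zero curve has a point with separable residue field of degree at most two.
-/

set_option linter.style.haveILetI false
set_option linter.unusedSectionVars false

universe u

open CategoryTheory AlgebraicGeometry Opposite TopologicalSpace WithZero
open Groth.PicAux Groth.Chow Groth.FunFld1 Groth.CurveBridge

namespace Groth.ModelsGraphs.ConicPoint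

variable (k : Type u) [Field k] (X : Scheme.{u}) [X.Over (Spec (CommRingCat.of k))] [IsIntegral X]
  [IsProper (X ↘ Spec (CommRingCat.of k))] [Smooth (X ↘ Spec (CommRingCat.of k))]
  (hdim : topologicalKrullDim X = 1)
  (h0 : Module.finrank k (Coh.HH X (Coh.structureModule X) 0) = 1) (hg : Curv2.genus k X = 0)
include hdim h0 hg

/-- Some ratio of canonical functions is separating. -/
theorem exists_separating :
    ∃ (t : X.functionField) (E : FunFld.Divisor k X.functionField), 0 ≤ E ∧
      E.deg = 2 ∧ t ∈ FunFld.L E ∧ Transcendental k t ∧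
      Algebra.IsSeparable (IntermediateField.adjoin k ({t} : Set X.functionField)) X.functionField := by
  classical
  have h : IsRegCurve X := isRegCurve_of_smooth k X hdim
  have hK := isFunctionField_field k X hdim h0
  have hF := isFF k X hdim
  haveI := isIntegral_bar k X h0
  obtain ⟨C, hC⟩ := Groth.FunFld1.exists_isCanonical hK
  have hCd := Groth.FunFld1.deg_canonical hK hC
  have hgen : FunFld.genus k X.functionField = 0 := (genus_eq h hK).symm.trans hg
  obtain ⟨L, hL, -, Ld, -⟩ := exists_invertible_numerics h hK (-C)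
  obtain ⟨φ, D, hφ, -, ed, -⟩ := exists_divEmb h hK hL
  rw [Ld, Groth.FunFld1.deg_neg, hCd, hgen] at ed
  have hD : D.deg = 2 := by omega
  have hell : FunFld.ell D = 3 := by
    have := Groth.FunFld1.ell_eq_of_deg_ge hK (D := D) (by omega)
    omega
  have hb : ∀ P, FunFld.ell (D - Finsupp.single P 1) < FunFld.ell D := fun P => by
    rw [hell]
    by_cases hbot : FunFld.L (D - Finsupp.single P 1) = ⊥
    · rw [show FunFld.ell (D - Finsupp.single P 1) = 0 by unfold FunFld.ell; rw [hbot, finrank_bot]]
      omega
    obtain ⟨x, hx, hpos⟩ := hF.exists_effective_of_ne_bot hbot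
    have h1 := Groth.FunFld1.ell_le_deg_add_one hK hpos
    rw [hF.ell_add_div _ hx, Groth.FunFld1.deg_add, hF.deg_div, Groth.FunFld1.deg_sub,
      Groth.FunFld1.deg_single, hD] at h1
    have := hF.deg_pos P
    omega
  obtain ⟨n, hn⟩ : ∃ n, FunFld.ell D = n + 1 := ⟨2, hell⟩
  obtain ⟨s, hli, hsL, hU⟩ := BasisMap.exists_basis_sections h hK hL hφ hb hn
  have hne0 : zv φ (s 0) ≠ 0 := hli.ne_zero 0
  let t : Fin (n + 1) → X.functionField := fun l => zv φ (s l) / zv φ (s 0)
  have hlit : LinearIndependent k t := by
    have := hli.map' (LinearMap.mulRight k (zv φ (s 0))⁻¹)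
      (LinearMap.ker_eq_bot.mpr (mul_left_injective₀ (inv_ne_zero hne0)))
    exact this
  set E := D + FunFld.div k (zv φ (s 0)) with hEdef
  have htE : ∀ l, t l ∈ FunFld.L E := fun l P => by
    rw [hEdef, Finsupp.add_apply, hF.div_apply, exp_add]
    show P.1 (zv φ (s l) / zv φ (s 0)) ≤ _
    rw [map_div₀, val_eq_exp_neg_ord P hne0, div_eq_mul_inv, ← exp_neg, neg_neg]
    exact mul_le_mul_left (hsL l P) _
  have hE0 : 0 ≤ E := fun P => by
    have h1 := htE 0 P
    rw [show t 0 = 1 from div_self hne0, map_one, ← exp_zero, exp_le_exp] at h1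
    exact h1
  have hEd : E.deg = 2 := by
    rw [hEdef, Groth.FunFld1.deg_add, hF.deg_div, add_zero, hD]
  have hne : (0 : Fin (n + 1)) ≠ Fin.last n := by
    intro he
    have := congrArg Fin.val he
    simp at this
    omega
  have htr : ∀ l, l ≠ 0 → Transcendental k (t l) := fun l hl =>
    transcendental_of_notMem hK fun ⟨c, hc⟩ => by
      have h1 := linearIndependent_iff'.mp hlit {0, l} (fun j => if j = 0 then -c else 1)
        (by rw [Finset.sum_pair hl.symm, if_pos rfl, if_neg hl, one_smul, show t 0 = 1 from div_self hne0,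
          ← hc, neg_smul, ← Algebra.algebraMap_eq_smul_one, neg_add_cancel]) l (by simp)
      rw [if_neg hl] at h1
      exact one_ne_zero h1
  have hgeo := BarField.isGeometric k X
  rcases CharP.exists' k with hc | ⟨p, hp, hpk⟩
  · haveI := hc
    refine ⟨t (Fin.last n), E, hE0, hEd, htE _, htr _ hne.symm, ?_⟩
    haveI : CharZero (IntermediateField.adjoin k ({t (Fin.last n)} : Set X.functionField)) :=
      charZero_of_injective_algebraMap (algebraMap k _).injective
    haveI := hF.finiteDimensional (htr _ hne.symm)
    infer_instance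
  haveI := hp
  haveI : CharP X.functionField p := charP_of_injective_algebraMap (algebraMap k X.functionField).injective p
  by_cases hall : ∀ l, t l ∈ frobField k X.functionField p
  · exfalso
    haveI : CharP (AlgebraicClosure k) p :=
      charP_of_injective_algebraMap (algebraMap k (AlgebraicClosure k)).injective p
    haveI : CharP (Xb k X).functionField p :=
      charP_of_injective_algebraMap (algebraMap (AlgebraicClosure k) (Xb k X).functionField).injective p
    have hbR := isRegCurve_bar k X hdim
    have hKb := isFunctionField (k := AlgebraicClosure k) (X := Xb k X) hbR.dim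
    obtain ⟨Eb, hEb0, hEbd, hEbm⟩ := BasisMap.exists_bar_divisor k X hdim h0 hL hφ s hU hli
    choose w hw using fun l => exists_pow_of_mem_frobField k X p (hall l)
    obtain ⟨E', hE'0, hE'd, hE'l⟩ := exists_root_divisor hKb p hEb0 (w := w)
      (by simpa only [hw] using BarField.linearIndependent_incl k X hlit)
      (fun l => (hw l).symm ▸ hEbm l)
    rw [Fintype.card_fin] at hE'l
    rw [hEbd, Ld, Groth.FunFld1.deg_neg, hCd, hgen] at hE'd
    have h1 := Groth.FunFld1.ell_le_deg_add_one hKb hE'0
    have h2p : (2 : ℤ) ≤ p := by exact_mod_cast (Fact.out : p.Prime).two_le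
    have h3 : 2 * E'.deg ≤ (p : ℤ) * E'.deg :=
      mul_le_mul_of_nonneg_right h2p (deg_nonneg hE'0)
    omega
  · push Not at hall
    obtain ⟨l, hl⟩ := hall
    have hl0 : l ≠ 0 := fun he => hl (by
      rw [he, show t 0 = 1 from div_self hne0]; exact one_mem _)
    refine ⟨t l, E, hE0, hEd, htE _, htr _ hl0, ?_⟩
    by_contra hns
    exact hl ((mem_frobField_iff_not_separable p hK hgeo (t l)).mpr hns)

/-- A place with separable residue field of degree at most two. -/
theorem exists_separable_place [Infinite k] :
    ∃ P : FunFld.Place k X.functionField,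
      Algebra.IsSeparable k (IsLocalRing.ResidueField P.O) ∧ P.deg ≤ 2 := by
  classical
  have hF := isFF k X hdim
  obtain ⟨t, E, hE0, hEd, htE, htr, hsep⟩ := exists_separating k X hdim h0 hg
  haveI := hsep
  haveI := hF.finiteDimensional htr
  have hFt := isFF_adjoin htr
  set F := IntermediateField.adjoin k ({t} : Set X.functionField)
  have hdeg : (Module.finrank F X.functionField : ℤ) ≤ 2 := by
    rw [← hF.deg_poleDiv_eq htr, ← hEd]
    exact deg_mono (hF.deg_poleDiv_le_of_mem_L hE0 htE)
  obtain ⟨θ, hθ⟩ := Field.exists_primitive_element F X.functionField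
  have hbad := finite_not_good (K := F) (K' := X.functionField) hFt
    (Algebra.IsSeparable.isSeparable F θ) hθ
  choose P hPd hPc using exists_rational_place (k := k) htr
  have hPinj : Function.Injective P := by
    intro c d hcd
    by_contra hne
    have h1 := hPc c
    have h2 := hPc d
    rw [hcd] at h1
    have h3 := (P d).1.map_sub (IntermediateField.AdjoinSimple.gen k t - algebraMap k F c)
      (IntermediateField.AdjoinSimple.gen k t - algebraMap k F d)
    rw [show IntermediateField.AdjoinSimple.gen k t - algebraMap k F c -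
      (IntermediateField.AdjoinSimple.gen k t - algebraMap k F d) = algebraMap k F (d - c) by
        rw [map_sub]; ring, Groth.FunFld1.val_algebraMap _ (sub_ne_zero.mpr (Ne.symm hne))] at h3
    exact absurd (h3.trans_lt (max_lt h1 h2)) (lt_irrefl 1)
  obtain ⟨c, hc⟩ := ((hbad.preimage hPinj.injOn).infinite_compl).nonempty
  obtain ⟨f, hf⟩ := not_not.mp hc
  letI : Algebra (P c).O X.functionField := ((algebraMap F X.functionField).comp (P c).O.subtype).toAlgebra
  haveI : IsScalarTower (P c).O F X.functionField := IsScalarTower.of_algebraMap_eq fun _ => rfl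
  haveI := isSeparable_residue_of_deg_one (hPd c)
  obtain ⟨Q, hQ⟩ := hFt.exists_over (K' := X.functionField) (P c)
  refine ⟨Q, hf.isSeparable_residue hFt hQ, ?_⟩
  have hsum := hFt.sum_ramIdx_deg (K' := X.functionField) (P c)
  rw [hPd c, mul_one] at hsum
  have hle : FunFld.ramIdx Q (P c) * Q.deg ≤ Module.finrank F X.functionField := hsum ▸
    Finset.single_le_sum (f := fun R => FunFld.ramIdx R (P c) * R.deg) (fun R _ => Nat.zero_le _) (hFt.mem_above.mpr hQ)
  have he := overWith_pos (isOverWith_ramIdx hQ)
  have : Q.deg ≤ FunFld.ramIdx Q (P c) * Q.deg := Nat.le_mul_of_pos_left _ he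
  omega

end Groth.ModelsGraphs.ConicPoint

namespace Groth.ModelsGraphs.ConicPoint

open CategoryTheory.Limits

attribute [local instance] Curv2.resAlgebra

/-- A genus zero curve becomes a projective line over a separable extension of degree at most two. -/
theorem exists_split {k : Type u} [Field k] [Infinite k] {X : Scheme.{u}}
    (f : X ⟶ Spec (CommRingCat.of k)) (hC : Curve.IsSmoothProperCurve k X f) (hH0 : IsIso f.appTop)
    (hg : Models.curveGenus k X f = 0) :
    ∃ (K' : Type u) (_ : Field K') (ψ : k →+* K'),
      Models.IsFiniteSeparable ψ ∧ Models.homDegree ψ ≤ 2 ∧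
      ∃ e : (pullback f (Spec.map (CommRingCat.ofHom ψ))) ≅ CohB1.ProjSpace 1 K',
        e.hom ≫ CohB1.ProjSpace.toSpec 1 K' = (pullback.snd f (Spec.map (CommRingCat.ofHom ψ))) := by
  obtain ⟨hP, hS, hI, hdim⟩ := hC
  letI : X.Over (Spec (CommRingCat.of k)) := ⟨f⟩
  haveI : IsProper (X ↘ Spec (CommRingCat.of k)) := hP
  haveI : Smooth (X ↘ Spec (CommRingCat.of k)) := hS
  have hg' : Curv2.genus k X = 0 := hg
  have h0 : Module.finrank k (Coh.HH X (Coh.structureModule X) 0) = 1 := by
    letI := Groth.EulerDeg.secModule k (Coh.structureModule X) ⊤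
    have hb' : Function.Bijective (Coh.toGlobal (X ↘ Spec (CommRingCat.of k))) :=
      (ConcreteCategory.bijective_of_isIso f.appTop).comp
        (ConcreteCategory.bijective_of_isIso (Scheme.ΓSpecIso (CommRingCat.of k)).inv)
    let e : k ≃ₗ[k] Γ(Coh.structureModule X, (⊤ : X.Opens)) :=
      LinearEquiv.ofBijective
        ({ toFun := fun a => (show Γ(Coh.structureModule X, (⊤ : X.Opens)) from
             Coh.toGlobal (X ↘ Spec (CommRingCat.of k)) a)
           map_add' := fun a b => map_add _ a b
           map_smul' := fun a b => by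
             rw [RingHom.id_apply, Groth.EulerDeg.smul_sec, Groth.EulerDeg.toSec]
             show Coh.toGlobal (X ↘ Spec (CommRingCat.of k)) (a * b) = _
             rw [map_mul]
             exact congrArg (· * _) (resX_self _ _).symm } : k →ₗ[k] Γ(Coh.structureModule X, (⊤ : X.Opens))) hb'
    rw [(Groth.EulerDeg.h0Equiv k (Coh.structureModule X)).finrank_eq, ← e.finrank_eq, Module.finrank_self]
  obtain ⟨P, hPsep, hPdeg⟩ := exists_separable_place k X hdim h0 hg'
  have h : IsRegCurve X := isRegCurve_of_smooth k X hdim
  obtain ⟨x, rfl⟩ := placeAt_surjective (k := k) h P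
  haveI := hPsep
  have hfr := finrank_residueField (k := k) h x
  refine ⟨X.residueField x.1, inferInstance, algebraMap k (X.residueField x.1),
    ⟨?_, ?_⟩, ?_, ?_⟩
  · convert Module.finite_of_finrank_pos (R := k) (M := X.residueField x.1)
      (by rw [hfr]; exact (isFF k X hdim).deg_pos _)
  · convert isSeparable_residueField (k := k) h x
  · refine le_of_eq_of_le ?_ hPdeg
    rw [← hfr, Models.homDegree]
  let K' := X.residueField x.1
  let σ := Spec.map (CommRingCat.ofHom (algebraMap k K'))
  let Y := pullback f σ
  letI : Y.Over (Spec (CommRingCat.of K')) := ⟨pullback.snd f σ⟩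
  have hpb : IsPullback (pullback.fst f σ) (Y ↘ Spec (CommRingCat.of K'))
      (X ↘ Spec (CommRingCat.of k)) (Spec.map (CommRingCat.ofHom (algebraMap k K'))) :=
    IsPullback.of_hasPullback _ _
  haveI : IsProper (Y ↘ Spec (CommRingCat.of K')) := inferInstanceAs (IsProper (pullback.snd f σ))
  haveI : Smooth (Y ↘ Spec (CommRingCat.of K')) :=
    MorphismProperty.pullback_snd (P := @Smooth) _ _ hS
  let s : Spec (CommRingCat.of K') ⟶ Y := pullback.lift (X.fromSpecResidueField x.1) (𝟙 _) (by
    rw [Category.id_comp]
    exact Groth.VarietyBC.fromSpecResidueField_str (k := k) x.1)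
  have hs : s ≫ (Y ↘ Spec (CommRingCat.of K')) = 𝟙 _ := pullback.lift_snd _ _ _
  have hY0 : Module.finrank K' (Coh.HH Y (Coh.structureModule Y) 0) = 1 :=
    (Groth.Curves1.RR.finrank_structure hpb 0).trans h0
  haveI : ConnectedSpace Y := by
    haveI := isIntegral_bar K' Y hY0
    haveI : ConnectedSpace (Xb K' Y) := inferInstance
    exact (proj K' Y).surjective.connectedSpace (proj K' Y).continuous
  haveI : GeometricallyIntegral (Y ↘ Spec (CommRingCat.of K')) :=
    Groth.EllGroup.geometricallyIntegral_of_section _ s hs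
  exact Groth.Curves1.RR.iso_projectiveLine_of_ratPoint K'
    ((Groth.Curves1.RR.dim_of_isPullback _ _ hpb).trans hdim)
    ((Groth.Curves1.RR.finrank_structure hpb 1).trans hg') s hs

end Groth.ModelsGraphs.ConicPoint
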