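import Groth.Agent.ModelsGraphs.GenusFormula
import Groth.Agent.FibreDim.DimStalk
import Groth.Agent.SmoothWeil.Geom
import Groth.Agent.EulerDeg.Supported
import Groth.Agent.ModelsGraphs.DVRFibre
import Groth.Agent.ModelsGraphs.InterConnected

/-!
# The generic fibre of a regular model is a curve
-/

set_option autoImplicit false

universe u

open CategoryTheory CategoryTheory.Limits AlgebraicGeometry TopologicalSpace

namespace Groth.ModelsGraphs.CurveOfModel

section Field

variable {K : Type u} [Field K] {C : Scheme.{u}} (f : C ⟶ Spec (CommRingCat.of K)) [IsProper f]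

/-- `h⁰(O) = 1` says that the only global functions are constants. -/
theorem isIso_appTop (h0 : Models.hRank K C f (Coh.structureModule C) 0 = 1) :
    IsIso f.appTop ∧ Nonempty C := by
  letI : C.Over (Spec (CommRingCat.of K)) := ⟨f⟩
  letI := (DVRFibre.gl f).toAlgebra
  let eS := Groth.CohFin.equivSections f (Coh.structureModule C)
  let sec : Coh.HH C (Coh.structureModule C) 0 ≃ₗ[K] Γ(C, ⊤) :=
    { toFun := fun x => (eS x : Γ(Coh.structureModule C, ⊤))
      invFun := fun s => eS.symm (s : Γ(Coh.structureModule C, ⊤))
      left_inv := eS.symm_apply_apply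
      right_inv := eS.apply_symm_apply
      map_add' := eS.map_add
      map_smul' := fun r x => Groth.CohFin.equivSections_smul f (Coh.structureModule C) r x }
  have h1 : Module.finrank K Γ(C, ⊤) = 1 := sec.finrank_eq.symm.trans h0
  haveI : Nontrivial Γ(C, ⊤) := Module.nontrivial_of_finrank_eq_succ h1
  haveI : Module.Finite K Γ(C, ⊤) := Module.finite_of_finrank_eq_succ h1
  have hinj : Function.Injective (Algebra.linearMap K Γ(C, ⊤)) := (DVRFibre.gl f).injective
  have hsurj := (LinearMap.injective_iff_surjective_of_finrank_eq_finrank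
    (by rw [Module.finrank_self, h1])).1 hinj
  refine ⟨(ConcreteCategory.isIso_iff_bijective _).2 ?_, ?_⟩
  · have h := ConcreteCategory.bijective_of_isIso (Scheme.ΓSpecIso (CommRingCat.of K)).inv
    exact (Function.Bijective.of_comp_iff _ h).1 ⟨hinj, hsurj⟩
  · by_contra hC
    rw [not_nonempty_iff] at hC
    have : (⊤ : C.Opens) = ⊥ := Opens.ext (Set.eq_empty_of_isEmpty _)
    exact not_subsingleton Γ(C, ⊤) (by rw [this]; infer_instance)

/-- A smooth proper scheme with only constant functions is integral. -/
theorem isIntegral [Smooth f] (h0 : Models.hRank K C f (Coh.structureModule C) 0 = 1) :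
    IsIntegral C := by
  obtain ⟨hiso, hne⟩ := isIso_appTop f h0
  letI : C.Over (Spec (CommRingCat.of K)) := ⟨f⟩
  haveI : IsLocallyNoetherian C := LocallyOfFiniteType.isLocallyNoetherian f
  have hfld : IsField Γ(C, ⊤) := by
    haveI := hiso
    exact ((asIso f.appTop).symm.commRingCatIsoToRingEquiv.trans
      (Scheme.ΓSpecIso (CommRingCat.of K)).commRingCatIsoToRingEquiv).toMulEquiv.isField (Field.toIsField K)
  haveI : IsLocalRing Γ(C, ⊤) := by
    letI := hfld.toField
    infer_instance
  haveI := Connected.preconnectedSpace_of_isLocalRing C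
  haveI : ConnectedSpace C := { toNonempty := hne }
  haveI : Smooth (C ↘ Spec (CommRingCat.of K)) := ‹Smooth f›
  have hdom : ∀ z : C, IsDomain (C.presheaf.stalk z) := fun z => by
    haveI := Groth.VarietyBC.isRegularLocalRing_of_mem_smoothLocus (k := K) (X := C) (x := z)
      (by rw [Scheme.Hom.smoothLocus_eq_top]; trivial)
    exact Groth.Ega4Algebra1.isDomain_of_isRegularLocalRing _
  haveI : IrreducibleSpace C := Groth.SmoothWeil.irreducibleSpace_of_connected C hdom
  haveI : IsReduced C := by
    haveI : ∀ z : C, _root_.IsReduced (C.presheaf.stalk z) := fun z => by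
      haveI := hdom z
      infer_instance
    exact isReduced_of_isReduced_stalk C
  exact isIntegral_of_irreducibleSpace_of_isReduced C

/-- Positive genus forces positive dimension. -/
theorem genus_eq_zero_of_dim_le_zero (hdim : topologicalKrullDim C ≤ 0) :
    Models.curveGenus K C f = 0 := by
  letI : C.Over (Spec (CommRingCat.of K)) := ⟨f⟩
  haveI : IsLocallyNoetherian C := LocallyOfFiniteType.isLocallyNoetherian f
  haveI : CompactSpace C := QuasiCompact.compactSpace_of_compactSpace f
  haveI : IsNoetherian C := ⟨⟩
  haveI : (Coh.structureModule C).IsQuasicoherent := Groth.QCohMod.isQCoh_unit C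
  have hsupp : Groth.EulerDeg.SupportedAtClosed (Coh.structureModule C) :=
    Groth.EulerDeg.supportedAtClosed_of_dim_le_zero
      ((Topology.IsInducing.subtypeVal.topologicalKrullDim_le).trans hdim)
  haveI := Groth.EulerDeg.subsingleton_HH_succ_of_supportedAtClosed hsupp 0
  exact Module.finrank_zero_of_subsingleton

end Field

section Model

open Groth.ModelsGraphs.Inter

variable {R : Type u} [CommRing R] [IsDomain R] [IsDiscreteValuationRing R]
  {X : Over (Spec (CommRingCat.of R))} [IsProper X.hom] {n : ℕ} {Γs : Fin n → ArSurf.VertComp R X}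

/-- A local ring has dimension at most two if a quotient by one element has dimension at most one. -/
theorem dim_le_two_of_quotient {A B : Type u} [CommRing A] [IsLocalRing A] [IsNoetherianRing A] [CommRing B]
    (φ : A →+* B) (hφ : Function.Surjective φ) (t : A) (ht : t ∈ IsLocalRing.maximalIdeal A)
    (hker : RingHom.ker φ ≤ Ideal.span {t}) (hB : ringKrullDim B ≤ 1) :
    ringKrullDim A ≤ (((2 : ℕ∞)) : WithBot ℕ∞) := by
  have h1 := ringKrullDim_le_ringKrullDim_quotient_add_spanFinrank (Ideal.span {t})
    (by rw [IsLocalRing.ringJacobson_eq_maximalIdeal, Ideal.span_singleton_le_iff_mem]; exact ht)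
  have h2 : ringKrullDim (A ⧸ Ideal.span {t}) ≤ 1 := by
    refine (ringKrullDim_le_of_surjective (Ideal.Quotient.factor hker)
      (Ideal.Quotient.factor_surjective hker)).trans ?_
    rw [ringKrullDim_eq_of_ringEquiv (RingHom.quotientKerEquivOfSurjective hφ)]
    exact hB
  have h3 : (Ideal.span {t}).spanFinrank ≤ 1 := by
    refine (Submodule.spanFinrank_span_le_ncard_of_finite (Set.finite_singleton t)).trans ?_
    simp
  refine h1.trans ((add_le_add h2 (Nat.cast_le.2 h3)).trans ?_)
  exact le_of_eq (by norm_num)

attribute [local instance 10] specializationOrder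

/-- The generic fibre of a model whose closed fibre is a union of curves has dimension at most one. -/
theorem dim_le_one (hΓ : Models.IsComponentList R X Γs) {C : Scheme.{u}}
    (f : C ⟶ Spec (CommRingCat.of (FractionRing R))) (g : C ⟶ X.left)
    (hg : IsPullback g f X.hom (Spec.map (CommRingCat.ofHom (algebraMap R (FractionRing R))))) :
    topologicalKrullDim C ≤ 1 := by
  haveI : IsLocallyNoetherian X.left := LocallyOfFiniteType.isLocallyNoetherian X.hom
  haveI : CompactSpace X.left := QuasiCompact.compactSpace_of_compactSpace X.hom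
  obtain ⟨π, hπ⟩ := IsDiscreteValuationRing.exists_irreducible R
  let σ := Spec.map (CommRingCat.ofHom (IsLocalRing.residue R))
  haveI : IsClosedImmersion σ := IsClosedImmersion.spec_of_surjective _ IsLocalRing.residue_surjective
  let Z := pullback X.hom σ
  let i : Z ⟶ X.left := pullback.fst _ _
  have hdimZ : topologicalKrullDim Z ≤ 1 := by
    let Y : ULift.{u} (Fin n) → Set Z := fun j => i ⁻¹' Set.range (Γs j.down).ι.base
    have hY : ∀ j, IsClosed (Y j) := fun j =>
      (Γs j.down).ι.isClosedEmbedding.isClosed_range.preimage i.continuous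
    have hcov : ⋃ j, Y j = Set.univ := by
      refine Set.eq_univ_of_forall fun z => ?_
      have hz : i z ∈ Models.specialFibreSet R X := by
        change X.hom (i z) = IsLocalRing.closedPoint R
        rw [← Scheme.Hom.comp_apply, pullback.condition, Scheme.Hom.comp_apply,
          Subsingleton.elim (pullback.snd X.hom σ z) (IsLocalRing.closedPoint (IsLocalRing.ResidueField R))]
        exact IsLocalRing.comap_closedPoint (IsLocalRing.residue R)
      obtain ⟨j, hj⟩ := exists_specializes hΓ hz
      exact Set.mem_iUnion.2 ⟨⟨j⟩, (isGenericPoint_genPtOf (Γs j)).specializes_iff_mem.1 hj⟩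
    rw [Groth.SpectralTopology.topologicalKrullDim_eq_iSup_of_closed Y fun T ↦
      Groth.SpectralTopology.isPreirreducible_subset_iUnion_closed T.isIrreducible hY (by simp [hcov])]
    refine iSup_le fun j => ?_
    let h := (Γs j.down).ι.isClosedEmbedding.isEmbedding.toHomeomorph
    let m : Y j → (Γs j.down).curve.left := fun y => h.symm ⟨i y.1, y.2⟩
    have hm : Topology.IsInducing m := h.symm.isInducing.comp
      ((i.isClosedEmbedding.isInducing.comp Topology.IsInducing.subtypeVal).codRestrict (fun y : Y j => y.2))
    exact hm.topologicalKrullDim_le.trans_eq (Γs j.down).dim_eq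
  -- points of the closed fibre have height at most two
  have hfib : ∀ x ∈ Models.specialFibreSet R X, Order.coheight x ≤ 2 := by
    intro x hx
    obtain ⟨z, hz⟩ : x ∈ Set.range i := by
      rw [Scheme.Pullback.range_fst]
      exact ⟨IsLocalRing.closedPoint (IsLocalRing.ResidueField R),
        (IsLocalRing.comap_closedPoint (IsLocalRing.residue R)).trans hx.symm⟩
    subst hz
    let φ := (i.stalkMap z).hom
    let t := Models.stalkHom R X (i z) π
    have hker : RingHom.ker φ ≤ Ideal.span {t} := fun b hb => Ideal.mem_span_singleton.2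
      (Groth.ModelsGraphs.DVRFibre.dvd_of_stalkMap_eq_zero X.hom (IsPullback.of_hasPullback X.hom σ)
        hπ.maximalIdeal_eq z b hb)
    have ht : t ∈ IsLocalRing.maximalIdeal _ := (mem_specialFibreSet_iff hπ _).1 hx
    rw [← WithBot.coe_le_coe, ← ringKrullDim_stalk_eq_coheight]
    exact dim_le_two_of_quotient φ (i.stalkMap_surjective z) t ht hker
      (((Groth.FibreDim.dim_eq_iSup_stalk Z).symm ▸
        le_iSup (fun z : Z => ringKrullDim (Z.presheaf.stalk z)) z).trans hdimZ)
  rw [Groth.FibreDim.dim_eq_iSup_stalk]
  refine iSup_le fun P => ?_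
  rw [ringKrullDim_stalk_eq_coheight]
  haveI : IsPreimmersion (Spec.map (CommRingCat.ofHom (algebraMap R (FractionRing R)))) :=
    IsPreimmersion.of_isLocalization (S := FractionRing R) (nonZeroDivisors R)
  haveI : IsPreimmersion g := MorphismProperty.of_isPullback hg.flip inferInstance
  have hmono : StrictMono (g : C → X.left) := fun a b hab =>
    lt_of_le_of_ne ((show b ⤳ a from hab.le).map g.continuous)
      fun he => hab.ne (g.isEmbedding.injective he)
  have h4 := Order.coheight_le_coheight_apply_of_strictMono (g : C → X.left) hmono P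
  obtain ⟨x, hyx, hx⟩ : ∃ x, g P ⤳ x ∧ X.hom x = IsLocalRing.closedPoint R :=
    X.hom.isClosedMap.specializingMap (IsLocalRing.specializes_closedPoint (X.hom (g P)))
  have hlt : x < g P := by
    refine lt_of_le_of_ne hyx fun he => ?_
    have hsq : X.hom (g P) = Spec.map (CommRingCat.ofHom (algebraMap R (FractionRing R))) (f P) := by
      rw [← Scheme.Hom.comp_apply, hg.w, Scheme.Hom.comp_apply]
    rw [← he, hx] at hsq
    have h5 : π ∈ (Spec.map (CommRingCat.ofHom (algebraMap R (FractionRing R))) (f P)).asIdeal := by
      rw [← hsq]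
      show π ∈ IsLocalRing.maximalIdeal R
      rw [hπ.maximalIdeal_eq]
      exact Ideal.mem_span_singleton_self π
    exact (f P).isPrime.ne_top (Ideal.eq_top_of_isUnit_mem _ h5
      ((map_ne_zero_iff _ (IsFractionRing.injective R (FractionRing R))).2 hπ.ne_zero).isUnit)
  have h6 := (Order.coheight_add_one_le hlt).trans (hfib x hx)
  have h7 : Order.coheight (g P) ≤ 1 := (WithTop.add_le_add_iff_right (by decide : (1 : ℕ∞) ≠ ⊤)).1
    (h6.trans (le_of_eq one_add_one_eq_two.symm))
  exact WithBot.coe_le_coe.2 (h4.trans h7)

end Model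

/-- The generic fibre of a regular proper model, given by `h⁰ = 1` and positive genus. -/
theorem isSmoothProperCurve {R : Type u} [CommRing R] [IsDomain R] [IsDiscreteValuationRing R]
    {C : Scheme.{u}} (f : C ⟶ Spec (CommRingCat.of (FractionRing R))) [IsProper f] [Smooth f]
    (h0 : Models.hRank (FractionRing R) C f (Coh.structureModule C) 0 = 1)
    (hgenus : Models.curveGenus (FractionRing R) C f ≠ 0)
    {Y : Scheme.{u}} {p : Y ⟶ Spec (CommRingCat.of R)} (hX : Models.IsRegularProperModel R Y p C f)
    {n : ℕ} {Γ : Fin n → ArSurf.VertComp R (Over.mk p)} (hΓ : Models.IsComponentList R (Over.mk p) Γ) :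
    Curve.IsSmoothProperCurve (FractionRing R) C f ∧ IsIso f.appTop := by
  obtain ⟨⟨-, -, -, g, hg⟩, h4, -⟩ := hX
  haveI : IsProper (Over.mk p).hom := h4
  have hle := dim_le_one (X := Over.mk p) hΓ f g hg
  refine ⟨⟨‹_›, ‹_›, isIntegral f h0, le_antisymm hle ?_⟩, (isIso_appTop f h0).1⟩
  by_contra hlt
  refine hgenus (genus_eq_zero_of_dim_le_zero f ?_)
  generalize topologicalKrullDim C = d at hlt
  induction d with
  | bot => exact bot_le
  | coe e =>
    rw [show (1 : WithBot ℕ∞) = ((1 : ℕ∞) : WithBot ℕ∞) from rfl, WithBot.coe_le_coe, not_le,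
      ENat.lt_one_iff_eq_zero] at hlt
    rw [hlt]
    rfl

end Groth.ModelsGraphs.CurveOfModel
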