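import Mathlib.RingTheory.DiscreteValuationRing.Basic
import Mathlib.RingTheory.TensorProduct.Nontrivial
import Mathlib.RingTheory.Flat.Basic
import Mathlib.RingTheory.PrincipalIdealDomainOfPrime
import Mathlib.RingTheory.Algebraic.Integral
import Mathlib.FieldTheory.IsAlgClosed.Basic
import Mathlib.RingTheory.Flat.TorsionFree
import Mathlib.RingTheory.LocalRing.ResidueField.Basic
import Mathlib.LinearAlgebra.TensorProduct.Tower

/-!
# Tensor products of discrete valuation rings unramified over the base

If `B` is a DVR with maximal ideal generated by that of the base DVR `R` and `R'` is an algebraic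
DVR extension of `R`, with algebraically closed residue field of `R`, then `B ⊗ R'` is a DVR as soon
as it is a domain.
-/

universe u

open scoped TensorProduct

namespace Groth.ModelsGraphs.DVRTensor

variable (R : Type u) [CommRing R] [IsDomain R] [IsDiscreteValuationRing R]
  (B : Type u) [CommRing B] [IsDomain B] [Algebra R B] [FaithfulSMul R B]
  (R' : Type u) [CommRing R'] [IsDomain R'] [Algebra R R'] [FaithfulSMul R R']
  [Algebra.IsAlgebraic R R']

/-- `B ⊗ R'` is a domain when `F ⊗ B` is, for an algebraically closed `F` over `R`. -/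
theorem isDomain_tensor (F : Type u) [Field F] [IsAlgClosed F] [Algebra R F] [FaithfulSMul R F]
    [IsDomain (F ⊗[R] B)] : IsDomain (B ⊗[R] R') := by
  let φ : R' →ₐ[R] F := IsAlgClosed.lift
  have hφ : Function.Injective φ := by
    refine (injective_iff_map_eq_zero φ).mpr fun x hx => ?_
    by_contra hx0
    obtain ⟨c, hc0, hc⟩ := (Algebra.IsAlgebraic.isAlgebraic (R := R) x).exists_nonzero_dvd
      (mem_nonZeroDivisors_of_ne_zero hx0)
    have h := map_dvd φ hc
    rw [AlgHom.commutes, hx, zero_dvd_iff] at h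
    exact hc0 ((map_eq_zero_iff _ (FaithfulSMul.algebraMap_injective R F)).mp h)
  have hmap : Function.Injective (Algebra.TensorProduct.map (AlgHom.id R B) φ) := by
    have := Module.Flat.lTensor_preserves_injective_linearMap (M := B) φ.toLinearMap hφ
    convert this using 1
    apply congrArg DFunLike.coe (show (Algebra.TensorProduct.map (AlgHom.id R B) φ).toLinearMap =
      φ.toLinearMap.lTensor B from TensorProduct.ext' fun x y => rfl)
  exact Function.Injective.isDomain
    ((Algebra.TensorProduct.comm R B F).toAlgHom.comp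
      (Algebra.TensorProduct.map (AlgHom.id R B) φ)).toRingHom
    ((Algebra.TensorProduct.comm R B F).injective.comp hmap)

section Residue

variable [IsDiscreteValuationRing R'] [IsLocalHom (algebraMap R R')]
  [IsAlgClosed (IsLocalRing.ResidueField R)]

/-- The residue fields of `R` and `R'` agree. -/
theorem exists_residue_eq (x : R') :
    ∃ r : R, IsLocalRing.residue R' (algebraMap R R' r) = IsLocalRing.residue R' x := by
  let k := IsLocalRing.ResidueField R
  let k' := IsLocalRing.ResidueField R'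
  let l : k →+* k' := IsLocalRing.ResidueField.lift ((IsLocalRing.residue R').comp (algebraMap R R'))
  letI : Algebra k k' := l.toAlgebra
  obtain ⟨π, hπ⟩ := IsDiscreteValuationRing.exists_irreducible R
  have hinj := FaithfulSMul.algebraMap_injective R R'
  have hint : IsIntegral k (IsLocalRing.residue R' x) := by
    obtain ⟨P, hP0, hP⟩ := Algebra.IsAlgebraic.isAlgebraic (R := R) x
    suffices ∀ (n : ℕ) (P : Polynomial R), (∃ i, ¬ π ^ (n + 1) ∣ P.coeff i) →
        Polynomial.aeval x P = 0 → IsIntegral k (IsLocalRing.residue R' x) by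
      obtain ⟨i, hi⟩ : ∃ i, P.coeff i ≠ 0 := by
        by_contra h
        rw [not_exists] at h
        exact hP0 (Polynomial.ext fun i => by simpa using h i)
      obtain ⟨n, w, hw⟩ := IsDiscreteValuationRing.eq_unit_mul_pow_irreducible hi hπ
      refine this n P ⟨i, fun h => ?_⟩ hP
      rw [hw, Units.dvd_mul_left] at h
      exact Nat.not_succ_le_self n ((pow_dvd_pow_iff hπ.ne_zero hπ.not_isUnit).mp h)
    have prim : ∀ P : Polynomial R, (∃ i, ¬ π ∣ P.coeff i) → Polynomial.aeval x P = 0 →
        IsIntegral k (IsLocalRing.residue R' x) := by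
      rintro P ⟨i, hi⟩ hP
      refine IsAlgebraic.isIntegral ⟨P.map (IsLocalRing.residue R), fun h0 => hi ?_, ?_⟩
      · have := congrArg (fun q => Polynomial.coeff q i) h0
        rw [Polynomial.coeff_map, Polynomial.coeff_zero, IsLocalRing.residue_eq_zero_iff,
          hπ.maximalIdeal_eq, Ideal.mem_span_singleton] at this
        exact this
      · rw [Polynomial.aeval_def, Polynomial.eval₂_map]
        have : (algebraMap k k').comp (IsLocalRing.residue R) =
            (IsLocalRing.residue R').comp (algebraMap R R') := RingHom.ext fun r => rfl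
        rw [this, ← Polynomial.hom_eval₂]
        rw [Polynomial.aeval_def] at hP
        rw [hP, map_zero]
    intro n
    induction n with
    | zero => rintro P ⟨i, hi⟩ hP; exact prim P ⟨i, by simpa using hi⟩ hP
    | succ n ih =>
      rintro P ⟨i, hi⟩ hP
      by_cases hall : ∀ i, π ∣ P.coeff i
      · obtain ⟨Q, rfl⟩ := (Polynomial.C_dvd_iff_dvd_coeff π P).mpr hall
        refine ih Q ⟨i, fun h => hi ?_⟩ ?_
        · rw [Polynomial.coeff_C_mul, pow_succ']
          exact mul_dvd_mul_left π h
        · rw [map_mul, Polynomial.aeval_C] at hP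
          exact (mul_eq_zero.mp hP).resolve_left ((map_ne_zero_iff _ hinj).mpr hπ.ne_zero)
      · rw [not_forall] at hall
        exact prim P hall hP
  obtain ⟨c, hc⟩ : IsLocalRing.residue R' x ∈ Set.range (algebraMap k k') :=
    minpoly.mem_range_of_degree_eq_one k _
      (IsAlgClosed.degree_eq_one_of_irreducible k (minpoly.irreducible hint))
  obtain ⟨r, rfl⟩ := IsLocalRing.residue_surjective c
  exact ⟨r, hc⟩

end Residue

variable [IsDiscreteValuationRing B] [IsDiscreteValuationRing R'] [IsLocalHom (algebraMap R R')]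

/-- `B ⊗ R'` is a DVR. -/
theorem isDVR_tensor_of_isDomain [IsAlgClosed (IsLocalRing.ResidueField R)] [IsDomain (B ⊗[R] R')]
    (hinj : Function.Injective (algebraMap R R'))
    (hB : IsLocalRing.maximalIdeal B = Ideal.map (algebraMap R B) (IsLocalRing.maximalIdeal R)) :
    IsDiscreteValuationRing (B ⊗[R] R') := by
  obtain ⟨π, hπ⟩ := IsDiscreteValuationRing.exists_irreducible R
  obtain ⟨π', hπ'⟩ := IsDiscreteValuationRing.exists_irreducible R'
  have hπB : Irreducible (algebraMap R B π) := by
    refine (IsDiscreteValuationRing.irreducible_iff_uniformizer _).mpr ?_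
    rw [hB, hπ.maximalIdeal_eq, Ideal.map_span, Set.image_singleton]
  set π'' : B ⊗[R] R' := (1 : B) ⊗ₜ[R] π' with hπ''
  let I : Ideal (B ⊗[R] R') := Ideal.span {π''}
  let incl := (Algebra.TensorProduct.includeRight : R' →ₐ[R] B ⊗[R] R')
  have hincl : incl π' = π'' := rfl
  have hinclI : Function.Injective incl :=
    Algebra.TensorProduct.includeRight_injective (FaithfulSMul.algebraMap_injective R B)
  have hπ''0 : π'' ≠ 0 := fun h =>
    hπ'.ne_zero (hinclI ((hincl.trans h).trans (map_zero _).symm))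
  obtain ⟨m, u, hu⟩ := IsDiscreteValuationRing.eq_unit_mul_pow_irreducible
    ((map_ne_zero_iff _ hinj).mpr hπ.ne_zero) hπ'
  have hm : m ≠ 0 := fun h0 => hπ.not_isUnit (IsUnit.of_map (algebraMap R R') π
    (by rw [hu, h0, pow_zero, mul_one]; exact u.isUnit))
  have hπC : algebraMap R (B ⊗[R] R') π = incl u * π'' ^ m := by
    rw [← hincl, ← map_pow, ← map_mul, ← hu, AlgHom.commutes]
  have hπI : algebraMap R (B ⊗[R] R') π ∈ I := by
    rw [hπC]
    exact I.mul_mem_left (incl u) (Ideal.pow_mem_of_mem I (Ideal.mem_span_singleton_self π'') m (Nat.pos_of_ne_zero hm))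
  -- `B → C/π''` is surjective
  have hdec : ∀ z : B ⊗[R] R', ∃ b : B, z - b ⊗ₜ[R] (1 : R') ∈ I := by
    intro z
    induction z with
    | zero => exact ⟨0, by simp⟩
    | tmul b x =>
      obtain ⟨r, hr⟩ := exists_residue_eq R R' x
      rw [← sub_eq_zero, ← map_sub, IsLocalRing.residue_eq_zero_iff, hπ'.maximalIdeal_eq,
        Ideal.mem_span_singleton] at hr
      obtain ⟨c, hc⟩ := hr
      refine ⟨r • b, Ideal.mem_span_singleton.mpr ⟨-(b ⊗ₜ[R] c), ?_⟩⟩
      rw [mul_neg, hπ'', Algebra.TensorProduct.tmul_mul_tmul, one_mul, ← hc, TensorProduct.tmul_sub,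
        TensorProduct.smul_tmul, Algebra.smul_def, mul_one, neg_sub]
    | add z₁ z₂ h₁ h₂ =>
      obtain ⟨b₁, e₁⟩ := h₁
      obtain ⟨b₂, e₂⟩ := h₂
      refine ⟨b₁ + b₂, ?_⟩
      rw [TensorProduct.add_tmul, add_sub_add_comm]
      exact I.add_mem e₁ e₂
  haveI : IsLocalHom (algebraMap R B) := ⟨fun r hr => by
    by_contra hnu
    obtain ⟨c, rfl⟩ : π ∣ r := by
      rw [← Ideal.mem_span_singleton, ← hπ.maximalIdeal_eq]
      exact (IsLocalRing.mem_maximalIdeal r).mpr hnu
    rw [map_mul] at hr
    exact hπB.not_isUnit (isUnit_of_mul_isUnit_left hr)⟩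
  have hne : I ≠ ⊤ := by
    let kB := IsLocalRing.ResidueField B
    let toB : IsLocalRing.ResidueField R →+* kB :=
      IsLocalRing.ResidueField.lift ((IsLocalRing.residue B).comp (algebraMap R B))
    let l : IsLocalRing.ResidueField R →+* IsLocalRing.ResidueField R' :=
      IsLocalRing.ResidueField.lift ((IsLocalRing.residue R').comp (algebraMap R R'))
    have hl : Function.Bijective l := ⟨l.injective, fun y => by
      obtain ⟨x, rfl⟩ := IsLocalRing.residue_surjective y
      obtain ⟨r, hr⟩ := exists_residue_eq R R' x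
      exact ⟨IsLocalRing.residue R r, hr⟩⟩
    let el := RingEquiv.ofBijective l hl
    let ρ : R' →ₐ[R] kB :=
      { (toB.comp (el.symm.toRingHom.comp (IsLocalRing.residue R'))) with
        commutes' := fun r => by
          have : el.symm (IsLocalRing.residue R' (algebraMap R R' r)) = IsLocalRing.residue R r := by
            rw [RingEquiv.symm_apply_eq]; rfl
          exact congrArg toB this }
    let χ : B ⊗[R] R' →ₐ[R] kB := Algebra.TensorProduct.lift (IsScalarTower.toAlgHom R B kB) ρ
      fun _ _ => Commute.all _ _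
    have hχ : χ π'' = 0 := by
      rw [hπ'', show χ ((1 : B) ⊗ₜ[R] π') = IsScalarTower.toAlgHom R B kB 1 * ρ π' from
        Algebra.TensorProduct.lift_tmul ..]
      have : ρ π' = 0 := by
        change toB (el.symm (IsLocalRing.residue R' π')) = 0
        rw [(IsLocalRing.residue_eq_zero_iff π').mpr
          ((IsLocalRing.mem_maximalIdeal π').mpr hπ'.not_isUnit), map_zero, map_zero]
      rw [this, mul_zero]
    intro h
    rw [Ideal.span_singleton_eq_top] at h
    have := h.map χ
    rw [hχ] at this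
    exact not_isUnit_zero this
  have hmax : I.IsMaximal := by
    rw [Ideal.isMaximal_iff]
    refine ⟨(Ideal.ne_top_iff_one _).mp hne, fun J x hJ hx hxJ => ?_⟩
    obtain ⟨b, hb⟩ := hdec x
    have hbu : IsUnit b := by
      by_contra hb'
      apply hx
      rw [← mem_nonunits_iff, ← IsLocalRing.mem_maximalIdeal, hB, hπ.maximalIdeal_eq, Ideal.map_span,
        Set.image_singleton, Ideal.mem_span_singleton] at hb'
      obtain ⟨b', rfl⟩ := hb'
      have : (algebraMap R B π * b') ⊗ₜ[R] (1 : R') =
          algebraMap R (B ⊗[R] R') π * (b' ⊗ₜ[R] 1) := by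
        rw [Algebra.TensorProduct.algebraMap_apply, Algebra.TensorProduct.tmul_mul_tmul, one_mul]
      have h2 := I.add_mem hb (I.mul_mem_right (b' ⊗ₜ[R] (1 : R')) hπI)
      rwa [← this, sub_add_cancel] at h2
    have h1 := J.sub_mem hxJ (hJ hb)
    rw [sub_sub_cancel] at h1
    have h2 : IsUnit (b ⊗ₜ[R] (1 : R')) :=
      hbu.map (Algebra.TensorProduct.includeLeft (R := R) (S := R) (A := B) (B := R'))
    rw [Ideal.eq_top_of_isUnit_mem _ h1 h2]
    exact Submodule.mem_top
  have hne0 : I ≠ ⊥ := by rw [Ne, Ideal.span_singleton_eq_bot]; exact hπ''0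
  have hint : ∀ y : B ⊗[R] R', ∃ r : R, r ≠ 0 ∧
      IsIntegral B (algebraMap R (B ⊗[R] R') r * y) := by
    intro y
    induction y with
    | zero => exact ⟨1, one_ne_zero, by rw [mul_zero]; exact isIntegral_zero⟩
    | tmul b x =>
      obtain ⟨r, hr, hi⟩ := IsAlgebraic.exists_integral_multiple
        (Algebra.IsAlgebraic.isAlgebraic (R := R) x)
      refine ⟨r, hr, ?_⟩
      have h1 : algebraMap R (B ⊗[R] R') r * (b ⊗ₜ[R] x) =
          algebraMap B (B ⊗[R] R') b * incl (r • x) := by
        rw [Algebra.TensorProduct.algebraMap_apply' (R := R), Algebra.TensorProduct.tmul_mul_tmul, one_mul,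
          Algebra.TensorProduct.algebraMap_apply, Algebra.algebraMap_self, RingHom.id_apply]
        change _ = (b ⊗ₜ[R] (1 : R')) * ((1 : B) ⊗ₜ[R] (r • x))
        rw [Algebra.TensorProduct.tmul_mul_tmul, mul_one, one_mul, ← Algebra.smul_def]
      rw [h1]
      exact isIntegral_algebraMap.mul (IsIntegral.tower_top (R := R) (hi.map incl))
    | add z₁ z₂ h₁ h₂ =>
      obtain ⟨r₁, hr₁, i₁⟩ := h₁
      obtain ⟨r₂, hr₂, i₂⟩ := h₂
      refine ⟨r₁ * r₂, mul_ne_zero hr₁ hr₂, ?_⟩
      have h3 : ∀ r : R, IsIntegral B (algebraMap R (B ⊗[R] R') r) := fun r =>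
        IsIntegral.tower_top (R := R) isIntegral_algebraMap
      have h4 : algebraMap R (B ⊗[R] R') (r₁ * r₂) * (z₁ + z₂) =
          algebraMap R _ r₂ * (algebraMap R _ r₁ * z₁) + algebraMap R _ r₁ * (algebraMap R _ r₂ * z₂) := by
        rw [map_mul]; ring
      rw [h4]
      exact ((h3 r₂).mul i₁).add ((h3 r₁).mul i₂)
  have huC : IsUnit (incl u) := u.isUnit.map incl
  have hprimes : ∀ P : Ideal (B ⊗[R] R'), P.IsPrime → P ≠ ⊥ → P = I := by
    intro P hP hP0
    obtain ⟨z, hz, hz0⟩ := Submodule.exists_mem_ne_zero_of_ne_bot hP0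
    obtain ⟨r, hr, hi⟩ := hint z
    have hr0 : algebraMap R (B ⊗[R] R') r ≠ 0 := by
      rw [← incl.commutes]
      exact fun h => (map_ne_zero_iff _ hinj).mpr hr (hinclI (h.trans (map_zero _).symm))
    obtain ⟨c, hc0, hc⟩ := hi.isAlgebraic.exists_nonzero_dvd
      (mem_nonZeroDivisors_of_ne_zero (mul_ne_zero hr0 hz0))
    obtain ⟨n, w, hcw⟩ := IsDiscreteValuationRing.eq_unit_mul_pow_irreducible hc0 hπB
    have hcP : algebraMap B (B ⊗[R] R') c ∈ P := by
      obtain ⟨d, hd⟩ := hc
      rw [hd]
      exact P.mul_mem_right _ (P.mul_mem_left _ hz)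
    rw [hcw, map_mul, map_pow, ← IsScalarTower.algebraMap_apply R B (B ⊗[R] R') π, hπC] at hcP
    have h1 := (hP.mem_or_mem hcP).resolve_left (fun h => hP.ne_top
      (Ideal.eq_top_of_isUnit_mem _ h (w.isUnit.map _)))
    have h2 := (hP.mem_or_mem (hP.mem_of_pow_mem _ h1)).resolve_left
      (fun h => hP.ne_top (Ideal.eq_top_of_isUnit_mem _ h huC))
    exact (hmax.eq_of_le hP.ne_top
      ((Ideal.span_singleton_le_iff_mem _).mpr (hP.mem_of_pow_mem _ h2))).symm
  haveI : IsPrincipalIdealRing (B ⊗[R] R') := IsPrincipalIdealRing.of_prime fun P hP => by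
    by_cases hP0 : P = ⊥
    · exact hP0 ▸ ⟨⟨0, by simp⟩⟩
    · exact ⟨⟨π'', hprimes P hP hP0⟩⟩
  haveI : IsLocalRing (B ⊗[R] R') := IsLocalRing.of_unique_max_ideal ⟨I, hmax, fun P hP =>
    hprimes P hP.isPrime (fun h0 => hne0 (le_bot_iff.mp (h0 ▸
      (hP.eq_of_le hne (h0 ▸ bot_le)).ge)))⟩
  refine { not_a_field' := ?_ }
  rw [show IsLocalRing.maximalIdeal (B ⊗[R] R') = I from (IsLocalRing.eq_maximalIdeal hmax).symm]
  exact hne0

end Groth.ModelsGraphs.DVRTensor
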