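import Groth.Agent.ModelsGraphs.DVRFibre
import Groth.Agent.ModelsGraphs.DVRTensor
import Mathlib.RingTheory.TensorProduct.Nontrivial
import Mathlib.RingTheory.IntegralClosure.IntegralRestrict

/-!
# The local ring at a component of a reduced special fibre

For a proper flat `X` over a DVR `R` and the generic point of a component of the reduced special
fibre with local ring a DVR `B`: a uniformizer of `R` is one of `B`, `B ⊗ F` is a field and
`B ⊗ R'` is a DVR.
-/

universe u

open CategoryTheory CategoryTheory.Limits AlgebraicGeometry Opposite TopologicalSpace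
open scoped TensorProduct

namespace Groth.ModelsGraphs.DVRComponent

open DVRFibre

variable {R : Type u} [CommRing R] [IsDomain R] [IsDiscreteValuationRing R]
  {X : Scheme.{u}} (f : X ⟶ Spec (CommRingCat.of R)) [Flat f]
  {Xs : Scheme.{u}} {gs : Xs ⟶ X} {fs : Xs ⟶ Spec (CommRingCat.of (IsLocalRing.ResidueField R))}
  (hs : IsPullback gs fs f (Spec.map (CommRingCat.ofHom (IsLocalRing.residue R))))
  [IsReduced Xs] {ξ : Xs}
  {B : Type u} [CommRing B] [IsDomain B] [IsDiscreteValuationRing B] [Algebra R B]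
  (e : X.presheaf.stalk (gs.base ξ) ≅ CommRingCat.of B)
  (he : e.hom.hom.comp ((X.presheaf.germ ⊤ (gs.base ξ) trivial).hom.comp (Coh.toGlobal f)) =
    algebraMap R B)

include he

lemma germ_gl (r : R) :
    e.hom ((X.presheaf.germ ⊤ (gs.base ξ) trivial).hom (gl f r)) = algebraMap R B r :=
  RingHom.congr_fun he r

/-- The local ring is torsion-free over `R`. -/
lemma faithfulSMul : FaithfulSMul R B := by
  rw [faithfulSMul_iff_algebraMap_injective, injective_iff_map_eq_zero]
  intro r hr
  by_contra hr0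
  have h0 : (X.presheaf.germ ⊤ (gs.base ξ) trivial).hom (gl f r) = 0 :=
    (ConcreteCategory.bijective_of_isIso e.hom).1
      ((germ_gl f e he r).trans (hr.trans (map_zero _).symm))
  obtain ⟨W, hxW, i₁, i₂, h⟩ := TopCat.Presheaf.germ_eq X.presheaf (gs.base ξ)
    (U := ⊤) (V := ⊤) trivial trivial (gl f r) 0 (h0.trans (map_zero _).symm)
  rw [map_zero] at h
  have h1 : ψ f W r * 1 = 0 := by rw [mul_one]; exact h
  have h2 : (1 : Γ(X, W)) = 0 := eq_zero_of_mul_eq_zero f
    (isSMulRegular_iff_right_eq_zero_of_smul.mpr fun m hm => (mul_eq_zero.mp hm).resolve_left hr0)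
    W 1 h1
  have h3 := congrArg (X.presheaf.germ W (gs.base ξ) hxW) h2
  rw [map_one, map_zero] at h3
  exact one_ne_zero h3

include hs

/-- A uniformizer of `R` is a uniformizer of `B`. -/
theorem maximalIdeal_eq :
    IsLocalRing.maximalIdeal B = Ideal.map (algebraMap R B) (IsLocalRing.maximalIdeal R) := by
  haveI := faithfulSMul f e he
  obtain ⟨π, hπ⟩ := IsDiscreteValuationRing.exists_irreducible R
  obtain ⟨t, ht⟩ := IsDiscreteValuationRing.exists_irreducible B
  rw [hπ.maximalIdeal_eq, Ideal.map_span, Set.image_singleton]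
  let φ : B →+* Xs.presheaf.stalk ξ := (gs.stalkMap ξ).hom.comp e.inv.hom
  have hφπ : φ (algebraMap R B π) = 0 := by
    have h1 : e.inv (algebraMap R B π) = (X.presheaf.germ ⊤ (gs.base ξ) trivial).hom (gl f π) := by
      rw [← germ_gl f e he π]
      exact congr($(e.hom_inv_id) _)
    change gs.stalkMap ξ (e.inv (algebraMap R B π)) = 0
    rw [h1]
    refine (Scheme.Hom.germ_stalkMap_apply gs ⊤ ξ trivial (gl f π)).trans ?_
    have h2 : gs.appTop (gl f π) = 0 := by
      change (f.appTop ≫ gs.appTop) _ = _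
      rw [← Scheme.Hom.comp_appTop, hs.w, Scheme.Hom.comp_appTop, CommRingCat.comp_apply]
      have := congr($(Scheme.ΓSpecIso_inv_naturality (CommRingCat.ofHom (IsLocalRing.residue R))) π)
      rw [CommRingCat.comp_apply, CommRingCat.comp_apply] at this
      rw [← this]
      change fs.appTop ((Scheme.ΓSpecIso _).inv (IsLocalRing.residue R π)) = 0
      rw [(IsLocalRing.residue_eq_zero_iff π).mpr ((IsLocalRing.mem_maximalIdeal π).mpr hπ.not_isUnit)]
      erw [map_zero, map_zero]
    erw [h2]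
    exact map_zero _
  have hker : ∀ b : B, φ b = 0 → algebraMap R B π ∣ b := by
    intro b hb
    have h1 := dvd_of_stalkMap_eq_zero f hs hπ.maximalIdeal_eq ξ (e.inv b) hb
    have h2 := map_dvd e.hom.hom h1
    rwa [germ_gl f e he, show e.hom.hom (e.inv b) = b from congr($(e.inv_hom_id) b)] at h2
  have hne : algebraMap R B π ≠ 0 := by
    rw [Ne, map_eq_zero_iff _ (FaithfulSMul.algebraMap_injective R B)]
    exact hπ.ne_zero
  obtain ⟨n, w, hw⟩ := IsDiscreteValuationRing.eq_unit_mul_pow_irreducible hne ht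
  have hnu : ¬ IsUnit (algebraMap R B π) := fun hu => by
    have := hu.map φ
    rw [hφπ, isUnit_zero_iff] at this
    exact zero_ne_one this
  have hn : 0 < n := Nat.pos_of_ne_zero fun h0 => hnu (by rw [hw, h0, pow_zero, mul_one]; exact w.isUnit)
  rw [ht.maximalIdeal_eq, Ideal.span_singleton_eq_span_singleton]
  refine associated_of_dvd_dvd ?_ (hker t ?_)
  · rw [hw]
    exact (dvd_pow_self t hn.ne').mul_left _
  · have h1 : φ t ^ n = 0 := by
      have h2 := congrArg φ hw
      rw [hφπ, map_mul, map_pow] at h2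
      exact ((w.isUnit.map φ).mul_right_eq_zero).mp h2.symm
    exact IsNilpotent.eq_zero ⟨n, h1⟩

variable [IsAlgClosed (IsLocalRing.ResidueField R)] [IsProper f] [ConnectedSpace Xs]
  {XK : Scheme.{u}} {gK : XK ⟶ X} {fK : XK ⟶ Spec (CommRingCat.of (FractionRing R))}
  (hK : IsPullback gK fK f (Spec.map (CommRingCat.ofHom (algebraMap R (FractionRing R)))))
  [Smooth fK] [ConnectedSpace XK]

include hK

/-- `F ⊗ B` is a domain. -/
theorem isDomain_tensor : IsDomain (AlgebraicClosure (FractionRing R) ⊗[R] B) := by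
  haveI := faithfulSMul f e he
  let F := AlgebraicClosure (FractionRing R)
  haveI : FaithfulSMul R F := (faithfulSMul_iff_algebraMap_injective R F).mpr (by
    rw [IsScalarTower.algebraMap_eq R (FractionRing R) F]
    exact (algebraMap (FractionRing R) F).injective.comp (IsFractionRing.injective R (FractionRing R)))
  haveI : Module.Flat R F := Module.Flat.trans R (FractionRing R) F
  obtain ⟨_, ⟨W, hW, rfl⟩, hxW, -⟩ := X.isBasis_affineOpens.exists_subset_of_mem_open
    (Set.mem_univ (gs.base ξ)) isOpen_univ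
  let A := Γ(X, W)
  letI algA : Algebra R A := (ψ f W).toAlgebra
  have hflatA : Module.Flat R A := by
    have h1 := f.flat_appLE (isAffineOpen_top _) hW (le_top : W ≤ f ⁻¹ᵁ ⊤)
    have h2 : ((Scheme.ΓSpecIso (CommRingCat.of R)).inv.hom).Flat :=
      RingHom.Flat.of_bijective (ConcreteCategory.bijective_of_isIso _)
    have h3 := RingHom.Flat.comp h2 h1
    have h4 : ψ f W = (f.appLE ⊤ W le_top).hom.comp
        (Scheme.ΓSpecIso (CommRingCat.of R)).inv.hom := RingHom.ext (ψ_eq_appLE f W)
    exact RingHom.flat_algebraMap_iff.mp (show RingHom.Flat (ψ f W) from h4 ▸ h3)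
  haveI := hflatA
  -- the geometric generic fibre
  let jR : Spec (CommRingCat.of F) ⟶ Spec (CommRingCat.of R) :=
    Spec.map (CommRingCat.ofHom (algebraMap R F))
  let P := pullback f jR
  haveI : IsIntegral P := isIntegral_geometric f hs hK (pullback.fst f jR) (pullback.snd f jR)
    (IsPullback.of_hasPullback f jR)
  -- `F ⊗ A` is isomorphic to sections of `P`
  have hP := IsPullback.of_hasPullback f jR
  haveI hiso := isIso_pushoutSection_of_isAffineOpen hP (US := ⊤) (UX := W) (UT := ⊤)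
    le_top le_top (UY := pullback.fst f jR ⁻¹ᵁ W) (by simp) (isAffineOpen_top _) (isAffineOpen_top _) hW
  have hpo : IsPushout (CommRingCat.ofHom (ψ f W)) (CommRingCat.ofHom (algebraMap R F))
      ((pullback.fst f jR).appLE W (pullback.fst f jR ⁻¹ᵁ W) le_rfl)
      ((Scheme.ΓSpecIso (CommRingCat.of F)).inv ≫
        (pullback.snd f jR).appLE ⊤ (pullback.fst f jR ⁻¹ᵁ W) le_top) := by
    refine IsPushout.of_iso ((isIso_pushoutSection_iff (H := hP) (US := ⊤) (UX := W) (UT := ⊤)
      le_top le_top (UY := pullback.fst f jR ⁻¹ᵁ W) (by simp)).mp hiso)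
      (Scheme.ΓSpecIso (CommRingCat.of R)) (Iso.refl _) (Scheme.ΓSpecIso (CommRingCat.of F)) (Iso.refl _)
      ?_ ?_ ?_ ?_
    · rw [Iso.refl_hom, Category.comp_id, ← Iso.inv_comp_eq]
      ext r
      exact (ψ_eq_appLE f W r).symm
    · have : jR.appLE ⊤ ⊤ le_top = jR.appTop := by simp [Scheme.Hom.appLE]
      rw [this]
      exact Scheme.ΓSpecIso_naturality _
    · simp
    · simp
  let E := Γ(P, pullback.fst f jR ⁻¹ᵁ W)
  let θ : (F ⊗[R] A) ≃+* E :=
    (((CommRingCat.isPushout_tensorProduct R F A).flip).isoIsPushout _ _ hpo).commRingCatIsoToRingEquiv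
  have hinjAT : Function.Injective (Algebra.TensorProduct.includeRight : A →ₐ[R] F ⊗[R] A) :=
    Algebra.TensorProduct.includeRight_injective (FaithfulSMul.algebraMap_injective R F)
  haveI : Nonempty W := ⟨⟨_, hxW⟩⟩
  haveI : Nontrivial A := inferInstance
  haveI : Nontrivial (F ⊗[R] A) := hinjAT.nontrivial
  have hNE : ∃ y : P, y ∈ (pullback.fst f jR ⁻¹ᵁ W) := by
    by_contra hne
    rw [not_exists] at hne
    have hbot : pullback.fst f jR ⁻¹ᵁ W = ⊥ := by
      ext y
      exact ⟨fun hy => (hne y hy).elim, fun h => h.elim⟩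
    have : Subsingleton E := by
      change Subsingleton Γ(P, pullback.fst f jR ⁻¹ᵁ W)
      rw [hbot]
      infer_instance
    haveI := θ.toEquiv.subsingleton
    exact false_of_nontrivial_of_subsingleton (F ⊗[R] A)
  haveI : IsDomain E := @IsIntegral.component_integral P _ (pullback.fst f jR ⁻¹ᵁ W)
    (hNE.elim fun y hy => ⟨⟨y, hy⟩⟩)
  haveI hdFA : IsDomain (F ⊗[R] A) := θ.toMulEquiv.isDomain E
  haveI hdA : IsDomain A := Function.Injective.isDomain _ hinjAT
  -- `A → B`
  let g0 : A →+* B := e.hom.hom.comp (X.presheaf.germ W (gs.base ξ) hxW).hom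
  have hg0 : ∀ r : R, g0 (algebraMap R A r) = algebraMap R B r := fun r => by
    refine Eq.trans ?_ (germ_gl f e he r)
    exact congrArg e.hom
      (TopCat.Presheaf.germ_res_apply X.presheaf (homOfLE (le_top : W ≤ ⊤)) _ hxW (gl f r))
  let g : A →ₐ[R] B := { g0 with commutes' := hg0 }
  letI algSt := TopCat.Presheaf.algebra_section_stalk X.presheaf (⟨gs.base ξ, hxW⟩ : W)
  have hloc := hW.isLocalization_stalk ⟨gs.base ξ, hxW⟩
  set 𝔭 := (hW.primeIdealOf ⟨gs.base ξ, hxW⟩).asIdeal
  have hginj : Function.Injective g := by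
    refine (ConcreteCategory.bijective_of_isIso e.hom).1.comp ?_
    exact @IsLocalization.injective _ _ _ _ _ algSt hloc
      (Ideal.primeCompl_le_nonZeroDivisors 𝔭)
  have hsurj : ∀ b : B, ∃ (a s : A), s ≠ 0 ∧ b * g s = g a := by
    intro b
    obtain ⟨⟨a, s⟩, has⟩ := @IsLocalization.surj _ _ 𝔭.primeCompl _ _ algSt hloc (e.inv b)
    refine ⟨a, s.1, fun h0 => s.2 (by rw [h0]; exact 𝔭.zero_mem), ?_⟩
    have := congrArg e.hom has
    rw [map_mul, show e.hom (e.inv b) = b from congr($(e.inv_hom_id) b)] at this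
    exact this
  let Φ : F ⊗[R] A →ₐ[R] F ⊗[R] B := Algebra.TensorProduct.map (AlgHom.id R F) g
  have hΦ : Function.Injective Φ := by
    have := Module.Flat.lTensor_preserves_injective_linearMap (M := F) g.toLinearMap hginj
    convert this using 1
    apply congrArg DFunLike.coe (show Φ.toLinearMap = g.toLinearMap.lTensor F from
      TensorProduct.ext' fun x y => rfl)
  have hclear : ∀ z : F ⊗[R] B, ∃ (s : A) (w : F ⊗[R] A), s ≠ 0 ∧
      ((1 : F) ⊗ₜ[R] g s) * z = Φ w := by
    intro z
    induction z with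
    | zero => exact ⟨1, 0, one_ne_zero, by simp⟩
    | tmul x b =>
      obtain ⟨a, s, hs0, h⟩ := hsurj b
      refine ⟨s, x ⊗ₜ a, hs0, ?_⟩
      simp [Φ, ← h, mul_comm]
    | add z₁ z₂ h₁ h₂ =>
      obtain ⟨s₁, w₁, hs₁, e₁⟩ := h₁
      obtain ⟨s₂, w₂, hs₂, e₂⟩ := h₂
      refine ⟨s₁ * s₂, ((1 : F) ⊗ₜ[R] s₂) * w₁ + ((1 : F) ⊗ₜ[R] s₁) * w₂,
        mul_ne_zero hs₁ hs₂, ?_⟩
      rw [map_add Φ, map_mul Φ, map_mul Φ, ← e₁, ← e₂]
      simp only [Φ, Algebra.TensorProduct.map_tmul, AlgHom.id_apply, map_mul, ← mul_assoc,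
        Algebra.TensorProduct.tmul_mul_tmul, mul_one, mul_add]
      rw [mul_comm (g s₁) (g s₂)]
  have hreg : ∀ (s : A), s ≠ 0 → ∀ z : F ⊗[R] B, ((1 : F) ⊗ₜ[R] g s) * z = 0 → z = 0 := by
    intro s hs0 z hz
    have hb : g s ≠ 0 := fun h0 => hs0 (hginj (by rw [h0, map_zero]))
    have := Module.Flat.lTensor_preserves_injective_linearMap (M := F)
      (LinearMap.mulLeft R (g s)) (mul_right_injective₀ hb)
    refine this (a₂ := 0) ?_
    rw [map_zero, ← hz]
    clear hz
    induction z with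
    | zero => simp
    | tmul x b => simp
    | add z₁ z₂ h₁ h₂ => rw [map_add, mul_add, h₁, h₂]
  haveI : Nontrivial (F ⊗[R] B) := Algebra.TensorProduct.includeRight_injective
    (A := F) (B := B) (FaithfulSMul.algebraMap_injective R F) |>.nontrivial
  have : NoZeroDivisors (F ⊗[R] B) := ⟨fun {x y} hxy => by
    obtain ⟨s, w, hs0, hw⟩ := hclear x
    obtain ⟨t, v, ht0, hv⟩ := hclear y
    have h0 : Φ (w * v) = Φ 0 := by
      rw [map_mul, map_zero, ← hw, ← hv, mul_mul_mul_comm, hxy, mul_zero]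
    rcases mul_eq_zero.mp (hΦ h0) with h | h
    · exact Or.inl (hreg s hs0 x (by rw [hw, h, map_zero]))
    · exact Or.inr (hreg t ht0 y (by rw [hv, h, map_zero]))⟩
  exact NoZeroDivisors.to_isDomain _

/-- `F ⊗ B` is a field. -/
theorem isField_tensor : IsField (AlgebraicClosure (FractionRing R) ⊗[R] B) := by
  haveI := faithfulSMul f e he
  let F := AlgebraicClosure (FractionRing R)
  haveI : IsDomain (F ⊗[R] B) := isDomain_tensor f hs e he hK
  haveI : Algebra.IsAlgebraic R F :=
    (IsFractionRing.comap_isAlgebraic_iff (A := R) (K := FractionRing R)).mpr inferInstance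
  obtain ⟨π, hπ⟩ := IsDiscreteValuationRing.exists_irreducible R
  have hπB : Irreducible (algebraMap R B π) := by
    refine (IsDiscreteValuationRing.irreducible_iff_uniformizer _).mpr ?_
    rw [maximalIdeal_eq f hs e he, hπ.maximalIdeal_eq, Ideal.map_span, Set.image_singleton]
  letI : Algebra B (F ⊗[R] B) := Algebra.TensorProduct.rightAlgebra
  have hR0 : ∀ r : R, r ≠ 0 → IsUnit (algebraMap R (F ⊗[R] B) r) := fun r hr => by
    have h1 : algebraMap R F r ≠ 0 := by
      rw [IsScalarTower.algebraMap_apply R (FractionRing R) F]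
      simp [hr]
    exact (IsUnit.map (Algebra.TensorProduct.includeLeftRingHom (R := R) (A := F) (B := B))
      (isUnit_iff_ne_zero.mpr h1))
  have hint : ∀ z : F ⊗[R] B, ∃ r : R, r ≠ 0 ∧
      IsIntegral B (algebraMap R (F ⊗[R] B) r * z) := by
    intro z
    induction z with
    | zero => exact ⟨1, one_ne_zero, by rw [mul_zero]; exact isIntegral_zero⟩
    | tmul x b =>
      obtain ⟨r, hr, hi⟩ := IsAlgebraic.exists_integral_multiple
        (Algebra.IsAlgebraic.isAlgebraic (R := R) x)
      refine ⟨r, hr, ?_⟩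
      have h1 : algebraMap R (F ⊗[R] B) r * (x ⊗ₜ[R] b) =
          Algebra.TensorProduct.includeLeft (R := R) (S := R) (r • x) *
            algebraMap B (F ⊗[R] B) b := by
        simp [Algebra.TensorProduct.rightAlgebra, RingHom.algebraMap_toAlgebra, Algebra.smul_def]
      rw [h1]
      refine IsIntegral.mul ?_ isIntegral_algebraMap
      exact IsIntegral.tower_top (R := R) (hi.map _)
    | add z₁ z₂ h₁ h₂ =>
      obtain ⟨r₁, hr₁, i₁⟩ := h₁
      obtain ⟨r₂, hr₂, i₂⟩ := h₂
      refine ⟨r₁ * r₂, mul_ne_zero hr₁ hr₂, ?_⟩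
      have h3 : ∀ r : R, IsIntegral B (algebraMap R (F ⊗[R] B) r) := fun r =>
        IsIntegral.tower_top (R := R) isIntegral_algebraMap
      have h4 : algebraMap R (F ⊗[R] B) (r₁ * r₂) * (z₁ + z₂) =
          algebraMap R (F ⊗[R] B) r₂ * (algebraMap R (F ⊗[R] B) r₁ * z₁) +
            algebraMap R (F ⊗[R] B) r₁ * (algebraMap R (F ⊗[R] B) r₂ * z₂) := by
        rw [map_mul]; ring
      rw [h4]
      exact ((h3 r₂).mul i₁).add ((h3 r₁).mul i₂)
  refine ⟨⟨0, 1, zero_ne_one⟩, mul_comm, fun {z} hz => ?_⟩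
  obtain ⟨r, hr, hi⟩ := hint z
  have hz' : algebraMap R (F ⊗[R] B) r * z ≠ 0 := mul_ne_zero (hR0 r hr).ne_zero hz
  obtain ⟨c, hc0, hc⟩ := (hi.isAlgebraic).exists_nonzero_dvd
    (mem_nonZeroDivisors_of_ne_zero hz')
  obtain ⟨n, w, hcw⟩ := IsDiscreteValuationRing.eq_unit_mul_pow_irreducible hc0 hπB
  have hcu : IsUnit (algebraMap B (F ⊗[R] B) c) := by
    rw [hcw, map_mul, map_pow]
    refine (w.isUnit.map _).mul (IsUnit.pow _ ?_)
    have : algebraMap B (F ⊗[R] B) (algebraMap R B π) = algebraMap R (F ⊗[R] B) π :=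
      (IsScalarTower.algebraMap_apply R B (F ⊗[R] B) π).symm
    rw [this]
    exact hR0 π hπ.ne_zero
  have hzu : IsUnit z := isUnit_of_mul_isUnit_right (isUnit_of_dvd_unit hc hcu)
  obtain ⟨u, rfl⟩ := hzu
  exact ⟨↑u⁻¹, by simp⟩

/-- `B ⊗ R'` is a DVR for an extension of DVRs `R → R'` which is generically finite. -/
theorem isDVR_tensor (R' : Type u) [CommRing R'] [IsDomain R'] [IsDiscreteValuationRing R']
    [Algebra R R'] (hinj : Function.Injective (algebraMap R R')) [IsLocalHom (algebraMap R R')]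
    [Module.Finite (FractionRing R) (FractionRing R ⊗[R] R')] :
    ∃ _ : IsDomain (B ⊗[R] R'), IsDiscreteValuationRing (B ⊗[R] R') := by
  haveI := faithfulSMul f e he
  haveI : FaithfulSMul R R' := (faithfulSMul_iff_algebraMap_injective R R').mpr hinj
  let K := FractionRing R
  let F := AlgebraicClosure K
  -- `R'` is algebraic over `R`
  haveI halg : Algebra.IsAlgebraic R R' := ⟨fun x => by
    have hK : IsAlgebraic K ((1 : K) ⊗ₜ[R] x) := (IsIntegral.of_finite K _).isAlgebraic
    have h1 : IsAlgebraic R ((1 : K) ⊗ₜ[R] x) :=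
      (IsFractionRing.isAlgebraic_iff R K (K ⊗[R] R')).mpr hK
    exact (isAlgebraic_algHom_iff (Algebra.TensorProduct.includeRight : R' →ₐ[R] K ⊗[R] R')
      (Algebra.TensorProduct.includeRight_injective (IsFractionRing.injective R K))).mp h1⟩
  haveI : FaithfulSMul R F := (faithfulSMul_iff_algebraMap_injective R F).mpr (by
    rw [IsScalarTower.algebraMap_eq R K F]
    exact (algebraMap K F).injective.comp (IsFractionRing.injective R K))
  haveI : IsDomain (F ⊗[R] B) := isDomain_tensor f hs e he hK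
  haveI : IsDomain (B ⊗[R] R') := DVRTensor.isDomain_tensor R B R' F
  exact ⟨inferInstance, DVRTensor.isDVR_tensor_of_isDomain R B R' hinj (maximalIdeal_eq f hs e he)⟩

end Groth.ModelsGraphs.DVRComponent
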