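import Groth.Agent.ModelsGraphs.InterVert
import Groth.Agent.ModelsGraphs.FieldChain
import Groth.Agent.ModelsGraphs.ExcCriterion
import Groth.Agent.FlatMor2.AdaptedOpens
import Groth.Agent.Ega4Algebra1.RegularLocal

/-!
# A regular model with a section
-/

set_option autoImplicit false
set_option backward.isDefEq.respectTransparency.types false

universe u

open CategoryTheory CategoryTheory.Limits AlgebraicGeometry TopologicalSpace

namespace Groth.ModelsGraphs.RationalPoint

open Groth.ModelsGraphs.Inter Groth.ModelsGraphs.InterPair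

/-- Global functions pulled back along a change of base. -/
lemma toGlobal_comp_specMap {A B : Type u} [CommRing A] [CommRing B] {Y : Scheme.{u}}
    (h : Y ⟶ Spec (CommRingCat.of B)) (φ : A →+* B) (a : A) :
    Coh.toGlobal (h ≫ Spec.map (CommRingCat.ofHom φ)) a = Coh.toGlobal h (φ a) := by
  change (h ≫ Spec.map (CommRingCat.ofHom φ)).appTop ((Scheme.ΓSpecIso (CommRingCat.of A)).inv a) =
    h.appTop ((Scheme.ΓSpecIso (CommRingCat.of B)).inv (φ a))
  rw [Scheme.Hom.comp_appTop, CommRingCat.comp_apply]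
  exact congrArg h.appTop
    (ConcreteCategory.congr_hom (Scheme.ΓSpecIso_inv_naturality (CommRingCat.ofHom φ)) a).symm

variable {R : Type u} [CommRing R] [IsDomain R] [IsDiscreteValuationRing R]
  {X : Over (Spec (CommRingCat.of R))}

local notation "kR" => IsLocalRing.ResidueField R

omit [IsDiscreteValuationRing R] [IsDomain R] in
/-- Evaluating at the closed point of a section inverts the structure map. -/
lemma stalkClosedPointTo_stalkHom [IsLocalRing R] (σ : Spec (CommRingCat.of R) ⟶ X.left)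
    (hσ : σ ≫ X.hom = 𝟙 _) (r : R) :
    (Scheme.stalkClosedPointTo σ)
        ((X.left.presheaf.germ ⊤ (σ (IsLocalRing.closedPoint R)) trivial) (Coh.toGlobal X.hom r)) = r := by
  have e1 : X.left.presheaf.germ ⊤ (σ (IsLocalRing.closedPoint R)) trivial ≫
      Scheme.stalkClosedPointTo σ = σ.appTop ≫ (Scheme.ΓSpecIso (CommRingCat.of R)).hom := by
    refine (Scheme.germ_stalkClosedPointTo σ ⊤ trivial).trans ?_
    simp [Scheme.Hom.appTop]
    all_goals congr 1
  refine (congr(($e1) (Coh.toGlobal X.hom r))).trans ?_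
  have e2 : X.hom.appTop ≫ σ.appTop = 𝟙 _ := by
    rw [← Scheme.Hom.comp_appTop, hσ]
    rfl
  rw [CommRingCat.comp_apply]
  change (Scheme.ΓSpecIso (CommRingCat.of R)).hom
    ((X.hom.appTop ≫ σ.appTop) ((Scheme.ΓSpecIso (CommRingCat.of R)).inv r)) = r
  rw [e2]
  exact congr($((Scheme.ΓSpecIso (CommRingCat.of R)).inv_hom_id) r)

/-- The closed point of a section is rational over the residue field. -/
theorem residue_surjective (σ : Spec (CommRingCat.of R) ⟶ X.left) (hσ : σ ≫ X.hom = 𝟙 _) :
    Function.Surjective ((X.left.residue (σ (IsLocalRing.closedPoint R))).hom.comp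
      (Models.stalkHom R X (σ (IsLocalRing.closedPoint R)))) := by
  intro z
  obtain ⟨u, rfl⟩ := IsLocalRing.residue_surjective z
  refine ⟨Scheme.stalkClosedPointTo σ u, ?_⟩
  change IsLocalRing.residue _ _ = IsLocalRing.residue _ u
  rw [← sub_eq_zero, ← map_sub, IsLocalRing.residue_eq_zero_iff, IsLocalRing.mem_maximalIdeal,
    mem_nonunits_iff]
  intro hu
  refine not_isUnit_zero (M₀ := R) ?_
  have h := hu.map (Scheme.stalkClosedPointTo σ).hom
  rw [map_sub, show (Scheme.stalkClosedPointTo σ).hom (Models.stalkHom R X _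
    (Scheme.stalkClosedPointTo σ u)) = Scheme.stalkClosedPointTo σ u from
    stalkClosedPointTo_stalkHom σ hσ _] at h
  simpa using h

/-- A component through a point with regular fibre ring has multiplicity one. -/
theorem mult_eq_one [Flat X.hom] [IsLocallyNoetherian X.left] (hreg : Models.IsRegularScheme X.left)
    {Γ : ArSurf.VertComp R X} (hmem : Set.range Γ.ι.base ∈ Models.fibreComponents R X) {x : X.left}
    (hx : Models.genPtOf R X Γ ⤳ x)
    (hfib : IsRegularLocalRing (X.left.presheaf.stalk x ⧸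
      Ideal.map (Models.stalkHom R X x) (IsLocalRing.maximalIdeal R))) :
    Models.mult R X Γ = 1 := by
  obtain ⟨π, hπ⟩ := IsDiscreteValuationRing.exists_irreducible R
  set ξ := Models.genPtOf R X Γ
  let t := Models.stalkHom R X x π
  have hmap : ∀ y, Ideal.map (Models.stalkHom R X y) (IsLocalRing.maximalIdeal R) =
      Ideal.span {Models.stalkHom R X y π} := fun y => by
    rw [hπ.maximalIdeal_eq, Ideal.map_span, Set.image_singleton]
  rw [hmap] at hfib
  haveI : (Ideal.span {t}).IsPrime := by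
    haveI := hfib
    haveI : IsDomain (X.left.presheaf.stalk x ⧸ Ideal.span {t}) :=
      Groth.Ega4Algebra1.isDomain_of_isRegularLocalRing _
    exact (Ideal.Quotient.isDomain_iff_prime _).1 inferInstance
  obtain ⟨y, hyx, hu, -⟩ := Groth.RefRank.exists_generization_of_prime (Ideal.span {t})
  have hspec : ∀ {z : X.left} (h : z ⤳ x) (r : R),
      Groth.RefRank.rspec h (Models.stalkHom R X x r) = Models.stalkHom R X z r := fun h r =>
    Groth.RefRank.rspec_germ h (U := ⊤) trivial (Coh.toGlobal X.hom r)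
  have hξu : ¬ IsUnit (Models.stalkHom R X ξ π) := (mem_specialFibreSet_iff hπ ξ).1 (genPtOf_mem hmem)
  have hyS : y ∈ Models.specialFibreSet R X := by
    rw [mem_specialFibreSet_iff hπ, ← hspec hyx, hu, not_not]
    exact Ideal.mem_span_singleton_self t
  have hyξ : y = ξ := by
    refine eq_genPtOf hmem hyS ?_
    obtain ⟨_, ⟨U, hU, rfl⟩, hxU, -⟩ :=
      X.left.isBasis_affineOpens.exists_subset_of_mem_open (Set.mem_univ x) isOpen_univ
    have hyU : y ∈ U := hyx.mem_open U.2 hxU
    have hξU : ξ ∈ U := hx.mem_open U.2 hxU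
    refine (Groth.DivisorLength.specializes_iff (W := ⟨U, hU⟩) hyU hξU).2 fun a ha => ?_
    by_contra hna
    have h1 : IsUnit (X.left.presheaf.germ U ξ hξU a) := (Scheme.mem_basicOpen _ a ξ hξU).1
      ((Groth.FlatMor2.mem_basicOpen_iff_notMem_primeIdealOf hU ⟨ξ, hξU⟩ a).2 hna)
    have h2 : X.left.presheaf.germ U x hxU a ∈ Ideal.span {t} := by
      by_contra h
      have h3 := (hu _).2 h
      rw [Groth.RefRank.rspec_germ] at h3
      exact (Groth.FlatMor2.mem_basicOpen_iff_notMem_primeIdealOf hU ⟨y, hyU⟩ a).1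
        ((Scheme.mem_basicOpen _ a y hyU).2 h3) ha
    obtain ⟨b, hb⟩ := Ideal.mem_span_singleton.1 h2
    have h4 := congrArg (Groth.RefRank.rspec hx) hb
    rw [Groth.RefRank.rspec_germ, map_mul, hspec hx] at h4
    rw [h4, IsUnit.mul_iff] at h1
    exact hξu h1.1
  subst hyξ
  have hmax : IsLocalRing.maximalIdeal (X.left.presheaf.stalk ξ) =
      Ideal.span {Models.stalkHom R X ξ π} := by
    refine le_antisymm (fun v hv => ?_) ((Ideal.span_singleton_le_iff_mem _).2 hξu)
    obtain ⟨_, ⟨U, hU, rfl⟩, hxU, -⟩ :=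
      X.left.isBasis_affineOpens.exists_subset_of_mem_open (Set.mem_univ x) isOpen_univ
    have hξU : ξ ∈ U := hx.mem_open U.2 hxU
    obtain ⟨r₁, c, hc, hcv⟩ := Groth.RefRank.exists_mul_germ_eq hU hξU v
    have hr : X.left.presheaf.germ U x hxU r₁ ∈ Ideal.span {t} := by
      by_contra h
      have h3 := (hu _).2 h
      rw [Groth.RefRank.rspec_germ] at h3
      refine hv (isUnit_of_mul_isUnit_right (x := X.left.presheaf.germ U ξ hξU c) ?_)
      rw [hcv]
      exact h3
    obtain ⟨b, hb⟩ := Ideal.mem_span_singleton.1 hr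
    have h4 := congrArg (Groth.RefRank.rspec hx) hb
    rw [Groth.RefRank.rspec_germ, map_mul, hspec hx] at h4
    rw [← Ideal.unit_mul_mem_iff_mem _ ((Scheme.mem_basicOpen _ c ξ hξU).1 hc), hcv, h4]
    exact Ideal.mul_mem_right _ _ (Ideal.mem_span_singleton_self _)
  unfold Models.mult
  rw [hmap, ← hmax]
  haveI : IsSimpleModule (X.left.presheaf.stalk ξ)
      (X.left.presheaf.stalk ξ ⧸ IsLocalRing.maximalIdeal (X.left.presheaf.stalk ξ)) :=
    isSimpleModule_iff_quot_maximal.2 ⟨_, IsLocalRing.maximalIdeal.isMaximal _, ⟨LinearEquiv.refl _ _⟩⟩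
  rw [Module.length_eq_one]
  rfl

/-- The global functions of a component with a rational point are the residue field. -/
theorem toGlobal_surjective_of_point [IsProper X.hom] (Γ : ArSurf.VertComp R X) (c : Γ.curve.left)
    (hc : Function.Surjective ((X.left.residue (Γ.ι c)).hom.comp (Models.stalkHom R X (Γ.ι c)))) :
    Function.Surjective (Coh.toGlobal (Γ.ι ≫ X.hom)) := by
  haveI := Γ.isIntegral
  haveI : IsProper Γ.curve.hom := isProper_hom Γ
  let Y := Γ.curve.left
  let ev : Γ(Y, ⊤) →+* Y.residueField c :=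
    (Y.residue c).hom.comp (Y.presheaf.germ ⊤ c trivial).hom
  have hev : ∀ r, ev (Coh.toGlobal (Γ.ι ≫ X.hom) r) =
      (Γ.ι.residueFieldMap c) (((X.left.residue (Γ.ι c)).hom.comp (Models.stalkHom R X (Γ.ι c))) r) := by
    intro r
    change Y.residue c (Y.presheaf.germ ⊤ c trivial (Γ.ι.appTop (Coh.toGlobal X.hom r))) =
      Γ.ι.residueFieldMap c (X.left.residue (Γ.ι c)
        (X.left.presheaf.germ ⊤ (Γ.ι c) trivial (Coh.toGlobal X.hom r)))
    rw [← CommRingCat.comp_apply _ (Γ.ι.residueFieldMap c), Scheme.residue_residueFieldMap,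
      CommRingCat.comp_apply]
    exact congrArg (Y.residue c) (Scheme.Hom.germ_stalkMap_apply Γ.ι ⊤ c trivial _).symm
  have hsurj : Function.Surjective (Γ.ι.residueFieldMap c) := by
    intro z
    obtain ⟨w, rfl⟩ := IsLocalRing.residue_surjective z
    obtain ⟨v, rfl⟩ := Γ.ι.stalkMap_surjective c w
    exact ⟨X.left.residue _ v,
      congr($(Scheme.residue_residueFieldMap Γ.ι c) v)⟩
  have hF : IsField Γ(Y, ⊤) := isField_of_universallyClosed kR Γ.curve.hom
  have hinj : Function.Injective ev := by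
    letI := hF.toField
    exact ev.injective
  intro a
  obtain ⟨b, hb⟩ := hsurj (ev a)
  obtain ⟨r, rfl⟩ := hc b
  exact ⟨r, hinj ((hev r).trans hb)⟩

/-- `h⁰(O_Γ) = 1` when `R` surjects onto the global functions. -/
theorem wdeg_eq_one [IsProper X.hom] (Γ : ArSurf.VertComp R X)
    (h : Function.Surjective (Coh.toGlobal (Γ.ι ≫ X.hom))) : Models.wdeg R X Γ = 1 := by
  haveI := Γ.isIntegral
  have hsurj : Function.Surjective (Coh.toGlobal Γ.curve.hom) := fun a => by
    obtain ⟨r, hr⟩ := h a
    refine ⟨IsLocalRing.residue R r, ?_⟩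
    rw [← toGlobal_comp_specMap Γ.curve.hom (IsLocalRing.residue R) r, ← Γ.w, hr]
  haveI : Nontrivial Γ(Γ.curve.left, ⊤) := inferInstance
  have hinj : Function.Injective (show kR →+* Γ(Γ.curve.left, ⊤) from Coh.toGlobal Γ.curve.hom) :=
    RingHom.injective _
  exact ExcCriterion.h0_eq_one_of_bijective (X := Γ.curve.left) kR ⟨hinj, hsurj⟩

/-- `length H⁰(O_Z) = 1` when `Γ(O_Z)` is a field mapping to functions onto which `R` surjects. -/
theorem lengthH_zero_eq_one [IsProper X.hom] (I : X.left.IdealSheafData)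
    (hF : FieldChain.IsFieldSub I) (Γ : ArSurf.VertComp R X) (hI : I ≤ Γ.ι.ker)
    (hsurj : Function.Surjective (Coh.toGlobal (Γ.ι ≫ X.hom))) :
    Models.lengthH R X (ClSub.quotMod I) 0 = 1 := by
  haveI := Γ.isIntegral
  let q := I.subschemeι ≫ X.hom
  let τ : R →+* Γ(I.subscheme, ⊤) := Coh.toGlobal q
  let j := Γ.ι.toImage ≫ Scheme.IdealSheafData.inclusion hI
  have hj : j ≫ I.subschemeι = Γ.ι := by
    rw [Category.assoc, Scheme.IdealSheafData.inclusion_subschemeι]
    exact Γ.ι.toImage_imageι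
  letI := hF.toField
  haveI : Nontrivial Γ(Γ.curve.left, ⊤) := inferInstance
  have hτ : Function.Surjective τ := by
    intro a
    obtain ⟨r, hr⟩ := hsurj (j.appTop a)
    refine ⟨r, (j.appTop.hom : Γ(I.subscheme, ⊤) →+* Γ(Γ.curve.left, ⊤)).injective ?_⟩
    rw [← hr, ← hj, Category.assoc]
    rfl
  letI := τ.toAlgebra
  let eS := Groth.CohFin.equivSections X.hom (ClSub.quotMod I)
  let sec : Groth.CohFin.HA X.hom (ClSub.quotMod I) 0 ≃ₗ[R] Γ(I.subscheme, ⊤) :=
    { toFun := fun x => (eS x : Γ(ClSub.quotMod I, ⊤))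
      invFun := fun s => eS.symm (s : Γ(ClSub.quotMod I, ⊤))
      left_inv := eS.symm_apply_apply
      right_inv := eS.apply_symm_apply
      map_add' := eS.map_add
      map_smul' := fun r x => Groth.CohFin.equivSections_smul X.hom (ClSub.quotMod I) r x }
  haveI : IsSimpleModule R Γ(I.subscheme, ⊤) := isSimpleModule_iff_quot_maximal.2
    ⟨LinearMap.ker (Algebra.linearMap R Γ(I.subscheme, ⊤)), RingHom.ker_isMaximal_of_surjective τ hτ,
      ⟨((Algebra.linearMap R Γ(I.subscheme, ⊤)).quotKerEquivOfSurjective hτ).symm⟩⟩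
  change (Module.length R (Groth.CohFin.HA X.hom (ClSub.quotMod I) 0)).toNat = 1
  rw [sec.length_eq, Module.length_eq_one]
  rfl

end Groth.ModelsGraphs.RationalPoint
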