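import Groth.Agent.ModelsGraphs.LengthSum
import Groth.Agent.ModelsGraphs.ArithDim
import Groth.Agent.ModelsGraphs.RedFibreAlgClosed
import Groth.Agent.ModelsGraphs.InterVert
import Groth.Agent.ModelsGraphs.RationalPoint
import Groth.Agent.Hensel1.QFSplit
import Groth.Agent.S2821
import Groth.Agent.DivisorLength.Main
import Groth.Agent.FlatMor2.AdaptedOpens
import Mathlib.RingTheory.ZariskisMainTheorem

/-!
# The degree of a point of the generic fibre in terms of multiplicities
-/

set_option autoImplicit false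
set_option backward.isDefEq.respectTransparency.types false

universe u

open CategoryTheory CategoryTheory.Limits AlgebraicGeometry TopologicalSpace

namespace Groth.ModelsGraphs.DegreeSpan

open Groth.ModelsGraphs.Inter

attribute [local instance] Curv2.resAlgebra

/-- A nonzero prime of height at most one in a factorial domain is generated by a prime element. -/
theorem exists_prime_generator {A : Type u} [CommRing A] [IsDomain A] [IsNoetherianRing A]
    [UniqueFactorizationMonoid A] (q : Ideal A) [q.IsPrime] (h0 : q ≠ ⊥) (h1 : q.height ≤ 1) :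
    ∃ t, Prime t ∧ q = Ideal.span {t} := by
  obtain ⟨t, htq, ht⟩ := Ideal.IsPrime.exists_mem_prime_of_ne_bot ‹q.IsPrime› h0
  refine ⟨t, ht, ?_⟩
  haveI : (Ideal.span {t}).IsPrime := (Ideal.span_singleton_prime ht.ne_zero).2 ht
  by_contra hne
  have hlt : Ideal.span {t} < q :=
    lt_of_le_of_ne ((Ideal.span_singleton_le_iff_mem _).2 htq) (fun h => hne h.symm)
  have h2 : (⊥ : Ideal A).height < (Ideal.span {t}).height :=
    Ideal.height_strict_mono_of_isPrime_of_isPrime (bot_lt_iff_ne_bot.2 (by
      rw [Ne, Ideal.span_singleton_eq_bot]; exact ht.ne_zero))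
  have h3 := h2.trans_le (Order.le_of_lt_succ (a := (Ideal.span {t}).height) (b := 0) ?_)
  · exact absurd h3 not_lt_zero
  · rw [Order.succ_eq_add_one, zero_add]
    exact (Ideal.height_strict_mono_of_isPrime_of_isPrime hlt).trans_le h1

/-- A finite local algebra over a henselian ring cut out by an isolated point of the closed fibre. -/
theorem finite_of_isolated (R B : Type u) [CommRing R] [HenselianLocalRing R] [CommRing B] [IsDomain B]
    [Algebra R B] [Algebra.FiniteType R B] (q : Ideal B) [q.IsPrime]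
    (hqR : q.comap (algebraMap R B) = IsLocalRing.maximalIdeal R)
    (hfib : ∀ Q : Ideal B, Q.IsPrime → Q.comap (algebraMap R B) = IsLocalRing.maximalIdeal R → Q = q) :
    Module.Finite R B ∧ IsLocalRing B := by
  haveI : q.LiesOver (IsLocalRing.maximalIdeal R) := ⟨hqR.symm⟩
  haveI : Algebra.QuasiFiniteAt R q := by
    refine Algebra.QuasiFiniteAt.of_isOpen_singleton_fiber ⟨q, inferInstance⟩ ?_
    convert isOpen_univ
    refine Set.eq_univ_of_forall fun ⟨Q, hQ⟩ => Subtype.ext (PrimeSpectrum.ext ?_)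
    refine hfib Q.asIdeal inferInstance ?_
    rw [Set.mem_preimage, Set.mem_singleton_iff] at hQ
    exact (congrArg PrimeSpectrum.asIdeal hQ).trans hqR
  obtain ⟨e, heq, hfg, hloc⟩ := Groth.Hensel1.exists_idempotent_of_quasiFiniteAt (R := R) q
  have he : e = 1 := ((IsIdempotentElem.iff_eq_zero_or_one).1 hfg.1).resolve_left fun h =>
    heq (h ▸ q.zero_mem)
  haveI : Module.Finite R (B ⧸ Ideal.span {1 - e}) := hfg.finite
  have hbot : Ideal.span {1 - e} = ⊥ := by rw [he, sub_self, Ideal.span_singleton_eq_bot]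
  let ε : (B ⧸ Ideal.span {1 - e}) ≃ₐ[R] B :=
    ((Ideal.quotientEquivAlgOfEq R hbot).trans (AlgEquiv.quotientBot R B))
  exact ⟨Module.Finite.equiv ε.toLinearEquiv, ε.toRingEquiv.isLocalRing⟩

variable {R : Type u} [CommRing R] [IsDomain R] [IsDiscreteValuationRing R]
  {XR : Over (Spec (CommRingCat.of R))}

local notation "K" => FractionRing R

theorem exists_degree_eq_sum [HenselianLocalRing R] [IsAlgClosed (IsLocalRing.ResidueField R)]
    [IsIntegral XR.left] [IsProper XR.hom] [Flat XR.hom] (hreg : Models.IsRegularScheme XR.left)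
    {C : Scheme.{u}} [C.Over (Spec (CommRingCat.of K))] [IsIntegral C] (hdC : topologicalKrullDim C = 1)
    (iX : C ⟶ XR.left)
    (hiX : IsPullback iX (C ↘ Spec (CommRingCat.of K)) XR.hom
      (Spec.map (CommRingCat.ofHom (algebraMap R K))))
    (x : XR.left) (hx : IsClosed ({x} : Set XR.left)) (hxs : x ∈ Models.specialFibreSet R XR)
    {n : ℕ} (Γ : Fin n → ArSurf.VertComp R XR)
    (hinj : Function.Injective fun i => Set.range ((Γ i).ι.base : (Γ i).curve.left → XR.left))
    (hΓ : ∀ Z ∈ Models.fibreComponents R XR,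
      x ∈ Z ↔ ∃ i, Set.range ((Γ i).ι.base : (Γ i).curve.left → XR.left) = Z)
    (P : C) (hP : IsClosed ({P} : Set C))
    (hPx : closure ({iX.base P} : Set XR.left) ∩ Models.specialFibreSet R XR = {x}) :
    ∃ c : Fin n → ℕ, (∀ i, 1 ≤ c i) ∧
      Module.finrank K (C.residueField P) = ∑ i, c i * Models.mult R XR (Γ i) := by
  classical
  haveI : IsLocallyNoetherian XR.left := LocallyOfFiniteType.isLocallyNoetherian XR.hom
  haveI : CompactSpace XR.left := QuasiCompact.compactSpace_of_compactSpace XR.hom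
  haveI : IsNoetherian XR.left := ⟨⟩
  obtain ⟨π, hπ⟩ := IsDiscreteValuationRing.exists_irreducible R
  -- the generic fibre is open
  haveI : IsLocalization.Away π K := by
    refine IsLocalization.Away.mk π (isUnit_iff_ne_zero.mpr
      ((map_ne_zero_iff _ (IsFractionRing.injective R _)).mpr hπ.ne_zero)) (fun z => ?_)
      (fun a b h => ⟨0, by rw [IsFractionRing.injective R K h]⟩)
    obtain ⟨a, b, hb, rfl⟩ := IsFractionRing.div_surjective (A := R) z
    obtain ⟨k, w, hw⟩ := IsDiscreteValuationRing.eq_unit_mul_pow_irreducible (nonZeroDivisors.ne_zero hb) hπ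
    refine ⟨k, a * ↑w⁻¹, ?_⟩
    have hb0 : algebraMap R K b ≠ 0 :=
      (map_ne_zero_iff _ (IsFractionRing.injective R _)).mpr (nonZeroDivisors.ne_zero hb)
    rw [div_mul_eq_mul_div, div_eq_iff hb0, ← map_pow, ← map_mul, ← map_mul, hw]
    congr 1
    rw [mul_assoc, ← mul_assoc (↑w⁻¹ : R), Units.inv_mul, one_mul]
  haveI : IsOpenImmersion (Spec.map (CommRingCat.ofHom (algebraMap R K))) :=
    IsOpenImmersion.of_isLocalization π
  haveI : IsOpenImmersion iX := MorphismProperty.of_isPullback hiX.flip inferInstance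
  have hdX : topologicalKrullDim XR.left ≤ 2 := ArithDim.dim_le_two _ iX hiX hdC.le
  have hcomp : ∀ i, Set.range (Γ i).ι.base ∈ Models.fibreComponents R XR := fun i =>
    ArithDim.range_mem_fibreComponents hdX (Γ i)
  -- the point `iX P`
  set y := iX.base P with hydef
  have hyx : y ⤳ x := specializes_iff_mem_closure.2 (hPx.ge rfl).1
  have hyS : y ∉ Models.specialFibreSet R XR := fun h => by
    have h1 : y = x := hPx.le ⟨subset_closure rfl, h⟩
    have h2 : XR.hom y = Spec.map (CommRingCat.ofHom (algebraMap R K)) ((C ↘ Spec (CommRingCat.of K)) P) := by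
      rw [hydef, ← Scheme.Hom.comp_apply, hiX.w, Scheme.Hom.comp_apply]
    have h3 : π ∈ (Spec.map (CommRingCat.ofHom (algebraMap R K)) ((C ↘ Spec (CommRingCat.of K)) P)).asIdeal := by
      rw [← h2, show XR.hom y = IsLocalRing.closedPoint R from h]
      exact hπ.not_isUnit
    exact ((C ↘ Spec (CommRingCat.of K)) P).isPrime.ne_top (Ideal.eq_top_of_isUnit_mem _ h3
      (isUnit_iff_ne_zero.2 ((map_ne_zero_iff _ (IsFractionRing.injective R K)).2 hπ.ne_zero)))
  obtain ⟨U, hxU, -⟩ := Groth.Divisors.exists_affine_le x ⊤ trivial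
  have hyU : y ∈ U.1 := hyx.mem_open U.1.2 hxU
  haveI : Nonempty U.1 := ⟨⟨x, hxU⟩⟩
  haveI := IsLocallyNoetherian.component_noetherian U
  let A := Γ(XR.left, U.1)
  letI : Algebra R A := (DVRFibre.ψ XR.hom U.1).toAlgebra
  haveI : Algebra.FiniteType R A := by
    have h1 := XR.hom.finiteType_appLE (isAffineOpen_top _) U.2 (le_top : U.1 ≤ XR.hom ⁻¹ᵁ ⊤)
    have h2 : ((Scheme.ΓSpecIso (CommRingCat.of R)).inv.hom).FiniteType :=
      RingHom.FiniteType.of_surjective _ (ConcreteCategory.bijective_of_isIso _).2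
    exact h1.comp h2
  let 𝔭 : Ideal A := (U.2.primeIdealOf ⟨y, hyU⟩).asIdeal
  let 𝔪 : Ideal A := (U.2.primeIdealOf ⟨x, hxU⟩).asIdeal
  have h𝔭𝔪 : 𝔭 ≤ 𝔪 := (Groth.DivisorLength.specializes_iff hyU hxU).1 hyx
  have hmemS : ∀ (z : XR.left) (hz : z ∈ U.1),
      z ∈ Models.specialFibreSet R XR ↔ algebraMap R A π ∈ (U.2.primeIdealOf ⟨z, hz⟩).asIdeal :=
    fun z hz => by
      rw [mem_specialFibreSet_iff hπ, stalkHom_eq_germ U.1 z hz, Groth.DivisorLength.isUnit_germ_iff hz,
        not_not]
      rfl
  have hπ𝔪 : algebraMap R A π ∈ 𝔪 := (hmemS x hxU).1 hxs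
  have hπ𝔭 : algebraMap R A π ∉ 𝔭 := fun h => hyS ((hmemS y hyU).2 h)
  haveI h𝔪max : 𝔪.IsMaximal := U.2.primeIdealOf_isMaximal_of_isClosed ⟨x, hxU⟩ hx
  haveI : 𝔭.IsPrime := (U.2.primeIdealOf ⟨y, hyU⟩).isPrime
  haveI : 𝔪.IsPrime := (U.2.primeIdealOf ⟨x, hxU⟩).isPrime
  -- the horizontal curve is finite
  let B := A ⧸ 𝔭
  let mkB : A →+* B := Ideal.Quotient.mk 𝔭
  haveI : (𝔪.map mkB).IsPrime := Ideal.map_isPrime_of_surjective Ideal.Quotient.mk_surjective
    (by rw [Ideal.mk_ker]; exact h𝔭𝔪)
  have hqm : (𝔪.map mkB).comap mkB = 𝔪 := by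
    rw [Ideal.comap_map_of_surjective' mkB Ideal.Quotient.mk_surjective, Ideal.mk_ker, sup_eq_left.2 h𝔭𝔪]
  obtain ⟨hfin, hlocB⟩ : Module.Finite R B ∧ IsLocalRing B := by
    refine finite_of_isolated R B (𝔪.map mkB) ?_ fun Q hQ hQR => ?_
    · rw [show algebraMap R B = mkB.comp (algebraMap R A) from rfl, ← Ideal.comap_comap, hqm]
      refine ((IsLocalRing.maximalIdeal.isMaximal R).eq_of_le (Ideal.comap_ne_top _ h𝔪max.ne_top) ?_).symm
      rw [hπ.maximalIdeal_eq, Ideal.span_singleton_le_iff_mem]
      exact hπ𝔪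
    · haveI := hQ
      let z := U.2.fromSpec ⟨Q.comap mkB, inferInstance⟩
      have hz : z ∈ U.1 := by
        rw [← SetLike.mem_coe, ← U.2.range_fromSpec]
        exact ⟨_, rfl⟩
      have hQz : (U.2.primeIdealOf ⟨z, hz⟩).asIdeal = Q.comap mkB := by
        have h : U.2.primeIdealOf ⟨z, hz⟩ = ⟨Q.comap mkB, inferInstance⟩ :=
          U.2.fromSpec.isOpenEmbedding.injective (U.2.fromSpec_primeIdealOf _)
        rw [h]
      have hyz : y ⤳ z := by
        refine (Groth.DivisorLength.specializes_iff hyU hz).2 ?_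
        rw [hQz, ← Ideal.map_le_iff_le_comap, Ideal.map_quotient_self]
        exact bot_le
      have hzS : z ∈ Models.specialFibreSet R XR := by
        rw [hmemS z hz, hQz, Ideal.mem_comap]
        exact Ideal.mem_comap.1 (hQR.ge ((IsLocalRing.mem_maximalIdeal π).2 hπ.not_isUnit))
      have hzx : z = x := hPx.le ⟨specializes_iff_mem_closure.1 hyz, hzS⟩
      have h1 : Q.comap mkB = 𝔪 := by
        rw [← hQz]
        exact congrArg (fun w => (U.2.primeIdealOf w).asIdeal) (Subtype.ext hzx)
      rw [← Ideal.map_comap_of_surjective mkB Ideal.Quotient.mk_surjective Q, h1]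
  have hBinj : Function.Injective (algebraMap R B) := by
    rw [injective_iff_map_eq_zero]
    intro r hr
    by_contra hr0
    obtain ⟨k, w, rfl⟩ := IsDiscreteValuationRing.eq_unit_mul_pow_irreducible hr0 hπ
    rw [map_mul, map_pow, mul_eq_zero] at hr
    rcases hr with hr | hr
    · exact (w.isUnit.map (algebraMap R B)).ne_zero hr
    · exact hπ𝔭 (Ideal.Quotient.eq_zero_iff_mem.1 (pow_eq_zero_iff'.1 hr).1)
  haveI : FaithfulSMul R B := (faithfulSMul_iff_algebraMap_injective R B).2 hBinj
  haveI : Module.IsTorsionFree R B := inferInstance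
  -- the residue field at `P` is the fraction field
  let γ : A →+* C.residueField P := ((iX.residueFieldMap P).hom.comp (XR.left.residue y).hom).comp
    (XR.left.presheaf.germ U.1 y hyU).hom
  have hγker : RingHom.ker γ = 𝔭 := by
    ext a
    rw [RingHom.mem_ker]
    change iX.residueFieldMap P (XR.left.residue y (XR.left.presheaf.germ U.1 y hyU a)) = 0 ↔ _
    rw [map_eq_zero_iff _ (RingHom.injective (iX.residueFieldMap P).hom)]
    change IsLocalRing.residue _ _ = 0 ↔ _
    rw [IsLocalRing.residue_eq_zero_iff, IsLocalRing.mem_maximalIdeal, mem_nonunits_iff,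
      Groth.DivisorLength.isUnit_germ_iff hyU, not_not]
  let γB : B →+* C.residueField P := Ideal.Quotient.lift 𝔭 γ fun a ha => by rwa [← hγker] at ha
  letI : Algebra B (C.residueField P) := γB.toAlgebra
  haveI : IsFractionRing B (C.residueField P) := by
    haveI : FaithfulSMul B (C.residueField P) := (faithfulSMul_iff_algebraMap_injective _ _).2
      (RingHom.lift_injective_of_ker_le_ideal _ _ hγker.le)
    refine IsFractionRing.of_field B (C.residueField P) fun z => ?_
    obtain ⟨w, rfl⟩ := IsLocalRing.residue_surjective z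
    obtain ⟨w', rfl⟩ := iX.stalkMap_surjective P w
    obtain ⟨r₁, c, hc, hcw⟩ := Groth.RefRank.exists_mul_germ_eq U.2 hyU w'
    refine ⟨mkB r₁, mkB c, ?_⟩
    change (C.residue P) (iX.stalkMap P w') = γ r₁ / γ c
    have h2 : γ c ≠ 0 := by
      intro h
      refine (Groth.FlatMor2.mem_basicOpen_iff_notMem_primeIdealOf U.2 ⟨y, hyU⟩ c).1 hc ?_
      exact hγker.le (RingHom.mem_ker.2 h)
    rw [eq_div_iff h2]
    change _ * iX.residueFieldMap P (XR.left.residue y (XR.left.presheaf.germ U.1 y hyU c)) =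
      iX.residueFieldMap P (XR.left.residue y (XR.left.presheaf.germ U.1 y hyU r₁))
    rw [← hcw, map_mul, map_mul, mul_comm]
    congr 1
  letI : Algebra R (C.residueField P) := (γB.comp (algebraMap R B)).toAlgebra
  haveI : IsScalarTower R B (C.residueField P) := IsScalarTower.of_algebraMap_eq' rfl
  haveI : IsScalarTower R K (C.residueField P) := IsScalarTower.of_algebraMap_eq fun r => by
    change iX.residueFieldMap P (XR.left.residue y
        (XR.left.presheaf.germ U.1 y hyU (DVRFibre.ψ XR.hom U.1 r))) =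
      C.residue P (C.presheaf.germ ⊤ P trivial
        (Coh.toGlobal (C ↘ Spec (CommRingCat.of K)) (algebraMap R K r)))
    rw [← stalkHom_eq_germ U.1 y hyU, ← RationalPoint.toGlobal_comp_specMap, ← hiX.w]
    refine (congr($(Scheme.residue_residueFieldMap iX P) (Models.stalkHom R XR y r))).trans ?_
    rw [CommRingCat.comp_apply]
    exact congrArg (C.residue P) (Scheme.Hom.germ_stalkMap_apply iX ⊤ P trivial _)
  rw [IsFractionRing.finrank_eq R K B (C.residueField P)]
  -- the local ring at `x`
  let O := XR.left.presheaf.stalk x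
  letI : Algebra A O := TopCat.Presheaf.algebra_section_stalk XR.left.presheaf ⟨x, hxU⟩
  haveI : IsLocalization.AtPrime O 𝔪 := U.2.isLocalization_stalk ⟨x, hxU⟩
  haveI : IsRegularLocalRing O := hreg x
  haveI : IsDomain O := (Groth.Agent.S2821.result O).1
  haveI : UniqueFactorizationMonoid O := (Groth.Agent.S2821.result O).2
  letI : Algebra R O := ((algebraMap A O).comp (algebraMap R A)).toAlgebra
  haveI : IsScalarTower R A O := IsScalarTower.of_algebraMap_eq' rfl
  have hOπ : algebraMap R O π = Models.stalkHom R XR x π := (stalkHom_eq_germ U.1 x hxU π).symm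
  have hmB : ∀ a : A, a ∉ 𝔪 → IsUnit (mkB a) := fun a ha => by
    rw [← IsLocalRing.notMem_maximalIdeal]
    intro h
    haveI : (𝔪.map mkB).IsMaximal := Ideal.IsMaximal.map_of_surjective_of_ker_le
      Ideal.Quotient.mk_surjective (by rw [Ideal.mk_ker]; exact h𝔭𝔪)
    rw [← IsLocalRing.eq_maximalIdeal (inferInstance : (𝔪.map mkB).IsMaximal), ← Ideal.mem_comap, hqm] at h
    exact ha h
  let φ₀ : O →+* B := IsLocalization.lift (M := 𝔪.primeCompl) (g := mkB) fun a => hmB a a.2
  have hφ₀ : ∀ a, φ₀ (algebraMap A O a) = mkB a := fun a => IsLocalization.lift_eq _ a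
  let φ : O →ₐ[R] B := { φ₀ with commutes' := fun r => hφ₀ (algebraMap R A r) }
  have hφsurj : Function.Surjective φ := fun b => by
    obtain ⟨a, rfl⟩ := Ideal.Quotient.mk_surjective b
    exact ⟨algebraMap A O a, hφ₀ a⟩
  have hkerφ : RingHom.ker φ₀ = 𝔭.map (algebraMap A O) := by
    refine le_antisymm (fun o ho => ?_) (Ideal.map_le_iff_le_comap.2 fun a ha => ?_)
    · obtain ⟨⟨a, s⟩, has⟩ := IsLocalization.surj 𝔪.primeCompl o
      have h1 : mkB a = 0 := by rw [← hφ₀, ← has, map_mul, RingHom.mem_ker.1 ho, zero_mul]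
      rw [← Ideal.mul_unit_mem_iff_mem _ (IsLocalization.map_units O s), has]
      exact Ideal.mem_map_of_mem _ (Ideal.Quotient.eq_zero_iff_mem.1 h1)
    · rw [Ideal.mem_comap, RingHom.mem_ker, hφ₀]
      exact Ideal.Quotient.eq_zero_iff_mem.2 ha
  have hdisj : ∀ I : Ideal A, I ≤ 𝔪 → Disjoint (𝔪.primeCompl : Set A) (I : Set A) := fun I hI =>
    Set.disjoint_left.2 fun a ha haI => ha (hI haI)
  have hheight : ∀ (z : XR.left) (hz : z ∈ U.1), z ⤳ x →
      (Ideal.map (algebraMap A O) (U.2.primeIdealOf ⟨z, hz⟩).asIdeal).IsPrime ∧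
      (Ideal.map (algebraMap A O) (U.2.primeIdealOf ⟨z, hz⟩).asIdeal).comap (algebraMap A O) =
        (U.2.primeIdealOf ⟨z, hz⟩).asIdeal ∧
      ((Ideal.map (algebraMap A O) (U.2.primeIdealOf ⟨z, hz⟩).asIdeal).height : WithBot ℕ∞) =
        ringKrullDim (XR.left.presheaf.stalk z) := fun z hz hzx => by
    have hd := hdisj _ ((Groth.DivisorLength.specializes_iff hz hxU).1 hzx)
    haveI := (U.2.primeIdealOf ⟨z, hz⟩).isPrime
    refine ⟨IsLocalization.isPrime_of_isPrime_disjoint 𝔪.primeCompl O _ inferInstance hd,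
      IsLocalization.comap_map_of_isPrime_disjoint 𝔪.primeCompl O inferInstance hd, ?_⟩
    rw [IsLocalization.height_map_of_disjoint 𝔪.primeCompl _ hd, Groth.DivisorLength.dim_stalk hz]
  -- a prime element cutting out the horizontal curve
  obtain ⟨hfpr, hfcomap, hfht⟩ := hheight y hyU hyx
  haveI := hfpr
  have hyht : ringKrullDim (XR.left.presheaf.stalk y) ≤ 1 := by
    rw [ringKrullDim_eq_of_ringEquiv (asIso (iX.stalkMap P)).commRingCatIsoToRingEquiv]
    exact (Groth.Flatmor4.ringKrullDim_stalk_le P).trans hdC.le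
  obtain ⟨f, hf, hf𝔭⟩ := exists_prime_generator (𝔭.map (algebraMap A O)) (fun h0 => by
      have h1 : 𝔭 = ⊥ := by
        refine hfcomap.symm.trans ?_
        rw [h0]
        exact (RingHom.injective_iff_ker_eq_bot _).1
          (IsLocalization.injective O 𝔪.primeCompl_le_nonZeroDivisors)
      have hgen : y ⤳ genericPoint XR.left := by
        have hgU : genericPoint XR.left ∈ U.1 := (genericPoint_specializes x).mem_open U.1.2 hxU
        refine (Groth.DivisorLength.specializes_iff hyU hgU).2 ?_
        change 𝔭 ≤ _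
        rw [h1]
        exact bot_le
      have hy : y = genericPoint XR.left := (hgen.antisymm (genericPoint_specializes y)).eq
      have hPgen : P = genericPoint C := iX.isOpenEmbedding.injective
        (hy.trans (genericPoint_eq_of_isOpenImmersion iX).symm)
      rw [hPgen] at hP
      haveI : Subsingleton C := ⟨fun a b =>
        ((genericPoint_specializes a).mem_closed hP rfl).trans
          ((genericPoint_specializes b).mem_closed hP rfl).symm⟩
      haveI : Subsingleton (IrreducibleCloseds C) := ⟨fun Z Z' =>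
        IrreducibleCloseds.ext ((Z.isIrreducible.nonempty.eq_univ).trans Z'.isIrreducible.nonempty.eq_univ.symm)⟩
      have h5 : topologicalKrullDim C ≤ 0 := Order.krullDim_nonpos_of_subsingleton
      rw [hdC] at h5
      exact not_le.2 zero_lt_one h5)
    (WithBot.coe_le_coe.1 (hfht.le.trans hyht))
  have hkerf : RingHom.ker φ₀ = Ideal.span {f} := hkerφ.trans hf𝔭
  -- the components through `x`
  have hxΓ : ∀ i, x ∈ Set.range (Γ i).ι.base := fun i => (hΓ _ (hcomp i)).2 ⟨i, rfl⟩
  let ξ : Fin n → XR.left := fun i => Models.genPtOf R XR (Γ i)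
  have hξx : ∀ i, ξ i ⤳ x := fun i => (isGenericPoint_genPtOf (Γ i)).specializes (hxΓ i)
  have hξU : ∀ i, ξ i ∈ U.1 := fun i => (hξx i).mem_open U.1.2 hxU
  let q : Fin n → Ideal O := fun i =>
    (U.2.primeIdealOf ⟨ξ i, hξU i⟩).asIdeal.map (algebraMap A O)
  have hξS : ∀ i, ξ i ∈ Models.specialFibreSet R XR := fun i => genPtOf_mem (hcomp i)
  have hπq : ∀ i, algebraMap R O π ∈ q i := fun i =>
    Ideal.mem_map_of_mem (algebraMap A O) ((hmemS _ (hξU i)).1 (hξS i))
  have hπ0 : algebraMap R O π ≠ 0 := by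
    rw [hOπ]
    exact stalkHom_ne_zero hπ.ne_zero x
  have htex : ∀ i, ∃ t, Prime t ∧ q i = Ideal.span {t} := fun i => by
    obtain ⟨h1, -, h3⟩ := hheight (ξ i) (hξU i) (hξx i)
    haveI := h1
    refine exists_prime_generator (q i) (fun h0 => hπ0 ?_) ?_
    · have := hπq i
      rwa [h0, Ideal.mem_bot] at this
    · exact WithBot.coe_le_coe.1 (h3.trans (dim_stalk_genPtOf hreg (hcomp i))).le
  choose t ht hqt using htex
  have hne : ∀ i j, Associated (t i) (t j) → i = j := fun i j h => by
    have hq : q i = q j := by rw [hqt, hqt, Ideal.span_singleton_eq_span_singleton.2 h]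
    have h2 := congrArg (Ideal.comap (algebraMap A O)) hq
    rw [(hheight _ (hξU i) (hξx i)).2.1, (hheight _ (hξU j) (hξx j)).2.1] at h2
    have h3 : ξ i = ξ j := by
      have h4 := congrArg U.2.fromSpec (PrimeSpectrum.ext h2)
      rwa [U.2.fromSpec_primeIdealOf, U.2.fromSpec_primeIdealOf] at h4
    refine hinj ?_
    change Set.range _ = Set.range _
    rw [← (isGenericPoint_genPtOf (Γ i)).def, ← (isGenericPoint_genPtOf (Γ j)).def]
    exact congrArg (fun z => closure {z}) h3
  have hall : ∀ a : O, Prime a → a ∣ algebraMap R O π → ∃ i, Associated (t i) a := fun a ha hdvd => by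
    haveI : (Ideal.span {a}).IsPrime := (Ideal.span_singleton_prime ha.ne_zero).2 ha
    let z := U.2.fromSpec ⟨(Ideal.span {a}).comap (algebraMap A O), inferInstance⟩
    have hz : z ∈ U.1 := by
      rw [← SetLike.mem_coe, ← U.2.range_fromSpec]
      exact ⟨_, rfl⟩
    have hQz : (U.2.primeIdealOf ⟨z, hz⟩).asIdeal = (Ideal.span {a}).comap (algebraMap A O) := by
      have h : U.2.primeIdealOf ⟨z, hz⟩ = ⟨(Ideal.span {a}).comap (algebraMap A O), inferInstance⟩ :=
        U.2.fromSpec.isOpenEmbedding.injective (U.2.fromSpec_primeIdealOf _)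
      rw [h]
    have hzS : z ∈ Models.specialFibreSet R XR := by
      rw [hmemS z hz, hQz, Ideal.mem_comap, ← IsScalarTower.algebraMap_apply]
      exact Ideal.mem_span_singleton.2 hdvd
    have hzx : z ⤳ x := by
      refine (Groth.DivisorLength.specializes_iff hz hxU).2 ?_
      rw [hQz]
      intro b hb
      by_contra hb'
      exact ha.not_unit (Ideal.span_singleton_eq_top.1 (Ideal.eq_top_of_isUnit_mem _
        (Ideal.mem_comap.1 hb) (IsLocalization.map_units O (⟨b, hb'⟩ : 𝔪.primeCompl))))
    obtain ⟨η, hη, hηz, hmax⟩ := Groth.DivisorLength.exists_maximal_generization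
      (Models.isClosed_specialFibreSet R XR) hzS
    have hcl : closure {η} ∈ Models.fibreComponents R XR := by
      refine ⟨⟨isIrreducible_singleton.closure,
        closure_minimal (Set.singleton_subset_iff.2 hη) (Models.isClosed_specialFibreSet R XR)⟩,
        fun S hS hsub => ?_⟩
      obtain ⟨g', hg'⟩ := QuasiSober.sober hS.1.closure isClosed_closure
      have hgS : g' ∈ Models.specialFibreSet R XR :=
        closure_minimal hS.2 (Models.isClosed_specialFibreSet R XR) hg'.mem
      have hgη : g' ⤳ η := hg'.specializes (subset_closure (hsub (subset_closure rfl)))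
      have := hmax g' hgS hgη
      subst this
      exact subset_closure.trans hg'.def.superset
    obtain ⟨i, hi⟩ := (hΓ _ hcl).1 (specializes_iff_mem_closure.1 (hηz.trans hzx))
    refine ⟨i, ?_⟩
    have hiz : ξ i ⤳ z := ((isGenericPoint_genPtOf (Γ i)).specializes
      (hi.symm.subset (subset_closure rfl))).trans hηz
    have h1 : q i ≤ Ideal.span {a} := by
      refine Ideal.map_le_iff_le_comap.2 ?_
      rw [← hQz]
      exact (Groth.DivisorLength.specializes_iff (hξU i) hz).1 hiz
    exact (ha.associated_of_dvd (ht i)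
      (Ideal.mem_span_singleton.1 (h1 (hqt i ▸ Ideal.mem_span_singleton_self (t i))))).symm
  obtain ⟨e, u, hu, hfac⟩ := LengthSum.exists_factorisation t ht hne hπ0 hall
  have hft : ∀ i, ¬ f ∣ t i := fun i h => hπ𝔭 (by
    have h1 : algebraMap R O π ∈ 𝔭.map (algebraMap A O) := by
      rw [hf𝔭]
      exact Ideal.mem_span_singleton.2 (h.trans (Ideal.mem_span_singleton.1 (hqt i ▸ hπq i)))
    refine hfcomap.le (Ideal.mem_comap.2 ?_)
    rw [← IsScalarTower.algebraMap_apply]
    exact h1)
  -- multiplicities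
  have he : ∀ i, Models.mult R XR (Γ i) = e i := fun i => by
    let T := XR.left.presheaf.stalk (ξ i)
    haveI : IsDomain T := isDomain_stalk hreg _
    let σ : O →+* T := Groth.RefRank.rspec (hξx i)
    have hσA : ∀ a : A, σ (algebraMap A O a) = XR.left.presheaf.germ U.1 (ξ i) (hξU i) a := fun a =>
      Groth.RefRank.rspec_germ (hξx i) hxU a
    have hqcomap := (hheight _ (hξU i) (hξx i)).2.1
    have hunit : ∀ o : O, o ∉ q i → IsUnit (σ o) := fun o ho => by
      obtain ⟨⟨a, s⟩, has⟩ := IsLocalization.surj 𝔪.primeCompl o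
      have ha : a ∉ (U.2.primeIdealOf ⟨ξ i, hξU i⟩).asIdeal := fun ha => ho (by
        rw [← Ideal.mul_unit_mem_iff_mem _ (IsLocalization.map_units O s), has]
        exact Ideal.mem_map_of_mem _ ha)
      have h1 : IsUnit (σ (algebraMap A O a)) := by
        rw [hσA, Groth.DivisorLength.isUnit_germ_iff (hξU i)]
        exact ha
      rw [← has, map_mul] at h1
      exact isUnit_of_mul_isUnit_left h1
    have hmaxT : IsLocalRing.maximalIdeal T = Ideal.span {σ (t i)} := by
      refine le_antisymm (fun v hv => ?_) ((Ideal.span_singleton_le_iff_mem _).2 ?_)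
      · obtain ⟨r₁, c', hc', hcv⟩ := Groth.RefRank.exists_mul_germ_eq U.2 (hξU i) v
        rw [← Ideal.unit_mul_mem_iff_mem _ ((Scheme.mem_basicOpen _ c' (ξ i) (hξU i)).1 hc'), hcv, ← hσA]
        have h1 : algebraMap A O r₁ ∈ q i := by
          by_contra h
          have h2 := hunit _ h
          rw [hσA, ← hcv] at h2
          exact hv (isUnit_of_mul_isUnit_right h2)
        rw [hqt i] at h1
        rw [← Set.image_singleton, ← Ideal.map_span]
        exact Ideal.mem_map_of_mem σ h1
      · have h1 : t i ∈ q i := hqt i ▸ Ideal.mem_span_singleton_self (t i)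
        have h2 : q i ≤ (IsLocalRing.maximalIdeal T).comap σ := Ideal.map_le_iff_le_comap.2 fun a ha => by
          rw [Ideal.mem_comap, Ideal.mem_comap, IsLocalRing.mem_maximalIdeal, mem_nonunits_iff, hσA,
            Groth.DivisorLength.isUnit_germ_iff (hξU i), not_not]
          exact ha
        exact h2 h1
    have hσπ : σ (algebraMap R O π) = Models.stalkHom R XR (ξ i) π := by
      rw [IsScalarTower.algebraMap_apply R A O, hσA]
      exact (stalkHom_eq_germ U.1 (ξ i) (hξU i) π).symm
    have hTπ0 : Models.stalkHom R XR (ξ i) π ≠ 0 := stalkHom_ne_zero hπ.ne_zero _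
    rw [hfac, map_mul, map_prod, ← Finset.mul_prod_erase Finset.univ _ (Finset.mem_univ i), map_pow] at hσπ
    have hw : IsUnit (σ u * ∏ j ∈ Finset.univ.erase i, σ (t j ^ e j)) := by
      refine (hu.map σ).mul (IsUnit.prod_iff.2 fun j hj => ?_)
      rw [map_pow]
      refine (hunit _ fun h => (Finset.ne_of_mem_erase hj) ?_).pow _
      rw [hqt i, Ideal.mem_span_singleton] at h
      exact (hne i j ((ht i).associated_of_dvd (ht j) h)).symm
    have hst0 : σ (t i) ≠ 0 := fun h => by
      have h4 : Models.stalkHom R XR (ξ i) π ∈ IsLocalRing.maximalIdeal T := (mem_specialFibreSet_iff hπ _).1 (hξS i)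
      rw [hmaxT, h, Ideal.mem_span_singleton, zero_dvd_iff] at h4
      exact hTπ0 h4
    unfold Models.mult
    rw [hπ.maximalIdeal_eq, Ideal.map_span, Set.image_singleton, ← hσπ,
      show σ u * (σ (t i) ^ e i * ∏ j ∈ Finset.univ.erase i, σ (t j ^ e j)) =
        (σ u * ∏ j ∈ Finset.univ.erase i, σ (t j ^ e j)) * σ (t i) ^ e i by ring]
    change (Module.length T (T ⧸ Ideal.span _)).toNat = e i
    rw [LengthSum.length_pow_maximal hmaxT hst0 hw, ENat.toNat_coe]
  have hepos : ∀ i, 1 ≤ e i := fun i => by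
    rw [← he i]
    exact InterForm.mult_pos hreg (hcomp i)
  -- lengths
  let J : Ideal O := Ideal.span {algebraMap R O π, f}
  let ψ : O →ₐ[R] (B ⧸ Ideal.span {algebraMap R B π}) := (Ideal.Quotient.mkₐ R _).comp φ
  have hψ : Function.Surjective ψ := (Ideal.Quotient.mkₐ_surjective R _).comp hφsurj
  have hψker : RingHom.ker ψ = J := by
    change RingHom.ker ((Ideal.Quotient.mk _).comp φ₀) = _
    rw [← RingHom.comap_ker, Ideal.mk_ker, show algebraMap R B π = φ₀ (algebraMap R O π) from
      (φ.commutes π).symm, ← Set.image_singleton, ← Ideal.map_span,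
      Ideal.comap_map_of_surjective' φ₀ hφsurj, hkerf, ← Ideal.span_union, Set.singleton_union]
  let ε : (O ⧸ J) ≃ₐ[R] (B ⧸ Ideal.span {algebraMap R B π}) :=
    (Ideal.quotientEquivAlgOfEq R hψker.symm).trans (Ideal.quotientKerAlgEquivOfSurjective hψ)
  have hlenR : Module.length R (O ⧸ J) = Module.finrank R B := by
    rw [ε.toLinearEquiv.length_eq, LengthSum.length_quot_uniformizer hπ]
  have hfl : IsFiniteLength O (O ⧸ J) := by
    rw [isFiniteLength_iff_isNoetherian_isArtinian]
    refine ⟨inferInstance, ?_⟩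
    have h1 : IsFiniteLength R (O ⧸ J) := Module.length_ne_top_iff.1 (by rw [hlenR]; exact ENat.coe_ne_top _)
    exact isArtinian_of_tower R (isFiniteLength_iff_isNoetherian_isArtinian.1 h1).2
  have hres : ∀ b : O, ∃ r : R, b - algebraMap R O r ∈ IsLocalRing.maximalIdeal O := fun b => by
    let τ : R →+* IsLocalRing.ResidueField B := (IsLocalRing.residue B).comp (algebraMap R B)
    have hτ : τ.Finite :=
      (RingHom.Finite.of_surjective _ IsLocalRing.residue_surjective).comp (RingHom.finite_algebraMap.2 hfin)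
    obtain ⟨r, hr⟩ := RedFibre.surjective_of_finite_field τ hτ (IsLocalRing.residue B (φ b))
    refine ⟨r, ?_⟩
    rw [IsLocalRing.mem_maximalIdeal, mem_nonunits_iff]
    intro hu'
    have h2 := (hu'.map φ).map (IsLocalRing.residue B)
    rw [map_sub, φ.commutes, map_sub, ← hr] at h2
    exact not_isUnit_zero ((sub_self (τ r)) ▸ h2)
  have hlenO : Module.length O (O ⧸ J) = Module.finrank R B := by
    rw [← hlenR, Groth.FrobLCI.HK.length_restrictScalars_eq hres (O ⧸ J) hfl]
  rw [show J = Ideal.span {u * ∏ i, t i ^ e i, f} by rw [← hfac],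
    LengthSum.length_prod hf t e Finset.univ (fun i _ => hft i) hu] at hlenO
  have hcfin : ∀ i, Module.length O (O ⧸ Ideal.span ({t i, f} : Set O)) ≠ ⊤ := fun i hi => by
    have := Finset.single_le_sum (f := fun j => (e j : ℕ∞) * Module.length O (O ⧸ Ideal.span ({t j, f} : Set O)))
      (fun j _ => zero_le) (Finset.mem_univ i)
    rw [hlenO] at this
    simp only [hi] at this
    rw [ENat.mul_top (by exact_mod_cast (Nat.one_le_iff_ne_zero.1 (hepos i)))] at this
    exact ENat.coe_ne_top _ (top_le_iff.1 this)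
  refine ⟨fun i => (Module.length O (O ⧸ Ideal.span ({t i, f} : Set O))).toNat, fun i => ?_, ?_⟩
  · rw [Nat.one_le_iff_ne_zero, Ne, ENat.toNat_eq_zero, not_or]
    refine ⟨fun h0 => ?_, hcfin i⟩
    rw [Module.length_eq_zero_iff, Ideal.Quotient.subsingleton_iff, Ideal.eq_top_iff_one] at h0
    refine (IsLocalRing.maximalIdeal.isMaximal O).ne_top ((Ideal.eq_top_iff_one _).2 (?_ : _ ∈ _))
    refine Ideal.span_le.2 (Set.pair_subset (IsLocalRing.mem_maximalIdeal _ |>.2 (ht i).not_unit)
      (IsLocalRing.mem_maximalIdeal _ |>.2 hf.not_unit)) h0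
  · apply ENat.natCast_inj.1
    rw [← hlenO, Nat.cast_sum]
    refine Finset.sum_congr rfl fun i _ => ?_
    rw [he i, Nat.cast_mul, ENat.natCast_toNat (hcfin i), mul_comm]

end Groth.ModelsGraphs.DegreeSpan
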