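import Groth.Agent.ModelsGraphs.DualExtend
import Groth.Agent.ModelsGraphs.GlobalFunctions
import Groth.Agent.PicAux.EffCartierLine
import Groth.Agent.PicAux.Sections
import Groth.Agent.CohFin.AcycEmb
import Groth.Agent.CohFin.Proper
import Groth.Agent.CohTwo.PushClosed
import Groth.Agent.FibreDim.Smooth
import Groth.Prelude.Def_Models

/-!
# `H¹` of the dualizing sheaf of a model

For a proper normal model with `H¹(X, O)` free and a 1-dualizing pair `(ω, tr)`, the trace
`tr : H¹(X, ω) → R` is injective with nonzero image, so `H¹(X, ω)` is free of rank one.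
Finiteness of coherent cohomology on `X` is a hypothesis here.
-/

universe u

open CategoryTheory CategoryTheory.Limits AlgebraicGeometry Opposite TopologicalSpace
open Groth.CohFin (HA mapL delta equivSections)

namespace Groth.ModelsGraphs.DualH1

variable {R : Type u} [CommRing R] [IsDomain R] [IsDiscreteValuationRing R]

/-- Extending a linear form along the first map of an exact sequence with free finite third term. -/
lemma exists_extend {M₁ M₂ M₃ : Type u} [AddCommGroup M₁] [Module R M₁] [AddCommGroup M₂] [Module R M₂]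
    [AddCommGroup M₃] [Module R M₃] [Module.Free R M₃] [Module.Finite R M₃]
    (a : M₁ →ₗ[R] M₂) (b : M₂ →ₗ[R] M₃) (hab : Function.Exact a b) (t : M₁ →ₗ[R] R)
    (ht : LinearMap.ker a ≤ LinearMap.ker t) : ∃ χ : M₂ →ₗ[R] R, χ.comp a = t := by
  haveI : Module.Finite R (LinearMap.range b) := inferInstance
  haveI : Module.Free R (LinearMap.range b) := Module.free_of_finite_type_torsion_free'
  obtain ⟨σ, hσ⟩ := Module.projective_lifting_property b.rangeRestrict LinearMap.id
    b.surjective_rangeRestrict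
  let pr : M₂ →ₗ[R] M₂ := LinearMap.id - σ.comp b.rangeRestrict
  have hpr : ∀ z, pr z ∈ LinearMap.range a := fun z => by
    apply (hab (pr z)).mp
    have h := congrArg Subtype.val (LinearMap.congr_fun hσ (b.rangeRestrict z))
    simp only [pr, LinearMap.sub_apply, LinearMap.id_apply, LinearMap.comp_apply, map_sub]
    exact sub_eq_zero.mpr h.symm
  let t' : LinearMap.range a →ₗ[R] R :=
    ((LinearMap.ker a).liftQ t ht).comp a.quotKerEquivRange.symm.toLinearMap
  refine ⟨t'.comp (pr.codRestrict _ hpr), LinearMap.ext fun x => ?_⟩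
  have h1 : pr.codRestrict (LinearMap.range a) hpr (a x) = ⟨a x, x, rfl⟩ := by
    apply Subtype.ext
    simp only [pr, LinearMap.codRestrict_apply, LinearMap.sub_apply, LinearMap.id_apply,
      LinearMap.comp_apply]
    have h2 : b.rangeRestrict (a x) = 0 := Subtype.ext ((hab (a x)).mpr ⟨x, rfl⟩)
    rw [h2, map_zero, sub_zero]
  simp only [LinearMap.comp_apply, h1, t', LinearEquiv.coe_toLinearMap,
    LinearMap.quotKerEquivRange_symm_apply_image, Submodule.mkQ_apply, Submodule.liftQ_apply]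

/-- A finitely generated module with a non-torsion element has a nonzero linear form. -/
lemma exists_form_ne_zero {N : Type u} [AddCommGroup N] [Module R N] [Module.Finite R N] (x : N)
    (hx : ∀ r : R, r • x = 0 → r = 0) : ∃ l : N →ₗ[R] R, l ≠ 0 := by
  let Q := N ⧸ Submodule.torsion R N
  haveI : Module.Free R Q := Module.free_of_finite_type_torsion_free'
  have hx0 : (Submodule.Quotient.mk x : Q) ≠ 0 := by
    rw [Ne, Submodule.Quotient.mk_eq_zero]
    rintro ⟨⟨r, hr⟩, hrx⟩
    exact nonZeroDivisors.ne_zero hr (hx r hrx)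
  let bQ := Module.Free.chooseBasis R Q
  obtain ⟨i, hi⟩ : ∃ i, bQ.coord i (Submodule.Quotient.mk x) ≠ 0 := by
    by_contra h
    rw [not_exists] at h
    exact hx0 (bQ.forall_coord_eq_zero_iff.mp fun i => not_not.mp (h i))
  exact ⟨(bQ.coord i).comp (Submodule.mkQ _), fun h => hi (LinearMap.congr_fun h x)⟩

variable {X : Scheme.{u}} [X.Over (Spec (CommRingCat.of R))]

local notation "pX" => (X ↘ Spec (CommRingCat.of R))

lemma delta_naturality {S₁ S₂ : ShortComplex X.Modules} (h₁ : S₁.ShortExact) (h₂ : S₂.ShortExact)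
    (ψ : S₁ ⟶ S₂) (n : ℕ) (z : HA pX S₁.X₃ n) :
    mapL pX ψ.τ₁ (n + 1) (delta (f := pX) h₁ n z) =
      delta (f := pX) h₂ n (mapL pX ψ.τ₃ n z) := by
  apply (Groth.CohFin.toE pX S₂.X₁ (n + 1)).injective
  rw [Groth.CohFin.toE_mapL, Groth.CohFin.toE_delta, Groth.CohFin.toE_delta, Groth.CohFin.toE_mapL,
    Abelian.Ext.comp_assoc_of_second_deg_zero, Abelian.Ext.comp_assoc_of_third_deg_zero]
  refine congrArg (fun e => (Groth.CohFin.toE pX S₁.X₃ n z).comp e rfl) ?_
  exact (Groth.CohBase.shortExact_toAb h₁).extClass_naturality (Groth.CohBase.shortExact_toAb h₂)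
    ((Groth.CohBase.toAbF X).mapShortComplex.map ψ)

variable {ω : X.Modules} {tr : Coh.HH X ω 1 →ₗ[R] R}

/-- The trace is injective. -/
theorem tr_injective [IsProper pX] (hω : Canon.IsRDualOver R X 1 ω tr)
    (hH0 : Function.Bijective (Coh.toGlobal pX))
    [Module.Free R (HA pX (Coh.structureModule X) 1)]
    [Module.Finite R (HA pX (Coh.structureModule X) 1)] : Function.Injective tr := by
  refine (injective_iff_map_eq_zero tr).mpr fun x hx => ?_
  haveI : ω.IsQuasicoherent := hω.1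
  haveI := Groth.CohFin.compactSpace_of_proper pX
  haveI := Groth.CohFin.isSeparated_of_proper pX
  obtain ⟨J⟩ := Groth.CohFin.nonempty_acycEmb (Z := Spec (CommRingCat.of R)) pX ω
  haveI := J.mono
  haveI := J.qcoh
  let S : ShortComplex X.Modules := ShortComplex.mk J.ι (cokernel.π J.ι) (cokernel.condition J.ι)
  have hS : S.ShortExact := { exact := ShortComplex.exact_of_g_is_cokernel _ (cokernelIsCokernel J.ι) }
  let x' : HA pX ω 1 := x
  obtain ⟨y, hy⟩ := (Groth.CohFin.exact_delta_mapL (f := pX) hS 0 x').mp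
    ((J.hX 0).elim (mapL pX J.ι 1 x') 0)
  let O := Coh.structureModule X
  haveI : O.IsQuasicoherent := Groth.QCohMod.isQCoh_unit X
  let sh : O ⟶ S.X₃ := Groth.PicAux.homOfSection (equivSections pX S.X₃ y)
  let K := pullback (cokernel.π J.ι) sh
  let lam : ω ⟶ K := pullback.lift J.ι 0 (by rw [cokernel.condition, zero_comp])
  haveI : Mono lam := by
    haveI : Mono (lam ≫ pullback.fst (cokernel.π J.ι) sh) := by
      rw [pullback.lift_fst]
      infer_instance
    exact mono_of_mono lam (pullback.fst (cokernel.π J.ι) sh)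
  have hw : lam ≫ pullback.snd (cokernel.π J.ι) sh = 0 := pullback.lift_snd _ _ _
  let S₂ : ShortComplex X.Modules := ShortComplex.mk lam (pullback.snd (cokernel.π J.ι) sh) hw
  have hS₂ : S₂.ShortExact := by
    refine { exact := ShortComplex.exact_of_f_is_kernel _ ?_, mono_f := inferInstanceAs (Mono lam),
             epi_g := inferInstanceAs (Epi (pullback.snd (cokernel.π J.ι) sh)) }
    refine KernelFork.IsLimit.ofι' lam hw fun {A} a (ha : a ≫ pullback.snd _ _ = 0) => ?_
    have h1 : (a ≫ pullback.fst (cokernel.π J.ι) sh) ≫ cokernel.π J.ι = 0 := by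
      rw [Category.assoc, pullback.condition, ← Category.assoc, ha, zero_comp]
    refine ⟨hS.fIsKernel.lift (KernelFork.ofι _ h1), ?_⟩
    apply pullback.hom_ext
    · rw [Category.assoc, pullback.lift_fst]
      exact hS.fIsKernel.fac (KernelFork.ofι _ h1) WalkingParallelPair.zero
    · rw [Category.assoc, pullback.lift_snd, comp_zero, ha]
  let ψ : S₂ ⟶ S :=
    { τ₁ := 𝟙 ω
      τ₂ := pullback.fst (cokernel.π J.ι) sh
      τ₃ := sh
      comm₁₂ := by
        change 𝟙 ω ≫ J.ι = lam ≫ pullback.fst (cokernel.π J.ι) sh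
        rw [Category.id_comp, pullback.lift_fst]
      comm₂₃ := pullback.condition }
  let y₁ : HA pX O 0 := (equivSections pX O).symm (Groth.PicAux.oneSec X ⊤)
  have hy₁ : delta (f := pX) hS₂ 0 y₁ = x' := by
    have h1 := delta_naturality hS₂ hS ψ 0 y₁
    rw [Groth.CohFin.mapL_id] at h1
    rw [h1, ← hy]
    congr 1
    apply (equivSections pX S.X₃).injective
    rw [Groth.CohFin.equivSections_mapL, AddEquiv.apply_symm_apply]
    exact Groth.PicAux.homOfSection_one _
  have hgen : ∀ z : HA pX O 0, ∃ r : R, z = r • y₁ := fun z => by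
    obtain ⟨r, hr⟩ := hH0.2 (Groth.PicAux.toFun (equivSections pX O z))
    refine ⟨r, (equivSections pX O).injective ?_⟩
    rw [Groth.CohFin.equivSections_smul, AddEquiv.apply_symm_apply]
    refine (Groth.PicAux.eq_toFun_smul_oneSec _).trans ?_
    rw [← hr]
  let tr' : HA pX ω 1 →ₗ[R] R := tr
  have hker : LinearMap.ker (mapL pX lam 1) ≤ LinearMap.ker tr' := by
    intro z hz
    obtain ⟨w, rfl⟩ := (Groth.CohFin.exact_delta_mapL (f := pX) hS₂ 0 z).mp hz
    obtain ⟨r, rfl⟩ := hgen w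
    rw [LinearMap.mem_ker, map_smul, map_smul, hy₁]
    exact (congrArg (r • ·) hx).trans (smul_zero r)
  obtain ⟨χ, hχ⟩ := exists_extend (mapL pX lam 1) (mapL pX (pullback.snd (cokernel.π J.ι) sh) 1)
    (Groth.CohFin.exact_mapL_mapL (f := pX) hS₂ 1) tr' hker
  have hK : Coh.IsQCoh K := Groth.QCohMod.isQCoh_pullback _ _
  obtain ⟨φ, hφ⟩ := (hω.2 K hK).2 χ
  have hid : lam ≫ φ = 𝟙 ω := by
    refine (hω.2 ω hω.1).1 (LinearMap.ext fun z => ?_)
    change tr (Canon.HHlin R (lam ≫ φ) 1 z) = tr (Canon.HHlin R (𝟙 ω) 1 z)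
    rw [DualExtend.HHlin_comp, DualExtend.HHlin_id]
    exact (LinearMap.congr_fun hφ _).trans (LinearMap.congr_fun hχ z)
  -- the extension splits, so `x = 0`
  let σ' : K ⟶ K := 𝟙 K - φ ≫ lam
  have hσ' : lam ≫ σ' = 0 := by
    rw [Preadditive.comp_sub, Category.comp_id, ← Category.assoc, hid, Category.id_comp, sub_self]
  haveI := hS₂.epi_g
  let σ : O ⟶ K := hS₂.gIsCokernel.desc (CokernelCofork.ofπ σ' hσ')
  have hσ : pullback.snd (cokernel.π J.ι) sh ≫ σ = σ' :=
    hS₂.gIsCokernel.fac (CokernelCofork.ofπ σ' hσ') WalkingParallelPair.one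
  have hsec : σ ≫ pullback.snd (cokernel.π J.ι) sh = 𝟙 O := by
    rw [← cancel_epi (S₂.g)]
    change pullback.snd _ _ ≫ σ ≫ pullback.snd _ _ = pullback.snd _ _ ≫ 𝟙 O
    rw [← Category.assoc, hσ, Preadditive.sub_comp, Category.id_comp, Category.assoc, hw, comp_zero,
      sub_zero, Category.comp_id]
  change x' = 0
  rw [← hy₁]
  refine (Groth.CohFin.exact_mapL_delta (f := pX) hS₂ 0 y₁).mpr ⟨mapL pX σ 0 y₁, ?_⟩
  change mapL pX (pullback.snd (cokernel.π J.ι) sh) 0 _ = y₁
  rw [← Groth.CohFin.mapL_comp, hsec, Groth.CohFin.mapL_id]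

/-- There is a coherent module whose `H¹` has a nonzero linear form. -/
theorem exists_form [IsProper pX] {C : Scheme.{u}} (f : C ⟶ Spec (CommRingCat.of (FractionRing R)))
    [SmoothOfRelativeDimension 1 f] [IsProper f] [Nonempty C]
    (g : C ⟶ X) (hg : IsPullback g f pX (Spec.map (CommRingCat.ofHom (algebraMap R (FractionRing R)))))
    (hH0 : Function.Bijective (Coh.toGlobal pX))
    (hfin : ∀ F : X.Modules, Coh.IsCoh F → ∀ n, Module.Finite R (HA pX F n)) :
    ∃ (F : X.Modules) (_ : Coh.IsQCoh F) (l : HA pX F 1 →ₗ[R] R), l ≠ 0 := by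
  haveI : IsLocallyNoetherian X := LocallyOfFiniteType.isLocallyNoetherian pX
  haveI := Groth.CohFin.compactSpace_of_proper pX
  let K := FractionRing R
  obtain ⟨π, hπ⟩ := IsDiscreteValuationRing.exists_irreducible R
  let D : X.Opens := X.basicOpen (Coh.toGlobal pX π : Γ(X, ⊤))
  haveI : IsLocalization.Away π K := by
    refine IsLocalization.Away.mk π (isUnit_iff_ne_zero.mpr
      ((map_ne_zero_iff _ (IsFractionRing.injective R K)).mpr hπ.ne_zero)) (fun z => ?_)
      (fun a b h => ⟨0, by rw [IsFractionRing.injective R K h]⟩)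
    obtain ⟨a, b, hb, rfl⟩ := IsFractionRing.div_surjective (A := R) z
    obtain ⟨n, w, hw⟩ := IsDiscreteValuationRing.eq_unit_mul_pow_irreducible (nonZeroDivisors.ne_zero hb) hπ
    refine ⟨n, a * ↑w⁻¹, ?_⟩
    have hb0 : algebraMap R K b ≠ 0 :=
      (map_ne_zero_iff _ (IsFractionRing.injective R K)).mpr (nonZeroDivisors.ne_zero hb)
    rw [div_mul_eq_mul_div, div_eq_iff hb0, ← map_pow, ← map_mul, ← map_mul, hw]
    congr 1
    rw [mul_assoc, ← mul_assoc (↑w⁻¹ : R), Units.inv_mul, one_mul]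
  haveI : IsOpenImmersion (Spec.map (CommRingCat.ofHom (algebraMap R K))) :=
    IsOpenImmersion.of_isLocalization π
  haveI hgi : IsOpenImmersion g := MorphismProperty.of_isPullback hg.flip inferInstance
  have hrange : ∀ c, g c ∈ D := fun c => by
    have h1 : g c ∈ pX ⁻¹ᵁ (Spec (CommRingCat.of R)).basicOpen ((Scheme.ΓSpecIso (CommRingCat.of R)).inv π) := by
      rw [basicOpen_eq_of_affine]
      change pX (g c) ∈ PrimeSpectrum.basicOpen π
      rw [← Scheme.Hom.comp_apply, hg.w, Scheme.Hom.comp_apply]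
      intro hmem
      change algebraMap R K π ∈ (f c).asIdeal at hmem
      exact (f c).isPrime.ne_top (Ideal.eq_top_of_isUnit_mem _ hmem
        (isUnit_iff_ne_zero.mpr ((map_ne_zero_iff _ (IsFractionRing.injective R K)).mpr hπ.ne_zero)))
    rw [Scheme.preimage_basicOpen] at h1
    exact h1
  -- two closed points of `C`
  haveI : JacobsonSpace C := LocallyOfFiniteType.jacobsonSpace f
  obtain ⟨c₁, c₂, h₁, h₂, hne⟩ : ∃ c₁ c₂ : C, IsClosed ({c₁} : Set C) ∧ IsClosed ({c₂} : Set C) ∧ c₁ ≠ c₂ := by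
    by_contra hcon
    simp only [not_exists, not_and, ne_eq, not_not] at hcon
    have hd := closure_closedPoints (X := C)
    have hsub : (closedPoints C).Subsingleton := fun a ha b hb => hcon a b ha hb
    obtain ⟨c, hc⟩ : (closedPoints C).Nonempty := by
      by_contra h0
      rw [Set.not_nonempty_iff_eq_empty] at h0
      rw [h0, closure_empty] at hd
      exact Set.univ_nonempty.ne_empty hd.symm
    rw [hsub.eq_singleton_of_mem hc, IsClosed.closure_eq hc] at hd
    haveI : Subsingleton C := ⟨fun a b => by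
      have ha : a ∈ ({c} : Set C) := hd ▸ trivial
      have hb : b ∈ ({c} : Set C) := hd ▸ trivial
      exact ha.trans hb.symm⟩
    have hfd := Groth.FibreDim.fibreDimAt_eq_of_smoothOfRelativeDimension 1 f c
    haveI : Subsingleton ↥(f.fiber (f.base c)) :=
      ⟨fun a b => (f.fiberι (f.base c)).isEmbedding.injective (Subsingleton.elim _ _)⟩
    haveI : Subsingleton (IrreducibleCloseds ↥(SetLike.coe (⊤ : Opens ↥(f.fiber (f.base c))))) :=
      ⟨fun a b => IrreducibleCloseds.ext ((a.isIrreducible.nonempty.eq_univ).trans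
        b.isIrreducible.nonempty.eq_univ.symm)⟩
    have hle : FlatMor.fibreDimAt f c ≤ 0 :=
      (Groth.SpectralTopology.localDim_le_of_mem (U := (⊤ : Opens _)) trivial).trans
        Order.krullDim_nonpos_of_subsingleton
    rw [hfd] at hle
    exact absurd hle (by norm_num)
  let Z : Closeds X := ⟨closure {g c₁} ∪ closure {g c₂}, isClosed_closure.union isClosed_closure⟩
  let I := Scheme.IdealSheafData.vanishingIdeal Z
  let ι := I.subschemeι
  have hrange' : Set.range ι = (Z : Set X) := by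
    rw [Scheme.IdealSheafData.range_subschemeι]
    exact Scheme.IdealSheafData.coe_support_vanishingIdeal ..
  obtain ⟨z₁, hz₁⟩ : g c₁ ∈ Set.range ι := by rw [hrange']; exact Or.inl (subset_closure rfl)
  obtain ⟨z₂, hz₂⟩ : g c₂ ∈ Set.range ι := by rw [hrange']; exact Or.inr (subset_closure rfl)
  -- points of `Z` over `D`
  have hclo : ∀ (c : C), IsClosed ({c} : Set C) → ∀ x ∈ closure ({g c} : Set X), x ∈ Set.range g → x = g c := by
    rintro c hc _ hx ⟨d, rfl⟩
    rw [← Set.image_singleton, ← Set.mem_preimage,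
      ← g.isOpenEmbedding.isInducing.closure_eq_preimage_closure_image, hc.closure_eq] at hx
    exact congrArg g hx
  have hDr : ∀ x, x ∈ D → x ∈ Set.range g := by
    intro x hx
    rw [← hg.isoPullback_hom_fst, Scheme.Hom.comp_base, TopCat.coe_comp, Set.range_comp,
      Set.range_eq_univ.mpr hg.isoPullback.hom.surjective, Set.image_univ,
      Scheme.Pullback.range_fst]
    have h1 : x ∈ pX ⁻¹ᵁ (Spec (CommRingCat.of R)).basicOpen ((Scheme.ΓSpecIso (CommRingCat.of R)).inv π) := by
      rw [Scheme.preimage_basicOpen]; exact hx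
    rw [basicOpen_eq_of_affine] at h1
    change pX x ∈ Set.range (PrimeSpectrum.comap (algebraMap R K))
    rw [PrimeSpectrum.localization_away_comap_range K π]
    exact h1
  have hpts : ∀ z, ι z ∈ D → z = z₁ ∨ z = z₂ := by
    intro z hz
    have hzZ : ι z ∈ (Z : Set X) := hrange' ▸ Set.mem_range_self z
    rcases hzZ with h | h
    · exact Or.inl (ι.isClosedEmbedding.injective ((hclo c₁ h₁ _ h (hDr _ hz)).trans hz₁.symm))
    · exact Or.inr (ι.isClosedEmbedding.injective ((hclo c₂ h₂ _ h (hDr _ hz)).trans hz₂.symm))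
  have hnot₁ : g c₁ ∉ closure ({g c₂} : Set X) := fun h =>
    hne (g.isOpenEmbedding.injective (hclo c₂ h₂ _ h ⟨c₁, rfl⟩))
  have hnot₂ : g c₂ ∉ closure ({g c₁} : Set X) := fun h =>
    hne (g.isOpenEmbedding.injective (hclo c₁ h₁ _ h ⟨c₂, rfl⟩)).symm
  let B₁ : I.subscheme.Opens := ι ⁻¹ᵁ (D ⊓ ⟨(closure {g c₂})ᶜ, isClosed_closure.isOpen_compl⟩)
  let B₂ : I.subscheme.Opens := ι ⁻¹ᵁ (D ⊓ ⟨(closure {g c₁})ᶜ, isClosed_closure.isOpen_compl⟩)
  have hz₁B : z₁ ∈ B₁ := ⟨show ι z₁ ∈ D by rw [hz₁]; exact hrange c₁, show ι z₁ ∉ _ by rw [hz₁]; exact hnot₁⟩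
  have hz₂B : z₂ ∈ B₂ := ⟨show ι z₂ ∈ D by rw [hz₂]; exact hrange c₂, show ι z₂ ∉ _ by rw [hz₂]; exact hnot₂⟩
  let B : ULift.{u} Bool → I.subscheme.Opens := fun b => if b.down then B₁ else B₂
  have hBle : ∀ b, B b ≤ ι ⁻¹ᵁ D := by
    rintro ⟨_ | _⟩ <;> exact fun y hy => hy.1
  have hBdis : B₁ ⊓ B₂ = ⊥ := by
    ext y
    refine ⟨fun ⟨hy₁, hy₂⟩ => ?_, fun h => h.elim⟩
    rcases hpts y hy₁.1 with rfl | rfl
    · exact (hy₂.2 (show ι y ∈ closure {g c₁} by rw [hz₁]; exact subset_closure rfl)).elim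
    · exact (hy₁.2 (show ι y ∈ closure {g c₂} by rw [hz₂]; exact subset_closure rfl)).elim
  let sf : ∀ b, Γ(I.subscheme, B b) := fun b => match b with
    | ⟨true⟩ => (1 : Γ(I.subscheme, B₁))
    | ⟨false⟩ => (0 : Γ(I.subscheme, B₂))
  obtain ⟨s, hs, -⟩ := TopCat.Sheaf.existsUnique_gluing' I.subscheme.sheaf B (ι ⁻¹ᵁ D)
    (fun b => homOfLE (hBle b))
    (fun y hy => by
      rcases hpts y hy with rfl | rfl
      · exact Opens.mem_iSup.2 ⟨⟨true⟩, hz₁B⟩
      · exact Opens.mem_iSup.2 ⟨⟨false⟩, hz₂B⟩) sf (by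
    rintro ⟨_ | _⟩ ⟨_ | _⟩
    · rfl
    · haveI : Subsingleton Γ(I.subscheme, B₂ ⊓ B₁) := by rw [inf_comm, hBdis]; infer_instance
      exact Subsingleton.elim (α := Γ(I.subscheme, B₂ ⊓ B₁)) _ _
    · haveI : Subsingleton Γ(I.subscheme, B₁ ⊓ B₂) := by rw [hBdis]; infer_instance
      exact Subsingleton.elim (α := Γ(I.subscheme, B₁ ⊓ B₂)) _ _
    · rfl)
  let Mq := ClSub.quotMod I
  haveI : Mq.IsQuasicoherent := inferInstance
  let s' : Γ(Mq, D) := s
  haveI : QuasiSeparatedSpace X := quasiSeparatedSpace_of_quasiSeparated pX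
  obtain ⟨n, t, ht⟩ := Groth.QCohMod.exists_pow_smul_eq_res_of_qcqs Mq (W := ⊤) isCompact_univ
    isQuasiSeparated_univ (Coh.toGlobal pX π : Γ(X, ⊤)) s'
  -- germs of `t`
  let γ : R →+* Γ(I.subscheme, ι ⁻¹ᵁ ⊤) := (ι.app ⊤).hom.comp (Coh.toGlobal pX)
  let tf : Γ(I.subscheme, ι ⁻¹ᵁ ⊤) := t
  let s₀ : Γ(I.subscheme, ι ⁻¹ᵁ D) := s
  have hD : D ≤ (⊤ : X.Opens) := X.basicOpen_le _
  have htf : I.subscheme.presheaf.map (homOfLE (ι.preimage_mono hD)).op tf =
      I.subscheme.presheaf.map (homOfLE (ι.preimage_mono hD)).op (γ π) ^ n * s₀ := by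
    refine ht.trans ?_
    change (ι.app D) (Groth.QCohMod.resFun X (X.basicOpen_le _) (Coh.toGlobal pX π : Γ(X, ⊤)) ^ n) * s₀ = _
    rw [map_pow]
    congr 2
    exact congr($(ι.naturality (homOfLE (X.basicOpen_le (Coh.toGlobal pX π : Γ(X, ⊤)))).op) _)
  have hg1 : I.subscheme.presheaf.germ (ι ⁻¹ᵁ D) z₁ hz₁B.1 s = 1 := by
    have h : I.subscheme.presheaf.map (homOfLE (hBle ⟨true⟩)).op s = (1 : Γ(I.subscheme, B₁)) := hs ⟨true⟩
    have h2 := congrArg (I.subscheme.presheaf.germ B₁ z₁ hz₁B) h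
    rwa [map_one, TopCat.Presheaf.germ_res_apply] at h2
  have hg2 : I.subscheme.presheaf.germ (ι ⁻¹ᵁ D) z₂ hz₂B.1 s = 0 := by
    have h : I.subscheme.presheaf.map (homOfLE (hBle ⟨false⟩)).op s = (0 : Γ(I.subscheme, B₂)) := hs ⟨false⟩
    have h2 := congrArg (I.subscheme.presheaf.germ B₂ z₂ hz₂B) h
    rwa [map_zero, TopCat.Presheaf.germ_res_apply] at h2
  let e : ∀ z, Γ(I.subscheme, ι ⁻¹ᵁ ⊤) →+* I.subscheme.presheaf.stalk z := fun z =>
    (I.subscheme.presheaf.germ (ι ⁻¹ᵁ ⊤) z trivial).hom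
  have hgt : ∀ (z : I.subscheme) (hz : ι z ∈ D),
      e z tf = e z (γ π) ^ n * I.subscheme.presheaf.germ (ι ⁻¹ᵁ D) z hz s := by
    intro z hz
    have h := congrArg (I.subscheme.presheaf.germ (ι ⁻¹ᵁ D) z hz) htf
    rw [map_mul, map_pow, TopCat.Presheaf.germ_res_apply, TopCat.Presheaf.germ_res_apply] at h
    exact h
  have hu : ∀ (z : I.subscheme) (hz : ι z ∈ D), ∀ r : R, r ≠ 0 → IsUnit (e z (γ r)) := by
    intro z hz r hr
    obtain ⟨m, w, rfl⟩ := IsDiscreteValuationRing.eq_unit_mul_pow_irreducible hr hπ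
    rw [map_mul, map_mul, map_pow, map_pow]
    refine ((w.isUnit.map γ).map (e z)).mul (IsUnit.pow _ ?_)
    have h1 : z ∈ I.subscheme.basicOpen (ι.app ⊤ (Coh.toGlobal pX π : Γ(X, ⊤))) := by
      rw [← Scheme.preimage_basicOpen]; exact hz
    exact (Scheme.mem_basicOpen I.subscheme (U := ι ⁻¹ᵁ ⊤) (ι.app ⊤ (Coh.toGlobal pX π : Γ(X, ⊤))) z trivial).mp h1
  -- `t` is not constant up to multiples
  have hnt : ∀ r' r : R, γ r' * tf = γ r → r' = 0 := by
    intro r' r h
    have e2 := congrArg (e z₂) h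
    rw [map_mul, hgt z₂ hz₂B.1, hg2, mul_zero, mul_zero] at e2
    have hr : r = 0 := by
      by_contra hr
      exact (hu z₂ hz₂B.1 r hr).ne_zero e2.symm
    have e1 := congrArg (e z₁) h
    rw [map_mul, hgt z₁ hz₁B.1, hg1, mul_one, hr, map_zero, map_zero] at e1
    by_contra hr'
    exact ((hu z₁ hz₁B.1 r' hr').mul ((hu z₁ hz₁B.1 π hπ.ne_zero).pow n)).ne_zero e1
  -- pass to `H¹` of the ideal
  have hSI := Groth.PicAux.shortExact_idealMod I
  let SI : ShortComplex X.Modules := ShortComplex.mk _ _ (kernel.condition (ClSub.toSubscheme I))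
  let yt : HA pX Mq 0 := (equivSections pX Mq).symm t
  haveI : (Coh.structureModule X).IsQuasicoherent := Groth.QCohMod.isQCoh_unit X
  have hI : Coh.IsCoh (ClSub.idealMod I) :=
    Groth.QCohMod.isCoh_kernel (ClSub.toSubscheme I) Groth.QCohMod.isCoh_unit
  haveI := hfin _ hI 1
  obtain ⟨l, hl⟩ := exists_form_ne_zero (N := HA pX (ClSub.idealMod I) 1)
    (delta (f := pX) hSI 0 yt) (fun r' hr' => by
      rw [← map_smul] at hr'
      obtain ⟨w, hw⟩ := (Groth.CohFin.exact_mapL_delta (f := pX) hSI 0 (r' • yt)).mp hr'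
      obtain ⟨r, hr⟩ := hH0.2 (Groth.PicAux.toFun (equivSections pX (Coh.structureModule X) w))
      refine hnt r' r ?_
      have h := congrArg (equivSections pX Mq) hw
      rw [Groth.CohFin.equivSections_mapL, Groth.CohFin.equivSections_smul,
        AddEquiv.apply_symm_apply] at h
      change ι.app ⊤ (Coh.toGlobal pX r' : Γ(X, ⊤)) * tf = ι.app ⊤ (Coh.toGlobal pX r : Γ(X, ⊤))
      rw [hr]
      exact h.symm)
  exact ⟨ClSub.idealMod I, hI.1, l, hl⟩

/-- `H¹(X, ω)` is free of rank `1`, given finiteness of coherent cohomology. -/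
theorem free_and_finrank [IsProper pX] [Flat pX] {C : Scheme.{u}}
    (f : C ⟶ Spec (CommRingCat.of (FractionRing R)))
    [SmoothOfRelativeDimension 1 f] [IsProper f] [GeometricallyConnected f]
    (g : C ⟶ X) (hg : IsPullback g f pX (Spec.map (CommRingCat.ofHom (algebraMap R (FractionRing R)))))
    (hω : Canon.IsRDualOver R X 1 ω tr)
    (hcf : Module.Free R (Coh.HH X (Coh.structureModule X) 1))
    (hfin : ∀ F : X.Modules, Coh.IsCoh F → ∀ n, Module.Finite R (HA pX F n)) :
    Module.Free R (Coh.HH X ω 1) ∧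
      Module.finrank R (Coh.HH X ω 1) = Module.finrank R (Coh.HH X (Coh.structureModule X) 0) := by
  haveI : Smooth f := SmoothOfRelativeDimension.smooth 1 f
  have hH0 := GlobalFun.toGlobal_bijective_of_generic pX g f hg
  haveI : Nonempty C := by
    haveI hc : ConnectedSpace ↥(pullback f (𝟙 _)) :=
      GeometricallyConnected.geometrically_connectedSpace (f := f) (𝟙 _) _ _
        (IsPullback.of_hasPullback f (𝟙 _))
    exact ⟨pullback.fst f (𝟙 _) (Classical.arbitrary _)⟩
  haveI : IsLocallyNoetherian X := LocallyOfFiniteType.isLocallyNoetherian pX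
  haveI : Module.Free R (HA pX (Coh.structureModule X) 1) := hcf
  haveI := hfin _ Groth.QCohMod.isCoh_unit 1
  have hinj := tr_injective hω hH0
  have hne : tr ≠ 0 := by
    intro h0
    obtain ⟨F, hF, l, hl⟩ := exists_form f g hg hH0 hfin
    obtain ⟨φ, hφ⟩ := (hω.2 F hF).2 l
    exact hl (hφ.symm.trans (LinearMap.ext fun z => LinearMap.congr_fun h0 _))
  let J : Ideal R := LinearMap.range tr
  have hJ : J ≠ ⊥ := fun h => hne (LinearMap.range_eq_bot.mp h)
  let e₁ : Coh.HH X ω 1 ≃ₗ[R] R :=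
    (LinearEquiv.ofInjective tr hinj).trans
      ((LinearEquiv.toSpanNonzeroSingleton R R (Submodule.IsPrincipal.generator J)
        (fun h => hJ ((Submodule.IsPrincipal.eq_bot_iff_generator_eq_zero J).mpr h))).trans
          (LinearEquiv.ofEq _ _ (Submodule.IsPrincipal.span_singleton_generator J))).symm
  let e₀ : Coh.HH X (Coh.structureModule X) 0 ≃ₗ[R] R :=
    LinearEquiv.symm (LinearEquiv.ofBijective
      (LinearMap.toSpanSingleton R (Coh.HH X (Coh.structureModule X) 0)
        ((equivSections pX (Coh.structureModule X)).symm (Groth.PicAux.oneSec X ⊤))) (by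
          let O := Coh.structureModule X
          let γ₀ : R →+* Γ(X, ⊤) := Coh.toGlobal pX
          have key : ∀ r : R, equivSections pX O (r • (equivSections pX O).symm (Groth.PicAux.oneSec X ⊤)) =
              (γ₀ r • Groth.PicAux.oneSec X ⊤ :) := fun r => by
            rw [Groth.CohFin.equivSections_smul, AddEquiv.apply_symm_apply]
            rfl
          refine ⟨fun a b hab => hH0.1 ?_, fun z => ?_⟩
          · have h := congrArg (equivSections pX O) (hab : a • _ = b • _)
            erw [key, key] at h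
            have h2 := congrArg Groth.PicAux.toFun h
            rw [Groth.PicAux.toFun_smul, Groth.PicAux.toFun_smul, Groth.PicAux.toFun_oneSec, mul_one,
              mul_one] at h2
            exact h2
          · obtain ⟨r, hr⟩ := hH0.2 (Groth.PicAux.toFun (equivSections pX O z))
            refine ⟨r, (equivSections pX O).injective ?_⟩
            erw [key]
            change γ₀ r • _ = _
            rw [show γ₀ r = _ from hr]
            exact (Groth.PicAux.eq_toFun_smul_oneSec _).symm))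
  exact ⟨Module.Free.of_equiv e₁.symm, e₁.finrank_eq.trans e₀.finrank_eq.symm⟩

end Groth.ModelsGraphs.DualH1
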