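import Groth.Agent.ModelsGraphs.GoingDownNormal
import Groth.Agent.AlgSp2.FlatFibreScheme
import Groth.Agent.AlgSpBasic.DecentCodim
import Groth.Agent.Ega2Proj.Curve
import Groth.Agent.Flatmor4.FlatDedekind

/-!
# Finite surjective morphisms are flat in codimension one over a normal base
-/

set_option autoImplicit false

universe u

open CategoryTheory CategoryTheory.Limits AlgebraicGeometry TopologicalSpace

namespace Groth.ModelsGraphs.FlatCodimOne

variable {X Y : Scheme.{u}} [IsIntegral X] [IsIntegral Y] (f : X ⟶ Y)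

/-- The generic point goes to the generic point. -/
lemma map_genericPoint [Surjective f] : f (genericPoint X) = genericPoint Y := by
  obtain ⟨x, hx⟩ := f.surjective (genericPoint Y)
  have h := ((genericPoint_spec X).specializes (Set.mem_univ x)).map f.continuous
  rw [hx] at h
  exact (h.antisymm ((genericPoint_spec Y).specializes (Set.mem_univ _))).eq

/-- Stalk maps of a surjective morphism of integral schemes are injective. -/
lemma stalkMap_injective [Surjective f] (x : X) : Function.Injective (f.stalkMap x) := by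
  refine (injective_iff_map_eq_zero _).2 fun a ha => ?_
  obtain ⟨U, hxU, s, rfl⟩ := TopCat.Presheaf.exists_germ_eq Y.presheaf a
  have hηU : genericPoint Y ∈ U := ((genericPoint_spec Y).specializes (Set.mem_univ (f x))).mem_open U.2 hxU
  have hfs : f.app U s = 0 := by
    refine (AlgebraicGeometry.germ_injective_of_isIntegral X x (U := f ⁻¹ᵁ U) hxU) ?_
    rw [map_zero]
    exact (Scheme.Hom.germ_stalkMap_apply f U x hxU s).symm.trans ha
  by_contra hne
  have hs : s ≠ 0 := fun h => hne (by rw [h, map_zero])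
  have hbo : X.basicOpen (f.app U s) = f ⁻¹ᵁ (Y.basicOpen s) := (Scheme.preimage_basicOpen f s).symm
  have hη : genericPoint Y ∈ Y.basicOpen s :=
    ((genericPoint_spec Y).mem_open_set_iff (Y.basicOpen s).2).2 (by
      by_contra hE
      rw [Set.univ_inter, Set.not_nonempty_iff_eq_empty] at hE
      exact hs ((AlgebraicGeometry.basicOpen_eq_bot_iff s).1 (Opens.ext hE)))
  have h0 : genericPoint X ∈ X.basicOpen (f.app U s) := by
    rw [hbo]
    change f (genericPoint X) ∈ Y.basicOpen s
    rw [map_genericPoint f]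
    exact hη
  rw [hfs, Scheme.basicOpen_zero] at h0
  exact h0

/-- Flatness at points over which the base has dimension at most one. -/
theorem flat_stalkMap [Surjective f] [IsLocallyNoetherian Y] (x : X)
    (hn : IsIntegrallyClosed (Y.presheaf.stalk (f x))) (hdim : ringKrullDim (Y.presheaf.stalk (f x)) ≤ 1) :
    (f.stalkMap x).hom.Flat := by
  letI := (f.stalkMap x).hom.toAlgebra
  haveI := hn
  haveI : IsPrincipalIdealRing (Y.presheaf.stalk (f x)) := by
    have hT := (tfae_of_isNoetherianRing_of_isLocalRing_of_isDomain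
      (Y.presheaf.stalk (f x))).out 3 0
    refine hT.1 ⟨hn, fun P hP hPp => ?_⟩
    by_contra hne
    haveI := hPp
    have h1 : (⊥ : Ideal (Y.presheaf.stalk (f x))).height < P.height :=
      Ideal.height_strict_mono_of_isPrime_of_isPrime (bot_lt_iff_ne_bot.2 hP)
    have h2 : P.height < (IsLocalRing.maximalIdeal (Y.presheaf.stalk (f x))).height :=
      Ideal.height_strict_mono_of_isPrime_of_isPrime
        (lt_of_le_of_ne (IsLocalRing.le_maximalIdeal hPp.ne_top) hne)
    rw [← IsLocalRing.maximalIdeal_height_eq_ringKrullDim] at hdim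
    have h3 : (IsLocalRing.maximalIdeal (Y.presheaf.stalk (f x))).height ≤ 1 := by exact_mod_cast hdim
    have h4 := h2.trans_le h3
    rw [ENat.lt_one_iff_eq_zero] at h4
    exact absurd h4 (ne_of_gt (lt_of_le_of_lt zero_le h1))
  show Module.Flat (Y.presheaf.stalk (f x)) (X.presheaf.stalk x)
  rw [Module.Flat.flat_iff_torsion_eq_bot_of_isBezout, Submodule.eq_bot_iff]
  intro b hb
  obtain ⟨⟨a, ha⟩, hab⟩ := hb
  have hab' : (f.stalkMap x).hom a * b = 0 := hab
  refine (mul_eq_zero.1 hab').resolve_left fun h => nonZeroDivisors.ne_zero ha ?_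
  exact stalkMap_injective f x (h.trans (map_zero _).symm)

variable {S : Scheme.{u}}

attribute [local instance 10] specializationOrder

/-- The non-flat locus lies over finitely many closed points of dimension two. -/
theorem exists_flat_open [IsFinite f] [Surjective f] [IsLocallyNoetherian Y] [CompactSpace Y]
    (hn : ∀ y : Y, IsIntegrallyClosed (Y.presheaf.stalk y)) (hdY : topologicalKrullDim Y = 2)
    (g : Y ⟶ S) [LocallyOfFinitePresentation (f ≫ g)] [LocallyOfFiniteType g] [Flat (f ≫ g)] :
    ∃ V : Y.Opens, ((V : Set Y)ᶜ).Finite ∧ (∀ y : Y, y ∉ V → ringKrullDim (Y.presheaf.stalk y) = 2) ∧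
      (((f ⁻¹ᵁ V : X.Opens) : Set X)ᶜ).Finite ∧
      (∀ x : X, x ∉ f ⁻¹ᵁ V → ringKrullDim (X.presheaf.stalk x) = 2) ∧ Flat (f ∣_ V) := by
  haveI : IsNoetherian Y := ⟨⟩
  let N : Set X := {x : X | (f.stalkMap x).hom.Flat}ᶜ
  have hN : IsClosed N := (Groth.AlgSp2.FlatFib.isOpen_flatLocus f g).isClosed_compl
  let C : Set Y := f '' N
  have hC : IsClosed C := f.isClosedMap _ hN
  have hdim : ∀ y ∈ C, ringKrullDim (Y.presheaf.stalk y) = 2 := by
    rintro _ ⟨x, hx, rfl⟩
    refine le_antisymm ((Groth.Flatmor4.ringKrullDim_stalk_le _).trans hdY.le) ?_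
    by_contra hlt
    refine hx (flat_stalkMap f x (hn _) ?_)
    rw [ringKrullDim_stalk_eq_coheight, show (2 : WithBot ℕ∞) = ((2 : ℕ∞) : WithBot ℕ∞) from rfl,
      WithBot.coe_le_coe, not_le] at hlt
    rw [ringKrullDim_stalk_eq_coheight, show (1 : WithBot ℕ∞) = ((1 : ℕ∞) : WithBot ℕ∞) from rfl,
      WithBot.coe_le_coe]
    exact Order.le_of_lt_add_one (by rw [one_add_one_eq_two]; exact hlt)
  have hclosed : ∀ y ∈ C, IsClosed ({y} : Set Y) := fun y hy => by
    refine closure_subset_iff_isClosed.1 fun y' hy' => Set.mem_singleton_iff.2 ?_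
    by_contra hne
    have hspec : y ⤳ y' := specializes_iff_mem_closure.2 hy'
    have hlt : y' < y := lt_of_le_of_ne hspec hne
    have h2 := hdim y hy
    rw [ringKrullDim_stalk_eq_coheight] at h2
    have hy2 : Order.coheight y = 2 := WithBot.coe_injective h2
    have h3 := Order.coheight_add_one_le hlt
    have h4 := (Groth.Flatmor4.ringKrullDim_stalk_le y').trans hdY.le
    rw [ringKrullDim_stalk_eq_coheight] at h4
    have hy4 : Order.coheight y' ≤ 2 := WithBot.coe_le_coe.1 h4
    rw [hy2] at h3
    exact absurd (h3.trans hy4) (by decide)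
  have hCfin : C.Finite := Groth.Ega2Proj.finite_of_forall_isClosed_singleton hC hclosed
  refine ⟨⟨Cᶜ, hC.isOpen_compl⟩, by simpa using hCfin, fun y hy => hdim y (by simpa using hy), ?_,
    fun x hx => ?_, ?_⟩
  · have h : (((f ⁻¹ᵁ (⟨Cᶜ, hC.isOpen_compl⟩ : Y.Opens)) : X.Opens) : Set X)ᶜ = f ⁻¹' C := by
      ext x
      simp
    rw [h]
    exact hCfin.preimage' fun y _ => f.finite_preimage_singleton y
  · rw [ringKrullDim_stalk_eq_coheight,
      Groth.AlgSpBasic.coheight_eq_of_generalizing f f.continuous
        (fun a b h e => (GoingDownNormal.eq_of_specializes f h e.symm).symm)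
        (GoingDownNormal.generalizingMap hn f) x,
      ← ringKrullDim_stalk_eq_coheight]
    exact hdim _ (Classical.not_not.1 hx)
  · refine Flat.of_stalkMap _ fun x => ?_
    let P : MorphismProperty CommRingCat :=
      RingHom.toMorphismProperty fun {R S} [CommRing R] [CommRing S] φ => RingHom.Flat φ
    haveI : P.RespectsIso :=
      RingHom.toMorphismProperty_respectsIso_iff.mp RingHom.Flat.respectsIso
    change P _
    rw [P.arrow_mk_iso_iff (morphismRestrictStalkMap f _ x)]
    by_contra hx
    exact x.2 ⟨x.1, hx, rfl⟩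

end Groth.ModelsGraphs.FlatCodimOne
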