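import Groth.Agent.EGA43Topo.UnibranchQuasiFinite
import Groth.Agent.FlatMorOne.FlatLocusBelowScheme
import Mathlib.AlgebraicGeometry.Morphisms.QuasiFinite

/-!
# Lifting generizations along quasi-finite morphisms to unibranch points
-/

set_option autoImplicit false
set_option backward.isDefEq.respectTransparency.types false

universe u

open CategoryTheory AlgebraicGeometry

namespace Groth.ModelsGraphs

/-- Over a maximal point of the target, at a quasi-finite point above a unibranch point, all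
generizations of the image lift. -/
theorem exists_specializes_map_eq {X Y : Scheme.{u}} (f : X ⟶ Y) [LocallyOfFiniteType f] {x ξ : X}
    (hy : CAlg2.IsUnibranch (Y.presheaf.stalk (f x))) (hq : f.QuasiFiniteAt x) (hξ : ξ ⤳ x)
    (hfξ : ∀ y : Y, y ⤳ f ξ → y = f ξ) {η : Y} (hη : η ⤳ f x) : ∃ z, z ⤳ x ∧ f z = η := by
  obtain ⟨_, ⟨U, hU, rfl⟩, hxU, -⟩ :=
    Y.isBasis_affineOpens.exists_subset_of_mem_open (Set.mem_univ (f x)) isOpen_univ
  obtain ⟨_, ⟨V, hV, rfl⟩, hxV, hle⟩ :=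
    X.isBasis_affineOpens.exists_subset_of_mem_open (show x ∈ f ⁻¹ᵁ U from hxU) (f ⁻¹ᵁ U).2
  let e : V ≤ f ⁻¹ᵁ U := hle
  have hξV : ξ ∈ V := hξ.mem_open V.2 hxV
  have hηU : η ∈ U := hη.mem_open U.2 hxU
  letI : Algebra Γ(Y, U) Γ(X, V) := (f.appLE U V e).hom.toAlgebra
  haveI : Algebra.FiniteType Γ(Y, U) Γ(X, V) :=
    HasRingHomProperty.appLE @LocallyOfFiniteType f inferInstance ⟨U, hU⟩ ⟨V, hV⟩ e
  have hcom : ∀ z : V, (hV.primeIdealOf z).asIdeal.comap (algebraMap Γ(Y, U) Γ(X, V)) =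
      (hU.primeIdealOf ⟨f z.1, e z.2⟩).asIdeal :=
    Groth.FlatMorOne.comap_primeIdealOf_appLE' f hU hV e
  let p := (hU.primeIdealOf ⟨f x, e hxV⟩).asIdeal
  let n := (hV.primeIdealOf ⟨x, hxV⟩).asIdeal
  haveI : n.LiesOver p := ⟨(hcom ⟨x, hxV⟩).symm⟩
  haveI : Algebra.QuasiFiniteAt Γ(Y, U) n := hq.quasiFiniteAt hV hU e hxV
  letI := TopCat.Presheaf.algebra_section_stalk Y.presheaf (⟨f x, e hxV⟩ : U)
  haveI : IsLocalization.AtPrime (Y.presheaf.stalk (f x)) p := hU.isLocalization_stalk ⟨f x, e hxV⟩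
  obtain ⟨Q, hQp, hQn, hQ⟩ := Groth.EGA43Topo.exists_le_comap_eq_of_quasiFiniteAt p
    (Y.presheaf.stalk (f x)) hy n (hV.primeIdealOf ⟨ξ, hξV⟩).asIdeal
    ((Groth.FlatMorOne.primeIdealOf_le_iff_specializes hV ⟨ξ, hξV⟩ ⟨x, hxV⟩).2 hξ)
    (by
      rw [hcom ⟨ξ, hξV⟩]
      refine ⟨⟨PrimeSpectrum.isPrime _, bot_le⟩, fun J hJ hle' => le_of_eq ?_⟩
      have hfs : hU.fromSpec (hU.primeIdealOf ⟨f ξ, e hξV⟩) = f ξ :=
        hU.fromSpec_primeIdealOf ⟨f ξ, e hξV⟩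
      have hs : hU.fromSpec ⟨J, hJ.1⟩ ⤳ f ξ :=
        (((PrimeSpectrum.le_iff_specializes ⟨J, hJ.1⟩ _).1 hle').map hU.fromSpec.continuous).trans
          (specializes_of_eq hfs)
      exact (congrArg PrimeSpectrum.asIdeal
        (hU.fromSpec.isOpenEmbedding.injective ((hfξ _ hs).trans hfs.symm))).symm)
    (hU.primeIdealOf ⟨η, hηU⟩).asIdeal
    ((Groth.FlatMorOne.primeIdealOf_le_iff_specializes hU ⟨η, hηU⟩ ⟨f x, e hxV⟩).2 hη)
  obtain ⟨z, hz⟩ : ∃ z : V, hV.primeIdealOf z = ⟨Q, hQp⟩ := by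
    have h0 : hV.fromSpec ⟨Q, hQp⟩ ∈ V := by
      rw [← SetLike.mem_coe, ← hV.range_fromSpec]
      exact ⟨_, rfl⟩
    exact ⟨⟨_, h0⟩, hV.fromSpec.isOpenEmbedding.injective (hV.fromSpec_primeIdealOf _)⟩
  refine ⟨z.1, (Groth.FlatMorOne.primeIdealOf_le_iff_specializes hV z ⟨x, hxV⟩).1 (hz ▸ hQn), ?_⟩
  have h1 : hU.primeIdealOf ⟨f z.1, e z.2⟩ = hU.primeIdealOf ⟨η, hηU⟩ :=
    PrimeSpectrum.ext ((hcom z).symm.trans (by rw [hz]; exact hQ))
  have h2 := congrArg hU.fromSpec h1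
  rwa [hU.fromSpec_primeIdealOf, hU.fromSpec_primeIdealOf] at h2

end Groth.ModelsGraphs
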