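import Groth.Agent.ModelsGraphs.IndexMultAlg
import Groth.Agent.Hensel1.QFSplit
import Mathlib.RingTheory.DiscreteValuationRing.Basic
import Mathlib.RingTheory.ZariskisMainTheorem
import Mathlib.LinearAlgebra.FreeModule.PID
import Mathlib.RingTheory.FiniteLength

/-!
# The index divides the multiplicity, for algebras over a henselian discrete valuation ring
-/

set_option autoImplicit false
set_option linter.style.haveILetI false
set_option backward.isDefEq.respectTransparency.types false

universe u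

open TensorProduct RingTheory.Sequence
open scoped Pointwise

namespace Groth.ModelsGraphs.IndexMult

/-- The dimension of a module over a finite algebra is an integral combination of residue degrees. -/
theorem finrank_mem {K E : Type u} [Field K] [CommRing E] [Algebra K E] [Module.Finite K E]
    (G : AddSubgroup ℤ) (hG : ∀ m : Ideal E, m.IsMaximal → (Module.finrank K (E ⧸ m) : ℤ) ∈ G) :
    (Module.finrank K E : ℤ) ∈ G := by
  suffices h : ∀ (M : Type u) [AddCommGroup M] [Module E M], IsFiniteLength E M →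
      ∀ (i : Module K M), @IsScalarTower K E M _ _ i.toDistribMulAction.toMulAction.toSMul →
        @Module.Finite K M _ _ i → (@Module.finrank K M _ _ i : ℤ) ∈ G by
    haveI : IsNoetherian K E := inferInstance
    exact h E (isFiniteLength_iff_isNoetherian_isArtinian.2
      ⟨isNoetherian_of_tower K inferInstance, isArtinian_of_tower K inferInstance⟩) _ inferInstance
      inferInstance
  intro M _ _ key
  induction key with
  | of_subsingleton =>
    intro _ _ _
    rw [Module.finrank_zero_of_subsingleton, Nat.cast_zero]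
    exact G.zero_mem
  | @of_simple_quotient M _ _ N hsimple _ ih =>
    intro _ _ _
    letI : Module K N := inferInstanceAs (Module K (N.restrictScalars K))
    haveI : IsScalarTower K E N := ⟨fun a b c => Subtype.ext (smul_assoc a b (c : M))⟩
    haveI : Module.Finite K N := inferInstanceAs (Module.Finite K (N.restrictScalars K))
    rw [← Submodule.finrank_quotient_add_finrank (N.restrictScalars K), Nat.cast_add]
    refine G.add_mem ?_ (ih (inferInstance : Module K N) inferInstance inferInstance)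
    obtain ⟨I, hI, ⟨e⟩⟩ := isSimpleModule_iff_quot_maximal.1 hsimple
    rw [(Submodule.Quotient.restrictScalarsEquiv K N).finrank_eq, (e.restrictScalars K).finrank_eq]
    exact hG I hI

variable {R : Type u} [CommRing R] [IsDomain R] [IsDiscreteValuationRing R]

local notation "kk" => IsLocalRing.ResidueField R
local notation "KK" => FractionRing R

/-- The rank of a finite free algebra is the dimension of its closed fibre. -/
theorem finrank_eq_fibre {π : R} (hπ : Irreducible π) {B' T : Type u} [CommRing B'] [Algebra R B']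
    [Module.Free R B'] [Module.Finite R B'] [CommRing T] [Algebra R T] [Algebra kk T] [IsScalarTower R kk T]
    (ψ' : B' →ₐ[R] T) (hψ'surj : Function.Surjective ψ')
    (hker : ∀ x, ψ' x = 0 → algebraMap R B' π ∣ x) :
    Module.finrank R B' = Module.finrank kk T := by
  have hπ0 : algebraMap R kk π = 0 :=
    (IsLocalRing.residue_eq_zero_iff π).2 ((IsLocalRing.mem_maximalIdeal π).2 hπ.not_isUnit)
  let l₁ : (kk ⊗[R] B') →ₐ[kk] T :=
    Algebra.TensorProduct.lift (Algebra.ofId kk T) ψ' fun _ _ => Commute.all _ _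
  have hsurj : Function.Surjective l₁ := fun z => by
    obtain ⟨b, rfl⟩ := hψ'surj z
    exact ⟨1 ⊗ₜ b, by simp [l₁]⟩
  have hgen : ∀ z : kk ⊗[R] B', ∃ b : B', (1 : kk) ⊗ₜ[R] b = z := by
    intro z
    induction z using TensorProduct.induction_on with
    | zero => exact ⟨0, TensorProduct.tmul_zero _ _⟩
    | tmul c b =>
      obtain ⟨c, rfl⟩ := IsLocalRing.residue_surjective c
      refine ⟨c • b, ?_⟩
      rw [← TensorProduct.smul_tmul, Algebra.smul_def, mul_one]
      rfl
    | add a b ha hb =>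
      obtain ⟨a, rfl⟩ := ha
      obtain ⟨b, rfl⟩ := hb
      exact ⟨a + b, TensorProduct.tmul_add _ _ _⟩
  have hinj : Function.Injective l₁ := by
    rw [injective_iff_map_eq_zero]
    intro z hz
    obtain ⟨b, rfl⟩ := hgen z
    have h1 : ψ' b = 0 := by simpa [l₁] using hz
    obtain ⟨c, rfl⟩ := hker b h1
    rw [← Algebra.smul_def,
      TensorProduct.tmul_smul, TensorProduct.smul_tmul', Algebra.smul_def, mul_one, hπ0,
      TensorProduct.zero_tmul]
  rw [← (AlgEquiv.ofBijective l₁ ⟨hinj, hsurj⟩).toLinearEquiv.finrank_eq,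
    Module.finrank_baseChange]

/-- Degrees of the points of the generic fibre of a finite algebra receiving a localisation of `A`. -/
theorem finrank_mem_generic (A : Type u) [CommRing A] [Algebra R A] (f : A) (A' B' : Type u) [CommRing A']
    [Algebra R A'] [Algebra A A'] [IsScalarTower R A A'] [IsLocalization.Away f A'] [CommRing B']
    [Algebra R B'] [Module.Free R B'] [Module.Finite R B'] (α : A' →ₐ[R] B') (hα : Function.Surjective α)
    (G : AddSubgroup ℤ)
    (hG : ∀ (L : Type u) [Field L] [Algebra KK L] [Algebra R L] [IsScalarTower R KK L]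
      [Module.Finite KK L] (φ : A →ₐ[R] L),
      Algebra.adjoin KK (Set.range φ) = ⊤ → (Module.finrank KK L : ℤ) ∈ G) :
    (Module.finrank R B' : ℤ) ∈ G := by
  classical
  rw [← Module.finrank_baseChange (R := KK)]
  refine finrank_mem G fun m hm => ?_
  letI : Field ((KK ⊗[R] B') ⧸ m) := Ideal.Quotient.field m
  let φ₀ : B' →ₐ[R] (KK ⊗[R] B') ⧸ m :=
    (Ideal.Quotient.mkₐ R m).comp Algebra.TensorProduct.includeRight
  let φA' : A' →ₐ[R] (KK ⊗[R] B') ⧸ m := φ₀.comp α
  let φ : A →ₐ[R] (KK ⊗[R] B') ⧸ m := φA'.comp (IsScalarTower.toAlgHom R A A')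
  refine hG _ φ (eq_top_iff.2 fun z hz => ?_)
  clear hz
  let S := Algebra.adjoin KK (Set.range φ)
  have hA' : ∀ x : A', φA' x ∈ S := by
    intro x
    obtain ⟨a, ⟨_, j, rfl⟩, rfl⟩ := IsLocalization.exists_mk'_eq (Submonoid.powers f) x
    have hu : IsUnit (φA' (algebraMap A A' (f ^ j))) := by
      rw [map_pow]; exact ((IsLocalization.Away.algebraMap_isUnit f).pow j).map φA'
    have h1 := congrArg φA' (IsLocalization.mk'_spec A' a (⟨f ^ j, j, rfl⟩ : Submonoid.powers f))
    rw [map_mul] at h1
    rw [← eq_div_iff hu.ne_zero] at h1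
    rw [h1, div_eq_mul_inv]
    refine S.mul_mem (Algebra.subset_adjoin ⟨a, rfl⟩) ?_
    have hmem : φA' (algebraMap A A' (f ^ j)) ∈ S := Algebra.subset_adjoin ⟨f ^ j, rfl⟩
    exact S.inv_mem_of_algebraic (x := ⟨_, hmem⟩) (Algebra.IsAlgebraic.isAlgebraic _)
  obtain ⟨z, rfl⟩ := Ideal.Quotient.mk_surjective z
  induction z using TensorProduct.induction_on with
  | zero => rw [map_zero]; exact S.zero_mem
  | tmul c b =>
    obtain ⟨x, rfl⟩ := hα b
    have : (c ⊗ₜ[R] α x : KK ⊗[R] B') = algebraMap KK _ c * (1 ⊗ₜ[R] α x) := by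
      simp [Algebra.TensorProduct.algebraMap_apply]
    rw [this, map_mul, ← Ideal.Quotient.mkₐ_eq_mk KK, AlgHom.commutes]
    exact S.mul_mem (S.algebraMap_mem c) (hA' x)
  | add a b ha hb => rw [map_add]; exact S.add_mem ha hb

/-- The length of the closed fibre at a generic point is an integral combination of the degrees of
closed points of the generic fibre. -/
theorem exists_length_mem [HenselianLocalRing R] [IsAlgClosed kk] (A : Type u) [CommRing A]
    [Algebra R A] [Algebra.FiniteType R A] [Module.Flat R A]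
    (p : Ideal (A ⧸ (IsLocalRing.maximalIdeal R).map (algebraMap R A))) [p.IsPrime]
    (hp : p ∈ minimalPrimes (A ⧸ (IsLocalRing.maximalIdeal R).map (algebraMap R A)))
    (G : AddSubgroup ℤ)
    (hG : ∀ (L : Type u) [Field L] [Algebra KK L] [Algebra R L] [IsScalarTower R KK L]
      [Module.Finite KK L] (φ : A →ₐ[R] L),
      Algebra.adjoin KK (Set.range φ) = ⊤ → (Module.finrank KK L : ℤ) ∈ G) :
    ∃ ℓ : ℕ, Module.length (Localization.AtPrime p) (Localization.AtPrime p) = ℓ ∧ (ℓ : ℤ) ∈ G := by
  classical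
  let 𝔪 := IsLocalRing.maximalIdeal R
  let Ab := A ⧸ 𝔪.map (algebraMap R A)
  letI : Algebra kk Ab :=
    (Ideal.quotientMap (𝔪.map (algebraMap R A)) (algebraMap R A) Ideal.le_comap_map :
      kk →+* Ab).toAlgebra
  haveI : IsScalarTower R kk Ab := IsScalarTower.of_algebraMap_eq fun _ => rfl
  haveI : Algebra.FiniteType R Ab :=
    Algebra.FiniteType.of_surjective (Ideal.Quotient.mkₐ R _) (Ideal.Quotient.mkₐ_surjective R _)
  haveI : Algebra.FiniteType kk Ab := Algebra.FiniteType.of_restrictScalars_finiteType R kk Ab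
  obtain ⟨fb, S', _, _, _, _, xs, ℓ, hloc, hlen, hreg, hlocal, hrank⟩ := exists_slice kk Ab p hp
  haveI := hloc
  haveI := hlocal
  refine ⟨ℓ, hlen, ?_⟩
  obtain ⟨f, rfl⟩ := Ideal.Quotient.mk_surjective fb
  letI : Algebra R S' := ((algebraMap Ab S').comp (algebraMap R Ab)).toAlgebra
  haveI : IsScalarTower R Ab S' := IsScalarTower.of_algebraMap_eq' rfl
  haveI : IsScalarTower R kk S' := IsScalarTower.of_algebraMap_eq fun c => by
    rw [IsScalarTower.algebraMap_apply R Ab S', IsScalarTower.algebraMap_apply R kk Ab,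
      ← IsScalarTower.algebraMap_apply kk Ab S']
  obtain ⟨π, hπ⟩ := IsDiscreteValuationRing.exists_irreducible R
  let A' := Localization.Away f
  let πA : A' := algebraMap R A' π
  let g : A →ₐ[R] S' := (IsScalarTower.toAlgHom R Ab S').comp (Ideal.Quotient.mkₐ R _)
  let ψ : A' →ₐ[R] S' := IsLocalization.liftAlgHom (M := Submonoid.powers f) (f := g) fun y => by
    obtain ⟨-, j, rfl⟩ := y
    simpa [g, Ab, Ideal.Quotient.mkₐ_eq_mk] using (IsLocalization.Away.algebraMap_isUnit (S := S') (Ideal.Quotient.mk _ f)).pow j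
  have hψ : ∀ a : A, ψ (algebraMap A A' a) = algebraMap Ab S' (Ideal.Quotient.mk _ a) := fun a => by
    simp only [ψ, IsLocalization.liftAlgHom_apply, IsLocalization.lift_eq]
    rfl
  have hψsurj : Function.Surjective ψ := by
    intro z
    obtain ⟨⟨a, ⟨_, j, rfl⟩⟩, hz⟩ :=
      IsLocalization.surj (Submonoid.powers (Ideal.Quotient.mk (𝔪.map (algebraMap R A)) f)) z
    obtain ⟨a, rfl⟩ := Ideal.Quotient.mk_surjective a
    refine ⟨IsLocalization.mk' A' a (⟨f ^ j, j, rfl⟩ : Submonoid.powers f), ?_⟩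
    refine ((IsLocalization.Away.algebraMap_isUnit (S := S')
      (Ideal.Quotient.mk (𝔪.map (algebraMap R A)) f)).pow j).mul_right_cancel ?_
    rw [← map_pow, hz, ← hψ a, ← IsLocalization.mk'_spec A' a (⟨f ^ j, j, rfl⟩ : Submonoid.powers f),
      map_mul, hψ]
    rfl
  have hπ0 : algebraMap R kk π = 0 :=
    (IsLocalRing.residue_eq_zero_iff π).2 ((IsLocalRing.mem_maximalIdeal π).2 hπ.not_isUnit)
  have hψπ : ψ πA = 0 := by
    rw [AlgHom.commutes, IsScalarTower.algebraMap_apply R kk S', hπ0, map_zero]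
  have hker : RingHom.ker ψ = Ideal.span {πA} := by
    refine le_antisymm (fun x hx => ?_) ((Ideal.span_singleton_le_iff_mem _).2 hψπ)
    obtain ⟨a, ⟨_, j, rfl⟩, rfl⟩ := IsLocalization.exists_mk'_eq (Submonoid.powers f) x
    have h1 : ψ (algebraMap A A' a) = 0 := by
      rw [← IsLocalization.mk'_spec A' a (⟨f ^ j, j, rfl⟩ : Submonoid.powers f), map_mul,
        RingHom.mem_ker.1 hx, zero_mul]
    rw [hψ, IsLocalization.map_eq_zero_iff (Submonoid.powers (Ideal.Quotient.mk (𝔪.map (algebraMap R A)) f))] at h1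
    obtain ⟨⟨_, i, rfl⟩, hi⟩ := h1
    have h2 : f ^ i * a ∈ 𝔪.map (algebraMap R A) := by
      rw [← Ideal.Quotient.eq_zero_iff_mem, map_mul, map_pow]
      exact hi
    rw [show 𝔪 = Ideal.span {π} from hπ.maximalIdeal_eq, Ideal.map_span, Set.image_singleton,
      Ideal.mem_span_singleton] at h2
    obtain ⟨c, hc⟩ := h2
    have hu : IsUnit (algebraMap A A' (f ^ i)) := by
      rw [map_pow]; exact (IsLocalization.Away.algebraMap_isUnit f).pow i
    rw [IsLocalization.mk'_eq_mul_mk'_one]
    refine Ideal.mul_mem_right _ _ ((Ideal.unit_mul_mem_iff_mem _ hu).1 ?_)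
    rw [← map_mul, hc, map_mul, ← IsScalarTower.algebraMap_apply R A A']
    exact Ideal.mul_mem_right _ _ (Ideal.mem_span_singleton_self _)
  -- lift the slice
  choose lf hlf using hψsurj
  let ys : List A' := xs.map lf
  have hys : ys.map ψ = xs := by
    simp [ys, List.map_map, Function.comp_def, hlf]
  haveI : Module.Flat A A' := IsLocalization.flat A' (Submonoid.powers f)
  haveI : Module.Flat R A' := Module.Flat.trans R A A'
  have hπA : IsSMulRegular A' πA := by
    intro x y hxy
    exact IsSMulRegular.of_flat (S := A') (isSMulRegular_iff_right_eq_zero_of_smul.2 fun r hr =>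
      (mul_eq_zero.1 hr).resolve_left hπ.ne_zero) hxy
  have hregπ : IsWeaklyRegular (QuotSMulTop πA A') ys := by
    have hkereq : (πA • ⊤ : Submodule A' A') = RingHom.ker ψ := by
      rw [hker, ← Submodule.ideal_span_singleton_smul, smul_eq_mul, Ideal.mul_top]
    let e : QuotSMulTop πA A' ≃+ S' :=
      (Submodule.quotEquivOfEq _ _ hkereq).toAddEquiv.trans
        (Ideal.quotientKerAlgEquivOfSurjective (f := ψ) (fun z => ⟨lf z, hlf z⟩)).toAddEquiv
    refine (AddEquiv.isWeaklyRegular_congr (e := e) (bs := xs) ?_).2 hreg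
    rw [← hys, List.forall₂_map_right_iff, List.forall₂_same]
    intro y _ x
    obtain ⟨x, rfl⟩ := Submodule.Quotient.mk_surjective _ x
    exact map_mul ψ y x
  have hBπ' := regular_quot πA ys A' hπA hregπ
  let J : Ideal A' := Ideal.ofList ys
  let B := A' ⧸ J
  have hBπ : ∀ x : B, algebraMap R B π * x = 0 → x = 0 := by
    intro x hx
    obtain ⟨x, rfl⟩ := Ideal.Quotient.mk_surjective x
    rw [Ideal.Quotient.eq_zero_iff_mem]
    have := (isSMulRegular_quotient_iff_mem_of_smul_mem _ _).1 hBπ' x (by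
      rw [smul_eq_mul, smul_eq_mul, Ideal.mul_top, ← Ideal.Quotient.eq_zero_iff_mem, map_mul]
      exact hx)
    rwa [smul_eq_mul, Ideal.mul_top] at this
  let T := S' ⧸ Ideal.ofList xs
  have hJT : J ≤ (Ideal.ofList xs).comap ψ.toRingHom := by
    refine Ideal.map_le_iff_le_comap.1 ?_
    rw [Ideal.map_ofList]
    exact le_of_eq (congrArg Ideal.ofList hys)
  let ψB : B →ₐ[R] T := Ideal.Quotient.liftₐ J ((Ideal.Quotient.mkₐ R _).comp ψ) fun a ha =>
    Ideal.Quotient.eq_zero_iff_mem.2 (hJT ha)
  have hψBsurj : Function.Surjective ψB := fun z => by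
    obtain ⟨z, rfl⟩ := Ideal.Quotient.mk_surjective z
    exact ⟨Ideal.Quotient.mk J (lf z), congrArg (Ideal.Quotient.mk _) (hlf z)⟩
  have hψBker : ∀ x, ψB x = 0 → algebraMap R B π ∣ x := by
    intro x hx
    obtain ⟨x, rfl⟩ := Ideal.Quotient.mk_surjective x
    have h1 : ψ x ∈ (J.map ψ.toRingHom) := by
      rw [Ideal.map_ofList]
      exact (congrArg Ideal.ofList hys).ge (Ideal.Quotient.eq_zero_iff_mem.1 hx)
    obtain ⟨j, hj, hjx⟩ := (Ideal.mem_map_iff_of_surjective ψ.toRingHom fun z => ⟨lf z, hlf z⟩).1 h1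
    have h2 : x - j ∈ Ideal.span {πA} := by
      rw [← hker, RingHom.mem_ker, map_sub, sub_eq_zero]
      exact hjx.symm
    obtain ⟨c, hc⟩ := Ideal.mem_span_singleton.1 h2
    refine ⟨Ideal.Quotient.mk J c, ?_⟩
    rw [sub_eq_iff_eq_add] at hc
    rw [hc, map_add, Ideal.Quotient.eq_zero_iff_mem.2 hj, add_zero, map_mul]
    rfl
  haveI : Algebra.FiniteType R A' := by
    haveI : Algebra.FiniteType A A' := IsLocalization.finiteType_of_monoid_fg (Submonoid.powers f) _
    exact Algebra.FiniteType.trans (S := A) inferInstance inferInstance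
  haveI : Algebra.FiniteType R B :=
    Algebra.FiniteType.of_surjective (Ideal.Quotient.mkₐ R J) (Ideal.Quotient.mkₐ_surjective R J)
  -- the unique point over the closed point
  haveI : Module.Finite kk T := Module.finite_of_finrank_pos (by
    rw [hrank]
    have : 0 < Module.length (Localization.AtPrime p) (Localization.AtPrime p) := Module.length_pos
    rw [hlen] at this
    exact_mod_cast this)
  haveI : IsArtinianRing T := IsArtinianRing.of_finite kk T
  let q : Ideal B := (IsLocalRing.maximalIdeal T).comap ψB.toRingHom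
  have hπq : algebraMap R B π ∈ q := by
    simp only [q, Ideal.mem_comap, AlgHom.toRingHom_eq_coe, RingHom.coe_coe, AlgHom.commutes]
    rw [IsScalarTower.algebraMap_apply R kk T, hπ0, map_zero]
    exact Ideal.zero_mem _
  haveI : q.IsMaximal := Ideal.comap_isMaximal_of_surjective ψB.toRingHom hψBsurj
  have hqR : q.comap (algebraMap R B) = 𝔪 := by
    refine ((IsLocalRing.maximalIdeal.isMaximal R).eq_of_le
      (Ideal.comap_ne_top _ ‹q.IsMaximal›.ne_top) ?_).symm
    rw [hπ.maximalIdeal_eq, Ideal.span_singleton_le_iff_mem]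
    exact hπq
  have huniq : ∀ Q : Ideal B, Q.IsPrime → algebraMap R B π ∈ Q → Q = q := by
    intro Q hQ hπQ
    have hle : RingHom.ker ψB.toRingHom ≤ Q := fun x hx => by
      obtain ⟨c, rfl⟩ := hψBker x hx
      exact Ideal.mul_mem_right _ _ hπQ
    haveI : (Q.map ψB.toRingHom).IsPrime := Ideal.map_isPrime_of_surjective hψBsurj hle
    change Q = (IsLocalRing.maximalIdeal T).comap ψB.toRingHom
    rw [← IsLocalRing.eq_maximalIdeal (inferInstance : (Q.map ψB.toRingHom).IsMaximal),
      Ideal.comap_map_of_surjective' ψB.toRingHom hψBsurj, sup_eq_left.2 hle]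
  haveI : q.LiesOver 𝔪 := ⟨hqR.symm⟩
  haveI : Algebra.QuasiFiniteAt R q := by
    refine Algebra.QuasiFiniteAt.of_isOpen_singleton_fiber ⟨q, inferInstance⟩ ?_
    convert isOpen_univ
    refine Set.eq_univ_of_forall fun ⟨Q, hQ⟩ => Subtype.ext (PrimeSpectrum.ext ?_)
    rw [Set.mem_preimage, Set.mem_singleton_iff] at hQ
    have h1 : Q.asIdeal.comap (algebraMap R B) = 𝔪 :=
      (congrArg PrimeSpectrum.asIdeal hQ).trans hqR
    exact huniq _ inferInstance
      (Ideal.mem_comap.1 (h1.ge ((IsLocalRing.mem_maximalIdeal π).2 hπ.not_isUnit)))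
  obtain ⟨e, heq, hfg, -⟩ := Groth.Hensel1.exists_idempotent_of_quasiFiniteAt (R := R) q
  haveI : Module.Finite R (B ⧸ Ideal.span {1 - e}) := hfg.finite
  let B' := B ⧸ Ideal.span {1 - e}
  have he1 : ψB e = 1 := by
    have hu : IsUnit (ψB e) := IsLocalRing.notMem_maximalIdeal.1 heq
    refine hu.mul_left_cancel ?_
    rw [mul_one, ← map_mul, hfg.1.eq]
  let ψ' : B' →ₐ[R] T := Ideal.Quotient.liftₐ _ ψB fun a ha => by
    obtain ⟨c, rfl⟩ := Ideal.mem_span_singleton.1 ha
    rw [map_mul, map_sub, map_one, he1, sub_self, zero_mul]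
  have hψ'surj : Function.Surjective ψ' := fun z => by
    obtain ⟨b, rfl⟩ := hψBsurj z
    exact ⟨Ideal.Quotient.mk _ b, rfl⟩
  have hB'π : ∀ x : B', π • x = 0 → x = 0 := by
    intro x hx
    obtain ⟨x, rfl⟩ := Ideal.Quotient.mk_surjective x
    change Ideal.Quotient.mk (Ideal.span {1 - e}) (π • x) = 0 at hx
    rw [Algebra.smul_def (R := R) (A := B), Ideal.Quotient.eq_zero_iff_mem, Ideal.mem_span_singleton] at hx
    obtain ⟨c, hc⟩ := hx
    have h1 : algebraMap R B π * (e * x) = 0 := by
      rw [mul_left_comm, hc, ← mul_assoc, hfg.1.mul_one_sub_self, zero_mul]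
    rw [Ideal.Quotient.eq_zero_iff_mem, Ideal.mem_span_singleton]
    exact ⟨x, by rw [sub_mul, one_mul, hBπ _ h1, sub_zero]⟩
  haveI : Module.IsTorsionFree R B' := by
    rw [Module.isTorsionFree_iff_smul_eq_zero]
    intro r x hrx
    by_cases hr : r = 0
    · exact Or.inl hr
    refine Or.inr ?_
    obtain ⟨n, u, rfl⟩ := IsDiscreteValuationRing.eq_unit_mul_pow_irreducible hr hπ
    rw [mul_smul] at hrx
    have h1 : π ^ n • x = 0 := by
      have := congrArg ((↑u⁻¹ : R) • ·) hrx
      simpa [smul_smul, ← mul_assoc] using this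
    clear hrx hr
    induction n with
    | zero => simpa using h1
    | succ n ih =>
      rw [pow_succ', mul_smul] at h1
      exact ih (hB'π _ h1)
  haveI : Module.Free R B' := Module.free_of_finite_type_torsion_free'
  -- rank
  have hrk : Module.finrank R B' = ℓ := by
    rw [← hrank]
    refine finrank_eq_fibre (B' := B') (T := T) hπ ψ' hψ'surj fun x hx => ?_
    obtain ⟨x, rfl⟩ := Ideal.Quotient.mk_surjective x
    obtain ⟨c, rfl⟩ := hψBker x hx
    exact ⟨Ideal.Quotient.mk _ c, by rw [map_mul]; rfl⟩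
  rw [← hrk]
  exact finrank_mem_generic A f A' B' ((Ideal.Quotient.mkₐ R _).comp (Ideal.Quotient.mkₐ R J))
    (Ideal.Quotient.mk_surjective.comp Ideal.Quotient.mk_surjective) G hG

end Groth.ModelsGraphs.IndexMult
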