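import Groth.Agent.GrSyz.DepthIrrel
import Mathlib.RingTheory.Regular.Flat
import Mathlib.RingTheory.Smooth.StandardSmoothOfFree
import Mathlib.RingTheory.RingHom.StandardSmooth
import Mathlib.RingTheory.Smooth.Field
import Mathlib.RingTheory.Unramified.Field
import Mathlib.RingTheory.Length
import Mathlib.RingTheory.Jacobson.Ring
import Mathlib.FieldTheory.IsAlgClosed.Basic

/-!
# A transversal slice through a minimal prime of an algebra over an algebraically closed field
-/

set_option autoImplicit false
set_option linter.style.haveILetI false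
set_option backward.isDefEq.respectTransparency.types false

universe u

open TensorProduct RingTheory.Sequence

namespace Groth.ModelsGraphs.IndexMult

/-- Regularity of `π` survives dividing out a sequence regular modulo `π`. -/
theorem regular_quot {A : Type u} [CommRing A] (π : A) (xs : List A) :
    ∀ (M : Type u) [AddCommGroup M] [Module A M], IsSMulRegular M π →
      IsWeaklyRegular (QuotSMulTop π M) xs →
      IsSMulRegular (M ⧸ (Ideal.ofList xs • ⊤ : Submodule A M)) π := by
  induction xs with
  | nil =>
    intro M _ _ h _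
    rw [isSMulRegular_quotient_iff_mem_of_smul_mem]
    intro x hx
    simp only [Ideal.ofList_nil, Submodule.bot_smul, Submodule.mem_bot] at hx ⊢
    exact h.right_eq_zero_of_smul hx
  | cons x xs ih =>
    intro M _ _ h hx
    rw [isWeaklyRegular_cons_iff] at hx
    have h1 : IsSMulRegular (QuotSMulTop x M) π := by
      rw [isSMulRegular_quotient_iff_mem_of_smul_mem]
      intro a ha
      obtain ⟨b, -, hb⟩ := ha
      have hb' : x • b = π • a := hb
      have h2 : Submodule.Quotient.mk b = (0 : QuotSMulTop π M) :=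
        hx.1.right_eq_zero_of_smul (by
          rw [← Submodule.Quotient.mk_smul, Submodule.Quotient.mk_eq_zero, hb']
          exact Submodule.smul_mem_pointwise_smul _ π _ trivial)
      rw [Submodule.Quotient.mk_eq_zero] at h2
      obtain ⟨c, -, hc⟩ := h2
      have hc' : π • c = b := hc
      have : a = x • c := h (by change π • a = π • x • c; rw [smul_comm, hc', hb'])
      exact this ▸ Submodule.smul_mem_pointwise_smul _ x _ trivial
    let e : QuotSMulTop x (QuotSMulTop π M) ≃ₗ[A] QuotSMulTop π (QuotSMulTop x M) :=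
      QuotSMulTop.equivQuotTensor x (QuotSMulTop π M) ≪≫ₗ
        QuotSMulTop.tensorQuotSMulTopEquivQuotSMulTop π _ _ ≪≫ₗ
          QuotSMulTop.congr π (QuotSMulTop.equivQuotTensor x M).symm
    have h2 := (e.isWeaklyRegular_congr xs).1 hx.2
    exact ((Submodule.quotOfListConsSMulTopEquivQuotSMulTopInner M x xs).isSMulRegular_congr π).2
      (ih _ h1 h2)

/-- Over a local algebra with residue field the ground field, length is dimension. -/
theorem length_eq_finrank {F P : Type u} [Field F] [CommRing P] [IsLocalRing P] [Algebra F P]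
    (hres : Function.Bijective (algebraMap F (IsLocalRing.ResidueField P)))
    (M : Type u) [AddCommGroup M] [Module P M] [Module F M] [IsScalarTower F P M] [Module.Finite F M] :
    Module.length P M = Module.finrank F M := by
  suffices h : ∀ (M : Type u) [AddCommGroup M] [Module P M], IsFiniteLength P M →
      ∀ (i : Module F M), @IsScalarTower F P M _ _ i.toDistribMulAction.toMulAction.toSMul →
        @Module.Finite F M _ _ i → Module.length P M = @Module.finrank F M _ _ i by
    haveI : IsNoetherian F M := inferInstance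
    exact h M (isFiniteLength_iff_isNoetherian_isArtinian.2
      ⟨isNoetherian_of_tower F inferInstance, isArtinian_of_tower F inferInstance⟩) _ inferInstance
      inferInstance
  clear! M
  intro M _ _ key
  induction key with
  | of_subsingleton =>
    intro _ _ _
    rw [Module.length_eq_zero, Module.finrank_zero_of_subsingleton, Nat.cast_zero]
  | @of_simple_quotient M _ _ N hsimple _ ih =>
    intro _ _ _
    haveI := hsimple
    letI : Module F N := inferInstanceAs (Module F (N.restrictScalars F))
    haveI : IsScalarTower F P N := ⟨fun a b c => Subtype.ext (smul_assoc a b (c : M))⟩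
    haveI : Module.Finite F N := inferInstanceAs (Module.Finite F (N.restrictScalars F))
    have h2 : Module.finrank F (M ⧸ N.restrictScalars F) = 1 := by
      rw [(Submodule.Quotient.restrictScalarsEquiv F N).finrank_eq]
      obtain ⟨I, hI, ⟨e⟩⟩ := isSimpleModule_iff_quot_maximal.1 hsimple
      rw [IsLocalRing.eq_maximalIdeal hI] at e
      rw [(e.restrictScalars F).finrank_eq]
      exact ((LinearEquiv.ofBijective (Algebra.linearMap F (IsLocalRing.ResidueField P)) hres).finrank_eq).symm.trans
        (Module.finrank_self F)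
    rw [Module.length_eq_add_of_exact N.subtype N.mkQ N.injective_subtype N.mkQ_surjective
      (LinearMap.exact_subtype_mkQ N), ih _ inferInstance inferInstance, Module.length_eq_one P (M ⧸ N),
      ← Submodule.finrank_quotient_add_finrank (N.restrictScalars F), h2, Nat.cast_add, Nat.cast_one,
      add_comm]
    rfl

/-- Inverting a lift of the complementary idempotent isolates a rational point. -/
theorem surjective_point (k Dh D' : Type u) [Field k] [CommRing Dh] [CommRing D'] [Algebra k Dh]
    [Algebra Dh D'] [Algebra k D'] [IsScalarTower k Dh D'] (ev : Dh →ₐ[k] k) {n : Ideal Dh}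
    (hev : ∀ x, ev x = 0 ↔ x ∈ n) (ys : List Dh) (hysn : Ideal.ofList ys ≤ n)
    {e : Dh ⧸ Ideal.ofList ys} (hne : n.map (Ideal.Quotient.mk _) = Ideal.span {e})
    (he : IsIdempotentElem e) {c₀ : Dh} (hc₀ : Ideal.Quotient.mk _ c₀ = 1 - e)
    (c : Dh) (hcn : c ∉ n) (t : Dh) (this : c = c₀ * t) [IsLocalization.Away c D'] :
    Function.Surjective (algebraMap k (D' ⧸ Ideal.ofList (ys.map (algebraMap Dh D')))) := by
  let ρ : Dh →+* D' ⧸ Ideal.ofList (ys.map (algebraMap Dh D')) := (Ideal.Quotient.mk _).comp (algebraMap Dh D')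
  have hρys : Ideal.ofList ys ≤ RingHom.ker ρ := fun y hy => by
    rw [RingHom.mem_ker]
    refine Ideal.Quotient.eq_zero_iff_mem.2 ?_
    rw [← Ideal.map_ofList]
    exact Ideal.mem_map_of_mem _ hy
  let ρQ : (Dh ⧸ Ideal.ofList ys) →+* D' ⧸ Ideal.ofList (ys.map (algebraMap Dh D')) := Ideal.Quotient.lift _ ρ hρys
  have hunit : IsUnit (ρQ (1 - e)) := by
    rw [← hc₀]
    show IsUnit (ρ c₀)
    have hu : IsUnit (ρ c) := (IsLocalization.Away.algebraMap_isUnit (S := D') c).map (Ideal.Quotient.mk _)
    have h5 := (congrArg ρ this).trans (map_mul ρ c₀ _)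
    obtain ⟨w, hw⟩ := hu.exists_right_inv
    rw [h5, mul_assoc] at hw
    exact ⟨⟨ρ c₀, _, hw, (mul_comm _ _).trans hw⟩, rfl⟩
  have he1 : ρQ (1 - e) * ρQ e = 0 := by
    rw [← map_mul ρQ, he.one_sub_mul_self, map_zero]
  have he0 : ρQ e = 0 := hunit.mul_left_cancel (he1.trans (mul_zero (ρQ (1 - e))).symm)
  have hρn : ∀ y : Dh, ρ y = algebraMap k _ (ev y) := fun y => by
    have hmem : y - algebraMap k Dh (ev y) ∈ n := (hev _).1 (by
      rw [map_sub, AlgHom.commutes]; exact sub_self _)
    have h1 : Ideal.Quotient.mk (Ideal.ofList ys) (y - algebraMap k Dh (ev y)) ∈ Ideal.span {e} :=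
      hne ▸ Ideal.mem_map_of_mem _ hmem
    obtain ⟨z, hz⟩ := Ideal.mem_span_singleton.1 h1
    have h2 : ρ (y - algebraMap k Dh (ev y)) = 0 := by
      change ρQ (Ideal.Quotient.mk _ _) = 0
      rw [hz, map_mul, he0, zero_mul]
    rw [map_sub, sub_eq_zero] at h2
    rw [h2]
    change Ideal.Quotient.mk _ (algebraMap Dh D' (algebraMap k Dh _)) = _
    rw [← IsScalarTower.algebraMap_apply k Dh D']
    rfl
  intro z
  obtain ⟨z, rfl⟩ := Ideal.Quotient.mk_surjective z
  obtain ⟨⟨u, ⟨_, j, rfl⟩⟩, hz⟩ := IsLocalization.surj (Submonoid.powers c) z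
  have h3 := congrArg (Ideal.Quotient.mk (Ideal.ofList (ys.map (algebraMap Dh D')))) hz
  rw [map_mul] at h3
  change Ideal.Quotient.mk _ z * ρ (c ^ j) = ρ u at h3
  rw [hρn, hρn] at h3
  have hne0 : ev (c ^ j) ≠ 0 := by
    rw [map_pow]; exact pow_ne_zero _ fun h0 => hcn ((hev c).1 h0)
  refine ⟨ev u / ev (c ^ j), ?_⟩
  rw [div_eq_mul_inv, map_mul, ← h3, mul_assoc, ← map_mul, mul_inv_cancel₀ hne0, map_one, mul_one]


/-- A variety over a perfect field is smooth at its generic point. -/
theorem isSmoothAt_bot (k D : Type u) [Field k] [PerfectField k] [CommRing D] [IsDomain D] [Algebra k D]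
    [Algebra.FiniteType k D] : Algebra.IsSmoothAt k (⊥ : Ideal D) := by
  haveI : IsLocalization (nonZeroDivisors D) (Localization.AtPrime (⊥ : Ideal D)) := by
    rw [← Ideal.primeCompl_bot]; infer_instance
  haveI : IsFractionRing D (Localization.AtPrime (⊥ : Ideal D)) := this
  letI : Field (Localization.AtPrime (⊥ : Ideal D)) := IsFractionRing.toField D
  haveI : Algebra.EssFiniteType D (Localization.AtPrime (⊥ : Ideal D)) :=
    .of_isLocalization _ (⊥ : Ideal D).primeCompl
  haveI : Algebra.EssFiniteType k (Localization.AtPrime (⊥ : Ideal D)) := .comp _ D _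
  exact Algebra.FormallySmooth.of_perfectField

/-- A rational point with a regular system of parameters, away from a given nonzero function. -/
theorem exists_coords (k D : Type u) [Field k] [IsAlgClosed k] [CommRing D] [IsDomain D] [Algebra k D]
    [Algebra.FiniteType k D] (r : D) (hr : r ≠ 0) :
    ∃ (d : D) (D' : Type u) (_ : CommRing D') (_ : Algebra D D') (_ : Algebra k D')
      (_ : IsScalarTower k D D') (xs : List D'), IsLocalization.Away d D' ∧ d ≠ 0 ∧ r ∣ d ∧
      IsWeaklyRegular D' xs ∧ Function.Bijective (algebraMap k (D' ⧸ Ideal.ofList xs)) := by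
  classical
  haveI : Algebra.FinitePresentation k D := Algebra.FinitePresentation.of_finiteType.1 inferInstance
  haveI : Algebra.IsSmoothAt k (⊥ : Ideal D) := isSmoothAt_bot k D
  obtain ⟨h, hh, hstd⟩ := Algebra.IsSmoothAt.exists_notMem_isStandardSmooth k (⊥ : Ideal D)
  rw [Ideal.mem_bot] at hh
  let Dh := Localization.Away h
  haveI : IsDomain Dh := IsLocalization.Away.isDomain (R := D) Dh hh
  haveI : Algebra.FiniteType D Dh := IsLocalization.finiteType_of_monoid_fg (Submonoid.powers h) _
  haveI : Algebra.FiniteType k Dh := Algebra.FiniteType.trans (S := D) inferInstance inferInstance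
  have hinj : Function.Injective (algebraMap D Dh) :=
    IsLocalization.injective Dh (powers_le_nonZeroDivisors_of_noZeroDivisors hh)
  obtain ⟨m, g₀, hg₀, hg₀e⟩ := RingHom.IsStandardSmooth.exists_etale_mvPolynomial
    (RingHom.isStandardSmooth_algebraMap.2 hstd)
  letI : Algebra (MvPolynomial (Fin m) k) Dh := g₀.toAlgebra
  haveI : IsScalarTower k (MvPolynomial (Fin m) k) Dh := IsScalarTower.of_algebraMap_eq fun c =>
    (RingHom.congr_fun hg₀ c).symm
  haveI : Algebra.Etale (MvPolynomial (Fin m) k) Dh := RingHom.etale_algebraMap.1 hg₀e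
  haveI : IsJacobsonRing Dh := isJacobsonRing_of_finiteType (A := k)
  -- a rational point outside `r`
  obtain ⟨n, hn, hrn⟩ : ∃ n : Ideal Dh, n.IsMaximal ∧ algebraMap D Dh r ∉ n := by
    by_contra hcon
    push Not at hcon
    have : algebraMap D Dh r ∈ (⊥ : Ideal Dh).jacobson := by
      rw [Ideal.jacobson, Ideal.mem_sInf]
      exact fun {J} hJ => hcon J hJ.2
    rw [IsJacobsonRing.out inferInstance Ideal.isPrime_bot.isRadical, Ideal.mem_bot] at this
    exact hr (hinj (this.trans (map_zero _).symm))
  haveI := hn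
  letI : Field (Dh ⧸ n) := Ideal.Quotient.field n
  haveI : Module.Finite k (Dh ⧸ n) := finite_of_finite_type_of_isJacobsonRing k (Dh ⧸ n)
  have hk : Function.Bijective (algebraMap k (Dh ⧸ n)) :=
    IsAlgClosed.algebraMap_bijective_of_isIntegral
  let ev : Dh →ₐ[k] k := (AlgEquiv.ofBijective (Algebra.ofId k (Dh ⧸ n)) hk).symm.toAlgHom.comp
    (Ideal.Quotient.mkₐ k n)
  have hev : ∀ x, ev x = 0 ↔ x ∈ n := fun x => by
    rw [← Ideal.Quotient.eq_zero_iff_mem]
    exact (AlgEquiv.ofBijective (Algebra.ofId k (Dh ⧸ n)) hk).symm.map_eq_zero_iff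
  let a : Fin m → k := fun i => ev (algebraMap (MvPolynomial (Fin m) k) Dh (MvPolynomial.X i))
  let sh : MvPolynomial (Fin m) k ≃ₐ[k] MvPolynomial (Fin m) k :=
    AlgEquiv.ofAlgHom (MvPolynomial.aeval fun i => MvPolynomial.X i - MvPolynomial.C (a i))
      (MvPolynomial.aeval fun i => MvPolynomial.X i + MvPolynomial.C (a i))
      (MvPolynomial.algHom_ext fun i => by simp) (MvPolynomial.algHom_ext fun i => by simp)
  let ts : List (MvPolynomial (Fin m) k) :=
    (List.finRange m).map fun i => MvPolynomial.X i - MvPolynomial.C (a i)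
  have hts : IsWeaklyRegular (MvPolynomial (Fin m) k) ts := by
    refine (AddEquiv.isWeaklyRegular_congr (e := sh.toAddEquiv) ?_).1
      (Groth.GrSyzLib.isWeaklyRegular_vars k m)
    simp only [ts, List.forall₂_map_left_iff, List.forall₂_map_right_iff, List.forall₂_same]
    intro i _ x
    change sh (MvPolynomial.X i * x) = _ * sh x
    rw [map_mul]
    simp [sh]
  let ys : List Dh := ts.map (algebraMap _ Dh)
  have hys : IsWeaklyRegular Dh ys := hts.of_flat
  have hysn : Ideal.ofList ys ≤ n := by
    refine Ideal.span_le.2 ?_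
    intro y hy
    simp only [ys, ts, List.map_map, Set.mem_setOf_eq, List.mem_map] at hy
    obtain ⟨i, -, rfl⟩ := hy
    refine (hev _).1 ?_
    simp only [Function.comp_apply, map_sub, ← MvPolynomial.algebraMap_eq,
      ← IsScalarTower.algebraMap_apply, AlgHom.commutes]
    exact sub_self _
  -- the fibre through the point is reduced and finite
  let Q := Dh ⧸ Ideal.ofList ys
  letI : Algebra (MvPolynomial (Fin m) k) k := (MvPolynomial.aeval a).toAlgebra
  haveI : IsScalarTower (MvPolynomial (Fin m) k) k Q := by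
    refine IsScalarTower.of_algebraMap_eq' (R := MvPolynomial (Fin m) k) (S := k) (A := Q) ?_
    refine MvPolynomial.ringHom_ext (fun c => ?_) fun i => ?_
    · rw [RingHom.comp_apply, RingHom.algebraMap_toAlgebra (MvPolynomial.aeval a).toRingHom]
      change _ = algebraMap k Q (MvPolynomial.aeval a (MvPolynomial.C c))
      rw [MvPolynomial.aeval_C, ← MvPolynomial.algebraMap_eq, ← IsScalarTower.algebraMap_apply]
      rfl
    · change Ideal.Quotient.mk _ (algebraMap _ Dh (MvPolynomial.X i)) =
        algebraMap k Q (MvPolynomial.aeval a (MvPolynomial.X i))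
      rw [MvPolynomial.aeval_X, IsScalarTower.algebraMap_apply k Dh Q, Ideal.Quotient.algebraMap_eq,
        Ideal.Quotient.mk_eq_mk_iff_sub_mem]
      refine Ideal.subset_span ?_
      simp only [ys, ts, List.map_map, Set.mem_setOf_eq, List.mem_map]
      refine ⟨i, List.mem_finRange i, ?_⟩
      simp only [Function.comp_apply, map_sub, ← MvPolynomial.algebraMap_eq,
        ← IsScalarTower.algebraMap_apply]
  haveI : Algebra.FormallyUnramified Dh Q :=
    Algebra.FormallyUnramified.of_surjective (Algebra.ofId Dh Q) Ideal.Quotient.mk_surjective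
  haveI : Algebra.FormallyUnramified (MvPolynomial (Fin m) k) Q :=
    Algebra.FormallyUnramified.comp _ Dh _
  haveI : Algebra.FormallyUnramified k Q :=
    Algebra.FormallyUnramified.of_restrictScalars (MvPolynomial (Fin m) k) k Q
  haveI : Algebra.EssFiniteType k Q := inferInstance
  haveI : Module.Finite k Q := Algebra.FormallyUnramified.finite_of_free k Q
  haveI : IsArtinianRing Q := IsArtinianRing.of_finite k Q
  haveI : IsReduced Q := Algebra.FormallyUnramified.isReduced_of_field k Q
  haveI : IsSemisimpleRing Q := IsArtinianRing.isSemisimpleRing_of_isReduced Q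
  let nQ : Ideal Q := n.map (Ideal.Quotient.mk _)
  obtain ⟨e, he, hne⟩ := IsSemisimpleRing.ideal_eq_span_idempotent nQ
  obtain ⟨c₀, hc₀⟩ := Ideal.Quotient.mk_surjective (1 - e)
  have hc₀n : c₀ ∉ n := by
    intro hc
    have h1 : (1 - e) ∈ nQ := hc₀ ▸ Ideal.mem_map_of_mem _ hc
    have h2 : e ∈ nQ := hne ▸ Ideal.mem_span_singleton_self e
    have h3 := Ideal.add_mem _ h1 h2
    rw [sub_add_cancel] at h3
    have h4 : (1 : Dh) ∈ nQ.comap (Ideal.Quotient.mk _) := by rwa [Ideal.mem_comap, map_one]
    rw [Ideal.comap_map_of_surjective' _ Ideal.Quotient.mk_surjective, Ideal.mk_ker,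
      sup_eq_left.2 hysn] at h4
    exact hn.ne_top ((Ideal.eq_top_iff_one _).2 h4)
  obtain ⟨⟨c₁, ⟨_, l, rfl⟩⟩, hc₁⟩ := IsLocalization.surj (Submonoid.powers h) c₀
  change c₀ * algebraMap D Dh (h ^ l) = algebraMap D Dh c₁ at hc₁
  let c : Dh := algebraMap D Dh (c₁ * r)
  have hcn : c ∉ n := by
    change algebraMap D Dh (c₁ * r) ∉ n
    rw [map_mul, ← hc₁]
    refine hn.isPrime.mul_notMem (hn.isPrime.mul_notMem hc₀n fun hmem => ?_) hrn
    exact hn.ne_top (Ideal.eq_top_of_isUnit_mem _ hmem
      (by rw [map_pow]; exact (IsLocalization.Away.algebraMap_isUnit h).pow l))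
  have hc0 : c₁ * r ≠ 0 := fun h0 => hcn (by simp only [c, h0, map_zero]; exact n.zero_mem)
  let D' := Localization.Away c
  let xs : List D' := ys.map (algebraMap Dh D')
  refine ⟨h * (c₁ * r), D', inferInstance, inferInstance, inferInstance, inferInstance, xs,
    IsLocalization.Away.mul' Dh D' h (c₁ * r), mul_ne_zero hh hc0, ⟨h * c₁, by ring⟩,
    hys.of_isLocalization D' (Submonoid.powers c), ?_, ?_⟩
  · -- injective: the point gives a retraction
    let ev' : D' →ₐ[k] k := IsLocalization.liftAlgHom (M := Submonoid.powers c) (f := ev) fun y => by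
      obtain ⟨-, j, rfl⟩ := y
      exact (isUnit_iff_ne_zero.2 fun h0 => hcn ((hev c).1 h0)).map (powMonoidHom j) |> fun hu => by
        simpa using hu
    have hle : Ideal.ofList xs ≤ RingHom.ker ev'.toRingHom := by
      rw [← Ideal.map_ofList, Ideal.map_le_iff_le_comap]
      intro y hy
      rw [Ideal.mem_comap, RingHom.mem_ker]
      change ev' (algebraMap Dh D' y) = 0
      rw [IsLocalization.liftAlgHom_apply, IsLocalization.lift_eq]
      exact (hev y).2 (hysn hy)
    intro x y hxy
    simpa using congrArg (Ideal.Quotient.liftₐ _ ev' fun z hz => hle hz) hxy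
  · exact surjective_point k Dh D' ev (fun y => hev y) ys hysn hne he hc₀ c hcn
      (algebraMap D Dh (h ^ l) * algebraMap D Dh r) (by
        change algebraMap D Dh (c₁ * r) = _
        rw [map_mul, ← hc₁, mul_assoc])

/-- The length at the generic point of a thickening equals the rank over the underlying variety. -/
theorem length_eq_rank {D S : Type u} [CommRing D] [IsDomain D] [CommRing S] [Algebra D S]
    [Module.Finite D S] [Module.Free D S] (ρ : S →ₐ[D] D) (hρ : ∀ x, ρ x = 0 → IsNilpotent x)
    [(RingHom.ker ρ).IsPrime] :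
    Module.length (Localization.AtPrime (RingHom.ker ρ)) (Localization.AtPrime (RingHom.ker ρ)) =
      Module.finrank D S := by
  classical
  let F := FractionRing D
  let M := nonZeroDivisors D
  let P := Localization (Algebra.algebraMapSubmonoid S M)
  letI : Algebra F P := localizationAlgebra M S
  haveI : IsScalarTower D F P := IsScalarTower.of_algebraMap_eq' (by
    ext a
    simp only [RingHom.comp_apply]
    rw [show algebraMap F P = IsLocalization.map P (T := Algebra.algebraMapSubmonoid S M)
      (algebraMap D S) M.le_comap_map from rfl,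
      IsLocalization.map_eq, ← IsScalarTower.algebraMap_apply])
  haveI hloc : IsLocalizedModule M (IsScalarTower.toAlgHom D S P).toLinearMap :=
    isLocalizedModule_iff_isLocalization.2 inferInstance
  let b := Module.Free.chooseBasis D S
  let bP := b.ofIsLocalizedModule F M (IsScalarTower.toAlgHom D S P).toLinearMap
  haveI : Module.Finite F P := Module.Finite.of_basis bP
  have hfr : Module.finrank F P = Module.finrank D S := by
    rw [Module.finrank_eq_nat_card_basis bP, Module.finrank_eq_nat_card_basis b]
  let p' := RingHom.ker ρ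
  have hsplit : ∀ x : S, IsNilpotent (x - algebraMap D S (ρ x)) := fun x => hρ _ (by
    rw [map_sub, AlgHom.commutes]; exact sub_self _)
  have hle : Algebra.algebraMapSubmonoid S M ≤ p'.primeCompl := by
    rintro _ ⟨a, ha, rfl⟩ hmem
    refine nonZeroDivisors.ne_zero ha ?_
    simpa using (RingHom.mem_ker.1 hmem)
  haveI hAt : IsLocalization.AtPrime P p' := by
    refine IsLocalization.of_le (Algebra.algebraMapSubmonoid S M) p'.primeCompl hle fun x hx => ?_
    have hu : IsUnit (algebraMap S P (algebraMap D S (ρ x))) :=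
      IsLocalization.map_units P (⟨_, ρ x, mem_nonZeroDivisors_of_ne_zero
        (fun h => hx (RingHom.mem_ker.2 h)), rfl⟩ : Algebra.algebraMapSubmonoid S M)
    have := ((hsplit x).map (algebraMap S P)).isUnit_add_left_of_commute hu (Commute.all _ _)
    rwa [← map_add, add_sub_cancel] at this
  haveI : IsLocalRing P := IsLocalization.AtPrime.isLocalRing P p'
  have hres : Function.Bijective (algebraMap F (IsLocalRing.ResidueField P)) := by
    refine ⟨RingHom.injective _, fun z => ?_⟩
    obtain ⟨z, rfl⟩ := IsLocalRing.residue_surjective z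
    obtain ⟨⟨x, ⟨_, a, ha, rfl⟩⟩, hz⟩ := IsLocalization.surj (Algebra.algebraMapSubmonoid S M) z
    refine ⟨algebraMap D F (ρ x) / algebraMap D F a, ?_⟩
    have hz' := congrArg (IsLocalRing.residue P) hz
    have hx : IsLocalRing.residue P (algebraMap S P x) =
        IsLocalRing.residue P (algebraMap S P (algebraMap D S (ρ x))) := by
      rw [← sub_eq_zero, ← map_sub, ← map_sub]
      exact (((hsplit x).map (algebraMap S P)).map (IsLocalRing.residue P)).eq_zero
    have e : ∀ d : D, algebraMap F (IsLocalRing.ResidueField P) (algebraMap D F d) =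
        IsLocalRing.residue P (algebraMap S P (algebraMap D S d)) := fun d => by
      rw [IsScalarTower.algebraMap_apply F P (IsLocalRing.ResidueField P),
        ← IsScalarTower.algebraMap_apply D F P, IsScalarTower.algebraMap_apply D S P]
      rfl
    have ha0 : algebraMap D F a ≠ 0 :=
      IsFractionRing.to_map_ne_zero_of_mem_nonZeroDivisors ha
    rw [map_div₀, div_eq_iff ((map_ne_zero_iff _ (RingHom.injective _)).2 ha0), e, e, ← hx, ← map_mul,
      hz]
  let ε := IsLocalization.algEquiv p'.primeCompl (Localization.AtPrime p') P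
  calc Module.length (Localization.AtPrime p') (Localization.AtPrime p')
      = Module.length P P := by
        have hkey : ∀ (A B : Type u) [CommRing A] [CommRing B] (e : A ≃+* B),
            Module.length A A = Module.length B B := fun A B _ _ e => by
          letI : Algebra A B := e.toRingHom.toAlgebra
          rw [← Module.length_eq_of_surjective (S := A) (R := B) (M := B) e.surjective]
          exact (LinearEquiv.ofBijective (Algebra.linearMap A B) e.bijective).length_eq
        exact hkey _ _ ε.toRingEquiv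
    _ = Module.finrank F P := length_eq_finrank hres P
    _ = Module.finrank D S := by rw [hfr]

/-- Cutting a finite free thickening by a sequence cutting out a rational point. -/
theorem slice_thickening {k D S : Type u} [Field k] [CommRing D] [CommRing S] [Algebra k D]
    [Algebra k S] [Algebra D S] [IsScalarTower k D S] [Module.Finite D S] [Module.Free D S]
    [Nontrivial D] (ρ : S →ₐ[D] D) (hρ : ∀ x, ρ x = 0 → IsNilpotent x) (xs : List D)
    (hxs : IsWeaklyRegular D xs) (hpt : Function.Bijective (algebraMap k (D ⧸ Ideal.ofList xs))) :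
    IsWeaklyRegular S (xs.map (algebraMap D S)) ∧
      IsLocalRing (S ⧸ Ideal.ofList (xs.map (algebraMap D S))) ∧
      Module.finrank k (S ⧸ Ideal.ofList (xs.map (algebraMap D S))) = Module.finrank D S := by
  refine ⟨hxs.of_flat, ?_⟩
  rw [← Ideal.map_ofList]
  let I := Ideal.ofList xs
  let J := I.map (algebraMap D S)
  letI : Field (D ⧸ I) :=
    ((RingEquiv.ofBijective (algebraMap k (D ⧸ I)) hpt).symm.toMulEquiv.isField
      (Field.toIsField k)).toField
  have hIJ : J ≤ (I.comap ρ.toRingHom) := by
    refine Ideal.map_le_iff_le_comap.2 fun a ha => ?_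
    simp only [Ideal.mem_comap, AlgHom.toRingHom_eq_coe, RingHom.coe_coe, AlgHom.commutes]
    exact ha
  constructor
  · haveI : Nontrivial (S ⧸ J) := Ideal.Quotient.nontrivial_iff.2 fun h => by
      have h1 : (1 : S) ∈ I.comap ρ.toRingHom := hIJ (h ▸ Submodule.mem_top)
      rw [Ideal.mem_comap, map_one] at h1
      exact one_ne_zero ((Ideal.Quotient.eq_zero_iff_mem.2 h1 : (1 : D ⧸ I) = 0))
    refine IsLocalRing.of_nonunits_add fun x y hx hy hxy => ?_
    have key : ∀ z : S ⧸ J, ∀ w : S, Ideal.Quotient.mk J w = z → z ∈ nonunits (S ⧸ J) → ρ w ∈ I := by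
      intro z w hw hz
      by_contra hI
      refine hz ?_
      obtain ⟨v, hv⟩ := Ideal.Quotient.mk_surjective
        (Ideal.Quotient.mk I (ρ w))⁻¹
      have hu : IsUnit (Ideal.Quotient.mk J (algebraMap D S (ρ w))) := by
        refine IsUnit.of_mul_eq_one (Ideal.Quotient.mk J (algebraMap D S v)) ?_
        rw [← map_mul, ← map_mul, ← map_one (Ideal.Quotient.mk J), Ideal.Quotient.eq,
          ← map_one (algebraMap D S), ← map_sub]
        refine Ideal.mem_map_of_mem _ ?_
        rw [← Ideal.Quotient.eq, map_mul, hv, map_one]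
        exact mul_inv_cancel₀ fun h => hI (Ideal.Quotient.eq_zero_iff_mem.1 h)
      have hn : IsNilpotent (Ideal.Quotient.mk J (w - algebraMap D S (ρ w))) :=
        (hρ _ (by rw [map_sub, AlgHom.commutes]; exact sub_self _)).map _
      have := hn.isUnit_add_left_of_commute hu (Commute.all _ _)
      rwa [← map_add, add_sub_cancel, hw] at this
    obtain ⟨a, rfl⟩ := Ideal.Quotient.mk_surjective x
    obtain ⟨b, rfl⟩ := Ideal.Quotient.mk_surjective y
    obtain ⟨c, hc⟩ := hxy.exists_right_inv
    obtain ⟨c, rfl⟩ := Ideal.Quotient.mk_surjective c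
    rw [← map_add, ← map_mul, ← map_one (Ideal.Quotient.mk J), Ideal.Quotient.eq] at hc
    have h1 := hIJ hc
    rw [Ideal.mem_comap, map_sub, map_mul, map_add, map_one] at h1
    have h2 : ρ a + ρ b ∈ I := Ideal.add_mem _ (key _ a rfl hx) (key _ b rfl hy)
    exact one_ne_zero (Ideal.Quotient.eq_zero_iff_mem.2
      (by simpa using Ideal.sub_mem _ (Ideal.mul_mem_right (ρ c) _ h2) h1) : (1 : D ⧸ I) = 0)
  · haveI : Module.Free (D ⧸ I) ((D ⧸ I) ⊗[D] S) := inferInstance
    have hkD : Module.finrank k (D ⧸ I) = 1 :=
      (LinearEquiv.ofBijective (Algebra.linearMap k (D ⧸ I)) hpt).finrank_eq.symm.trans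
        (Module.finrank_self k)
    let e : ((D ⧸ I) ⊗[D] S) ≃ₗ[D] (S ⧸ J) :=
      TensorProduct.quotTensorEquivQuotSMul S I ≪≫ₗ
        Submodule.quotEquivOfEq _ _ (Ideal.smul_top_eq_map I) ≪≫ₗ
          Submodule.Quotient.restrictScalarsEquiv D J
    let ek : ((D ⧸ I) ⊗[D] S) ≃ₗ[k] (S ⧸ J) := e.restrictScalars k
    rw [← ek.finrank_eq, ← Module.finrank_mul_finrank k (D ⧸ I), hkD, one_mul,
      Module.finrank_baseChange]

/-- The localisation of a finite free algebra, as an algebra over the localised base. -/
theorem finrank_localization {D S : Type u} [CommRing D] [CommRing S] [Algebra D S] [Module.Finite D S]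
    [Module.Free D S] (M : Submonoid D) (D' S' : Type u) [CommRing D'] [Nontrivial D'] [Algebra D D']
    [IsLocalization M D'] [CommRing S'] [Algebra S S'] [IsLocalization (Algebra.algebraMapSubmonoid S M) S']
    [Algebra D S'] [IsScalarTower D S S'] [Algebra D' S'] [IsScalarTower D D' S'] :
    Module.Finite D' S' ∧ Module.Free D' S' ∧ Module.finrank D' S' = Module.finrank D S := by
  classical
  haveI := (algebraMap D D').domain_nontrivial
  haveI : IsLocalizedModule M (IsScalarTower.toAlgHom D S S').toLinearMap :=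
    isLocalizedModule_iff_isLocalization.2 inferInstance
  let b := Module.Free.chooseBasis D S
  let b' := b.ofIsLocalizedModule D' M (IsScalarTower.toAlgHom D S S').toLinearMap
  exact ⟨Module.Finite.of_basis b', Module.Free.of_basis b', by
    rw [Module.finrank_eq_nat_card_basis b', Module.finrank_eq_nat_card_basis b]⟩

/-- Localising a retraction with nilpotent kernel. -/
theorem exists_localized {k D S : Type u} [CommRing k] [CommRing D] [CommRing S] [Algebra k D]
    [Algebra k S] [Algebra D S] [IsScalarTower k D S] (ρ : S →ₐ[D] D)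
    (hρ : ∀ x, ρ x = 0 → IsNilpotent x) (M : Submonoid D) (D' : Type u) [CommRing D'] [Algebra D D']
    [Algebra k D'] [IsScalarTower k D D'] [IsLocalization M D'] :
    ∃ (S' : Type u) (_ : CommRing S') (_ : Algebra S S') (_ : Algebra D S') (_ : IsScalarTower D S S')
      (_ : Algebra k S') (_ : IsScalarTower k S S')
      (_ : Algebra D' S') (_ : IsScalarTower D D' S') (_ : IsScalarTower k D' S')
      (_ : IsLocalization (Algebra.algebraMapSubmonoid S M) S')
      (_ : IsLocalizedModule M (IsScalarTower.toAlgHom D S S').toLinearMap) (ρ' : S' →ₐ[D'] D'),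
      (∀ x, ρ' (algebraMap S S' x) = algebraMap D D' (ρ x)) ∧ ∀ x, ρ' x = 0 → IsNilpotent x := by
  let S' := Localization (Algebra.algebraMapSubmonoid S M)
  let φ : D' →+* S' :=
    IsLocalization.map S' (T := Algebra.algebraMapSubmonoid S M) (algebraMap D S) M.le_comap_map
  letI : Algebra D' S' := φ.toAlgebra
  haveI : IsScalarTower D D' S' := IsScalarTower.of_algebraMap_eq fun a => by
    rw [IsScalarTower.algebraMap_apply D S S']
    exact (IsLocalization.map_eq (Q := S') (T := Algebra.algebraMapSubmonoid S M)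
      (g := algebraMap D S) M.le_comap_map a).symm
  haveI : IsScalarTower k D' S' := IsScalarTower.of_algebraMap_eq fun c => by
    rw [IsScalarTower.algebraMap_apply k D D', ← IsScalarTower.algebraMap_apply D D' S',
      IsScalarTower.algebraMap_apply D S S', ← IsScalarTower.algebraMap_apply k D S,
      ← IsScalarTower.algebraMap_apply k S S']
  have hle : Algebra.algebraMapSubmonoid S M ≤ M.comap ρ.toRingHom := by
    rintro _ ⟨a, ha, rfl⟩
    simpa using ha
  let π : S' →+* D' := IsLocalization.map D' (T := M) ρ.toRingHom hle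
  have hπ : π.comp φ = RingHom.id D' := by
    refine IsLocalization.ringHom_ext M ?_
    ext a
    simp only [RingHom.comp_apply, RingHom.id_apply, φ, π, IsLocalization.map_eq]
    exact congrArg _ (ρ.commutes a)
  let ρ' : S' →ₐ[D'] D' := { π with commutes' := RingHom.congr_fun hπ }
  have hρ' : ∀ x, ρ' (algebraMap S S' x) = algebraMap D D' (ρ x) := fun x =>
    IsLocalization.map_eq hle x
  refine ⟨S', inferInstance, inferInstance, inferInstance, inferInstance, inferInstance, inferInstance,
    inferInstance, inferInstance, inferInstance, inferInstance,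
    isLocalizedModule_iff_isLocalization.2 inferInstance, ρ', hρ', fun x hx => ?_⟩
  obtain ⟨a, t, rfl⟩ := IsLocalization.exists_mk'_eq (Algebra.algebraMapSubmonoid S M) x
  have h1 : algebraMap D D' (ρ a) = 0 := by
    rw [← hρ', ← IsLocalization.mk'_spec S' a t, map_mul, hx, zero_mul]
  obtain ⟨⟨m, hm⟩, hma⟩ := (IsLocalization.map_eq_zero_iff M D' _).1 h1
  obtain ⟨n, hn⟩ := hρ (algebraMap D S m * a) (by rw [map_mul, AlgHom.commutes]; exact hma)
  have hu : IsUnit (algebraMap S S' (algebraMap D S m)) :=
    IsLocalization.map_units S' (⟨_, m, hm, rfl⟩ : Algebra.algebraMapSubmonoid S M)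
  refine ⟨n, ?_⟩
  rw [IsLocalization.mk'_eq_mul_mk'_one, mul_pow]
  have h2 := congrArg (algebraMap S S') hn
  rw [map_pow, map_mul, mul_pow, map_zero, (hu.pow n).mul_right_eq_zero] at h2
  rw [h2, zero_mul]

/-- Near a general point of an irreducible component, a transversal slice has the length of the
component. -/
theorem exists_slice (k S : Type u) [Field k] [IsAlgClosed k] [CommRing S] [Algebra k S]
    [Algebra.FiniteType k S] (p : Ideal S) [p.IsPrime] (hp : p ∈ minimalPrimes S) :
    ∃ (f : S) (S' : Type u) (_ : CommRing S') (_ : Algebra S S') (_ : Algebra k S')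
      (_ : IsScalarTower k S S') (xs : List S') (ℓ : ℕ), IsLocalization.Away f S' ∧
      Module.length (Localization.AtPrime p) (Localization.AtPrime p) = ℓ ∧
      IsWeaklyRegular S' xs ∧ IsLocalRing (S' ⧸ Ideal.ofList xs) ∧
      Module.finrank k (S' ⧸ Ideal.ofList xs) = ℓ := by
  classical
  haveI : IsNoetherianRing S := Algebra.FiniteType.isNoetherianRing k S
  -- away from the other components the prime is the nilradical
  obtain ⟨g, hgp, hg⟩ : ∃ g ∉ p, ∀ a ∈ p, IsNilpotent (g * a) := by
    obtain ⟨T, hT⟩ := (IsNoetherian.noetherian p : p.FG)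
    have hone : ∀ a : p, ∃ g ∉ p, IsNilpotent (g * (a : S)) := fun a => by
      have hnil : IsNilpotent (algebraMap S (Localization.AtPrime p) a) := by
        rw [← mem_nilradical, nilradical_eq_sInf, Ideal.mem_sInf]
        intro Q hQ
        haveI : Q.IsPrime := hQ
        have h1 : Q.comap (algebraMap S (Localization.AtPrime p)) ≤ p :=
          (IsLocalization.AtPrime.orderIsoOfPrime (Localization.AtPrime p) p ⟨Q, hQ⟩).2.2
        have h2 := hp.2 ⟨Ideal.IsPrime.comap _, bot_le⟩ h1
        exact Ideal.mem_comap.1 (h2 a.2)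
      obtain ⟨m, hm⟩ := hnil
      rw [← map_pow, IsLocalization.map_eq_zero_iff p.primeCompl] at hm
      obtain ⟨⟨g, hg⟩, hgm⟩ := hm
      refine ⟨g, hg, m + 1, ?_⟩
      rw [mul_pow, pow_succ g m, mul_comm (g ^ m) g, pow_succ (a : S) m, mul_assoc,
        ← mul_assoc (g ^ m), mul_comm (g ^ m), mul_assoc, ← mul_assoc g]
      rw [show g * (a : S) ^ m = 0 from hgm, zero_mul]
    choose gg hgg hgga using hone
    refine ⟨∏ t ∈ T.attach, gg ⟨t.1, hT.le (Ideal.subset_span t.2)⟩, fun hmem => ?_, fun a ha => ?_⟩
    · obtain ⟨t, -, ht⟩ := (Ideal.IsPrime.prod_mem_iff).1 hmem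
      exact hgg _ ht
    · rw [← mem_nilradical]
      rw [← hT] at ha
      induction ha using Submodule.span_induction with
      | mem t ht =>
        rw [← Finset.mul_prod_erase T.attach _ (Finset.mem_attach T ⟨t, ht⟩), mul_right_comm]
        exact Ideal.mul_mem_right _ _ (mem_nilradical.2 (hgga _))
      | zero => rw [mul_zero]; exact Ideal.zero_mem _
      | add a b _ _ ha hb => rw [mul_add]; exact Ideal.add_mem _ ha hb
      | smul r a _ ha => rw [smul_eq_mul, mul_left_comm]; exact Ideal.mul_mem_left _ _ ha
  -- the component, made smooth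
  haveI : Algebra.FiniteType k (S ⧸ p) :=
    Algebra.FiniteType.of_surjective (Ideal.Quotient.mkₐ k p) (Ideal.Quotient.mkₐ_surjective k p)
  haveI : Algebra.FinitePresentation k (S ⧸ p) :=
    Algebra.FinitePresentation.of_finiteType.1 inferInstance
  haveI := isSmoothAt_bot k (S ⧸ p)
  obtain ⟨f₁, hf₁, hsm⟩ := Algebra.IsSmoothAt.exists_notMem_smooth k (⊥ : Ideal (S ⧸ p))
  rw [Ideal.mem_bot] at hf₁
  obtain ⟨f₁, rfl⟩ := Ideal.Quotient.mk_surjective f₁
  let f := g * f₁
  have hfp : f ∉ p := ‹p.IsPrime›.mul_notMem hgp fun h => hf₁ (Ideal.Quotient.eq_zero_iff_mem.2 h)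
  let fb : S ⧸ p := Ideal.Quotient.mk p f
  have hfb : fb ≠ 0 := fun h => hfp (Ideal.Quotient.eq_zero_iff_mem.1 h)
  let S₁ := Localization.Away f
  let D := Localization.Away fb
  haveI : IsDomain D := IsLocalization.Away.isDomain (R := S ⧸ p) D hfb
  haveI : Algebra.Smooth k D := by
    rw [← Algebra.basicOpen_subset_smoothLocus_iff_smooth] at hsm ⊢
    refine Set.Subset.trans ?_ hsm
    intro q hq
    exact fun hmem => hq (by
      change Ideal.Quotient.mk p (g * f₁) ∈ q.asIdeal
      rw [map_mul]
      exact Ideal.mul_mem_left _ _ hmem)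
  let π₁ : S₁ →ₐ[k] D := IsLocalization.liftAlgHom (M := Submonoid.powers f)
    (f := (IsScalarTower.toAlgHom k (S ⧸ p) D).comp (Ideal.Quotient.mkₐ k p)) fun y => by
      obtain ⟨-, j, rfl⟩ := y
      simpa using (IsLocalization.Away.algebraMap_isUnit (S := D) fb).pow j
  have hπ₁ : ∀ a : S, π₁ (algebraMap S S₁ a) = algebraMap (S ⧸ p) D (Ideal.Quotient.mk p a) := fun a => by
    simp only [π₁, IsLocalization.liftAlgHom_apply, IsLocalization.lift_eq]
    rfl
  have hπ₁surj : Function.Surjective π₁ := by
    intro z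
    obtain ⟨⟨a, ⟨_, j, rfl⟩⟩, hz⟩ := IsLocalization.surj (Submonoid.powers fb) z
    obtain ⟨a, rfl⟩ := Ideal.Quotient.mk_surjective a
    refine ⟨IsLocalization.mk' S₁ a (⟨f ^ j, j, rfl⟩ : Submonoid.powers f), ?_⟩
    refine ((IsLocalization.Away.algebraMap_isUnit (S := D) fb).pow j).mul_right_cancel ?_
    rw [← map_pow, hz, ← hπ₁ a, ← IsLocalization.mk'_spec S₁ a (⟨f ^ j, j, rfl⟩ : Submonoid.powers f),
      map_mul, hπ₁]
    rfl
  have hker : ∀ x : S₁, π₁ x = 0 → IsNilpotent x := by
    intro x hx
    obtain ⟨a, ⟨_, j, rfl⟩, rfl⟩ := IsLocalization.exists_mk'_eq (Submonoid.powers f) x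
    have h1 : π₁ (algebraMap S S₁ a) = 0 := by
      rw [← IsLocalization.mk'_spec S₁ a (⟨f ^ j, j, rfl⟩ : Submonoid.powers f), map_mul, hx, zero_mul]
    rw [hπ₁] at h1
    have ha : a ∈ p := Ideal.Quotient.eq_zero_iff_mem.1
      ((map_eq_zero_iff _ (IsLocalization.injective D
        (powers_le_nonZeroDivisors_of_noZeroDivisors hfb))).1 h1)
    have hu : IsUnit (algebraMap S S₁ g) := by
      have := IsLocalization.Away.algebraMap_isUnit (S := S₁) f
      rw [show algebraMap S S₁ f = algebraMap S S₁ g * algebraMap S S₁ f₁ from map_mul _ _ _] at this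
      exact isUnit_of_mul_isUnit_left this
    have hn : IsNilpotent (algebraMap S S₁ a) := by
      obtain ⟨m, hm⟩ := (hg a ha).map (algebraMap S S₁)
      exact ⟨m, by rw [map_mul, mul_pow, (hu.pow m).mul_right_eq_zero] at hm; exact hm⟩
    rw [IsLocalization.mk'_eq_mul_mk'_one]
    obtain ⟨m, hm⟩ := hn
    exact ⟨m, by rw [mul_pow, hm, zero_mul]⟩
  haveI : Algebra.FiniteType k S₁ := by
    haveI : Algebra.FiniteType S S₁ := IsLocalization.finiteType_of_monoid_fg (Submonoid.powers f) _
    exact Algebra.FiniteType.trans (S := S) inferInstance inferInstance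
  haveI : IsNoetherianRing S₁ := Algebra.FiniteType.isNoetherianRing k S₁
  have hknil : IsNilpotent (RingHom.ker (π₁ : S₁ →+* D)) := by
    obtain ⟨m, hm⟩ := IsNoetherianRing.isNilpotent_nilradical S₁
    refine ⟨m, le_bot_iff.1 ?_⟩
    exact (Ideal.pow_right_mono (fun x hx => mem_nilradical.2 (hker x (RingHom.mem_ker.1 hx))) m).trans
      hm.le
  -- a section of the retraction to the component
  let σ : D →ₐ[k] S₁ := Algebra.FormallySmooth.liftOfSurjective (AlgHom.id k D) π₁ hπ₁surj hknil
  have hσ : ∀ d, π₁ (σ d) = d := fun d => Algebra.FormallySmooth.liftOfSurjective_apply _ _ hπ₁surj hknil d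
  letI : Algebra D S₁ := σ.toRingHom.toAlgebra
  haveI : IsScalarTower k D S₁ := IsScalarTower.of_algebraMap_eq fun c => (σ.commutes c).symm
  let ρ₁ : S₁ →ₐ[D] D := { π₁.toRingHom with commutes' := hσ }
  haveI : Algebra.FiniteType D S₁ := Algebra.FiniteType.of_restrictScalars_finiteType k D S₁
  haveI : Algebra.IsIntegral D S₁ := ⟨fun x => by
    obtain ⟨m, hm⟩ := hker (x - σ (π₁ x)) (by rw [map_sub, hσ]; exact sub_self _)
    refine ⟨(Polynomial.X - Polynomial.C (π₁ x)) ^ m, (Polynomial.monic_X_sub_C _).pow m, ?_⟩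
    rw [Polynomial.eval₂_pow, Polynomial.eval₂_sub, Polynomial.eval₂_X, Polynomial.eval₂_C]
    exact hm⟩
  haveI : Module.Finite D S₁ := Algebra.IsIntegral.finite
  haveI : Algebra.FiniteType k D :=
    Algebra.FiniteType.of_surjective π₁ hπ₁surj
  haveI : IsNoetherianRing D := Algebra.FiniteType.isNoetherianRing k D
  haveI : Module.FinitePresentation D S₁ := Module.finitePresentation_of_finite D S₁
  -- generically free
  obtain ⟨r, hr, hfree, -⟩ := Module.FinitePresentation.exists_free_localizedModule_powers
    (nonZeroDivisors D) (LocalizedModule.mkLinearMap (nonZeroDivisors D) S₁) (FractionRing D)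
  have hr0 : r ≠ 0 := nonZeroDivisors.ne_zero hr
  let Dr := Localization.Away r
  haveI : IsDomain Dr := IsLocalization.Away.isDomain (R := D) Dr hr0
  haveI : Algebra.FiniteType k Dr := by
    haveI : Algebra.FiniteType D Dr := IsLocalization.finiteType_of_monoid_fg (Submonoid.powers r) _
    exact Algebra.FiniteType.trans (S := D) inferInstance inferInstance
  obtain ⟨Sr, _, _, _, _, _, _, _, _, _, _, _, ρr, hρr, hρr'⟩ :=
    exists_localized (k := k) ρ₁ hker (Submonoid.powers r) Dr
  haveI : Module.Free Dr Sr :=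
    Module.Free.of_equiv ((IsLocalizedModule.iso (Submonoid.powers r)
      (IsScalarTower.toAlgHom D S₁ Sr).toLinearMap).extendScalarsOfIsLocalization
        (Submonoid.powers r) Dr)
  haveI : Module.Finite Dr Sr := Module.Finite.of_isLocalizedModule (Submonoid.powers r)
    (IsScalarTower.toAlgHom D S₁ Sr).toLinearMap
  -- a point on the free part
  obtain ⟨d, D', _, _, _, _, xs, hDloc, hd0, -, hxs, hpt⟩ := exists_coords k Dr 1 one_ne_zero
  haveI := hDloc
  haveI : IsDomain D' := IsLocalization.Away.isDomain (R := Dr) D' hd0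
  obtain ⟨S', _, _, _, _, _, _, _, _, _, _, _, ρ', hρ', hker'⟩ :=
    exists_localized (k := k) ρr hρr' (Submonoid.powers d) D'
  obtain ⟨hfin', hfree', hrk'⟩ :=
    finrank_localization (D := Dr) (S := Sr) (Submonoid.powers d) D' S'
  have hinjr : Function.Injective (algebraMap D Dr) :=
    IsLocalization.injective Dr (powers_le_nonZeroDivisors_of_noZeroDivisors hr0)
  have hinj' : Function.Injective (algebraMap Dr D') :=
    IsLocalization.injective D' (powers_le_nonZeroDivisors_of_noZeroDivisors hd0)
  haveI : (RingHom.ker ρ').IsPrime := RingHom.ker_isPrime _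
  obtain ⟨hreg, hlocal, hrank⟩ := slice_thickening (k := k) ρ' hker' xs hxs hpt
  have hlen := length_eq_rank ρ' hker'
  -- `S'` is a basic open of `S`
  letI : Algebra S Sr := ((algebraMap S₁ Sr).comp (algebraMap S S₁)).toAlgebra
  haveI : IsScalarTower S S₁ Sr := IsScalarTower.of_algebraMap_eq' rfl
  letI : Algebra S S' := ((algebraMap Sr S').comp (algebraMap S Sr)).toAlgebra
  haveI : IsScalarTower S Sr S' := IsScalarTower.of_algebraMap_eq' rfl
  obtain ⟨fS, hfS⟩ : ∃ fS : S, IsLocalization.Away fS S' := by
    haveI : IsLocalization.Away (algebraMap D S₁ r) Sr := by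
      have : Algebra.algebraMapSubmonoid S₁ (Submonoid.powers r) = Submonoid.powers (algebraMap D S₁ r) :=
        Submonoid.map_powers _ _
      change IsLocalization (Submonoid.powers (algebraMap D S₁ r)) Sr
      rw [← this]
      infer_instance
    haveI : IsLocalization.Away (algebraMap Dr Sr d) S' := by
      have : Algebra.algebraMapSubmonoid Sr (Submonoid.powers d) = Submonoid.powers (algebraMap Dr Sr d) :=
        Submonoid.map_powers _ _
      change IsLocalization (Submonoid.powers (algebraMap Dr Sr d)) S'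
      rw [← this]
      infer_instance
    haveI h1 : IsLocalization.Away (f * (IsLocalization.Away.sec f (algebraMap D S₁ r)).1) Sr :=
      IsLocalization.Away.mul_of_associated _ _ (algebraMap D S₁ r)
        (IsLocalization.Away.associated_sec_fst f (algebraMap D S₁ r))
    exact ⟨f * (IsLocalization.Away.sec f (algebraMap D S₁ r)).1 *
        (IsLocalization.Away.sec (f * (IsLocalization.Away.sec f (algebraMap D S₁ r)).1)
          (algebraMap Dr Sr d)).1, IsLocalization.Away.mul_of_associated _ _ (algebraMap Dr Sr d)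
      (IsLocalization.Away.associated_sec_fst
        (f * (IsLocalization.Away.sec f (algebraMap D S₁ r)).1) (algebraMap Dr Sr d))⟩
  haveI := hfS
  haveI : IsScalarTower k S S' := IsScalarTower.of_algebraMap_eq fun c => by
    change algebraMap k S' c = algebraMap Sr S' (algebraMap S₁ Sr (algebraMap S S₁ (algebraMap k S c)))
    rw [← IsScalarTower.algebraMap_apply k S S₁, ← IsScalarTower.algebraMap_apply k S₁ Sr,
      ← IsScalarTower.algebraMap_apply k Sr S']
  have hcomap : (RingHom.ker ρ').comap (algebraMap S S') = p := by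
    ext a
    rw [Ideal.mem_comap, RingHom.mem_ker, IsScalarTower.algebraMap_apply S Sr S',
      IsScalarTower.algebraMap_apply S S₁ Sr]
    rw [hρ', hρr, show ρ₁ (algebraMap S S₁ a) = π₁ (algebraMap S S₁ a) from rfl,
      map_eq_zero_iff _ hinj', map_eq_zero_iff _ hinjr, hπ₁,
      map_eq_zero_iff _ (IsLocalization.injective D (powers_le_nonZeroDivisors_of_noZeroDivisors hfb)),
      Ideal.Quotient.eq_zero_iff_mem]
  haveI : IsLocalization.AtPrime (Localization.AtPrime (RingHom.ker ρ')) p := by
    have := IsLocalization.isLocalization_isLocalization_atPrime_isLocalization (Submonoid.powers fS)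
      (Localization.AtPrime (RingHom.ker ρ')) (RingHom.ker ρ')
    convert this using 2
    exact hcomap.symm
  refine ⟨fS, S', inferInstance, inferInstance, inferInstance, inferInstance,
    xs.map (algebraMap D' S'), Module.finrank D' S', hfS, ?_, hreg, hlocal, hrank⟩
  let ε := IsLocalization.algEquiv p.primeCompl (Localization.AtPrime p)
    (Localization.AtPrime (RingHom.ker ρ'))
  rw [← hlen]
  letI : Algebra (Localization.AtPrime p) (Localization.AtPrime (RingHom.ker ρ')) :=
    ε.toRingEquiv.toRingHom.toAlgebra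
  rw [← Module.length_eq_of_surjective (S := Localization.AtPrime p)
    (R := Localization.AtPrime (RingHom.ker ρ')) (M := Localization.AtPrime (RingHom.ker ρ'))
    ε.surjective]
  exact (LinearEquiv.ofBijective (Algebra.linearMap (Localization.AtPrime p)
    (Localization.AtPrime (RingHom.ker ρ'))) ε.bijective).length_eq

end Groth.ModelsGraphs.IndexMult
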