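import Groth.Agent.ModelsGraphs.IndexMult
import Groth.Agent.ModelsGraphs.GenusFormula
import Groth.Agent.Cycles.GenFibre
import Groth.Agent.Cycles.PushCyc
import Groth.Agent.Misc13.PtChow
import Groth.Agent.Ega4Algebra2.RegularImmersion
import Groth.Prelude.Def_Models
import Groth.Prelude.Def_W4c5delpairindexchiIndex

/-!
# The index of the generic fibre divides the multiplicity of the closed fibre
-/

set_option autoImplicit false
set_option linter.style.haveILetI false
set_option backward.isDefEq.respectTransparency.types false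

universe u

open CategoryTheory CategoryTheory.Limits AlgebraicGeometry TopologicalSpace TensorProduct

namespace Groth.ModelsGraphs.IndexMult

variable {R : Type u} [CommRing R] [IsDomain R] [IsDiscreteValuationRing R]

local notation "KK" => FractionRing R
local notation "kk" => IsLocalRing.ResidueField R

theorem fromSpec_comp_eq {X : Scheme.{u}} (p : X ⟶ Spec (CommRingCat.of R)) (U : X.affineOpens) :
    U.2.fromSpec ≫ p = Spec.map (CommRingCat.ofHom (DVRFibre.ψ p U.1)) := by
  have h1 := (isAffineOpen_top _).SpecMap_appLE_fromSpec p U.2 (le_top : U.1 ≤ p ⁻¹ᵁ ⊤)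
  rw [← h1]
  erw [IsAffineOpen.fromSpec_top, Scheme.isoSpec_Spec_inv]
  rw [← Spec.map_comp]
  rfl

/-- A field-valued point of an affine open generated over `K` gives a closed point of the generic
fibre of the same degree. -/
theorem mem_index {X : Scheme.{u}} {f : X ⟶ Spec (CommRingCat.of KK)} {𝒳 : Scheme.{u}}
    {p : 𝒳 ⟶ Spec (CommRingCat.of R)} [LocallyOfFiniteType p] {g : X ⟶ 𝒳}
    (hg : IsPullback g f p (Spec.map (CommRingCat.ofHom (algebraMap R KK)))) (U : 𝒳.affineOpens)
    (L : Type u) [Field L] [Algebra KK L] [Algebra R L] [IsScalarTower R KK L] [Module.Finite KK L]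
    (φ : Γ(𝒳, U.1) →+* L) (hφ : φ.comp (DVRFibre.ψ p U.1) = algebraMap R L)
    (hgen : Algebra.adjoin KK (Set.range φ) = ⊤) :
    (Module.finrank KK L : ℤ) ∈ Curv2.indexSubgroup f := by
  let A := Γ(𝒳, U.1)
  letI : Algebra R A := (DVRFibre.ψ p U.1).toAlgebra
  let φa : A →ₐ[R] L := { φ with commutes' := RingHom.congr_fun hφ }
  let E := A ⊗[R] KK
  let ι : Spec (CommRingCat.of E) ⟶ 𝒳 :=
    Spec.map (CommRingCat.ofHom (Algebra.TensorProduct.includeLeftRingHom : A →+* E)) ≫ U.2.fromSpec
  let π₂ : Spec (CommRingCat.of E) ⟶ Spec (CommRingCat.of KK) :=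
    Spec.map (CommRingCat.ofHom (Algebra.TensorProduct.includeRight : KK →ₐ[R] E).toRingHom)
  have hsq : IsPullback (Spec.map (CommRingCat.ofHom (Algebra.TensorProduct.includeLeftRingHom : A →+* E))) π₂
      (Spec.map (CommRingCat.ofHom (algebraMap R A))) (Spec.map (CommRingCat.ofHom (algebraMap R KK))) :=
    isPullback_SpecMap_of_isPushout _ _ _ _ (CommRingCat.isPushout_tensorProduct R A KK)
  have hUp : U.2.fromSpec ≫ p = Spec.map (CommRingCat.ofHom (algebraMap R A)) := fromSpec_comp_eq p U
  have hw : ι ≫ p = π₂ ≫ Spec.map (CommRingCat.ofHom (algebraMap R KK)) := by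
    rw [Category.assoc, hUp, hsq.w]
  let v : Spec (CommRingCat.of E) ⟶ X := hg.lift ι π₂ hw
  have hv : IsPullback v (Spec.map (CommRingCat.ofHom (Algebra.TensorProduct.includeLeftRingHom : A →+* E)))
      g U.2.fromSpec := by
    refine IsPullback.of_right ?_ (hg.lift_fst _ _ _) hg.flip |>.flip.flip
    · rw [hg.lift_snd, hUp]
      exact hsq.flip
  haveI : IsOpenImmersion v := MorphismProperty.of_isPullback hv.flip inferInstance
  -- the point
  let Φ : E →+* L := (Algebra.TensorProduct.lift φa (IsScalarTower.toAlgHom R KK L)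
    fun _ _ => Commute.all _ _).toRingHom
  have hΦK : ∀ c : KK, Φ (1 ⊗ₜ c) = algebraMap KK L c := fun c => by
    change Algebra.TensorProduct.lift φa (IsScalarTower.toAlgHom R KK L) _ (1 ⊗ₜ c) = _
    erw [Algebra.TensorProduct.lift_tmul, map_one, one_mul]
    rfl
  have hΦA : ∀ a : A, Φ (a ⊗ₜ 1) = φ a := fun a => by
    change Algebra.TensorProduct.lift φa (IsScalarTower.toAlgHom R KK L) _ (a ⊗ₜ 1) = _
    erw [Algebra.TensorProduct.lift_tmul, map_one, mul_one]
    rfl
  have hsurj : Function.Surjective Φ := by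
    intro z
    have hz : z ∈ Algebra.adjoin KK (Set.range φ) := hgen ▸ Algebra.mem_top
    induction hz using Algebra.adjoin_induction with
    | mem x hx => obtain ⟨a, rfl⟩ := hx; exact ⟨_, hΦA a⟩
    | algebraMap c => exact ⟨_, hΦK c⟩
    | add a b _ _ ha hb =>
      obtain ⟨a, rfl⟩ := ha
      obtain ⟨b, rfl⟩ := hb
      exact ⟨a + b, map_add _ _ _⟩
    | mul a b _ _ ha hb =>
      obtain ⟨a, rfl⟩ := ha
      obtain ⟨b, rfl⟩ := hb
      exact ⟨a * b, map_mul _ _ _⟩
  haveI : IsClosedImmersion (Spec.map (CommRingCat.ofHom Φ)) :=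
    IsClosedImmersion.spec_of_surjective _ hsurj
  let j : Spec (CommRingCat.of L) ⟶ X := Spec.map (CommRingCat.ofHom Φ) ≫ v
  have hjf : j ≫ f = Spec.map (CommRingCat.ofHom (algebraMap KK L)) := by
    rw [Category.assoc, hg.lift_snd, ← Spec.map_comp]
    congr 1
    ext c
    exact hΦK c
  haveI : IsPreimmersion j := inferInstanceAs (IsPreimmersion (_ ≫ _))
  let x : X := j (IsLocalRing.closedPoint L)
  haveI : LocallyOfFiniteType f := MorphismProperty.of_isPullback hg inferInstance
  haveI : JacobsonSpace X := LocallyOfFiniteType.jacobsonSpace f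
  have hx : IsClosed ({x} : Set X) := by
    refine isClosed_singleton_of_isLocallyClosed_singleton ?_
    have h1 : IsImmersion j := inferInstanceAs (IsImmersion (_ ≫ _))
    have h2 : Set.range j = {x} := by
      ext z
      constructor
      · rintro ⟨w, rfl⟩
        rw [Subsingleton.elim w (IsLocalRing.closedPoint L)]
        rfl
      · rintro rfl
        exact ⟨_, rfl⟩
    rw [← h2]
    exact h1.isLocallyClosed_range
  have hdeg : f.residueDegree x = Module.finrank KK L := by
    rw [← Groth.Misc13.PtChow.residueDegree_Spec KK L (IsLocalRing.closedPoint L), ← hjf,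
      Groth.Cycles.residueDegree_comp, Groth.Cycles.residueDegree_of_preimmersion j, mul_one]
  refine AddSubgroup.subset_closure ⟨x, hx, ?_⟩
  change (f.residueDegree x : ℤ) = _
  rw [hdeg]

/-- Henselian base with algebraically closed residue field: the index of the generic fibre divides
each multiplicity of the closed fibre. -/
theorem exists_length_mem_index [HenselianLocalRing R] [IsAlgClosed kk] {X : Scheme.{u}}
    (f : X ⟶ Spec (CommRingCat.of KK)) {𝒳 : Scheme.{u}} (p : 𝒳 ⟶ Spec (CommRingCat.of R)) [Flat p]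
    [LocallyOfFiniteType p] {g : X ⟶ 𝒳}
    (hg : IsPullback g f p (Spec.map (CommRingCat.ofHom (algebraMap R KK))))
    (η : ↥(Models.specialFibre R 𝒳 p)) (hη : ∀ y : ↥(Models.specialFibre R 𝒳 p), y ⤳ η → y = η) :
    ∃ ℓ : ℕ, Module.length ((Models.specialFibre R 𝒳 p).presheaf.stalk η)
        ((Models.specialFibre R 𝒳 p).presheaf.stalk η) = ℓ ∧ (ℓ : ℤ) ∈ Curv2.indexSubgroup f := by
  obtain ⟨π, hπ⟩ := IsDiscreteValuationRing.exists_irreducible R
  let σ := Spec.map (CommRingCat.ofHom (algebraMap R kk))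
  haveI : IsClosedImmersion σ := IsClosedImmersion.spec_of_surjective _ IsLocalRing.residue_surjective
  let Y := pullback p σ
  let i : Y ⟶ 𝒳 := pullback.fst p σ
  have hker : i.ker = Models.specialFibreIdeal R (Over.mk p) := by
    rw [Scheme.IdealSheafData.ker_fst_of_isClosedImmersion]
    erw [GenusFormula.ker_residue]
    rfl
  let x := i η
  obtain ⟨U, hxU, -⟩ := Groth.Divisors.exists_affine_le x ⊤ trivial
  let A := Γ(𝒳, U.1)
  letI : Algebra R A := (DVRFibre.ψ p U.1).toAlgebra
  haveI : Algebra.FiniteType R A := by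
    have h1 := p.finiteType_appLE (isAffineOpen_top _) U.2 (le_top : U.1 ≤ p ⁻¹ᵁ ⊤)
    have h2 : ((Scheme.ΓSpecIso (CommRingCat.of R)).inv.hom).FiniteType :=
      RingHom.FiniteType.of_surjective _ (ConcreteCategory.bijective_of_isIso _).2
    exact h1.comp h2
  haveI : Module.Flat R A := by
    have h1 := p.flat_appLE (isAffineOpen_top _) U.2 (le_top : U.1 ≤ p ⁻¹ᵁ ⊤)
    have h2 : ((Scheme.ΓSpecIso (CommRingCat.of R)).inv.hom).Flat :=
      RingHom.Flat.of_bijective (ConcreteCategory.bijective_of_isIso _)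
    have h4 : DVRFibre.ψ p U.1 = (p.appLE ⊤ U.1 le_top).hom.comp
        (Scheme.ΓSpecIso (CommRingCat.of R)).inv.hom := RingHom.ext (DVRFibre.ψ_eq_appLE p U.1)
    exact RingHom.flat_algebraMap_iff.mp
      (show RingHom.Flat (DVRFibre.ψ p U.1) from h4 ▸ RingHom.Flat.comp h2 h1)
  let O := 𝒳.presheaf.stalk x
  let Oη := Y.presheaf.stalk η
  letI : Algebra A O := 𝒳.presheaf.algebra_section_stalk (⟨x, hxU⟩ : U.1)
  let P : Ideal A := (U.2.primeIdealOf ⟨x, hxU⟩).asIdeal
  haveI : IsLocalization.AtPrime O P := U.2.isLocalization_stalk ⟨x, hxU⟩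
  let st : O →+* Oη := (i.stalkMap η).hom
  have hsurj : Function.Surjective st := i.stalkMap_surjective η
  have hkerst : RingHom.ker st = Ideal.span {algebraMap A O (algebraMap R A π)} := by
    change RingHom.ker (i.stalkMap η).hom = _
    rw [Groth.Ega4b.ker_stalkMap_eq_map i U.2 η hxU, hker]
    erw [CohFlat.ideal_specialFibre p hπ U]
    rw [Ideal.map_span, Set.image_singleton]
    rfl
  let I := (IsLocalRing.maximalIdeal R).map (algebraMap R A)
  have hI : I = Ideal.span {algebraMap R A π} := by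
    simp only [I, hπ.maximalIdeal_eq, Ideal.map_span, Set.image_singleton]
  have hIP : I ≤ P := by
    rw [hI, Ideal.span_singleton_le_iff_mem, ← IsLocalization.AtPrime.comap_maximalIdeal O P,
      Ideal.mem_comap]
    have : algebraMap A O (algebraMap R A π) ∈ RingHom.ker st :=
      hkerst.ge (Ideal.mem_span_singleton_self _)
    exact IsLocalRing.le_maximalIdeal (RingHom.ker_ne_top st) this
  let mk : A →+* A ⧸ I := Ideal.Quotient.mk I
  have hmkker : RingHom.ker mk ≤ P := by rwa [Ideal.mk_ker]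
  let pb : Ideal (A ⧸ I) := P.map mk
  haveI : pb.IsPrime := Ideal.map_isPrime_of_surjective Ideal.Quotient.mk_surjective hmkker
  have hpb : pb.comap mk = P := by
    rw [Ideal.comap_map_of_surjective' mk Ideal.Quotient.mk_surjective, sup_eq_left.2 hmkker]
  letI : Algebra (A ⧸ I) Oη := (Ideal.Quotient.lift I (st.comp (algebraMap A O)) fun a ha => by
    rw [hI, Ideal.mem_span_singleton] at ha
    obtain ⟨c, rfl⟩ := ha
    rw [RingHom.comp_apply, map_mul, ← RingHom.mem_ker, hkerst]
    exact Ideal.mul_mem_right _ _ (Ideal.mem_span_singleton_self _)).toAlgebra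
  have halg : ∀ a : A, algebraMap (A ⧸ I) Oη (mk a) = st (algebraMap A O a) := fun _ => rfl
  haveI hloc : IsLocalization.AtPrime Oη pb := by
    refine ⟨?_, ?_, ?_⟩
    · rintro ⟨z, hz⟩
      obtain ⟨z, rfl⟩ := Ideal.Quotient.mk_surjective z
      have hz' : z ∈ P.primeCompl := fun h => hz (Ideal.mem_map_of_mem mk h)
      exact (IsLocalization.map_units O (⟨z, hz'⟩ : P.primeCompl)).map st
    · intro w
      obtain ⟨w, rfl⟩ := hsurj w
      obtain ⟨⟨a, s⟩, has⟩ := IsLocalization.surj P.primeCompl w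
      refine ⟨⟨mk a, ⟨mk s, fun h => s.2 (hpb.le h)⟩⟩, ?_⟩
      change st w * algebraMap (A ⧸ I) Oη (mk s) = algebraMap (A ⧸ I) Oη (mk a)
      rw [halg, halg, ← map_mul, has]
    · intro a b hab
      obtain ⟨a, rfl⟩ := Ideal.Quotient.mk_surjective a
      obtain ⟨b, rfl⟩ := Ideal.Quotient.mk_surjective b
      have h1 : algebraMap A O (a - b) ∈ (Ideal.span {algebraMap R A π}).map (algebraMap A O) := by
        rw [Ideal.map_span, Set.image_singleton, ← hkerst, RingHom.mem_ker, map_sub, map_sub]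
        exact sub_eq_zero.2 hab
      obtain ⟨s, hs, hsm⟩ := (IsLocalization.algebraMap_mem_map_algebraMap_iff P.primeCompl O _ _).1 h1
      refine ⟨⟨mk s, fun h => hs (hpb.le h)⟩, ?_⟩
      change mk s * mk a = mk s * mk b
      rw [← map_mul, ← map_mul, Ideal.Quotient.mk_eq_mk_iff_sub_mem, ← mul_sub, hI]
      exact hsm
  have hmin : pb ∈ minimalPrimes (A ⧸ I) := by
    refine ⟨⟨inferInstance, bot_le⟩, fun Q hQ hQle => ?_⟩
    haveI : Q.IsPrime := hQ.1
    let Q' := Q.comap mk
    haveI : Q'.IsPrime := Ideal.IsPrime.comap _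
    let y : 𝒳 := U.2.fromSpec ⟨Q', inferInstance⟩
    have hy : y ∈ U.1 := by
      rw [← SetLike.mem_coe, ← U.2.range_fromSpec]
      exact ⟨_, rfl⟩
    have hQy : (U.2.primeIdealOf ⟨y, hy⟩).asIdeal = Q' := by
      have h : U.2.primeIdealOf ⟨y, hy⟩ = ⟨Q', inferInstance⟩ :=
        U.2.fromSpec.isOpenEmbedding.injective (U.2.fromSpec_primeIdealOf _)
      rw [h]
    have hIQ : I ≤ Q' := fun a ha => by
      rw [Ideal.mem_comap, show mk a = 0 from Ideal.Quotient.eq_zero_iff_mem.2 ha]
      exact Q.zero_mem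
    have hyS : y ∈ (i.ker.support : Set 𝒳) := by
      rw [SetLike.mem_coe, Groth.DivisorLength.mem_support_iff_le hy, hker, hQy]
      erw [CohFlat.ideal_specialFibre p hπ U]
      rw [Ideal.span_singleton_le_iff_mem]
      exact hIQ (hI ▸ Ideal.mem_span_singleton_self _)
    rw [Scheme.Hom.support_ker, i.isClosedEmbedding.isClosed_range.closure_eq] at hyS
    obtain ⟨y', hy'⟩ := hyS
    have hsp : y ⤳ x := (Groth.DivisorLength.specializes_iff hy hxU).2
      (hQy.le.trans ((Ideal.comap_mono hQle).trans hpb.le))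
    rw [← hy'] at hsp
    have := hη y' (i.isClosedEmbedding.isEmbedding.isInducing.specializes_iff.1 hsp)
    have hyx : y = x := by rw [← hy', this]
    have hQP : Q' = P := by
      rw [← hQy]
      change (U.2.primeIdealOf ⟨y, hy⟩).asIdeal = (U.2.primeIdealOf ⟨x, hxU⟩).asIdeal
      congr 2
      exact Subtype.ext hyx
    exact (Ideal.map_mono hQP.ge).trans Ideal.map_comap_le
  obtain ⟨ℓ, hlen, hmem⟩ := exists_length_mem A pb hmin (Curv2.indexSubgroup f)
    fun L _ _ _ _ _ φ hgen => mem_index hg U L φ.toRingHom φ.comp_algebraMap hgen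
  refine ⟨ℓ, ?_, hmem⟩
  rw [← hlen]
  let ε := IsLocalization.algEquiv pb.primeCompl (Localization.AtPrime pb) Oη
  letI : Algebra (Localization.AtPrime pb) Oη := ε.toRingEquiv.toRingHom.toAlgebra
  change Module.length Oη Oη = _
  rw [← Module.length_eq_of_surjective (S := Localization.AtPrime pb) (R := Oη) (M := Oη) ε.surjective]
  exact (LinearEquiv.ofBijective (Algebra.linearMap (Localization.AtPrime pb) Oη) ε.bijective).length_eq.symm

end Groth.ModelsGraphs.IndexMult
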