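import Groth.Agent.ModelsGraphs.InterPair
import Groth.Agent.ModelsGraphs.InterConnected
import Groth.Agent.EulerDeg.CartierDegree

/-!
# The intersection form on the closed fibre of a regular proper model
-/

set_option autoImplicit false

universe u

open CategoryTheory CategoryTheory.Limits AlgebraicGeometry TopologicalSpace

namespace Groth.ModelsGraphs.InterForm

open Groth.ModelsGraphs.Inter Groth.ModelsGraphs.InterPair

variable {R : Type u} [CommRing R] [IsDomain R] [IsDiscreteValuationRing R]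
  {X : Over (Spec (CommRingCat.of R))}

local notation "kR" => IsLocalRing.ResidueField R

/-- The degree of the restriction of a module to a vertical curve. -/
noncomputable def δ (Γ : ArSurf.VertComp R X) (M : X.left.Modules) : ℤ :=
  Curv2.deg kR Γ.curve.left ((Scheme.Modules.pullback Γ.ι).obj M) 1

variable (Γ : ArSurf.VertComp R X) [IsProper X.hom]

lemma δ_eq_inter (M : X.left.Modules) : ArSurf.inter R X M Γ = δ Γ M := inter_eq_deg Γ M

omit [IsProper X.hom] in
lemma δ_congr {M N : X.left.Modules} (e : M ≅ N) : δ Γ M = δ Γ N :=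
  Groth.EulerDeg.deg_congr kR ((Scheme.Modules.pullback Γ.ι).mapIso e) 1

omit [IsProper X.hom] in
lemma δ_structure : δ Γ (Coh.structureModule X.left) = 0 :=
  (Groth.EulerDeg.deg_congr kR (Groth.PicAux.pullback_structure_iso Γ.ι).some 1).trans
    (Groth.EulerDeg.deg_structure (k := kR) (X := Γ.curve.left))

lemma δ_tensor {M N : X.left.Modules} (hM : PicF.IsInvertible M) (hN : PicF.IsInvertible N) :
    δ Γ (CohB1.tensorMod M N) = δ Γ M + δ Γ N := by
  haveI : IsProper (Γ.curve.left ↘ Spec (CommRingCat.of kR)) := isProper_hom Γ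
  refine (Groth.EulerDeg.deg_congr kR (Groth.PicAux.pullback_tensorMod Γ.ι hM hN).some 1).trans ?_
  exact Groth.EulerDeg.deg_tensor_invertible kR (le_of_eq Γ.dim_eq)
    (Groth.PicAux.isInvertible_pullback _ hM) (Groth.PicAux.isInvertible_pullback _ hN)

lemma δ_inverse {L M : X.left.Modules} (h : ClSub.IsInverseOf L M) : δ Γ L = - δ Γ M := by
  have hi := Groth.PicAux.isInvertible_left_of_isInverseOf h
  obtain ⟨e⟩ := h
  have h1 := δ_tensor Γ hi.1 hi.2
  rw [δ_congr Γ e, δ_structure] at h1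
  linarith

lemma δ_idealMod_one : δ Γ (ClSub.idealMod (1 : X.left.IdealSheafData)) = 0 := by
  have h1 : BlowUp.IsEffCartierIdeal (1 : X.left.IdealSheafData) :=
    Groth.Divisors.isEffCartierIdeal_top
  have h2 := δ_tensor Γ (Groth.PicAux.isInvertible_idealMod h1) (Groth.PicAux.isInvertible_idealMod h1)
  rw [δ_congr Γ (Groth.PicAux.idealMod_mul h1 h1).some, mul_one] at h2
  linarith

lemma δ_idealMod_mul {I J : X.left.IdealSheafData} (hI : BlowUp.IsEffCartierIdeal I)
    (hJ : BlowUp.IsEffCartierIdeal J) :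
    δ Γ (ClSub.idealMod (I * J)) = δ Γ (ClSub.idealMod I) + δ Γ (ClSub.idealMod J) := by
  rw [← δ_congr Γ (Groth.PicAux.idealMod_mul hI hJ).some]
  exact δ_tensor Γ (Groth.PicAux.isInvertible_idealMod hI) (Groth.PicAux.isInvertible_idealMod hJ)

omit [IsProper X.hom] in
lemma isEffCartier_pow {I : X.left.IdealSheafData} (hI : BlowUp.IsEffCartierIdeal I) (n : ℕ) :
    BlowUp.IsEffCartierIdeal (I ^ n) := Groth.Divisors.isEffCartierIdeal_pow hI n

lemma δ_idealMod_pow {I : X.left.IdealSheafData} (hI : BlowUp.IsEffCartierIdeal I) (n : ℕ) :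
    δ Γ (ClSub.idealMod (I ^ n)) = n * δ Γ (ClSub.idealMod I) := by
  induction n with
  | zero => rw [pow_zero, δ_idealMod_one]; simp
  | succ n ih =>
    rw [pow_succ, δ_idealMod_mul Γ (isEffCartier_pow hI n) hI, ih]
    push_cast
    ring

lemma δ_idealMod_prod {ι : Type} [DecidableEq ι] (D : ι → X.left.IdealSheafData)
    (hD : ∀ i, BlowUp.IsEffCartierIdeal (D i)) (m : ι → ℕ) (S : Finset ι) :
    BlowUp.IsEffCartierIdeal (∏ i ∈ S, D i ^ m i) ∧
      δ Γ (ClSub.idealMod (∏ i ∈ S, D i ^ m i)) = ∑ i ∈ S, (m i : ℤ) * δ Γ (ClSub.idealMod (D i)) := by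
  induction S using Finset.induction_on with
  | empty =>
    exact ⟨Groth.Divisors.isEffCartierIdeal_top, by
      rw [Finset.prod_empty, Finset.sum_empty, δ_idealMod_one]⟩
  | @insert j T hj ih =>
    rw [Finset.prod_insert hj, Finset.sum_insert hj]
    refine ⟨Groth.Divisors.isEffCartierIdeal_mul (isEffCartier_pow (hD j) _) ih.1, ?_⟩
    rw [δ_idealMod_mul Γ (isEffCartier_pow (hD j) _) ih.1, δ_idealMod_pow Γ (hD j), ih.2]

omit [IsProper X.hom] in
/-- The ideal of the closed fibre is trivial as a module. -/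
lemma nonempty_idealMod_specialFibre [Flat X.hom] :
    Nonempty (ClSub.idealMod (Models.specialFibreIdeal R X) ≅ Coh.structureModule X.left) := by
  obtain ⟨π, hπ⟩ := IsDiscreteValuationRing.exists_irreducible R
  have w := CohFlat.smulHom_toSubscheme X.hom hπ
  have hS := CohFlat.shortExact_smul X.hom hπ w
  exact ⟨(kernelIsKernel (ClSub.toSubscheme (Models.specialFibreIdeal R X))).conePointUniqueUpToIso
    hS.fIsKernel⟩

section List

variable {n : ℕ} {Γs : Fin n → ArSurf.VertComp R X} {L : Fin n → X.left.Modules}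
  [Flat X.hom]
  (hreg : Models.IsRegularScheme X.left) (hΓ : Models.IsComponentList R X Γs)
  (hL : ∀ i, ClSub.IsInverseOf (L i) (ClSub.idealMod (Γs i).ι.ker))

include hreg hΓ hL

/-- `(Γ_i · Γ_j) = h⁰(O_{Γ_i ∩ Γ_j})` for `i ≠ j`. -/
lemma inter_eq_finrank {i j : Fin n} (hij : i ≠ j) :
    ArSurf.inter R X (L j) (Γs i) = (Module.finrank kR (Coh.HH (Γs i).curve.left
      (ClSub.quotMod (interIdeal (Γs i) (Γs j))) 0) : ℤ) := by
  haveI : IsProper ((Γs i).curve.left ↘ Spec (CommRingCat.of kR)) := isProper_hom (Γs i)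
  haveI : IsLocallyNoetherian X.left := LocallyOfFiniteType.isLocallyNoetherian X.hom
  have hI := isEffCartier hreg (range_mem hΓ j)
  have hn := notMem_support_of_ne hΓ hij
  obtain ⟨h1, h2⟩ := InterPair.isInverseOf_pullback (Γs i) (Γs j) hI hn (hL j)
  rw [inter_eq_deg]
  exact Groth.EulerDeg.deg_inverse_idealMod kR (le_of_eq (Γs i).dim_eq)
    (isEffCartier_interIdeal (Γs i) (Γs j) hI hn) h1 h2

/-- The intersection form is symmetric. -/
theorem inter_symm (i j : Fin n) :
    ArSurf.inter R X (L j) (Γs i) = ArSurf.inter R X (L i) (Γs j) := by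
  rcases eq_or_ne i j with rfl | hij
  · rfl
  · rw [inter_eq_finrank hreg hΓ hL hij, inter_eq_finrank hreg hΓ hL hij.symm,
      dim_interIdeal_comm]

/-- Two different components have non-negative intersection, zero iff they are disjoint. -/
theorem inter_nonneg_and_eq_zero_iff {i j : Fin n} (hij : i ≠ j) :
    0 ≤ ArSurf.inter R X (L j) (Γs i) ∧
      (ArSurf.inter R X (L j) (Γs i) = 0 ↔
        Disjoint (Set.range (Γs i).ι.base) (Set.range (Γs j).ι.base)) := by
  haveI : IsProper ((Γs i).curve.left ↘ Spec (CommRingCat.of kR)) := isProper_hom (Γs i)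
  haveI : IsLocallyNoetherian X.left := LocallyOfFiniteType.isLocallyNoetherian X.hom
  haveI := Groth.EulerDeg.isNoetherian_of_proper kR (Γs i).curve.left
  have hD := isEffCartier_interIdeal (Γs i) (Γs j) (isEffCartier hreg (range_mem hΓ j))
    (notMem_support_of_ne hΓ hij)
  have hQc := Groth.EulerDeg.isCoh_quotMod (interIdeal (Γs i) (Γs j))
  have hfin := Groth.EulerDeg.finite_HH kR (Γs i).curve.left hQc 0
  rw [inter_eq_finrank hreg hΓ hL hij]
  refine ⟨Nat.cast_nonneg _, ?_⟩
  rw [Nat.cast_eq_zero, ← InterPair.isEmpty_interIdeal_iff, finrank_quotMod]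
  let g := (interIdeal (Γs i) (Γs j)).subschemeι ≫ ((Γs i).curve.left ↘ Spec (CommRingCat.of kR))
  letI := (DVRFibre.gl g).toAlgebra
  change Module.finrank kR Γ((interIdeal (Γs i) (Γs j)).subscheme, ⊤) = 0 ↔ _
  haveI : Module.Finite kR Γ((interIdeal (Γs i) (Γs j)).subscheme, ⊤) := by
    let pY := (Γs i).curve.left ↘ Spec (CommRingCat.of kR)
    let eS := Groth.CohFin.equivSections pY (ClSub.quotMod (interIdeal (Γs i) (Γs j)))
    let sec : Coh.HH (Γs i).curve.left (ClSub.quotMod (interIdeal (Γs i) (Γs j))) 0 →ₗ[kR]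
        Γ((interIdeal (Γs i) (Γs j)).subscheme, ⊤) :=
      { toFun := fun x => (eS x : Γ(ClSub.quotMod (interIdeal (Γs i) (Γs j)), ⊤))
        map_add' := eS.map_add
        map_smul' := fun r x => by
          refine (Groth.CohFin.equivSections_smul pY _ r x).trans ?_
          let y : Γ((interIdeal (Γs i) (Γs j)).subscheme, ⊤) := eS x
          refine congrArg (fun a : Γ((interIdeal (Γs i) (Γs j)).subscheme, ⊤) => a * y) ?_
          change (interIdeal (Γs i) (Γs j)).subschemeι.app ⊤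
              (pY.appTop ((Scheme.ΓSpecIso (CommRingCat.of kR)).inv r)) =
            g.appTop ((Scheme.ΓSpecIso (CommRingCat.of kR)).inv r)
          simp only [g, Scheme.Hom.comp_appTop]
          rfl }
    haveI := hfin
    exact Module.Finite.of_surjective sec fun s => ⟨eS.symm s, eS.apply_symm_apply s⟩
  rw [Module.finrank_zero_iff]
  constructor
  · intro hs
    refine ⟨fun z => ?_⟩
    have h0 := congrArg ((interIdeal (Γs i) (Γs j)).subscheme.presheaf.germ ⊤ z trivial)
      (Subsingleton.elim (1 : Γ((interIdeal (Γs i) (Γs j)).subscheme, ⊤)) 0)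
    rw [map_one, map_zero] at h0
    exact one_ne_zero h0
  · intro hz
    haveI := hz
    have : (⊤ : (interIdeal (Γs i) (Γs j)).subscheme.Opens) = ⊥ :=
      Opens.ext (Set.eq_empty_of_isEmpty _)
    rw [this]
    infer_instance

/-- The closed fibre is orthogonal to every component. -/
theorem sum_mult_mul_inter [CompactSpace X.left] (j : Fin n) :
    ∑ i, (Models.mult R X (Γs i) : ℤ) * ArSurf.inter R X (L j) (Γs i) = 0 := by
  haveI : IsLocallyNoetherian X.left := LocallyOfFiniteType.isLocallyNoetherian X.hom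
  have h1 : ∀ i, ArSurf.inter R X (L j) (Γs i) = - δ (Γs j) (ClSub.idealMod (Γs i).ι.ker) :=
    fun i => by rw [inter_symm hreg hΓ hL, δ_eq_inter, δ_inverse (Γs j) (hL i)]
  have h2 := (δ_idealMod_prod (Γs j) (fun i => (Γs i).ι.ker)
    (fun i => isEffCartier hreg (range_mem hΓ i)) (fun i => Models.mult R X (Γs i)) Finset.univ).2
  rw [← specialFibreIdeal_eq hreg hΓ, δ_congr (Γs j) nonempty_idealMod_specialFibre.some,
    δ_structure] at h2
  simp only [h1, mul_neg, Finset.sum_neg_distrib, neg_eq_zero]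
  exact h2.symm

/-- The components are connected through non-zero intersection numbers. -/
theorem inter_connected_of_isPreconnected
    (hpre : _root_.IsPreconnected (X.hom.base ⁻¹' {IsLocalRing.closedPoint R})) (I : Finset (Fin n))
    (hI : I.Nonempty) (hI' : I ≠ Finset.univ) :
    ∃ i ∈ I, ∃ j ∉ I, ArSurf.inter R X (L j) (Γs i) ≠ 0 := by
  haveI : IsLocallyNoetherian X.left := LocallyOfFiniteType.isLocallyNoetherian X.hom
  haveI : CompactSpace X.left := QuasiCompact.compactSpace_of_compactSpace X.hom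
  by_contra hcon
  simp only [not_exists, not_and, ne_eq, not_not] at hcon
  have hd : ∀ i ∈ I, ∀ j ∉ I, Disjoint (Set.range (Γs i).ι.base) (Set.range (Γs j).ι.base) :=
    fun i hi j hj => (inter_nonneg_and_eq_zero_iff hreg hΓ hL (fun h => hj (by rwa [← h]))).2.1
      (hcon i hi j hj)
  let U : Set X.left := ⋃ i ∈ I, Set.range (Γs i).ι.base
  let V : Set X.left := ⋃ j ∈ (Finset.univ \ I), Set.range (Γs j).ι.base
  have hU : IsClosed U := Set.Finite.isClosed_biUnion I.finite_toSet fun i _ =>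
    (Γs i).ι.isClosedEmbedding.isClosed_range
  have hV : IsClosed V := Set.Finite.isClosed_biUnion (Finset.univ \ I).finite_toSet fun i _ =>
    (Γs i).ι.isClosedEmbedding.isClosed_range
  have hsub : X.hom.base ⁻¹' {IsLocalRing.closedPoint R} ⊆ U ∪ V := fun z hz => by
    obtain ⟨i, hi⟩ := exists_specializes hΓ hz
    have hzi : z ∈ Set.range (Γs i).ι.base :=
      (isGenericPoint_genPtOf (Γs i)).specializes_iff_mem.1 hi
    by_cases h : i ∈ I
    · exact Or.inl (Set.mem_biUnion h hzi)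
    · exact Or.inr (Set.mem_biUnion (Finset.mem_sdiff.2 ⟨Finset.mem_univ i, h⟩) hzi)
  obtain ⟨i₀, hi₀⟩ := hI
  obtain ⟨j₀, hj₀⟩ : ∃ j, j ∉ I := by
    by_contra h
    simp only [not_exists, not_not] at h
    exact hI' (Finset.eq_univ_iff_forall.2 h)
  obtain ⟨z, -, hzU, hzV⟩ := isPreconnected_closed_iff.1 hpre U V hU hV hsub
    ⟨_, genPtOf_mem (range_mem hΓ i₀), Set.mem_biUnion hi₀ ⟨_, rfl⟩⟩
    ⟨_, genPtOf_mem (range_mem hΓ j₀),
      Set.mem_biUnion (Finset.mem_sdiff.2 ⟨Finset.mem_univ j₀, hj₀⟩) ⟨_, rfl⟩⟩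
  obtain ⟨i, hi, hzi⟩ := Set.mem_iUnion₂.1 hzU
  obtain ⟨j, hj, hzj⟩ := Set.mem_iUnion₂.1 hzV
  exact Set.disjoint_left.1 (hd i hi j (Finset.mem_sdiff.1 hj).2) hzi hzj

/-- If `H⁰(X, O_X) = R`, the components are connected through non-zero intersection numbers. -/
theorem inter_connected (hH0 : Function.Bijective (Coh.toGlobal X.hom)) (I : Finset (Fin n))
    (hI : I.Nonempty) (hI' : I ≠ Finset.univ) :
    ∃ i ∈ I, ∃ j ∉ I, ArSurf.inter R X (L j) (Γs i) ≠ 0 :=
  inter_connected_of_isPreconnected hreg hΓ hL (Connected.isPreconnected_closedFibre X.hom hH0) I hI hI'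

end List

/-- The multiplicity of a component is positive. -/
theorem mult_pos [Flat X.hom] (hreg : Models.IsRegularScheme X.left) {Γ : ArSurf.VertComp R X}
    (h : Set.range Γ.ι.base ∈ Models.fibreComponents R X) : 0 < Models.mult R X Γ := by
  haveI : IsLocallyNoetherian X.left := LocallyOfFiniteType.isLocallyNoetherian X.hom
  set ξ := Models.genPtOf R X Γ
  haveI := isDomain_stalk hreg ξ
  obtain ⟨π, hπ⟩ := IsDiscreteValuationRing.exists_irreducible R
  haveI : Ring.KrullDimLE 1 (X.left.presheaf.stalk ξ) :=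
    Ring.krullDimLE_iff.2 (dim_stalk_genPtOf hreg h).le
  set a := Models.stalkHom R X ξ π
  have hu : ¬ IsUnit a := (mem_specialFibreSet_iff hπ ξ).1 (genPtOf_mem h)
  have hmap : Ideal.map (Models.stalkHom R X ξ) (IsLocalRing.maximalIdeal R) = Ideal.span {a} := by
    rw [hπ.maximalIdeal_eq, Ideal.map_span, Set.image_singleton]
  change 0 < (Module.length (X.left.presheaf.stalk ξ)
    (X.left.presheaf.stalk ξ ⧸ Ideal.map (Models.stalkHom R X ξ) (IsLocalRing.maximalIdeal R))).toNat
  rw [hmap]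
  change 0 < (Ring.ord (X.left.presheaf.stalk ξ) a).toNat
  refine Nat.pos_of_ne_zero fun h0 => ?_
  rcases ENat.toNat_eq_zero.1 h0 with h0 | h0
  · rw [Ring.ord, Module.length_eq_zero_iff, Submodule.Quotient.subsingleton_iff] at h0
    exact hu (Ideal.span_singleton_eq_top.1 h0)
  · exact Ring.ord_ne_top (mem_nonZeroDivisors_of_ne_zero (stalkHom_ne_zero hπ.ne_zero ξ)) h0

section Quadratic

variable {n : ℕ} (A : Fin n → Fin n → ℤ) (m : Fin n → ℕ)

/-- Negative semi-definiteness of a connected intersection matrix killing a positive vector. -/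
theorem quadratic_nonpos (hm : ∀ i, 0 < m i) (hsymm : ∀ i j, A i j = A j i)
    (hoff : ∀ i j, i ≠ j → 0 ≤ A i j) (hker : ∀ j, ∑ i, (m i : ℤ) * A i j = 0)
    (hconn : ∀ I : Finset (Fin n), I.Nonempty → I ≠ Finset.univ → ∃ i ∈ I, ∃ j ∉ I, A i j ≠ 0)
    (a : Fin n → ℤ) :
    (∑ q : Fin n × Fin n, a q.1 * a q.2 * A q.1 q.2) ≤ 0 ∧
      ((∑ q : Fin n × Fin n, a q.1 * a q.2 * A q.1 q.2) = 0 ↔
        ∃ c : ℚ, ∀ i, (a i : ℚ) = c * (m i : ℚ)) := by
  let b : Fin n → ℚ := fun i => (a i : ℚ) / m i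
  have hmq : ∀ i, (m i : ℚ) ≠ 0 := fun i => Nat.cast_ne_zero.2 (hm i).ne'
  have hb : ∀ i, b i * m i = a i := fun i => div_mul_cancel₀ _ (hmq i)
  let T : Fin n × Fin n → ℚ := fun q =>
    (b q.1 - b q.2) ^ 2 * m q.1 * m q.2 * A q.1 q.2
  have hT : ∀ q, 0 ≤ T q := fun q => by
    rcases eq_or_ne q.1 q.2 with h | h
    · simp [T, h]
    · exact mul_nonneg (by positivity) (by exact_mod_cast hoff _ _ h)
  have hkq : ∀ j, ∑ i, (m i : ℚ) * (A i j : ℚ) = 0 := fun j => by exact_mod_cast hker j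
  have hexp : ((∑ q : Fin n × Fin n, a q.1 * a q.2 * A q.1 q.2 : ℤ) : ℚ) = -(∑ q, T q) / 2 := by
    have h1 : ∑ q : Fin n × Fin n, b q.1 ^ 2 * m q.1 * m q.2 * (A q.1 q.2 : ℚ) = 0 := by
      rw [Fintype.sum_prod_type]
      refine Finset.sum_eq_zero fun i _ => ?_
      rw [show (∑ j, b i ^ 2 * m i * m j * (A i j : ℚ)) = b i ^ 2 * m i * ∑ j, (m j : ℚ) * A j i by
        rw [Finset.mul_sum]
        exact Finset.sum_congr rfl fun j _ => by rw [hsymm i j]; ring, hkq i, mul_zero]
    have h2 : ∑ q : Fin n × Fin n, b q.2 ^ 2 * m q.1 * m q.2 * (A q.1 q.2 : ℚ) = 0 := by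
      rw [Fintype.sum_prod_type_right]
      refine Finset.sum_eq_zero fun j _ => ?_
      rw [show (∑ i, b j ^ 2 * m i * m j * (A i j : ℚ)) = b j ^ 2 * m j * ∑ i, (m i : ℚ) * A i j by
        rw [Finset.mul_sum]
        exact Finset.sum_congr rfl fun i _ => by ring, hkq j, mul_zero]
    have h3 : ∑ q, T q = ∑ q : Fin n × Fin n, (b q.1 ^ 2 * m q.1 * m q.2 * (A q.1 q.2 : ℚ) +
        b q.2 ^ 2 * m q.1 * m q.2 * (A q.1 q.2 : ℚ) -
        2 * ((a q.1 : ℚ) * a q.2 * A q.1 q.2)) :=
      Finset.sum_congr rfl fun q _ => by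
        rw [← hb q.1, ← hb q.2]
        simp only [T]
        ring
    rw [h3, Finset.sum_sub_distrib, Finset.sum_add_distrib, h1, h2, ← Finset.mul_sum]
    push_cast
    ring
  have hle : ((∑ q : Fin n × Fin n, a q.1 * a q.2 * A q.1 q.2 : ℤ) : ℚ) ≤ 0 := by
    rw [hexp]
    have := Finset.sum_nonneg fun q (_ : q ∈ Finset.univ) => hT q
    linarith
  refine ⟨by exact_mod_cast hle, ?_⟩
  rw [← Int.cast_eq_zero (α := ℚ), hexp, div_eq_zero_iff, or_iff_left two_ne_zero, neg_eq_zero,
    Finset.sum_eq_zero_iff_of_nonneg (fun q _ => hT q)]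
  constructor
  · intro h
    rcases isEmpty_or_nonempty (Fin n) with he | ⟨⟨i₀⟩⟩
    · exact ⟨0, fun i => isEmptyElim i⟩
    refine ⟨b i₀, fun i => ?_⟩
    suffices b i = b i₀ by rw [← this, hb]
    by_contra hi
    obtain ⟨p, hp, q, hq, hpq⟩ := hconn (Finset.univ.filter fun x => b x = b i₀)
      ⟨i₀, by simp⟩ (fun he => hi (by have := he ▸ Finset.mem_univ i; simpa using this))
    have h0 := h (p, q) (Finset.mem_univ _)
    simp only [Finset.mem_filter, Finset.mem_univ, true_and] at hp hq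
    simp only [T, mul_eq_zero, pow_eq_zero_iff, ne_eq, OfNat.ofNat_ne_zero, not_false_eq_true,
      hmq, or_false, Int.cast_eq_zero, hpq, sub_eq_zero] at h0
    exact hq (h0 ▸ hp)
  · rintro ⟨c, hc⟩ q -
    have : ∀ i, b i = c := fun i => by simp [b, hc, mul_div_assoc, div_self (hmq i)]
    simp [T, this]

end Quadratic

end Groth.ModelsGraphs.InterForm
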