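import Groth.Agent.ModelsGraphs.InterBasic
import Groth.Agent.EulerDeg.Coherent
import Groth.Agent.PicAux.EffCartierSection
import Groth.Agent.PicAux.InverseInvertible
import Groth.Agent.PicAux.PullTensor
import Groth.Agent.Divisors.EffCartierMore
import Groth.Agent.PicAux.Sections
import Groth.Prelude.Def_Curv2

/-!
# The scheme-theoretic intersection of two components of the closed fibre

For two different components `Γ_i, Γ_j` the divisor `D = Γ_i ∩ Γ_j` of `Γ_i` is effective Cartier,
`O(Γ_j)|Γ_i` is inverse to its ideal, and `h⁰(O_D)` is symmetric in `i` and `j`.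
-/

set_option autoImplicit false

universe u

open CategoryTheory CategoryTheory.Limits AlgebraicGeometry TopologicalSpace

namespace Groth.ModelsGraphs.InterPair

variable {R : Type u} [CommRing R] [IsDomain R] [IsDiscreteValuationRing R]
  {X : Over (Spec (CommRingCat.of R))}

local notation "kR" => IsLocalRing.ResidueField R

variable (Γ Γ' : ArSurf.VertComp R X)

lemma isProper_hom [IsProper X.hom] : IsProper Γ.curve.hom := by
  haveI : IsProper (Γ.curve.hom ≫ Spec.map (CommRingCat.ofHom (IsLocalRing.residue R))) := by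
    rw [← Γ.w]
    infer_instance
  haveI : IsSeparated (Spec.map (CommRingCat.ofHom (IsLocalRing.residue R))) := inferInstance
  exact IsProper.of_comp Γ.curve.hom (Spec.map (CommRingCat.ofHom (IsLocalRing.residue R)))

lemma inter_eq_deg [IsProper X.hom] (L : X.left.Modules) :
    ArSurf.inter R X L Γ = Curv2.deg kR Γ.curve.left ((Scheme.Modules.pullback Γ.ι).obj L) 1 := by
  haveI : IsProper (Γ.curve.left ↘ Spec (CommRingCat.of kR)) := isProper_hom Γ
  have hd : topologicalKrullDim Γ.curve.left ≤ 1 := le_of_eq Γ.dim_eq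
  unfold ArSurf.inter ArSurf.curveDeg Curv2.deg
  rw [Groth.EulerDeg.euler_eq_h0_sub_h1 _ _ hd, Groth.EulerDeg.euler_eq_h0_sub_h1 _ _ hd]
  simp [FGA.eulerCharLE, Finset.sum_range_succ]
  ring

/-- The scheme-theoretic intersection, as an ideal sheaf on the first curve. -/
noncomputable def interIdeal : Γ.curve.left.IdealSheafData := Γ'.ι.ker.comap Γ.ι

lemma isEffCartier_interIdeal (hI : BlowUp.IsEffCartierIdeal Γ'.ι.ker)
    (h : Models.genPtOf R X Γ ∉ Γ'.ι.ker.support) :
    BlowUp.IsEffCartierIdeal (interIdeal Γ Γ') := by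
  haveI : IsIntegral Γ.curve.left := Γ.isIntegral
  refine Groth.Divisors.isEffCartierIdeal_comap_reduced Γ.ι hI fun ξ hξ => ?_
  rw [← hξ _ (genericPoint_specializes ξ)]
  exact h

/-- The restriction of `O(Γ')` to `Γ` is inverse to the ideal of `Γ ∩ Γ'`. -/
lemma isInverseOf_pullback (hI : BlowUp.IsEffCartierIdeal Γ'.ι.ker)
    (h : Models.genPtOf R X Γ ∉ Γ'.ι.ker.support) {L : X.left.Modules}
    (hL : ClSub.IsInverseOf L (ClSub.idealMod Γ'.ι.ker)) :
    PicF.IsInvertible ((Scheme.Modules.pullback Γ.ι).obj L) ∧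
      ClSub.IsInverseOf ((Scheme.Modules.pullback Γ.ι).obj L) (ClSub.idealMod (interIdeal Γ Γ')) := by
  obtain ⟨e⟩ := Groth.PicAux.isInverseOf_pullback Γ.ι hL
  obtain ⟨p⟩ := Groth.PicAux.pullback_idealMod Γ.ι hI (isEffCartier_interIdeal Γ Γ' hI h)
  refine ⟨(Groth.PicAux.isInvertible_left_of_isInverseOf (L := (Scheme.Modules.pullback Γ.ι).obj L)
    ⟨e⟩).1, ⟨?_ ≪≫ e⟩⟩
  exact PicGrp.tensorModIso (Iso.refl _) p.symm

/-- The dimension of the space of global functions of a scheme over a field. -/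
noncomputable def dimGl {k : Type u} [Field k] {Z : Scheme.{u}} (g : Z ⟶ Spec (CommRingCat.of k)) : ℕ :=
  letI := (DVRFibre.gl g).toAlgebra
  Module.finrank k Γ(Z, ⊤)

lemma dimGl_congr {k : Type u} [Field k] {Z Z' : Scheme.{u}} (e : Z ≅ Z')
    (g : Z ⟶ Spec (CommRingCat.of k)) (g' : Z' ⟶ Spec (CommRingCat.of k)) (h : e.hom ≫ g' = g) :
    dimGl g = dimGl g' := by
  letI := (DVRFibre.gl g).toAlgebra
  letI := (DVRFibre.gl g').toAlgebra
  haveI : IsIso (e.hom.appTop) := inferInstanceAs (IsIso (e.hom.app ⊤))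
  let φ : Γ(Z', ⊤) ≃+* Γ(Z, ⊤) := (asIso e.hom.appTop).commRingCatIsoToRingEquiv
  have hφ : ∀ r : k, φ (Coh.toGlobal g' r) = Coh.toGlobal g r := fun r => by
    subst h
    change e.hom.appTop (g'.appTop ((Scheme.ΓSpecIso (CommRingCat.of k)).inv r)) =
      (e.hom ≫ g').appTop ((Scheme.ΓSpecIso (CommRingCat.of k)).inv r)
    rw [Scheme.Hom.comp_appTop]
    rfl
  exact (AlgEquiv.ofRingEquiv (f := φ) hφ).toLinearEquiv.finrank_eq.symm

lemma finrank_quotMod {k : Type u} [Field k] {Y : Scheme.{u}} [Y.Over (Spec (CommRingCat.of k))]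
    (D : Y.IdealSheafData) :
    Module.finrank k (Coh.HH Y (ClSub.quotMod D) 0) =
      dimGl (D.subschemeι ≫ (Y ↘ Spec (CommRingCat.of k))) := by
  let pY := Y ↘ Spec (CommRingCat.of k)
  letI := (DVRFibre.gl (D.subschemeι ≫ pY)).toAlgebra
  let eS := Groth.CohFin.equivSections pY (ClSub.quotMod D)
  let sec : Groth.CohFin.HA pY (ClSub.quotMod D) 0 ≃ₗ[k] Γ(D.subscheme, ⊤) :=
    { toFun := fun x => (eS x : Γ(ClSub.quotMod D, ⊤))
      invFun := fun s => eS.symm (s : Γ(ClSub.quotMod D, ⊤))
      left_inv := eS.symm_apply_apply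
      right_inv := eS.apply_symm_apply
      map_add' := eS.map_add
      map_smul' := fun r x => by
        refine (Groth.CohFin.equivSections_smul pY (ClSub.quotMod D) r x).trans ?_
        let y : Γ(D.subscheme, ⊤) := eS x
        refine congrArg (fun a : Γ(D.subscheme, ⊤) => a * y) ?_
        change D.subschemeι.app ⊤ (pY.appTop ((Scheme.ΓSpecIso (CommRingCat.of k)).inv r)) =
          (D.subschemeι ≫ pY).appTop ((Scheme.ΓSpecIso (CommRingCat.of k)).inv r)
        rw [Scheme.Hom.comp_appTop]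
        rfl }
  exact sec.finrank_eq

/-- `h⁰(O_{Γ ∩ Γ'})` is symmetric. -/
theorem dim_interIdeal_comm :
    Module.finrank kR (Coh.HH Γ.curve.left (ClSub.quotMod (interIdeal Γ Γ')) 0) =
      Module.finrank kR (Coh.HH Γ'.curve.left (ClSub.quotMod (interIdeal Γ' Γ)) 0) := by
  -- the intersection as a fibre product of the two curves
  have key : ∀ A B : ArSurf.VertComp R X,
      Module.finrank kR (Coh.HH A.curve.left (ClSub.quotMod (interIdeal A B)) 0) =
        dimGl (pullback.fst A.ι B.ι ≫ A.curve.hom) := by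
    intro A B
    rw [finrank_quotMod]
    refine dimGl_congr
      ((B.ι.ker.comapIso A.ι) ≪≫ asIso (pullback.map A.ι B.ι.ker.subschemeι A.ι B.ι (𝟙 _)
        (inv B.ι.toImage) (𝟙 _) (by simp)
        (by rw [Category.comp_id, IsIso.eq_inv_comp]; exact B.ι.toImage_imageι))) _ _ ?_
    rw [Iso.trans_hom, asIso_hom, ← Category.assoc, Category.assoc (B.ι.ker.comapIso A.ι).hom,
      pullback.lift_fst, Category.comp_id]
    exact congrArg (· ≫ A.curve.hom) (Scheme.IdealSheafData.comapIso_hom_fst _ _)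
  rw [key Γ Γ', key Γ' Γ]
  refine dimGl_congr (pullbackSymmetry Γ.ι Γ'.ι) _ _ ?_
  rw [← Category.assoc, pullbackSymmetry_hom_comp_fst]
  haveI : Mono (Spec.map (CommRingCat.ofHom (IsLocalRing.residue R))) := by
    haveI : IsClosedImmersion (Spec.map (CommRingCat.ofHom (IsLocalRing.residue R))) :=
      IsClosedImmersion.spec_of_surjective _ IsLocalRing.residue_surjective
    infer_instance
  rw [← cancel_mono (Spec.map (CommRingCat.ofHom (IsLocalRing.residue R))), Category.assoc,
    Category.assoc, ← Γ.w, ← Γ'.w, pullback.condition_assoc]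

/-- Two disjoint components have empty intersection, and conversely. -/
lemma isEmpty_interIdeal_iff :
    IsEmpty (interIdeal Γ Γ').subscheme ↔ Disjoint (Set.range Γ.ι.base) (Set.range Γ'.ι.base) := by
  have h : ∀ y, y ∈ (interIdeal Γ Γ').support ↔ Γ.ι.base y ∈ Set.range Γ'.ι.base := fun y => by
    rw [interIdeal, Scheme.IdealSheafData.support_comap, ← Inter.support_ker Γ']
    rfl
  constructor
  · intro he
    rw [Set.disjoint_left]
    rintro _ ⟨y, rfl⟩ hy
    obtain ⟨z, -⟩ : y ∈ Set.range (interIdeal Γ Γ').subschemeι := by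
      rw [Scheme.IdealSheafData.range_subschemeι]
      exact (h y).2 hy
    exact he.false z
  · intro hd
    refine ⟨fun z => Set.disjoint_left.1 hd ⟨(interIdeal Γ Γ').subschemeι z, rfl⟩ ((h _).1 ?_)⟩
    have : (interIdeal Γ Γ').subschemeι z ∈ Set.range (interIdeal Γ Γ').subschemeι := ⟨z, rfl⟩
    rwa [Scheme.IdealSheafData.range_subschemeι] at this

end Groth.ModelsGraphs.InterPair
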