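import Groth.Agent.ModelsGraphs.InterForm
import Groth.Agent.PicAux.Powers
import Groth.Agent.PicAux.EffCartierSection
import Groth.Agent.PicAux.Pullback
import Groth.Agent.QCohMod.QCQS
import Groth.Prelude.Def_FGA

/-!
# Invertible modules supported on the closed fibre of a regular model

Effective Cartier divisors supported on the closed fibre are sums of components; the relations between
the `O(Γ_i)` are the multiples of the closed fibre, and they generate the invertible modules trivial
on the generic fibre.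
-/

set_option autoImplicit false

universe u

open CategoryTheory CategoryTheory.Limits AlgebraicGeometry TopologicalSpace
open Groth.DivisorLength (eta)

namespace Groth.ModelsGraphs.InterPic

open Groth.ModelsGraphs.Inter

variable {R : Type u} [CommRing R] [IsDomain R] [IsDiscreteValuationRing R]
  {X : Over (Spec (CommRingCat.of R))} {n : ℕ} {Γs : Fin n → ArSurf.VertComp R X}

section Cartier

variable [Flat X.hom] [IsLocallyNoetherian X.left] [CompactSpace X.left]

/-- An effective Cartier divisor supported in the closed fibre is a sum of components. -/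
theorem exists_eq_prod (hreg : Models.IsRegularScheme X.left) (hΓ : Models.IsComponentList R X Γs)
    (I : X.left.IdealSheafData) (hI : BlowUp.IsEffCartierIdeal I)
    (hsupp : ∀ x ∈ I.support, x ∈ Models.specialFibreSet R X) :
    ∃ b : Fin n → ℕ, I = ∏ i, (Γs i).ι.ker ^ b i := by
  let D : Fin n → X.left.IdealSheafData := fun i => (Γs i).ι.ker
  have hD : ∀ i, BlowUp.IsEffCartierIdeal (D i) := fun i => isEffCartier hreg (range_mem hΓ i)
  have hη : ∀ i, eta (D i) = Models.genPtOf R X (Γs i) := fun i => eta_ker _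
  choose Wi hWi ti ni htI hdivi hmemi using fun i =>
    Groth.DivisorLength.exists_order I (D i) (hD i)
      (fun ζ hζ => Groth.Divisors.not_mem_support_of_maximal hI hζ)
  refine ⟨ni, ?_⟩
  have hinj : ∀ i ∈ (Finset.univ : Finset (Fin n)), ∀ j ∈ (Finset.univ : Finset (Fin n)),
      eta (D i) = eta (D j) → i = j := fun i _ j _ h =>
    genPtOf_inj hΓ (by rwa [hη, hη] at h)
  have hle : I ≤ ∏ i, D i ^ ni i := Groth.DivisorLength.le_prod I D hD ni Finset.univ hinj
    fun i _ => ⟨Wi i, hWi i, ti i, htI i, hdivi i⟩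
  have hoff : ∀ j, ∀ k ∈ (Finset.univ : Finset (Fin n)), k ≠ j → eta (D j) ∉ (D k).support :=
    fun j k _ hkj => by rw [hη]; exact notMem_support_of_ne hΓ (Ne.symm hkj)
  choose V hηV hV using fun j => Groth.DivisorLength.exists_eq_near I D hD ni Finset.univ hle
    (Finset.mem_univ j) (hoff j) (Wi j) (hWi j) (ti j) (htI j) (hmemi j)
  refine le_antisymm hle ?_
  have key : ∀ x : X.left, ∃ W : X.left.affineOpens, x ∈ W.1 ∧
      (∏ i, D i ^ ni i).ideal W ≤ I.ideal W := by
    intro x
    let D' : Option (Fin n) → X.left.IdealSheafData := fun o => o.elim I D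
    have hD' : ∀ o, BlowUp.IsEffCartierIdeal (D' o) := by
      rintro (_ | i)
      · exact hI
      · exact hD i
    obtain ⟨W, hxW, -, hW⟩ := Groth.DivisorLength.exists_chart D' hD' Finset.univ x ⊤ trivial
    choose g hg hgI hgu using fun o => hW o (Finset.mem_univ o)
    refine ⟨W, hxW, ?_⟩
    set G := ∏ i, g (some i) ^ ni i
    have hIW : I.ideal W = Ideal.span {g none} := hgI none
    have hPW : (∏ i, D i ^ ni i).ideal W = Ideal.span {G} := by
      rw [Groth.DivisorLength.ideal_prod, ← Ideal.prod_span_singleton]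
      exact Finset.prod_congr rfl fun i _ => by
        rw [show (D i).ideal W = Ideal.span {g (some i)} from hgI (some i), Ideal.span_singleton_pow]
    obtain ⟨h, hh⟩ : G ∣ g none := by
      rw [← Ideal.mem_span_singleton, ← hPW]
      exact hle W (hIW.symm ▸ Ideal.mem_span_singleton_self _)
    haveI := IsLocallyNoetherian.component_noetherian W
    have hu : IsUnit h := by
      by_contra hu
      obtain ⟨z, hzW, hz⟩ : ∃ (z : X.left) (hz : z ∈ W.1),
          ¬ IsUnit (X.left.presheaf.germ W.1 z hz h) := by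
        by_contra! hall
        exact hu (RingedSpace.isUnit_of_isUnit_germ X.left.toRingedSpace W.1 h hall)
      haveI := hreg z
      haveI := isDomain_stalk hreg z
      obtain ⟨q, hq⟩ := Ideal.nonempty_minimalPrimes
        (I := Ideal.span {X.left.presheaf.germ W.1 z hzW h})
        (fun h1 => hz (Ideal.span_singleton_eq_top.1 h1))
      haveI := hq.1.1
      have hq1 := Ideal.height_le_one_of_isPrincipal_of_mem_minimalPrimes _ _ hq
      obtain ⟨y, hy, hu', hdim⟩ := Groth.RefRank.exists_generization_of_prime q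
      have hyW : y ∈ W.1 := hy.mem_open W.1.2 hzW
      have hyh : ¬ IsUnit (X.left.presheaf.germ W.1 y hyW h) := fun h1 => by
        rw [← Groth.RefRank.rspec_germ hy hzW, hu'] at h1
        exact h1 (hq.1.2 (Ideal.mem_span_singleton_self _))
      have hyS : y ∈ Models.specialFibreSet R X := by
        refine hsupp y ?_
        by_contra hns
        rw [Groth.Divisors.not_mem_support_iff hIW hyW, hh, map_mul] at hns
        exact hyh (isUnit_of_mul_isUnit_right hns)
      obtain ⟨i, hi⟩ := exists_specializes hΓ hyS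
      have hiy : y = Models.genPtOf R X (Γs i) := by
        by_contra hne
        have hiW : Models.genPtOf R X (Γs i) ∈ W.1 := hi.mem_open W.1.2 hyW
        have hlt : (W.2.primeIdealOf ⟨_, hiW⟩).asIdeal < (W.2.primeIdealOf ⟨y, hyW⟩).asIdeal :=
          lt_of_le_of_ne ((Groth.DivisorLength.specializes_iff hiW hyW).1 hi)
            fun h1 => hne (Groth.DivisorLength.eq_of_primeIdealOf_eq hiW hyW h1).symm
        have h1 := Ideal.height_strict_mono_of_isPrime_of_isPrime hlt
        have h2 := Groth.DivisorLength.dim_stalk hiW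
        rw [dim_stalk_genPtOf hreg (range_mem hΓ i)] at h2
        rw [Groth.DivisorLength.dim_stalk hyW] at hdim
        rw [← WithBot.coe_one, WithBot.coe_inj] at h2
        rw [WithBot.coe_inj] at hdim
        exact absurd (h1.trans_le (hdim.le.trans hq1)) (h2 ▸ lt_irrefl _)
      haveI := hreg y
      haveI := isDomain_stalk hreg y
      have hyV : y ∈ (V i).1 := hiy ▸ hη i ▸ hηV i
      have h1 : Ideal.span {X.left.presheaf.germ W.1 y hyW G} =
          Ideal.span {X.left.presheaf.germ W.1 y hyW G * X.left.presheaf.germ W.1 y hyW h} := by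
        have e1 : (I.ideal W).map (X.left.presheaf.germ W.1 y hyW).hom =
            ((∏ i, D i ^ ni i).ideal W).map (X.left.presheaf.germ W.1 y hyW).hom := by
          rw [Groth.DivisorLength.map_germ_eq I hyW hyV, ← hV i,
            Groth.DivisorLength.map_germ_eq _ hyV hyW]
        rw [hIW, hPW, Ideal.map_span, Ideal.map_span, Set.image_singleton, Set.image_singleton, hh,
          map_mul] at e1
        exact e1.symm
      obtain ⟨c, hc⟩ := Ideal.mem_span_singleton.1 (h1.le (Ideal.mem_span_singleton_self _))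
      have hG0 : X.left.presheaf.germ W.1 y hyW G ≠ 0 := fun h0 => by
        have := (mem_nonZeroDivisors_iff_right.mp
          ((Groth.Divisors.isNzdSec_of_mem W.2 (hg none)) y hyW)) 1 (by rw [hh, map_mul, h0, zero_mul, mul_zero])
        exact one_ne_zero this
      rw [mul_assoc] at hc
      exact hyh (IsUnit.of_mul_eq_one c (mul_left_cancel₀ hG0 (hc.symm.trans (mul_one _).symm)))
    rw [hPW, hIW, hh, Ideal.span_singleton_mul_right_unit hu]
  choose W hxW hW using key
  exact Scheme.IdealSheafData.le_of_iSup_eq_top W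
    (top_le_iff.1 fun x _ => Opens.mem_iSup.2 ⟨x, hxW x⟩) hW

omit [CompactSpace X.left] in
/-- The exponents in a sum of components are determined. -/
theorem prod_inj (hreg : Models.IsRegularScheme X.left) (hΓ : Models.IsComponentList R X Γs)
    (e e' : Fin n → ℕ) (h : ∏ i, (Γs i).ι.ker ^ e i = ∏ i, (Γs i).ι.ker ^ e' i) : e = e' := by
  let D : Fin n → X.left.IdealSheafData := fun i => (Γs i).ι.ker
  funext j
  set ξ := Models.genPtOf R X (Γs j)
  obtain ⟨W, hξW, -⟩ := Groth.Divisors.exists_affine_le ξ ⊤ trivial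
  haveI := hreg ξ
  haveI := isDomain_stalk hreg ξ
  have hηW : eta (D j) ∈ W.1 := by rw [eta_ker]; exact hξW
  have hm : ((D j).ideal W).map (X.left.presheaf.germ W.1 ξ hξW).hom =
      IsLocalRing.maximalIdeal (X.left.presheaf.stalk ξ) := by
    letI := X.left.presheaf.algebra_section_stalk ⟨ξ, hξW⟩
    haveI := W.2.isLocalization_stalk ⟨ξ, hξW⟩
    have hp : (W.2.primeIdealOf ⟨ξ, hξW⟩).asIdeal = (D j).ideal W := by
      rw [← Groth.DivisorLength.primeIdealOf_eta (D j) hηW]
      congr 2
      exact Subtype.ext (eta_ker _).symm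
    rw [← hp]
    exact IsLocalization.AtPrime.map_eq_maximalIdeal _ _
  have hc : ∀ e : Fin n → ℕ, ((∏ i, D i ^ e i).ideal W).map (X.left.presheaf.germ W.1 ξ hξW).hom =
      IsLocalRing.maximalIdeal (X.left.presheaf.stalk ξ) ^ e j := fun e => by
    rw [Groth.DivisorLength.ideal_prod, ← Ideal.mapHom_apply, map_prod,
      Finset.prod_eq_single j (fun k _ hk => ?_) (fun hn => absurd (Finset.mem_univ j) hn)]
    · rw [Ideal.mapHom_apply, Ideal.map_pow, hm]
    · rw [Ideal.mapHom_apply, Ideal.map_pow]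
      have htop : ((D k).ideal W).map (X.left.presheaf.germ W.1 ξ hξW).hom = ⊤ := by
        by_contra hne
        exact notMem_support_of_ne hΓ (Ne.symm hk)
          ((Groth.RefRank.EffCartierLocal.mem_support_iff_map_germ_ne_top _ hξW).2 hne)
      rw [htop, ← Ideal.one_eq_top, one_pow]
  have h' : IsLocalRing.maximalIdeal (X.left.presheaf.stalk ξ) ^ e j =
      IsLocalRing.maximalIdeal (X.left.presheaf.stalk ξ) ^ e' j := by
    rw [← hc e, ← hc e', show (∏ i, D i ^ e i) = ∏ i, D i ^ e' i from h]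
  have key : ∀ a b : ℕ, a < b → IsLocalRing.maximalIdeal (X.left.presheaf.stalk ξ) ^ a =
      IsLocalRing.maximalIdeal (X.left.presheaf.stalk ξ) ^ b → False := by
    intro a b hab heq
    set m := IsLocalRing.maximalIdeal (X.left.presheaf.stalk ξ)
    have hle : m ^ a ≤ m * m ^ a := by
      rw [← pow_succ']
      exact heq.le.trans (Ideal.pow_le_pow_right hab)
    have h0 : m ^ a = ⊥ := Submodule.eq_bot_of_le_smul_of_le_jacobson_bot m (m ^ a)
      (IsNoetherian.noetherian _) (by rwa [Ideal.smul_eq_mul])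
      (IsLocalRing.maximalIdeal_le_jacobson _)
    have h1 : m = ⊥ := by
      by_contra hne
      exact pow_ne_zero a hne h0
    have h2 := dim_stalk_genPtOf hreg (range_mem hΓ j)
    rw [ringKrullDim_eq_zero_of_isField (IsLocalRing.isField_iff_maximalIdeal_eq.2 h1)] at h2
    exact zero_ne_one h2
  rcases lt_trichotomy (e j) (e' j) with hlt | heq | hgt
  · exact (key _ _ hlt h').elim
  · exact heq
  · exact (key _ _ hgt h'.symm).elim

end Cartier

section Modules

omit [IsDomain R] [IsDiscreteValuationRing R] in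
lemma isInverseOf_congr_right {L M M' : X.left.Modules} (h : ClSub.IsInverseOf L M) (e : M ≅ M') :
    ClSub.IsInverseOf L M' :=
  ⟨PicGrp.tensorModIso (Iso.refl L) e.symm ≪≫ h.some⟩

omit [IsDomain R] [IsDiscreteValuationRing R] in
lemma isInverseOf_unique_left {L L' M : X.left.Modules} (h : ClSub.IsInverseOf L M)
    (h' : ClSub.IsInverseOf L' M) : Nonempty (L ≅ L') :=
  Groth.PicAux.isInverseOf_unique (Groth.PicAux.isInverseOf_symm h) (Groth.PicAux.isInverseOf_symm h')

omit [IsDomain R] [IsDiscreteValuationRing R] in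
lemma nonempty_idealMod_one :
    Nonempty (ClSub.idealMod (1 : X.left.IdealSheafData) ≅ Coh.structureModule X.left) := by
  have h1 : BlowUp.IsEffCartierIdeal (1 : X.left.IdealSheafData) :=
    Groth.Divisors.isEffCartierIdeal_top
  obtain ⟨e⟩ := Groth.PicAux.idealMod_mul h1 h1
  rw [mul_one] at e
  obtain ⟨M, -, hM⟩ := Groth.PicAux.exists_isInverseOf (Groth.PicAux.isInvertible_idealMod h1)
  obtain ⟨t⟩ := Groth.PicAux.isInverseOf_symm hM
  let A := ClSub.idealMod (1 : X.left.IdealSheafData)
  obtain ⟨lu, -⟩ := Groth.PicAux.exists_leftUnitor A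
  exact ⟨lu.symm ≪≫ PicGrp.tensorModIso t.symm (Iso.refl A) ≪≫
    (Groth.PicAux.exists_associator M A A).choose ≪≫ PicGrp.tensorModIso (Iso.refl M) e ≪≫ t⟩

omit [IsDomain R] [IsDiscreteValuationRing R] in
lemma nonempty_idealMod_pow {I : X.left.IdealSheafData} (hI : BlowUp.IsEffCartierIdeal I) (k : ℕ) :
    Nonempty (CohB1.tensorPow (ClSub.idealMod I) k ≅ ClSub.idealMod (I ^ k)) := by
  induction k with
  | zero =>
    rw [pow_zero]
    exact ⟨nonempty_idealMod_one.some.symm⟩
  | succ k ih =>
    rw [pow_succ]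
    exact ⟨PicGrp.tensorModIso ih.some (Iso.refl _) ≪≫
      (Groth.PicAux.idealMod_mul (Groth.Divisors.isEffCartierIdeal_pow hI k) hI).some⟩

omit [IsDomain R] [IsDiscreteValuationRing R] in
lemma isEffCartier_prod {ι : Type} (D : ι → X.left.IdealSheafData)
    (hD : ∀ i, BlowUp.IsEffCartierIdeal (D i)) (a : ι → ℕ) :
    ∀ l : List ι, BlowUp.IsEffCartierIdeal (l.map fun i => D i ^ a i).prod
  | [] => Groth.Divisors.isEffCartierIdeal_top
  | i :: l => by
    rw [List.map_cons, List.prod_cons]
    exact Groth.Divisors.isEffCartierIdeal_mul (Groth.Divisors.isEffCartierIdeal_pow (hD i) _)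
      (isEffCartier_prod D hD a l)

omit [IsDomain R] [IsDiscreteValuationRing R] in
lemma isInverseOf_tensorList {ι : Type} (L : ι → X.left.Modules) (D : ι → X.left.IdealSheafData)
    (hD : ∀ i, BlowUp.IsEffCartierIdeal (D i))
    (hL : ∀ i, ClSub.IsInverseOf (L i) (ClSub.idealMod (D i))) (a : ι → ℕ) :
    ∀ l : List ι, ClSub.IsInverseOf (FGA.tensorList (l.map fun i => CohB1.tensorPow (L i) (a i)))
      (ClSub.idealMod (l.map fun i => D i ^ a i).prod)
  | [] => ⟨PicGrp.tensorModIso (Iso.refl _) nonempty_idealMod_one.some ≪≫ SecTwist.unitorR _⟩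
  | i :: l => by
    rw [List.map_cons, List.map_cons, List.prod_cons]
    exact isInverseOf_congr_right
      (Groth.PicAux.isInverseOf_tensorMod
        (isInverseOf_congr_right (Groth.PicAux.isInverseOf_tensorPow (hL i) (a i))
          (nonempty_idealMod_pow (hD i) (a i)).some)
        (isInverseOf_tensorList L D hD hL a l))
      (Groth.PicAux.idealMod_mul (Groth.Divisors.isEffCartierIdeal_pow (hD i) (a i))
        (isEffCartier_prod D hD a l)).some

omit [IsDomain R] [IsDiscreteValuationRing R] in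
/-- `⊗ L_i^{a_i}` is inverse to the ideal of `Σ a_i D_i`. -/
theorem isInverseOf_multiTwist (L : Fin n → X.left.Modules) (D : Fin n → X.left.IdealSheafData)
    (hD : ∀ i, BlowUp.IsEffCartierIdeal (D i))
    (hL : ∀ i, ClSub.IsInverseOf (L i) (ClSub.idealMod (D i))) (a : Fin n → ℕ) :
    BlowUp.IsEffCartierIdeal (∏ i, D i ^ a i) ∧
      ClSub.IsInverseOf (FGA.multiTwist L a) (ClSub.idealMod (∏ i, D i ^ a i)) := by
  rw [Fin.prod_univ_def]
  exact ⟨isEffCartier_prod D hD a _, isInverseOf_tensorList L D hD hL a _⟩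

variable [IsProper X.hom] [Flat X.hom] {L : Fin n → X.left.Modules}
  (hreg : Models.IsRegularScheme X.left) (hΓ : Models.IsComponentList R X Γs)
  (hL : ∀ i, ClSub.IsInverseOf (L i) (ClSub.idealMod (Γs i).ι.ker))

include hreg hΓ hL

/-- Multiples of the closed fibre give isomorphic twists. -/
theorem nonempty_iso_of_eq_add (a b : Fin n → ℕ) (c : ℕ)
    (h : ∀ i, a i = b i + c * Models.mult R X (Γs i)) :
    Nonempty (FGA.multiTwist L a ≅ FGA.multiTwist L b) := by
  haveI : IsLocallyNoetherian X.left := LocallyOfFiniteType.isLocallyNoetherian X.hom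
  haveI : CompactSpace X.left := QuasiCompact.compactSpace_of_compactSpace X.hom
  let D : Fin n → X.left.IdealSheafData := fun i => (Γs i).ι.ker
  have hD : ∀ i, BlowUp.IsEffCartierIdeal (D i) := fun i => isEffCartier hreg (range_mem hΓ i)
  obtain ⟨-, ha⟩ := isInverseOf_multiTwist L D hD hL a
  obtain ⟨hbc, hb⟩ := isInverseOf_multiTwist L D hD hL b
  have hZ : Models.specialFibreIdeal R X = ∏ i, D i ^ Models.mult R X (Γs i) :=
    specialFibreIdeal_eq hreg hΓ
  have hZc : BlowUp.IsEffCartierIdeal (Models.specialFibreIdeal R X) :=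
    hZ ▸ (isInverseOf_multiTwist L D hD hL _).1
  have heq : ∏ i, D i ^ a i = (∏ i, D i ^ b i) * Models.specialFibreIdeal R X ^ c := by
    rw [hZ, ← Finset.prod_pow, ← Finset.prod_mul_distrib]
    exact Finset.prod_congr rfl fun i _ => by rw [← pow_mul, ← pow_add, h i, mul_comm c]
  obtain ⟨e1⟩ := Groth.PicAux.idealMod_mul hbc (Groth.Divisors.isEffCartierIdeal_pow hZc c)
  obtain ⟨e2⟩ := nonempty_idealMod_pow hZc c
  obtain ⟨e3⟩ := Groth.PicAux.nonempty_tensorPow_iso (InterForm.nonempty_idealMod_specialFibre (X := X)).some c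
  obtain ⟨e4⟩ := Groth.PicAux.tensorPow_structure (X := X.left) c
  rw [heq] at ha
  exact isInverseOf_unique_left (isInverseOf_congr_right ha
    (e1.symm ≪≫ PicGrp.tensorModIso (Iso.refl _) (e2.symm ≪≫ e3 ≪≫ e4) ≪≫ SecTwist.unitorR _)) hb

/-- Isomorphic twists differ by a multiple of the closed fibre. -/
theorem exists_eq_mul_of_iso (hH0 : Function.Bijective (Coh.toGlobal X.hom)) (a b : Fin n → ℕ)
    (e : FGA.multiTwist L a ≅ FGA.multiTwist L b) :
    ∃ c : ℤ, ∀ i, (a i : ℤ) - (b i : ℤ) = c * (Models.mult R X (Γs i) : ℤ) := by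
  rcases isEmpty_or_nonempty (Fin n) with he | ⟨⟨i₀⟩⟩
  · exact ⟨0, fun i => isEmptyElim i⟩
  haveI : IsLocallyNoetherian X.left := LocallyOfFiniteType.isLocallyNoetherian X.hom
  haveI : CompactSpace X.left := QuasiCompact.compactSpace_of_compactSpace X.hom
  let D : Fin n → X.left.IdealSheafData := fun i => (Γs i).ι.ker
  have hD : ∀ i, BlowUp.IsEffCartierIdeal (D i) := fun i => isEffCartier hreg (range_mem hΓ i)
  obtain ⟨-, hP⟩ := isInverseOf_multiTwist L D hD hL a
  obtain ⟨-, hQ⟩ := isInverseOf_multiTwist L D hD hL b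
  set P := ∏ i, D i ^ a i with hPdef
  set Q := ∏ i, D i ^ b i with hQdef
  obtain ⟨φ⟩ := Groth.PicAux.isInverseOf_unique hP
    (⟨PicGrp.tensorModIso e (Iso.refl _) ≪≫ hQ.some⟩ :
      ClSub.IsInverseOf (FGA.multiTwist L a) (ClSub.idealMod Q))
  obtain ⟨π, hπ⟩ := IsDiscreteValuationRing.exists_irreducible R
  set N := ∑ i, a i
  set Z := Models.specialFibreIdeal R X with hZdef
  have hZ : Z = ∏ i, D i ^ Models.mult R X (Γs i) := specialFibreIdeal_eq hreg hΓ
  have hZW : ∀ W : X.left.affineOpens, Z.ideal W = Ideal.span {DVRFibre.ψ X.hom W.1 π} :=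
    fun W => CohFlat.ideal_specialFibre X.hom hπ W
  have hle : ∀ W : X.left.affineOpens, (Z ^ N).ideal W ≤ P.ideal W := fun W => by
    rw [hZ, hPdef, ← Finset.prod_pow]
    simp only [← pow_mul]
    rw [Groth.DivisorLength.ideal_prod, Groth.DivisorLength.ideal_prod]
    refine Finset.prod_le_prod' fun i _ => Ideal.pow_le_pow_right ?_
    exact (Finset.single_le_sum (fun j _ => Nat.zero_le (a j)) (Finset.mem_univ i)).trans
      (Nat.le_mul_of_pos_left N (InterForm.mult_pos hreg (range_mem hΓ i)))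
  -- `π ^ N` as a section of the ideal `P`
  have hx : P.subschemeι.app ⊤ (Coh.toGlobal X.hom (π ^ N)) = 0 := by
    refine TopCat.Sheaf.eq_of_locally_eq' P.subscheme.sheaf
      (fun W : X.left.affineOpens => P.subschemeι ⁻¹ᵁ W.1) (P.subschemeι ⁻¹ᵁ ⊤)
      (fun W => homOfLE (P.subschemeι.preimage_mono le_top)) ?_ _ _ fun W => ?_
    · intro z _
      obtain ⟨W, hW, -⟩ := Groth.Divisors.exists_affine_le (P.subschemeι z) ⊤ trivial
      exact Opens.mem_iSup.2 ⟨W, hW⟩
    refine Eq.trans ?_ (map_zero _).symm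
    have h1 : DVRFibre.ψ X.hom W.1 (π ^ N) ∈ RingHom.ker (P.subschemeι.app W.1).hom := by
      rw [Scheme.IdealSheafData.ker_subschemeι_app]
      refine hle W ?_
      rw [Scheme.IdealSheafData.ideal_pow, Pi.pow_apply, hZW, map_pow, Ideal.span_singleton_pow]
      exact Ideal.mem_span_singleton_self _
    exact (congr($(P.subschemeι.naturality (homOfLE (le_top : W.1 ≤ ⊤)).op)
      (Coh.toGlobal X.hom (π ^ N)))).symm.trans h1
  obtain ⟨sN, hsN⟩ := Groth.OmegaSheaf.exists_idealSect_eq P ⊤ _ hx
  obtain ⟨β, hβ⟩ := hH0.2 (OmegaSh.idealSect Q ⊤ (φ.hom.app ⊤ sN))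
  -- the linear relation between the two ideals
  have hinjφ : Function.Injective (φ.hom.app ⊤) := fun x y hxy => by
    calc x = φ.inv.app ⊤ (φ.hom.app ⊤ x) := congr(($(φ.hom_inv_id.symm)).app ⊤ x)
      _ = φ.inv.app ⊤ (φ.hom.app ⊤ y) := by rw [hxy]
      _ = y := congr(($(φ.hom_inv_id)).app ⊤ y)
  have hβ0 : β ≠ 0 := fun h0 => by
    have h1 : OmegaSh.idealSect Q ⊤ (φ.hom.app ⊤ sN) = OmegaSh.idealSect Q ⊤ (φ.hom.app ⊤ 0) := by
      rw [← hβ, h0, map_zero, map_zero, map_zero]
      rfl
    have h2 := hinjφ (Groth.OmegaSheaf.idealSect_injective Q ⊤ h1)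
    rw [h2, map_zero] at hsN
    have h3 := congrArg (X.left.presheaf.germ ⊤ (Models.genPtOf R X (Γs i₀)) trivial) hsN
    rw [map_zero] at h3
    exact stalkHom_ne_zero (pow_ne_zero N hπ.ne_zero) _ h3.symm
  have hrel : ∀ W : X.left.affineOpens,
      Ideal.span {DVRFibre.ψ X.hom W.1 (π ^ N)} * Q.ideal W =
        Ideal.span {DVRFibre.ψ X.hom W.1 β} * P.ideal W := by
    intro W
    let sW : Γ(ClSub.idealMod P, W.1) :=
      (ClSub.idealMod P).presheaf.map (homOfLE (le_top : W.1 ≤ ⊤)).op sN
    have h1 : OmegaSh.idealSect P W.1 sW = DVRFibre.ψ X.hom W.1 (π ^ N) := by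
      rw [Groth.OmegaSheaf.idealSect_res P le_top sN, hsN]
      rfl
    have h2 : OmegaSh.idealSect Q W.1 (φ.hom.app W.1 sW) = DVRFibre.ψ X.hom W.1 β := by
      rw [show φ.hom.app W.1 sW = _ from Groth.PicAux.app_res φ.hom (le_top : W.1 ≤ ⊤) sN]
      refine (Groth.OmegaSheaf.idealSect_res Q le_top _).trans ?_
      rw [← hβ]
      rfl
    have hlin : ∀ k : Γ(ClSub.idealMod P, W.1),
        DVRFibre.ψ X.hom W.1 (π ^ N) * OmegaSh.idealSect Q W.1 (φ.hom.app W.1 k) =
          DVRFibre.ψ X.hom W.1 β * OmegaSh.idealSect P W.1 k := fun k => by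
      have e1 : DVRFibre.ψ X.hom W.1 (π ^ N) • k = OmegaSh.idealSect P W.1 k • sW := by
        refine Groth.OmegaSheaf.idealSect_injective P W.1 ?_
        rw [Groth.OmegaSheaf.idealSect_smul, Groth.OmegaSheaf.idealSect_smul, h1, mul_comm]
      have e2 := congrArg (fun z => OmegaSh.idealSect Q W.1 (φ.hom.app W.1 z)) e1
      simp only [Scheme.Modules.Hom.app_smul, Groth.OmegaSheaf.idealSect_smul, h2] at e2
      rw [e2, mul_comm]
    apply le_antisymm
    · rw [Ideal.span_singleton_mul_le_iff]
      intro q hq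
      obtain ⟨k', rfl⟩ := Groth.OmegaSheaf.exists_idealSect Q W hq
      obtain ⟨k, rfl⟩ : ∃ k, φ.hom.app W.1 k = k' :=
        ⟨φ.inv.app W.1 k', congr(($(φ.inv_hom_id)).app W.1 k')⟩
      rw [hlin]
      exact Ideal.mul_mem_mul (Ideal.mem_span_singleton_self _) (Groth.OmegaSheaf.idealSect_mem P W k)
    · rw [Ideal.span_singleton_mul_le_iff]
      intro q hq
      obtain ⟨k, rfl⟩ := Groth.OmegaSheaf.exists_idealSect P W hq
      rw [← hlin]
      exact Ideal.mul_mem_mul (Ideal.mem_span_singleton_self _)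
        (Groth.OmegaSheaf.idealSect_mem Q W _)
  obtain ⟨s, w, hsw⟩ := IsDiscreteValuationRing.eq_unit_mul_pow_irreducible hβ0 hπ
  have hext : Z ^ N * Q = Z ^ s * P := by
    apply Scheme.IdealSheafData.ext
    funext W
    simp only [Scheme.IdealSheafData.ideal_mul, Scheme.IdealSheafData.ideal_pow, Pi.mul_apply,
      Pi.pow_apply, hZW, Ideal.span_singleton_pow, ← map_pow]
    rw [hrel W, hsw, map_mul, Ideal.span_singleton_mul_left_unit (w.isUnit.map _)]
  rw [hZ, hPdef, hQdef, ← Finset.prod_pow, ← Finset.prod_pow, ← Finset.prod_mul_distrib,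
    ← Finset.prod_mul_distrib] at hext
  simp only [← pow_mul, ← pow_add] at hext
  have hexp := prod_inj hreg hΓ _ _ hext
  refine ⟨(N : ℤ) - s, fun i => ?_⟩
  have hi : ((Models.mult R X (Γs i) * N + b i : ℕ) : ℤ) =
      ((Models.mult R X (Γs i) * s + a i : ℕ) : ℤ) := by rw [congrFun hexp i]
  push_cast at hi
  linarith

/-- An invertible module trivial on the generic fibre is a twist by components. -/
theorem exists_multiTwist {C : Scheme.{u}} (f : C ⟶ Spec (CommRingCat.of (FractionRing R)))
    (g : C ⟶ X.left)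
    (hg : IsPullback g f X.hom (Spec.map (CommRingCat.ofHom (algebraMap R (FractionRing R)))))
    (M : X.left.Modules) (hM : PicF.IsInvertible M)
    (htriv : Nonempty ((Scheme.Modules.pullback g).obj M ≅ Coh.structureModule C)) :
    ∃ a b : Fin n → ℕ, Nonempty (CohB1.tensorMod M (FGA.multiTwist L a) ≅ FGA.multiTwist L b) := by
  haveI : IsLocallyNoetherian X.left := LocallyOfFiniteType.isLocallyNoetherian X.hom
  haveI : CompactSpace X.left := QuasiCompact.compactSpace_of_compactSpace X.hom
  haveI : QuasiSeparatedSpace X.left := quasiSeparatedSpace_of_quasiSeparated X.hom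
  let K := FractionRing R
  obtain ⟨π, hπ⟩ := IsDiscreteValuationRing.exists_irreducible R
  let pf : Γ(X.left, ⊤) := Coh.toGlobal X.hom π
  let U : X.left.Opens := X.left.basicOpen pf
  have hUmem : ∀ x, x ∈ U ↔ x ∉ Models.specialFibreSet R X := fun x => by
    rw [mem_specialFibreSet_iff hπ, not_not]
    exact Scheme.mem_basicOpen_top X.left pf x
  haveI : IsLocalization.Away π K := by
    refine IsLocalization.Away.mk π (isUnit_iff_ne_zero.mpr
      ((map_ne_zero_iff _ (IsFractionRing.injective R K)).mpr hπ.ne_zero)) (fun z => ?_)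
      (fun a b h => ⟨0, by rw [IsFractionRing.injective R K h]⟩)
    obtain ⟨a, b, hb, rfl⟩ := IsFractionRing.div_surjective (A := R) z
    obtain ⟨k, w, hw⟩ := IsDiscreteValuationRing.eq_unit_mul_pow_irreducible (nonZeroDivisors.ne_zero hb) hπ
    refine ⟨k, a * ↑w⁻¹, ?_⟩
    have hb0 : algebraMap R K b ≠ 0 :=
      (map_ne_zero_iff _ (IsFractionRing.injective R K)).mpr (nonZeroDivisors.ne_zero hb)
    rw [div_mul_eq_mul_div, div_eq_iff hb0, ← map_pow, ← map_mul, ← map_mul, hw]
    congr 1
    rw [mul_assoc, ← mul_assoc (↑w⁻¹ : R), Units.inv_mul, one_mul]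
  haveI : IsOpenImmersion (Spec.map (CommRingCat.ofHom (algebraMap R K))) :=
    IsOpenImmersion.of_isLocalization π
  haveI : IsOpenImmersion g := MorphismProperty.of_isPullback hg.flip inferInstance
  have hrange : Set.range g = (U : Set X.left) := by
    rw [← hg.isoPullback_hom_fst, Scheme.Hom.comp_base, TopCat.coe_comp, Set.range_comp,
      Set.range_eq_univ.mpr hg.isoPullback.hom.surjective, Set.image_univ,
      Scheme.Pullback.range_fst]
    ext x
    have h1 : x ∈ U ↔ x ∈ X.hom ⁻¹ᵁ (Spec (CommRingCat.of R)).basicOpen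
        ((Scheme.ΓSpecIso (CommRingCat.of R)).inv π) := by
      rw [Scheme.preimage_basicOpen]; rfl
    rw [SetLike.mem_coe, h1, basicOpen_eq_of_affine]
    change X.hom x ∈ Set.range (PrimeSpectrum.comap (algebraMap R K)) ↔ _
    rw [PrimeSpectrum.localization_away_comap_range K π]
    rfl
  -- a generator over the generic fibre, and a global section
  let ec : C ≅ (U : Scheme.{u}) := IsOpenImmersion.isoOfRangeEq g U.ι
    (by rw [hrange, Scheme.Opens.range_ι])
  have hec : ec.inv ≫ g = U.ι := IsOpenImmersion.isoOfRangeEq_inv_fac _ _ _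
  have hMU : Nonempty (M.restrict U.ι ≅ Coh.structureModule (U : Scheme.{u})) := by
    obtain ⟨t⟩ := htriv
    obtain ⟨o⟩ := Groth.PicAux.pullback_structure_iso ec.inv
    exact ⟨(Scheme.Modules.restrictFunctorIsoPullback U.ι).app M ≪≫
      ((Scheme.Modules.pullbackCongr hec.symm).app M) ≪≫
      ((Scheme.Modules.pullbackComp ec.inv g).app M).symm ≪≫
      (Scheme.Modules.pullback ec.inv).mapIso t ≪≫ o⟩
  obtain ⟨e₀, he₀⟩ := (Groth.PicAux.nonempty_restrict_iso_iff U).1 hMU
  haveI : M.IsQuasicoherent := (Groth.EulerDeg.isCoh_of_isInvertible hM).1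
  obtain ⟨k, t, ht⟩ := Groth.QCohMod.exists_pow_smul_eq_res_of_qcqs M (W := ⊤) isCompact_univ
    isQuasiSeparated_univ pf e₀
  have htU : Groth.PicAux.Gen M U (Groth.PicAux.res M le_top t) := by
    have hu : IsUnit (Groth.QCohMod.resFun X.left (X.left.basicOpen_le pf) pf) :=
      RingedSpace.isUnit_res_basicOpen X.left.toRingedSpace pf
    have h1 := he₀.smul_unit (hu.pow k)
    have h2 : Groth.PicAux.res M le_top t =
        Groth.QCohMod.resFun X.left (X.left.basicOpen_le pf) pf ^ k • e₀ := ht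
    rw [h2]
    exact h1
  let s := Groth.PicAux.homOfSection t
  have hgs : Groth.PicAux.gsec s = t := Groth.PicAux.homOfSection_one t
  have hs : Groth.PicAux.RegularSection M s := by
    intro W v hv c hc x hx
    haveI := isDomain_stalk hreg x
    refine mem_nonZeroDivisors_of_ne_zero fun h0 => ?_
    obtain ⟨y, hy, hu, -⟩ := Groth.RefRank.exists_generization_of_prime
      (⊥ : Ideal (X.left.presheaf.stalk x))
    have hyW : y ∈ W := hy.mem_open W.2 hx
    have hyπ : y ∈ U := by
      rw [hUmem, mem_specialFibreSet_iff hπ, not_not]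
      have h1 := (hu (Models.stalkHom R X x π)).2
        (fun h => stalkHom_ne_zero hπ.ne_zero x ((Submodule.mem_bot _).1 h))
      rwa [show Groth.RefRank.rspec hy (Models.stalkHom R X x π) = Models.stalkHom R X y π from
        Groth.RefRank.rspec_germ hy (U := ⊤) trivial (Coh.toGlobal X.hom π)] at h1
    have hWU : W ⊓ U ≤ W := inf_le_left
    have hc' : Groth.PicAux.res M (le_top : W ⊓ U ≤ ⊤) t =
        Groth.PicAux.resX X.left hWU c • Groth.PicAux.res M hWU v := by
      rw [← Groth.PicAux.res_smul, ← hc, Groth.PicAux.res_app_oneSec]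
      exact (congrArg (Groth.PicAux.res M _) hgs.symm).trans (Groth.PicAux.res_app_oneSec s _)
    obtain ⟨d, hd⟩ := (htU.res (inf_le_right : W ⊓ U ≤ U)).exists_coeff le_rfl
      (Groth.PicAux.res M hWU v)
    rw [Groth.PicAux.res_self, Groth.PicAux.res_res, hc', smul_smul] at hd
    have hone : (1 : Γ(X.left, W ⊓ U)) = d * Groth.PicAux.resX X.left hWU c := by
      refine hv.smul_inj hWU ?_
      rw [one_smul]
      exact hd
    have h2 := congrArg (X.left.presheaf.germ (W ⊓ U) y ⟨hyW, hyπ⟩) hone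
    rw [map_one, map_mul] at h2
    have h3 : X.left.presheaf.germ (W ⊓ U) y ⟨hyW, hyπ⟩ (Groth.PicAux.resX X.left hWU c) = 0 := by
      refine (TopCat.Presheaf.germ_res_apply X.left.presheaf (homOfLE hWU) y ⟨hyW, hyπ⟩ c).trans ?_
      rw [← Groth.RefRank.rspec_germ hy hx, h0, map_zero]
    rw [h3, mul_zero] at h2
    exact one_ne_zero h2
  have hI := Groth.PicAux.isEffCartierIdeal_zeroScheme hM hs
  have hinv := Groth.PicAux.isInverseOf_zeroScheme hM hs
  have hsupp : ∀ x ∈ (PicF2.zeroScheme M s).support, x ∈ Models.specialFibreSet R X := by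
    intro x hx
    by_contra hn
    refine (Groth.PicAux.mem_genLocus_iff_not_mem_support hM s x).1 ?_ hx
    exact (Groth.PicAux.le_genLocus_iff s U).2 (hgs.symm ▸ htU) ((hUmem x).2 hn)
  obtain ⟨b, hb⟩ := exists_eq_prod hreg hΓ _ hI hsupp
  let D : Fin n → X.left.IdealSheafData := fun i => (Γs i).ι.ker
  have hD : ∀ i, BlowUp.IsEffCartierIdeal (D i) := fun i => isEffCartier hreg (range_mem hΓ i)
  obtain ⟨-, hLb⟩ := isInverseOf_multiTwist L D hD hL b
  obtain ⟨-, hL0⟩ := isInverseOf_multiTwist L D hD hL (fun _ => 0)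
  rw [hb] at hinv
  obtain ⟨e⟩ := isInverseOf_unique_left hinv hLb
  have h00 : ClSub.IsInverseOf (Coh.structureModule X.left) (ClSub.idealMod (∏ i, D i ^ 0)) := by
    rw [show (∏ i, D i ^ 0) = (1 : X.left.IdealSheafData) from
      Finset.prod_eq_one fun i _ => pow_zero _]
    exact ⟨PicGrp.tensorModIso (Iso.refl _) nonempty_idealMod_one.some ≪≫ SecTwist.unitorR _⟩
  obtain ⟨e0⟩ := isInverseOf_unique_left hL0 h00
  exact ⟨fun _ => 0, b, ⟨PicGrp.tensorModIso e e0 ≪≫ SecTwist.unitorR _⟩⟩

end Modules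

end Groth.ModelsGraphs.InterPic
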