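import Groth.Agent.ModelsGraphs.InterLattice
import Groth.Agent.PicAux.UFDExtend

/-!
# Invertible classes on the generic fibre extend to a regular model
-/

set_option autoImplicit false
set_option backward.isDefEq.respectTransparency.types false

universe u

open CategoryTheory CategoryTheory.Limits AlgebraicGeometry TopologicalSpace
open Groth.Abvar.PicCalc
open scoped Groth.Abvar.PicCalc

namespace Groth.ModelsGraphs.InterLattice

variable {R : Type u} [CommRing R] [IsDomain R] [IsDiscreteValuationRing R]
  {X : Over (Spec (CommRingCat.of R))} {n : ℕ}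

/-- Restriction to the generic fibre is surjective on Picard groups. -/
theorem Sit.pull_surjective (S : Sit X n) {C : Scheme.{u}}
    (f : C ⟶ Spec (CommRingCat.of (FractionRing R))) (g : C ⟶ X.left)
    (hg : IsPullback g f X.hom (Spec.map (CommRingCat.ofHom (algebraMap R (FractionRing R))))) :
    Function.Surjective (pull g) := by
  haveI := S.proper
  haveI : IsLocallyNoetherian X.left := LocallyOfFiniteType.isLocallyNoetherian X.hom
  obtain ⟨π, hπ⟩ := IsDiscreteValuationRing.exists_irreducible R
  haveI : IsLocalization.Away π (FractionRing R) := by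
    refine IsLocalization.Away.mk π (isUnit_iff_ne_zero.mpr
      ((map_ne_zero_iff _ (IsFractionRing.injective R _)).mpr hπ.ne_zero)) (fun z => ?_)
      (fun a b h => ⟨0, by rw [IsFractionRing.injective R (FractionRing R) h]⟩)
    obtain ⟨a, b, hb, rfl⟩ := IsFractionRing.div_surjective (A := R) z
    obtain ⟨k, w, hw⟩ := IsDiscreteValuationRing.eq_unit_mul_pow_irreducible (nonZeroDivisors.ne_zero hb) hπ
    refine ⟨k, a * ↑w⁻¹, ?_⟩
    have hb0 : algebraMap R (FractionRing R) b ≠ 0 :=
      (map_ne_zero_iff _ (IsFractionRing.injective R _)).mpr (nonZeroDivisors.ne_zero hb)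
    rw [div_mul_eq_mul_div, div_eq_iff hb0, ← map_pow, ← map_mul, ← map_mul, hw]
    congr 1
    rw [mul_assoc, ← mul_assoc (↑w⁻¹ : R), Units.inv_mul, one_mul]
  haveI : IsOpenImmersion (Spec.map (CommRingCat.ofHom (algebraMap R (FractionRing R)))) :=
    IsOpenImmersion.of_isLocalization π
  haveI : IsOpenImmersion g := MorphismProperty.of_isPullback hg.flip inferInstance
  intro c
  obtain ⟨M, hM, rfl⟩ := PicGrp.exists_eq_cls c
  have hM' : PicF.IsInvertible ((Scheme.Modules.pullback g.isoOpensRange.inv).obj M) :=
    PicLoc.isInvertible_pullback _ hM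
  obtain ⟨L, hL, ⟨e⟩⟩ := Groth.PicAux.exists_extension_module g.opensRange _ hM'
    fun x _ => haveI := S.reg x; (Groth.Agent.S2821.result (X.left.presheaf.stalk x)).2
  refine ⟨cls hL, ?_⟩
  change pull g (cls hL) = cls hM
  have h1 : pull g.opensRange.ι (cls hL) = pull g.isoOpensRange.inv (cls hM) := by
    rw [pull_cls, pull_cls, ← nonempty_iso_iff]
    exact ⟨((Scheme.Modules.restrictFunctorIsoPullback _).app L).symm ≪≫ e⟩
  conv_lhs => rw [← Scheme.Hom.isoOpensRange_hom_ι g, pull_comp, h1, ← pull_comp, Iso.hom_inv_id, pull_id]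

end Groth.ModelsGraphs.InterLattice
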