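import Groth.Agent.ModelsGraphs.InterLattice

/-!
# Torsion classes on a regular model and the vertical lattice
-/

set_option autoImplicit false

universe u

open CategoryTheory CategoryTheory.Limits AlgebraicGeometry TopologicalSpace
open Groth.Abvar.PicCalc
open scoped Groth.Abvar.PicCalc

namespace Groth.ModelsGraphs.InterTorsion

open Groth.ModelsGraphs.InterLattice

variable {R : Type u} [CommRing R] [IsDomain R] [IsDiscreteValuationRing R]
  {X : Over (Spec (CommRingCat.of R))} {n : ℕ} (S : Sit X n)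
  {C : Scheme.{u}} (f : C ⟶ Spec (CommRingCat.of (FractionRing R))) (g : C ⟶ X.left)
  (hg : IsPullback g f X.hom (Spec.map (CommRingCat.ofHom (algebraMap R (FractionRing R)))))

include hg

/-- Degree zero and trivial on the generic fibre: killed by `d`. -/
theorem pow_gcd_eq_one {M : X.left.Modules} (hM : PicF.IsInvertible M) (h : pull g (cls hM) = 1)
    (hdeg : ∀ i, ArSurf.inter R X M (S.Γs i) = 0) :
    cls hM ^ Models.multGcd R X S.Γs = 1 := by
  obtain ⟨z, hz⟩ := S.exists_eq_vtw f g hg hM h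
  obtain ⟨k, hk⟩ := S.exists_gcd_mul z fun i => by rw [← S.inter_eq_sum hM hz i, hdeg]
  rw [hz, ← S.vtw_nsmul, S.vtw_eq_one_iff]
  exact ⟨k, hk⟩

/-- `h`-torsion classes trivial on the generic fibre are the multiples of `(1/e) X_s`. -/
theorem exists_eq_vtw_of_pow_eq_one [Nonempty C] {M : X.left.Modules} (hM : PicF.IsInvertible M) {h : ℕ}
    (hh : 0 < h) (htriv : pull g (cls hM) = 1) (htors : cls hM ^ h = 1) :
    ∃! k : ℕ, k < Nat.gcd h (Models.multGcd R X S.Γs) ∧
      cls hM = S.vtw fun i => ((k * (S.m i / Nat.gcd h (Models.multGcd R X S.Γs)) : ℕ) : ℤ) := by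
  set d := Models.multGcd R X S.Γs
  set e := Nat.gcd h d
  have he : 0 < e := Nat.gcd_pos_of_pos_left d hh
  have hdvd : ∀ i, ((S.m i / e : ℕ) : ℤ) * (e : ℤ) = (S.m i : ℤ) := fun i => by
    rw [← Nat.cast_mul, Nat.div_mul_cancel ((Nat.gcd_dvd_right h d).trans (S.gcd_dvd i))]
  obtain ⟨z, hz⟩ := S.exists_eq_vtw f g hg hM htriv
  rw [hz, ← S.vtw_nsmul, S.vtw_eq_one_iff] at htors
  obtain ⟨c, hc⟩ := htors
  have hcd : (h : ℤ) ∣ c * (d : ℤ) := by
    obtain ⟨u, hu⟩ := Sit.exists_gcd_mul.exists_int_combination.{u} S.m Finset.univ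
    rw [show (d : ℤ) = ∑ i, u i * (S.m i : ℤ) from hu, Finset.mul_sum]
    refine Finset.dvd_sum fun i _ => ⟨u i * z i, ?_⟩
    rw [mul_left_comm, ← hc i]
    ring
  obtain ⟨h', hh'⟩ := Nat.gcd_dvd_left h d
  obtain ⟨d', hd'⟩ := Nat.gcd_dvd_right h d
  rw [show Nat.gcd h d = e from rfl] at hh' hd'
  have hcop : IsCoprime (h' : ℤ) (d' : ℤ) := by
    have h1 := Nat.coprime_div_gcd_div_gcd (m := h) (n := d) he
    rw [show Nat.gcd h d = e from rfl] at h1
    rw [show h / e = h' by rw [hh', Nat.mul_div_cancel_left _ he],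
      show d / e = d' by rw [hd', Nat.mul_div_cancel_left _ he]] at h1
    exact Nat.isCoprime_iff_coprime.2 h1
  obtain ⟨t, ht⟩ : (h' : ℤ) ∣ c := by
    refine hcop.dvd_of_dvd_mul_right ?_
    obtain ⟨w, hw⟩ := hcd
    refine ⟨w, mul_left_cancel₀ (Int.natCast_ne_zero.2 he.ne') ?_⟩
    have e1 : (h : ℤ) = (e : ℤ) * h' := by exact_mod_cast hh'
    have e2 : (d : ℤ) = (e : ℤ) * d' := by exact_mod_cast hd'
    rw [e1, e2] at hw
    linear_combination hw
  have hzi : ∀ i, z i = t * ((S.m i / e : ℕ) : ℤ) := fun i => by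
    refine mul_left_cancel₀ (Int.natCast_ne_zero.2 hh.ne') ?_
    rw [hc i, ← hdvd i, ht, show (h : ℤ) = (e : ℤ) * h' by exact_mod_cast hh']
    ring
  have key : ∀ k : ℕ, cls hM = S.vtw (fun i => ((k * (S.m i / e) : ℕ) : ℤ)) ↔
      ∃ q : ℤ, t - k = q * e := fun k => by
    rw [hz, ← mul_inv_eq_one, ← S.vtw_neg, ← S.vtw_add, S.vtw_eq_one_iff]
    constructor
    · rintro ⟨q, hq⟩
      refine ⟨q, ?_⟩
      have i : Fin n := ⟨0, S.n_pos g⟩
      have := hq i
      simp only [Pi.add_apply, Pi.neg_apply, hzi, ← hdvd i, Nat.cast_mul] at this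
      have hpos : ((S.m i / e : ℕ) : ℤ) ≠ 0 := fun h0 => by
        have := hdvd i
        rw [h0, zero_mul] at this
        exact (Int.natCast_ne_zero.2 (S.m_pos i).ne') this.symm
      exact mul_right_cancel₀ hpos (by linear_combination this)
    · rintro ⟨q, hq⟩
      refine ⟨q, fun i => ?_⟩
      simp only [Pi.add_apply, Pi.neg_apply, hzi, ← hdvd i, Nat.cast_mul]
      linear_combination ((S.m i / e : ℕ) : ℤ) * hq
  have he' : (0 : ℤ) < e := Int.natCast_pos.2 he
  refine ⟨(t % e).toNat, ⟨?_, (key _).2 ⟨t / e, ?_⟩⟩, fun k hk => ?_⟩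
  · have := Int.emod_lt_of_pos t he'
    have := Int.emod_nonneg t he'.ne'
    omega
  · have := Int.emod_def t (e : ℤ)
    rw [Int.toNat_of_nonneg (Int.emod_nonneg t he'.ne')]
    linarith [mul_comm (t / (e : ℤ)) (e : ℤ)]
  · obtain ⟨q, hq⟩ := (key k).1 hk.2
    have h1 : t % (e : ℤ) = k := by
      rw [show t = (k : ℤ) + q * e by linarith, Int.add_mul_emod_self_right,
        Int.emod_eq_of_lt (Int.natCast_nonneg k) (Int.ofNat_lt.2 hk.1)]
    rw [h1, Int.toNat_natCast]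

/-- The obstruction to lifting torsion classes. -/
theorem lift_iff {h : ℕ} {M : X.left.Modules} (hM : PicF.IsInvertible M) (z : Fin n → ℤ)
    (hz : cls hM ^ h = S.vtw z) :
    (∃ c : PicLoc.PicSet X.left, c ^ h = 1 ∧ pull g c = pull g (cls hM)) ↔
      ∃ (c : Fin n → ℤ) (e : ℤ), ∀ i, z i = (h : ℤ) * c i + e * (S.m i : ℤ) := by
  constructor
  · rintro ⟨c', hc', hp⟩
    obtain ⟨A, hA, rfl⟩ := PicGrp.exists_eq_cls c'
    obtain ⟨B, hB, hB'⟩ := PicGrp.exists_eq_cls (cls hA * (cls hM)⁻¹)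
    obtain ⟨w, hw⟩ := S.exists_eq_vtw f g hg hB (by
      change pull g (PicGrp.cls B hB) = 1
      rw [← hB', map_mul, map_inv]
      exact mul_inv_eq_one.2 hp)
    have h1 : S.vtw (fun i => (h : ℤ) * w i) * S.vtw z = 1 := by
      rw [S.vtw_nsmul, ← hw, show cls hB = cls hA * (cls hM)⁻¹ from hB'.symm, ← hz, ← mul_pow,
        inv_mul_cancel_right, hc']
    rw [← S.vtw_add, S.vtw_eq_one_iff] at h1
    obtain ⟨e, he⟩ := h1
    exact ⟨-w, e, fun i => by have := he i; simp only [Pi.add_apply, Pi.neg_apply] at this ⊢; linarith⟩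
  · rintro ⟨c, e, hce⟩
    refine ⟨cls hM * (S.vtw c)⁻¹, ?_, ?_⟩
    · rw [mul_pow, inv_pow, hz, ← S.vtw_nsmul, ← S.vtw_neg, ← S.vtw_add, S.vtw_eq_one_iff]
      exact ⟨e, fun i => by simp only [Pi.add_apply, Pi.neg_apply]; linarith [hce i]⟩
    · rw [map_mul, map_inv, S.pull_vtw f g hg.w, inv_one, mul_one]

/-- Classes with degree vector in the image of the matrix lift with degree zero. -/
theorem degree_zero_lift_iff {M : X.left.Modules} (hM : PicF.IsInvertible M) :
    (∃ v : Fin n → ℤ, ∀ i, ArSurf.inter R X M (S.Γs i) = ∑ j, ArSurf.inter R X (S.L j) (S.Γs i) * v j) ↔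
      ∃ (M' : X.left.Modules) (hM' : PicF.IsInvertible M'), pull g (cls hM') = pull g (cls hM) ∧
        ∀ i, ArSurf.inter R X M' (S.Γs i) = 0 := by
  constructor
  · rintro ⟨v, hv⟩
    obtain ⟨M', hM', h'⟩ := PicGrp.exists_eq_cls (cls hM * S.vtw (-v))
    obtain ⟨V, hV, hV'⟩ := PicGrp.exists_eq_cls (S.vtw (-v))
    refine ⟨M', hM', ?_, fun i => ?_⟩
    · change pull g (PicGrp.cls M' hM') = _
      rw [← h', map_mul, S.pull_vtw f g hg.w, mul_one]
    · rw [S.inter_mul hM hV hM' (h'.symm.trans (congrArg (cls hM * ·) hV')) i,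
        S.inter_eq_sum hV hV'.symm i, hv i, ← Finset.sum_add_distrib]
      exact Finset.sum_eq_zero fun j _ => by simp only [Pi.neg_apply]; ring
  · rintro ⟨M', hM', hp, hdeg⟩
    obtain ⟨B, hB, hB'⟩ := PicGrp.exists_eq_cls (cls hM * (cls hM')⁻¹)
    obtain ⟨w, hw⟩ := S.exists_eq_vtw f g hg hB (by
      change pull g (PicGrp.cls B hB) = 1
      rw [← hB', map_mul, map_inv, hp, mul_inv_cancel])
    refine ⟨w, fun i => ?_⟩
    have h1 : cls hM = cls hM' * cls hB := by
      rw [show cls hB = cls hM * (cls hM')⁻¹ from hB'.symm, mul_comm (cls hM), mul_inv_cancel_left]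
    rw [S.inter_mul hM' hB hM h1 i, hdeg, zero_add, S.inter_eq_sum hB hw i]

/-- A torsion class with degree vector in the image lifts to a torsion class. -/
theorem torsion_lift {h : ℕ} (hcop : Nat.Coprime h (Models.multGcd R X S.Γs))
    {M : X.left.Modules} (hM : PicF.IsInvertible M) (htors : pull g (cls hM) ^ h = 1)
    (hv : ∃ v : Fin n → ℤ, ∀ i,
      ArSurf.inter R X M (S.Γs i) = ∑ j, ArSurf.inter R X (S.L j) (S.Γs i) * v j) :
    ∃ c : PicLoc.PicSet X.left, c ^ h = 1 ∧ pull g c = pull g (cls hM) := by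
  obtain ⟨M₁, hM₁, hp, hdeg⟩ := (degree_zero_lift_iff S f g hg hM).1 hv
  obtain ⟨z, hz⟩ := S.exists_eq_vtw f g hg (isInvertible_tensorPow hM₁ h)
    (by rw [cls_tensorPow hM₁ h, map_pow, hp, htors])
  obtain ⟨k, hk⟩ := S.exists_gcd_mul z fun i => by
    rw [← S.inter_eq_sum (isInvertible_tensorPow hM₁ h) hz i, S.inter_pow hM₁, hdeg, mul_zero]
  rw [cls_tensorPow hM₁ h] at hz
  rw [← hp]
  refine (lift_iff S f g hg hM₁ z hz).2 ?_
  set d := Models.multGcd R X S.Γs
  obtain ⟨α, β, hab⟩ := Nat.isCoprime_iff_coprime.2 hcop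
  exact ⟨fun i => α * z i, β * k, fun i => by linear_combination β * hk i - z i * hab⟩

end Groth.ModelsGraphs.InterTorsion
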