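import Mathlib

/-! Positive definite integral lattices: orthogonal complements and discriminant groups. -/

namespace Groth.ModelsGraphs.Lattice

open Matrix

variable {L : Type*} [AddCommGroup L] [Module.Finite ℤ L] [Module.Free ℤ L]

/-- A functional on a sublattice is, up to a nonzero multiple, a pairing with an element of it. -/
theorem exists_represent (B : LinearMap.BilinForm ℤ L) (hsymm : ∀ x y, B x y = B y x)
    (hpos : ∀ x, x ≠ 0 → 0 < B x x) (A : Submodule ℤ L) (ψ : Module.Dual ℤ A) :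
    ∃ (c : ℤ) (a : A), c ≠ 0 ∧ ∀ a' : A, B a a' = c * ψ a' := by
  classical
  let b := Module.Free.chooseBasis ℤ A
  let G : Matrix (Module.Free.ChooseBasisIndex ℤ A) (Module.Free.ChooseBasisIndex ℤ A) ℤ :=
    fun i j => B (b i : L) (b j : L)
  have hG : G.det ≠ 0 := fun h => by
    obtain ⟨v, hv, hv0⟩ := Matrix.exists_mulVec_eq_zero_iff.2 h
    let a : A := ∑ i, v i • b i
    have ha : (a : L) ≠ 0 := fun h0 => hv (funext fun i => by
      have h1 : a = 0 := Subtype.ext h0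
      simpa using Fintype.linearIndependent_iff.1 b.linearIndependent v h1 i)
    have h2 := hpos _ ha
    have h3 : B (a : L) (a : L) = ∑ i, v i * (G.mulVec v) i := by
      simp only [a, Submodule.coe_sum, Submodule.coe_smul, map_sum, map_smul, LinearMap.sum_apply,
        LinearMap.smul_apply, smul_eq_mul, Matrix.mulVec, dotProduct, G, Finset.mul_sum]
      rw [Finset.sum_comm]
      exact Finset.sum_congr rfl fun i _ => Finset.sum_congr rfl fun j _ => by ring
    simp [hv0] at h3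
    linarith
  let u := G.adjugate.mulVec fun i => ψ (b i)
  refine ⟨G.det, ∑ i, u i • b i, hG, fun a' => ?_⟩
  have key : ∀ j, B ((∑ i, u i • b i : A) : L) (b j : L) = G.det * ψ (b j) := by
    intro j
    have h1 : (G.mulVec u) j = G.det * ψ (b j) := by
      simp [u, Matrix.mulVec_mulVec, Matrix.mul_adjugate, Matrix.smul_mulVec]
    rw [← h1]
    simp only [Submodule.coe_sum, Submodule.coe_smul, map_sum, map_smul, LinearMap.sum_apply,
      LinearMap.smul_apply, smul_eq_mul, Matrix.mulVec, dotProduct, G]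
    exact Finset.sum_congr rfl fun i _ => by rw [hsymm (b j : L)]; ring
  have h : (B ((∑ i, u i • b i : A) : L)).comp A.subtype = G.det • ψ := b.ext key
  exact LinearMap.congr_fun h a'

omit [Module.Finite ℤ L] [Module.Free ℤ L] in
theorem mem_orth {B : LinearMap.BilinForm ℤ L} {A : Submodule ℤ L} {x : L} :
    x ∈ B.orthogonal A ↔ ∀ a ∈ A, B a x = 0 :=
  LinearMap.BilinForm.mem_orthogonal_iff

/-- Restriction of functionals to a saturated sublattice is surjective. -/
theorem extend_of_saturated (N : Submodule ℤ L) (htf : ∀ (c : ℤ) (x : L), c ≠ 0 → c • x ∈ N → x ∈ N)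
    (ψ : Module.Dual ℤ N) : ∃ φ : Module.Dual ℤ L, φ ∘ₗ N.subtype = ψ := by
  haveI : Module.IsTorsionFree ℤ (L ⧸ N) := by
    refine Module.isTorsionFree_iff_smul_eq_zero.2 fun c x h => ?_
    by_contra hh
    push Not at hh
    obtain ⟨x, rfl⟩ := Submodule.Quotient.mk_surjective N x
    rw [← Submodule.Quotient.mk_smul, Submodule.Quotient.mk_eq_zero] at h
    exact hh.2 ((Submodule.Quotient.mk_eq_zero N).2 (htf c x hh.1 h))
  haveI : Module.Free ℤ (L ⧸ N) := Module.free_of_finite_type_torsion_free'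
  obtain ⟨s, hs⟩ := Module.projective_lifting_property N.mkQ LinearMap.id (Submodule.mkQ_surjective N)
  have hmem : ∀ x, x - s (N.mkQ x) ∈ N := fun x => by
    rw [← Submodule.Quotient.mk_eq_zero, Submodule.Quotient.mk_sub, sub_eq_zero]
    exact (LinearMap.congr_fun hs (N.mkQ x)).symm
  refine ⟨ψ ∘ₗ (LinearMap.id - s ∘ₗ N.mkQ).codRestrict N hmem, LinearMap.ext fun n => ?_⟩
  simp only [LinearMap.comp_apply, Submodule.subtype_apply]
  congr 1
  apply Subtype.ext
  simp [(Submodule.Quotient.mk_eq_zero N).2 n.2]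

theorem orthogonal_sum (B : LinearMap.BilinForm ℤ L) (hsymm : ∀ x y, B x y = B y x)
    (hpos : ∀ x, x ≠ 0 → 0 < B x x)
    (A : Submodule ℤ L) (htf : ∀ (c : ℤ) (x : L), c ≠ 0 → c • x ∈ A → x ∈ A) :
    (∀ x : L, (∃ b ∈ B.orthogonal A, ∀ b' ∈ B.orthogonal A, B x b' = B b b') → x ∈ A ⊔ B.orthogonal A) ∧
      (∀ x : L, (∃ a ∈ A, ∀ a' ∈ A, B x a' = B a a') → x ∈ A ⊔ B.orthogonal A) ∧
      (∀ ψ : Module.Dual ℤ ↥(B.orthogonal A), ∃ φ : Module.Dual ℤ L, φ ∘ₗ (B.orthogonal A).subtype = ψ) ∧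
      (∀ ψ : Module.Dual ℤ ↥A, ∃ φ : Module.Dual ℤ L, φ ∘ₗ A.subtype = ψ) := by
  have hperp : ∀ y, (∀ b' ∈ B.orthogonal A, B y b' = 0) → y ∈ A := by
    intro y hy
    obtain ⟨c, a, hc, ha⟩ := exists_represent B hsymm hpos A ((B y).comp A.subtype)
    have hb : c • y - a ∈ B.orthogonal A := mem_orth.2 fun a' ha' => by
      have h1 := ha ⟨a', ha'⟩
      simp only [LinearMap.comp_apply, Submodule.subtype_apply] at h1
      rw [map_sub, map_smul, smul_eq_mul, hsymm a' y, hsymm a' (a : L), h1, sub_self]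
    refine htf c y hc ?_
    by_contra hne
    have h1 := hpos _ (fun h => hne (by rw [sub_eq_zero.1 h]; exact a.2) : c • y - (a : L) ≠ 0)
    have h2 : B (a : L) (c • y - a) = 0 := (mem_orth.1 hb) _ a.2
    have h3 : B (c • y - a) (c • y - a) = c * B y (c • y - a) - B (a : L) (c • y - a) := by
      simp
    rw [h3, hy _ hb, h2] at h1
    simp at h1
  refine ⟨fun x ⟨b, hb, h⟩ => ?_, fun x ⟨a, ha, h⟩ => ?_, extend_of_saturated _ fun c x hc hx => ?_,
    extend_of_saturated A htf⟩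
  · have := hperp (x - b) fun b' hb' => by simp [h b' hb']
    simpa using Submodule.add_mem_sup this hb
  · have h2 : x - a ∈ B.orthogonal A := mem_orth.2 fun a' ha' => by
      rw [hsymm]; simp [h a' ha']
    simpa using Submodule.add_mem_sup ha h2
  · refine mem_orth.2 fun a ha => ?_
    have := mem_orth.1 hx a ha
    rw [map_smul, smul_eq_mul] at this
    exact (mul_eq_zero.1 this).resolve_left hc

variable {L₁ : Type*} [AddCommGroup L₁] [Module.Finite ℤ L₁] [Module.Free ℤ L₁]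

omit [Module.Finite ℤ L] [Module.Free ℤ L] in
theorem coker_torsion_equiv
    (B₀ : LinearMap.BilinForm ℤ L) (B₁ : LinearMap.BilinForm ℤ L₁) (h₀s : ∀ x y, B₀ x y = B₀ y x)
    (h₁s : ∀ x y, B₁ x y = B₁ y x) (h₁p : ∀ x, x ≠ 0 → 0 < B₁ x x) (huni : Function.Bijective B₀)
    (d : L →ₗ[ℤ] L₁) (ds : L₁ →ₗ[ℤ] L) (hadj : ∀ x y, B₁ (d x) y = B₀ x (ds y)) :
    ∃ Φ : ↥(Submodule.torsion ℤ (L ⧸ LinearMap.range (ds ∘ₗ d))) ≃ₗ[ℤ]
        (Module.Dual ℤ ↥(LinearMap.range d) ⧸
          LinearMap.range ((B₁.compl₂ (LinearMap.range d).subtype) ∘ₗ (LinearMap.range d).subtype)),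
      ∀ (x : L) (hx : Submodule.Quotient.mk x ∈ Submodule.torsion ℤ (L ⧸ LinearMap.range (ds ∘ₗ d)))
        (ψ : Module.Dual ℤ ↥(LinearMap.range d)),
        (∀ y' : L, ψ ⟨d y', LinearMap.mem_range_self d y'⟩ = B₀ x y') →
          Φ ⟨Submodule.Quotient.mk x, hx⟩ = Submodule.Quotient.mk ψ := by
  let e : L ≃ₗ[ℤ] Module.Dual ℤ L := LinearEquiv.ofBijective B₀ huni
  let P : Module.Dual ℤ (LinearMap.range d) →ₗ[ℤ] L := e.symm.toLinearMap ∘ₗ d.rangeRestrict.dualMap
  have hP : ∀ ψ y', B₀ (P ψ) y' = ψ ⟨d y', LinearMap.mem_range_self d y'⟩ := fun ψ y' => by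
    have h : e (P ψ) = d.rangeRestrict.dualMap ψ := e.apply_symm_apply _
    exact LinearMap.congr_fun h y'
  have hdd : ∀ y y', B₀ (ds (d y)) y' = B₁ (d y) (d y') := fun y y' => by
    rw [h₀s, ← hadj, h₁s]
  have htors : ∀ ψ, (Submodule.Quotient.mk (P ψ) : L ⧸ LinearMap.range (ds ∘ₗ d)) ∈ Submodule.torsion ℤ _ := by
    intro ψ
    obtain ⟨c, ⟨a, y, rfl⟩, hc, ha⟩ := exists_represent B₁ h₁s h₁p (LinearMap.range d) ψ
    refine ⟨⟨c, mem_nonZeroDivisors_of_ne_zero hc⟩, ?_⟩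
    show c • (Submodule.Quotient.mk (P ψ) : L ⧸ LinearMap.range (ds ∘ₗ d)) = 0
    rw [← Submodule.Quotient.mk_smul, Submodule.Quotient.mk_eq_zero]
    refine ⟨y, huni.1 (LinearMap.ext fun y' => ?_)⟩
    rw [LinearMap.comp_apply, hdd, map_smul, LinearMap.smul_apply, smul_eq_mul, hP]
    exact ha ⟨d y', LinearMap.mem_range_self d y'⟩
  let Q : Module.Dual ℤ (LinearMap.range d) →ₗ[ℤ] ↥(Submodule.torsion ℤ (L ⧸ LinearMap.range (ds ∘ₗ d))) :=
    ((LinearMap.range (ds ∘ₗ d)).mkQ ∘ₗ P).codRestrict _ htors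
  have hsurj : Function.Surjective Q := by
    rintro ⟨q, hq⟩
    obtain ⟨x, rfl⟩ := Submodule.Quotient.mk_surjective _ q
    obtain ⟨⟨c, hc⟩, hcx⟩ := hq
    change c • (Submodule.Quotient.mk x : L ⧸ LinearMap.range (ds ∘ₗ d)) = 0 at hcx
    rw [← Submodule.Quotient.mk_smul, Submodule.Quotient.mk_eq_zero] at hcx
    obtain ⟨y, hy⟩ := hcx
    have hker : LinearMap.ker d ≤ LinearMap.ker (B₀ x) := fun y' hy' => by
      have h1 := hdd y y'
      rw [LinearMap.mem_ker.1 hy', map_zero, show ds (d y) = c • x from hy, map_smul, LinearMap.smul_apply,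
        smul_eq_mul] at h1
      exact LinearMap.mem_ker.2 ((mul_eq_zero.1 h1).resolve_left (nonZeroDivisors.ne_zero hc))
    let ψ : Module.Dual ℤ (LinearMap.range d) :=
      ((LinearMap.ker d).liftQ (B₀ x) hker) ∘ₗ d.quotKerEquivRange.symm.toLinearMap
    refine ⟨ψ, Subtype.ext ?_⟩
    show Submodule.Quotient.mk (P ψ) = Submodule.Quotient.mk x
    congr 1
    refine huni.1 (LinearMap.ext fun y' => ?_)
    rw [hP]
    show (LinearMap.ker d).liftQ (B₀ x) hker (d.quotKerEquivRange.symm _) = _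
    rw [LinearMap.quotKerEquivRange_symm_apply_image d y' _, Submodule.mkQ_apply, Submodule.liftQ_apply]
  have hkerQ : LinearMap.ker Q =
      LinearMap.range ((B₁.compl₂ (LinearMap.range d).subtype) ∘ₗ (LinearMap.range d).subtype) := by
    ext ψ
    rw [LinearMap.mem_ker, ← Subtype.coe_inj]
    show (Submodule.Quotient.mk (P ψ) : L ⧸ LinearMap.range (ds ∘ₗ d)) = 0 ↔ _
    rw [Submodule.Quotient.mk_eq_zero]
    constructor
    · rintro ⟨y, hy⟩
      refine ⟨⟨d y, LinearMap.mem_range_self d y⟩, LinearMap.ext fun z => ?_⟩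
      obtain ⟨_, y', rfl⟩ := z
      rw [← hP ψ y', ← hy]
      exact (hdd y y').symm
    · rintro ⟨⟨_, y, rfl⟩, rfl⟩
      refine ⟨y, huni.1 (LinearMap.ext fun y' => ?_)⟩
      rw [hP]
      exact hdd y y'
  let Φ := ((Submodule.quotEquivOfEq _ _ hkerQ.symm).trans (Q.quotKerEquivOfSurjective hsurj)).symm
  refine ⟨Φ, fun x hx ψ h => ?_⟩
  rw [LinearEquiv.symm_apply_eq]
  refine Subtype.ext ?_
  show Submodule.Quotient.mk x = Submodule.Quotient.mk (P ψ)
  congr 1
  exact huni.1 (LinearMap.ext fun y' => by rw [hP, h])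

end Groth.ModelsGraphs.Lattice
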