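import Groth.Agent.Surfaces.RegularTwo
import Groth.Agent.FrobLCI.HK.Restrict
import Mathlib.RingTheory.OrderOfVanishing.Basic
import Mathlib.RingTheory.UniqueFactorizationDomain.Multiplicity

/-!
# Lengths of quotients of a factorial local ring by a prime element and a product of prime powers
-/

set_option autoImplicit false

universe u

namespace Groth.ModelsGraphs.LengthSum

variable {A : Type u} [CommRing A] [IsDomain A] [UniqueFactorizationMonoid A] [IsRegularLocalRing A]

lemma isRelPrime_of_prime {f h : A} (hf : Prime f) (h' : ¬ f ∣ h) : IsRelPrime h f := fun d hdh hdf => by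
  rcases hf.irreducible.dvd_iff.1 hdf with hu | hu
  · exact hu
  · exact absurd (hu.dvd.trans hdh) h'

/-- `length A/(a^e, f) = e · length A/(a, f)`. -/
theorem length_pow {f a : A} (hf : Prime f) (ha : ¬ f ∣ a) (e : ℕ) :
    Module.length A (A ⧸ Ideal.span ({a ^ e, f} : Set A)) =
      e * Module.length A (A ⧸ Ideal.span ({a, f} : Set A)) := by
  induction e with
  | zero =>
    have h : Ideal.span ({a ^ 0, f} : Set A) = ⊤ :=
      Ideal.eq_top_of_isUnit_mem _ (Ideal.subset_span (Set.mem_insert _ _)) (by rw [pow_zero]; exact isUnit_one)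
    haveI : Subsingleton (A ⧸ Ideal.span ({a ^ 0, f} : Set A)) :=
      Ideal.Quotient.subsingleton_iff.2 h
    rw [Nat.cast_zero, zero_mul, Module.length_eq_zero]
  | succ e ih =>
    rw [pow_succ, Groth.Surfaces.RegularTwo.length_mul_add (isRelPrime_of_prime hf ha), ih,
      Nat.cast_succ, add_mul, one_mul]

/-- Lengths modulo a prime are additive in products of prime powers. -/
theorem length_prod {ι : Type*} {f : A} (hf : Prime f) (t : ι → A) (e : ι → ℕ) (s : Finset ι)
    (ht : ∀ i ∈ s, ¬ f ∣ t i) {u : A} (hu : IsUnit u) :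
    Module.length A (A ⧸ Ideal.span ({u * ∏ i ∈ s, t i ^ e i, f} : Set A)) =
      ∑ i ∈ s, (e i : ℕ∞) * Module.length A (A ⧸ Ideal.span ({t i, f} : Set A)) := by
  classical
  induction s using Finset.induction with
  | empty =>
    have h : Ideal.span ({u * ∏ i ∈ (∅ : Finset ι), t i ^ e i, f} : Set A) = ⊤ :=
      Ideal.eq_top_of_isUnit_mem _ (Ideal.subset_span (Set.mem_insert _ _))
        (by rw [Finset.prod_empty, mul_one]; exact hu)
    haveI : Subsingleton (A ⧸ Ideal.span ({u * ∏ i ∈ (∅ : Finset ι), t i ^ e i, f} : Set A)) :=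
      Ideal.Quotient.subsingleton_iff.2 h
    rw [Finset.sum_empty, Module.length_eq_zero]
  | insert j s hj ih =>
    have hrest : ¬ f ∣ u * ∏ i ∈ s, t i ^ e i := by
      intro h
      rcases hf.dvd_or_dvd h with h1 | h1
      · exact hf.not_unit (isUnit_of_dvd_unit h1 hu)
      · obtain ⟨i, hi, h2⟩ := hf.exists_mem_finset_dvd h1
        exact ht i (Finset.mem_insert_of_mem hi) (hf.dvd_of_dvd_pow h2)
    rw [Finset.sum_insert hj, Finset.prod_insert hj, ← ih fun i hi => ht i (Finset.mem_insert_of_mem hi),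
      ← length_pow hf (ht j (Finset.mem_insert_self j s)), show u * (t j ^ e j * ∏ i ∈ s, t i ^ e i) =
        t j ^ e j * (u * ∏ i ∈ s, t i ^ e i) by ring,
      Groth.Surfaces.RegularTwo.length_mul_add (isRelPrime_of_prime hf hrest)]

/-- An element all of whose prime divisors are among given primes. -/
theorem exists_factorisation {n : ℕ} (t : Fin n → A) (ht : ∀ i, Prime (t i))
    (hne : ∀ i j, Associated (t i) (t j) → i = j) {π : A} (hπ : π ≠ 0)
    (hall : ∀ q : A, Prime q → q ∣ π → ∃ i, Associated (t i) q) :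
    ∃ (e : Fin n → ℕ) (u : A), IsUnit u ∧ π = u * ∏ i, t i ^ e i := by
  classical
  choose e a hta hea using fun i => WfDvdMonoid.max_power_factor hπ (ht i).irreducible
  obtain ⟨u, hu⟩ : ∏ i, t i ^ e i ∣ π := by
    refine Finset.prod_dvd_of_isRelPrime ?_ fun i _ => ⟨a i, hea i⟩
    intro i _ j _ hij
    refine IsRelPrime.pow (isRelPrime_of_prime (ht j) fun h => ?_)
    exact hij (hne i j ((ht j).associated_of_dvd (ht i) h).symm)
  refine ⟨e, u, ?_, by rw [mul_comm]; exact hu⟩
  by_contra hnu
  have hu0 : u ≠ 0 := fun h => hπ (by rw [hu, h, mul_zero])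
  obtain ⟨q, hq, hqu⟩ := WfDvdMonoid.exists_irreducible_factor hnu hu0
  have hq' : Prime q := UniqueFactorizationMonoid.irreducible_iff_prime.1 hq
  obtain ⟨i, hi⟩ := hall q hq' (hqu.trans ⟨∏ i, t i ^ e i, by rw [mul_comm]; exact hu⟩)
  refine hta i ?_
  obtain ⟨w, hw⟩ := hi.dvd.trans hqu
  refine ⟨w * ∏ j ∈ Finset.univ.erase i, t j ^ e j,
    mul_left_cancel₀ (pow_ne_zero (e i) (ht i).ne_zero) ?_⟩
  rw [← hea i, hu, hw, ← Finset.mul_prod_erase Finset.univ (fun j => t j ^ e j) (Finset.mem_univ i)]
  ring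

/-- In a one-dimensional local ring with maximal ideal `(t)`, `length A/(t^e) = e`. -/
theorem length_pow_maximal {B : Type u} [CommRing B] [IsDomain B] [IsLocalRing B] {t : B}
    (ht : IsLocalRing.maximalIdeal B = Ideal.span {t}) (ht0 : t ≠ 0) {u : B} (hu : IsUnit u) (e : ℕ) :
    Module.length B (B ⧸ Ideal.span {u * t ^ e}) = e := by
  change Ring.ord B _ = _
  rw [Ring.ord_mul_of_isUnit_left hu]
  induction e with
  | zero =>
    haveI : Subsingleton (B ⧸ Ideal.span ({t ^ 0} : Set B)) :=
      Ideal.Quotient.subsingleton_iff.2 (by rw [pow_zero, Ideal.span_singleton_one])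
    rw [Ring.ord, Module.length_eq_zero, Nat.cast_zero]
  | succ e ih =>
    rw [pow_succ, Ring.ord_mul B (mem_nonZeroDivisors_of_ne_zero ht0), ih, Nat.cast_succ]
    congr 1
    rw [Ring.ord, ← ht, Module.length_eq_one_iff]
    exact isSimpleModule_iff_quot_maximal.2 ⟨_, IsLocalRing.maximalIdeal.isMaximal _, ⟨LinearEquiv.refl _ _⟩⟩

/-- For a finite torsion-free algebra over a DVR, `length B/ϖB` is the rank. -/
theorem length_quot_uniformizer {R B : Type u} [CommRing R] [IsDomain R] [IsDiscreteValuationRing R]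
    [CommRing B] [Algebra R B] [Module.Finite R B] [Module.IsTorsionFree R B] {ϖ : R}
    (hϖ : Irreducible ϖ) :
    Module.length R (B ⧸ Ideal.span {algebraMap R B ϖ}) = Module.finrank R B := by
  haveI : Module.Free R B := inferInstance
  let m := IsLocalRing.maximalIdeal R
  have h1 : ((Ideal.span {algebraMap R B ϖ}).restrictScalars R : Submodule R B) = m • ⊤ := by
    rw [Ideal.smul_top_eq_map, show m = Ideal.span {ϖ} from hϖ.maximalIdeal_eq, Ideal.map_span, Set.image_singleton]
  let e : (B ⧸ Ideal.span {algebraMap R B ϖ}) ≃ₗ[R] (B ⧸ (m • ⊤ : Submodule R B)) :=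
    (Submodule.Quotient.restrictScalarsEquiv R (Ideal.span {algebraMap R B ϖ})).symm.trans
      (Submodule.quotEquivOfEq _ _ h1)
  rw [e.length_eq, ← (TensorProduct.quotTensorEquivQuotSMul B m).length_eq]
  change Module.length R (TensorProduct R (IsLocalRing.ResidueField R) B) = _
  rw [
    Module.length_eq_of_surjective (R := IsLocalRing.ResidueField R) (S := R)
      (M := TensorProduct R (IsLocalRing.ResidueField R) B) IsLocalRing.residue_surjective,
    Module.length_eq_rank]
  rw [← Module.finrank_eq_rank, Module.finrank_baseChange]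
  simp

end Groth.ModelsGraphs.LengthSum
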