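import Groth.Agent.Misc14.GraphTree
import Groth.Agent.Misc14.GraphTree2
import Groth.Agent.Misc13.CauchyBinet
import Groth.Agent.ModelsGraphs.CompGroupCard

/-! The weighted matrix-tree theorem for multigraphs, and the order of the component group. -/

namespace Groth.ModelsGraphs.Ctr

open Finset LabGraph Matrix PhiStab Groth.Misc14.GraphTree

universe u
variable {V E : Type u} [Fintype V] [Fintype E] [DecidableEq V] [DecidableEq E]

/-- Signed incidence. -/
def inc (ends : E → V × V) (x : E) (v : V) : ℤ :=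
  (if (ends x).1 = v then 1 else 0) - (if (ends x).2 = v then 1 else 0)

omit [Fintype E] [DecidableEq E] in
theorem inc_loop {ends : E → V × V} {x : E} (h : (ends x).1 = (ends x).2) (v : V) : inc ends x v = 0 := by
  simp [inc, h]

theorem dvg_eq {R : Type*} [CommRing R] (ends : E → V × V) (c : E → R) (v : V) :
    dvg ends c v = ∑ x, c x * (inc ends x v : R) := by
  refine sum_congr rfl fun x _ => ?_
  simp only [inc]
  push_cast
  rw [mul_sub, mul_ite, mul_ite, mul_one, mul_zero]

theorem tree_card (ends : E → V × V) (hT : DualGr.IsTree ends) : Fintype.card E + 1 = Fintype.card V := by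
  let L : (V → ℝ) →ₗ[ℝ] (E → ℝ) × ℝ :=
    { toFun := fun f => (fun e => ∑ v ∈ side ends e, f v, ∑ v, f v)
      map_add' := fun f g => by ext <;> simp [sum_add_distrib]
      map_smul' := fun a f => by ext <;> simp [mul_sum] }
  have hsurj : Function.Surjective L := fun y => by
    obtain ⟨f, h1, h2⟩ := exists_side_sums ends hT y.1 y.2
    exact ⟨f, Prod.ext (funext h1) h2⟩
  have hn := L.finrank_range_add_finrank_ker
  rw [LinearMap.range_eq_top.mpr hsurj, finrank_top, Module.finrank_prod, Module.finrank_pi, Module.finrank_self,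
    Module.finrank_pi] at hn
  have hle := card_le_of_connected ends hT.1
  omega

variable {ends : E → V × V}

/-- The square incidence matrix of an edge set, the row of `r` deleted. -/
def incMat (ends : E → V × V) {k : ℕ} (r : V) (ρ : Fin k ≃ {v // v ≠ r}) (p : Fin k → E) : Matrix (Fin k) (Fin k) ℤ :=
  fun i j => inc ends (p j) (ρ i).1

theorem det_tree {k : ℕ} (r : V) (ρ : Fin k ≃ {v // v ≠ r}) (T : Finset E) (p : Fin k → E) (hp : Function.Injective p)
    (hpT : univ.image p = T) (hT : DualGr.IsTree (spanEnds ends T)) :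
    (incMat ends r ρ p).det * (incMat ends r ρ p).det = 1 := by
  have hmem : ∀ j, p j ∈ T := fun j => by rw [← hpT]; exact mem_image.2 ⟨j, mem_univ j, rfl⟩
  have key : ∀ i, ∃ c : Fin k → ℤ, ∀ i', ∑ j, incMat ends r ρ p i' j * c j = if i' = i then 1 else 0 := by
    intro i
    let φ : V → ℤ := fun v => (if v = (ρ i).1 then 1 else 0) - (if v = r then 1 else 0)
    let c : {e // e ∈ T} → ℤ := fun x => ∑ v ∈ side (spanEnds ends T) x, φ v
    have hφ : ∀ v, dvg (spanEnds ends T) c v = φ v := by
      have h := side_sums_injective (spanEnds ends T) hT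
        (fun v => dvg (spanEnds ends T) (fun x => (c x : ℝ)) v) (fun v => (φ v : ℝ))
        (fun x => by rw [sum_side_dvg _ hT.2]; simp [c])
        (by rw [sum_univ_dvg]; simp [φ])
      intro v
      have h1 := congrFun h v
      simp only [dvg_eq] at h1 ⊢
      simp only [Int.cast_id]
      exact_mod_cast h1
    refine ⟨fun j => c ⟨p j, hmem j⟩, fun i' => ?_⟩
    have h := hφ (ρ i').1
    rw [dvg_eq] at h
    have hbij : Function.Bijective fun j : Fin k => (⟨p j, hmem j⟩ : {e // e ∈ T}) :=
      ⟨fun a b e => hp (congrArg Subtype.val e), fun x => by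
        have hx := x.2
        simp only [← hpT] at hx
        obtain ⟨j, -, hj⟩ := mem_image.1 hx
        exact ⟨j, Subtype.ext hj⟩⟩
    simp only [Int.cast_id] at h
    rw [← hbij.sum_comp (fun x => c x * (inc (spanEnds ends T) x (ρ i').1 : ℤ))] at h
    have hφv : φ (ρ i').1 = if i' = i then 1 else 0 := by
      simp only [φ, if_neg (ρ i').2, sub_zero]
      exact if_congr ⟨fun e => ρ.injective (Subtype.ext e), fun e => e ▸ rfl⟩ rfl rfl
    rw [← hφv, ← h]
    refine sum_congr rfl fun j _ => ?_
    show inc ends (p j) (ρ i').1 * c ⟨p j, hmem j⟩ = c ⟨p j, hmem j⟩ * inc ends (p j) (ρ i').1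
    ring
  choose X hX using key
  have hmul : incMat ends r ρ p * (Matrix.of fun j i => X i j) = 1 := by
    ext i' i
    rw [Matrix.mul_apply, Matrix.one_apply]
    exact hX i i'
  have hu : IsUnit (incMat ends r ρ p).det := IsUnit.of_mul_eq_one _ (by rw [← Matrix.det_mul, hmul, Matrix.det_one])
  rcases Int.isUnit_iff.1 hu with h | h <;> simp [h]

theorem det_not_tree {k : ℕ} (r : V) (ρ : Fin k ≃ {v // v ≠ r}) (T : Finset E) (p : Fin k → E)
    (hpT : univ.image p = T) (hk : T.card = k) (hV : Fintype.card V = k + 1)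
    (hT : ¬ DualGr.IsTree (spanEnds ends T)) :
    (incMat ends r ρ p).det = 0 := by
  classical
  by_cases hconn : ∀ v w, Relation.ReflTransGen (AdjIn ends T) v w
  · exfalso
    obtain ⟨T', hsub, hT'⟩ := exists_spanning_tree ends T ⟨r⟩ hconn
    have h := tree_card _ hT'
    rw [Fintype.card_coe, hV] at h
    obtain rfl : T' = T := eq_of_subset_of_card_le hsub (by omega)
    exact hT hT'
  simp only [not_forall] at hconn
  obtain ⟨v, w, hvw⟩ := hconn
  let K : Finset V := univ.filter fun x => Relation.ReflTransGen (AdjIn ends T) r x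
  have hclosed : ∀ x ∈ T, ((ends x).1 ∈ K ↔ (ends x).2 ∈ K) := fun x hx => by
    simp only [K, mem_filter, mem_univ, true_and]
    exact ⟨fun h => h.tail (adjIn_of_mem ends hx), fun h => h.tail (adjIn_symm ends (adjIn_of_mem ends hx))⟩
  obtain ⟨u, hu⟩ : ∃ u, u ∉ K := by
    by_contra hh
    simp only [not_exists, not_not, K, mem_filter, mem_univ, true_and] at hh
    exact hvw ((reach_symm ends (hh v)).trans (hh w))
  have hrK : r ∈ K := mem_filter.2 ⟨mem_univ r, .refl⟩
  have hur : u ≠ r := fun e => hu (e ▸ hrK)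
  refine Matrix.exists_vecMul_eq_zero_iff.1 ⟨fun i => if (ρ i).1 ∈ K then 0 else 1, fun h => ?_, ?_⟩
  · have := congrFun h (ρ.symm ⟨u, hur⟩)
    simp [hu] at this
  · funext j
    have hx : p j ∈ T := by rw [← hpT]; exact mem_image.2 ⟨j, mem_univ j, rfl⟩
    simp only [Matrix.vecMul, dotProduct, incMat, Pi.zero_apply]
    rw [← Equiv.sum_comp ρ.symm (fun i => (if (ρ i).1 ∈ K then 0 else 1) * inc ends (p j) (ρ i).1)]
    simp only [Equiv.apply_symm_apply]
    rw [← sum_subtype (univ.erase r) (p := fun v => v ≠ r) (fun v => by simp)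
      (f := fun v => (if v ∈ K then 0 else 1) * inc ends (p j) v)]
    have h0 : ∑ v ∈ univ.erase r, (if v ∈ K then (0 : ℤ) else 1) * inc ends (p j) v =
        ∑ v, (if v ∈ K then (0 : ℤ) else 1) * inc ends (p j) v := sum_erase univ (by rw [if_pos hrK, zero_mul])
    rw [h0]
    simp only [inc, mul_sub, mul_ite, mul_one, mul_zero, sum_sub_distrib, sum_ite_eq, mem_univ, if_true]
    rw [if_congr (hclosed _ hx) rfl rfl, sub_self]

/-- The product of the values at the endpoints. -/
def ew (ends : E → V × V) (β : V → ℤ) (x : E) : ℤ := β (ends x).1 * β (ends x).2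

omit [DecidableEq E] in
theorem laplacian_entry {β : V → ℤ} (hβ : IsMultFn ends β) (u v : V) :
    ∑ x, inc ends x u * (ew ends β x * inc ends x v) = β u * (-mfMatrix ends β u v) * β v := by
  rcases eq_or_ne u v with rfl | huv
  · have hd := diag_mul hβ u
    have : β u * (-mfMatrix ends β u u) * β u = β u * offRow ends β u := by
      rw [mul_assoc, neg_mul, hd, neg_neg]
    rw [this, offRow, mul_sum]
    have he : ∀ w ∈ univ.erase u, β u * (β w * (edgeMult ends u w : ℤ)) =
        ∑ x, β u * β w * ((if ends x = (u, w) then 1 else 0) + (if ends x = (w, u) then 1 else 0)) := by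
      intro w hw
      rw [mult_split u w (mem_erase.1 hw).1.symm, ← mul_sum]
      push_cast
      ring
    rw [sum_congr rfl he, sum_comm]
    refine sum_congr rfl fun x _ => ?_
    obtain ⟨p, q, hpq⟩ : ∃ p q, ends x = (p, q) := ⟨_, _, rfl⟩
    simp only [inc, ew, hpq, Prod.mk.injEq, mul_add, mul_ite, mul_one, mul_zero, sum_add_distrib]
    by_cases h1 : p = u <;> by_cases h2 : q = u
    all_goals simp [h1, h2, sum_ite_eq, mem_erase]
    · ring
  · have : β u * (-mfMatrix ends β u v) * β v = ∑ x, -(β u * β v) *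
        ((if ends x = (u, v) then 1 else 0) + (if ends x = (v, u) then 1 else 0)) := by
      rw [mfMatrix, if_neg huv, mult_split u v huv, ← mul_sum]
      push_cast
      ring
    rw [this]
    refine sum_congr rfl fun x _ => ?_
    obtain ⟨p, q, hpq⟩ : ∃ p q, ends x = (p, q) := ⟨_, _, rfl⟩
    simp only [inc, ew, hpq, Prod.mk.injEq]
    by_cases h1 : p = u <;> by_cases h2 : q = v <;> by_cases h3 : p = v <;> by_cases h4 : q = u <;>
      simp_all <;> ring

open Classical in
/-- The weighted matrix-tree theorem. -/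
theorem det_redMat {β : V → ℤ} (hβ : IsMultFn ends β) (r : V) :
    (∏ v : {v // v ≠ r}, β v.1) ^ 2 * (redMat ends β r).det =
      ∑ T ∈ univ.powerset.filter (fun T : Finset E => IsSpanningTree ends T), ∏ x ∈ T, ew ends β x := by
  set k := Fintype.card {v // v ≠ r}
  have hV : Fintype.card V = k + 1 := by
    simp only [k]
    rw [Fintype.card_subtype, filter_ne' univ r, card_erase_of_mem (mem_univ r), card_univ]
    have := Fintype.card_pos_iff.2 ⟨r⟩
    omega
  let ρ : Fin k ≃ {v // v ≠ r} := (Fintype.equivFin _).symm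
  let η : Fin (Fintype.card E) ≃ E := (Fintype.equivFin E).symm
  let P : Matrix (Fin k) (Fin (Fintype.card E)) ℤ := fun i j => inc ends (η j) (ρ i).1
  let Q : Matrix (Fin (Fintype.card E)) (Fin k) ℤ := fun j i => ew ends β (η j) * inc ends (η j) (ρ i).1
  let d : Fin k → ℤ := fun i => β (ρ i).1
  have hPQ : P * Q = Matrix.diagonal d * (redMat ends β r).submatrix ρ ρ * Matrix.diagonal d := by
    ext i j
    rw [Matrix.mul_diagonal, Matrix.diagonal_mul, Matrix.mul_apply, Matrix.submatrix_apply, redMat,
      Matrix.submatrix_apply, Matrix.neg_apply, ← laplacian_entry hβ,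
      ← Equiv.sum_comp η]
  have hdet := congrArg Matrix.det hPQ
  rw [Matrix.det_mul (diagonal d * _), Matrix.det_mul, Matrix.det_diagonal, Matrix.det_submatrix_equiv_self,
    Groth.Misc13.CauchyBinet.det_mul_eq_sum] at hdet
  have hd : ∏ i, d i = ∏ v : {v // v ≠ r}, β v.1 := Equiv.prod_comp ρ (fun v => β v.1)
  rw [hd] at hdet
  rw [sq, show ∀ a b : ℤ, a * a * b = a * b * a from fun a b => by ring, ← hdet]
  have hterm : ∀ S : {s : Finset (Fin (Fintype.card E)) // s.card = k},
      (P.submatrix id (S.1.orderEmbOfFin S.2)).det * (Q.submatrix (S.1.orderEmbOfFin S.2) id).det =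
        if IsSpanningTree ends ((Finset.map η.toEmbedding S.1)) then ∏ x ∈ (Finset.map η.toEmbedding S.1), ew ends β x else 0 := by
    intro S
    let p : Fin k → E := fun j => η (S.1.orderEmbOfFin S.2 j)
    have hp : Function.Injective p := η.injective.comp (S.1.orderEmbOfFin S.2).injective
    have hpT : univ.image p = (Finset.map η.toEmbedding S.1) := by
      rw [map_eq_image, ← Finset.image_orderEmbOfFin_univ S.1 S.2, image_image]
      rfl
    have hQ : Q.submatrix (S.1.orderEmbOfFin S.2) id =
        Matrix.diagonal (fun j => ew ends β (p j)) * (incMat ends r ρ p).transpose := by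
      ext i j
      rw [Matrix.diagonal_mul]
      rfl
    have hP' : P.submatrix id (S.1.orderEmbOfFin S.2) = incMat ends r ρ p := rfl
    rw [hQ, hP', Matrix.det_mul, Matrix.det_diagonal, Matrix.det_transpose,
      show ∀ a b : ℤ, a * (b * a) = a * a * b from fun a b => by ring]
    split_ifs with h
    · rw [det_tree r ρ _ p hp hpT h, one_mul, ← hpT, prod_image fun a _ b _ e => hp e]
    · rw [det_not_tree r ρ _ p hpT (by rw [card_map, S.2]) hV h]
      simp
  rw [Finset.sum_congr rfl fun S _ => hterm S, ← sum_filter]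
  refine sum_bij (fun S _ => (Finset.map η.toEmbedding S.1)) (fun S hS => mem_filter.2 ⟨mem_powerset.2 (subset_univ _),
    (mem_filter.1 hS).2⟩) (fun S _ S' _ e => Subtype.ext (map_injective _ e)) (fun T hT => ?_) (fun S _ => rfl)
  have hT' := (mem_filter.1 hT).2
  have hcard := tree_card _ hT'
  rw [Fintype.card_coe, hV] at hcard
  refine ⟨⟨T.map η.symm.toEmbedding, by rw [card_map]; omega⟩, mem_filter.2 ⟨mem_univ _, ?_⟩, ?_⟩
  · convert hT' using 1
    ext x; simp
  · ext x; simp

omit [DecidableEq E] in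
theorem prod_ew (β : V → ℤ) (T : Finset E) : ∏ x ∈ T, ew ends β x = ∏ v, β v ^ endCount ends T v := by
  classical
  simp only [endCount, ← prod_pow_eq_pow_sum, pow_add, prod_mul_distrib]
  simp only [ew, prod_mul_distrib]
  congr 1 <;> rw [prod_comm] <;> refine prod_congr rfl fun x _ => ?_ <;>
  · simp

theorem endCount_eq_nbrCount (T : Finset E) (hT : IsSpanningTree ends T) (v : V) :
    endCount ends T v = nbrCount ends T v := by
  classical
  have hloop : ∀ x ∈ T, (ends x).1 ≠ (ends x).2 := fun x hx e => by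
    have := not_reach_erase (spanEnds ends T) hT.2 ⟨x, hx⟩
    simp only [spanEnds] at this
    rw [e] at this
    exact this .refl
  have hpar : ∀ x ∈ T, ∀ y ∈ T, (ends x = ends y ∨ ends x = (ends y).swap) → x = y := by
    intro x hx y hy h
    by_contra hne
    refine not_reach_erase (spanEnds ends T) hT.2 ⟨x, hx⟩ (Relation.ReflTransGen.single
      ⟨⟨y, hy⟩, mem_erase.2 ⟨fun e => hne (congrArg Subtype.val e).symm, mem_univ _⟩, ?_⟩)
    simp only [spanEnds]
    rcases h with h | h <;> rw [h] <;> simp
  have h1 : endCount ends T v = (T.filter fun x => (ends x).1 = v ∨ (ends x).2 = v).card := by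
    rw [endCount, card_filter]
    refine sum_congr rfl fun x hx => ?_
    have := hloop x hx
    by_cases a : (ends x).1 = v <;> by_cases b : (ends x).2 = v <;> simp_all
  rw [h1, nbrCount]
  refine card_bij (fun x _ => if (ends x).1 = v then (ends x).2 else (ends x).1) (fun x hx => ?_)
    (fun x hx y hy e => ?_) fun w hw => ?_
  · obtain ⟨hx, hv⟩ := mem_filter.1 hx
    refine mem_filter.2 ⟨mem_univ _, ?_, x, hx, ?_⟩
    · split_ifs with h
      exacts [fun e => hloop x hx (h.trans e.symm), h]
    · split_ifs with h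
      · exact Or.inl (Prod.ext h rfl)
      · exact Or.inr (Prod.ext rfl (hv.resolve_left h))
  · obtain ⟨hx, hxv⟩ := mem_filter.1 hx
    obtain ⟨hy, hyv⟩ := mem_filter.1 hy
    refine hpar x hx y hy ?_
    split_ifs at e with a b b
    · exact Or.inl (Prod.ext (a.trans b.symm) e)
    · exact Or.inr (Prod.ext (a.trans (hyv.resolve_left b).symm) e)
    · exact Or.inr (Prod.ext e ((hxv.resolve_left a).trans b.symm))
    · exact Or.inl (Prod.ext e ((hxv.resolve_left a).trans (hyv.resolve_left b).symm))
  · obtain ⟨-, hwv, x, hx, he⟩ := mem_filter.1 hw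
    refine ⟨x, mem_filter.2 ⟨hx, ?_⟩, ?_⟩
    · rcases he with he | he <;> simp [he]
    · rcases he with he | he <;> simp [he, hwv]

open Classical in
theorem card_compGrp_trees {β : V → ℤ} (hβ : IsMultFn ends β) (hG : Connected ends) :
    (Nat.card (CompGrp ends β) : ℚ) =
      ((univ.gcd β : ℤ) : ℚ) ^ 2 *
        ∑ T ∈ univ.powerset.filter (fun T : Finset E => IsSpanningTree ends T),
          ∏ v : V, ((β v : ℚ) ^ ((nbrCount ends T v : ℤ) - 2)) := by
  haveI := hG.1
  obtain ⟨g, b, c, hg, hgcd, hb, hbp, hc⟩ := exists_primitive fun v => (hβ v).1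
  obtain ⟨r⟩ := hG.1
  have h1 := card_compGrp hβ hG r hb hg hc
  have h2 := det_redMat hβ r
  set S := univ.powerset.filter (fun T : Finset E => IsSpanningTree ends T)
  set D := ∏ v : {v // v ≠ r}, β v.1
  have hSnn : (0 : ℤ) ≤ ∑ T ∈ S, ∏ x ∈ T, ew ends β x :=
    sum_nonneg fun T _ => prod_nonneg fun x _ => mul_nonneg (hβ _).1.le (hβ _).1.le
  have hD : 0 < D := prod_pos fun v _ => (hβ v.1).1
  have hdetnn : 0 ≤ (redMat ends β r).det := by
    by_contra hneg
    rw [← h2] at hSnn
    nlinarith [pow_pos hD 2]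
  have h3 : (Nat.card (CompGrp ends β) : ℤ) * b r * b r = (redMat ends β r).det := by
    have h := congrArg (fun z : ℕ => (z : ℤ)) h1
    push_cast at h
    rwa [abs_of_nonneg (hbp r).le, abs_of_nonneg hdetnn] at h
  rw [← h3] at h2
  have hall : ∏ v, β v = g * b r * D := by
    rw [← mul_prod_erase univ β (mem_univ r), hb r,
      prod_subtype (univ.erase r) (p := fun v => v ≠ r) (fun v => by simp)]
  have h4 : (Nat.card (CompGrp ends β) : ℤ) * (∏ v, β v) ^ 2 = g ^ 2 * ∑ T ∈ S, ∏ v, β v ^ nbrCount ends T v := by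
    rw [sum_congr rfl fun T hT => prod_congr rfl fun v _ => by rw [← endCount_eq_nbrCount T (mem_filter.1 hT).2 v],
      sum_congr rfl fun T _ => (prod_ew (ends := ends) β T).symm, ← h2, hall]
    ring
  have hterm : ∀ T, ∏ v : V, ((β v : ℚ) ^ ((nbrCount ends T v : ℤ) - 2)) =
      (∏ v, (β v : ℚ) ^ nbrCount ends T v) / (∏ v, (β v : ℚ)) ^ 2 := fun T => by
    rw [← prod_pow, ← prod_div_distrib]
    refine prod_congr rfl fun v _ => ?_
    rw [zpow_sub₀ (by exact_mod_cast (hβ v).1.ne'), zpow_natCast, zpow_two, sq]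
  rw [sum_congr rfl fun T _ => hterm T, ← sum_div, ← mul_div_assoc, eq_div_iff
    (pow_ne_zero 2 (prod_ne_zero_iff.2 fun v _ => by exact_mod_cast (hβ v).1.ne')), ← hgcd]
  exact_mod_cast h4

end Groth.ModelsGraphs.Ctr
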