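import Groth.Agent.ModelsGraphs.ArithDim
import Groth.Agent.ModelsGraphs.TransversalDivisor
import Groth.Agent.ModelsGraphs.CurveOfModel
import Groth.Agent.ModelsGraphs.GlobalFunctions

/-!
# The closed fibre of a regular proper model of a curve has dimension at most one
-/

set_option autoImplicit false
set_option backward.isDefEq.respectTransparency.types false

universe u

open CategoryTheory Limits AlgebraicGeometry TopologicalSpace

namespace Groth.ModelsGraphs.ModelFibreDim

variable {R : Type u} [CommRing R] [IsDomain R] [IsDiscreteValuationRing R]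

theorem dim_fibre_le_one {C : Scheme.{u}} {fC : C ⟶ Spec (CommRingCat.of (FractionRing R))}
    [IsProper fC] (hC0 : Models.hRank (FractionRing R) C fC (Coh.structureModule C) 0 = 1)
    (hC1 : topologicalKrullDim C = 1) {X : Scheme.{u}} {p : X ⟶ Spec (CommRingCat.of R)}
    (hX : Models.IsRegularProperModel R X p C fC) :
    topologicalKrullDim ↥(pullback p (Spec.map (CommRingCat.ofHom (algebraMap R (IsLocalRing.ResidueField R))))) ≤
      1 := by
  obtain ⟨⟨hf, -, -, g, hg⟩, hp, hreg⟩ := hX
  haveI := hp
  haveI := hf
  obtain ⟨hiso, -⟩ := Groth.ModelsGraphs.CurveOfModel.isIso_appTop fC hC0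
  haveI : Nonempty C := by
    by_contra hne
    rw [not_nonempty_iff] at hne
    haveI : IsEmpty (IrreducibleCloseds C) := ⟨fun T => hne.false T.isIrreducible.nonempty.choose⟩
    rw [topologicalKrullDim, Order.krullDim_eq_bot_iff.2 inferInstance] at hC1
    exact absurd hC1 (by simp)
  haveI : Nonempty (Over.mk p).left := ⟨g (Classical.arbitrary C)⟩
  haveI : IsProper (Over.mk p).hom := hp
  haveI : IsIntegral (Over.mk p).left := Transversal.isIntegral hreg
    (GlobalFun.toGlobal_bijective_of_appTop p g fC (ConcreteCategory.bijective_of_isIso _) hg)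
  have hdim : topologicalKrullDim X ≤ 2 := ArithDim.dim_le_two (X := Over.mk p) fC g hg hC1.le
  set σ := Spec.map (CommRingCat.ofHom (algebraMap R (IsLocalRing.ResidueField R))) with hσ
  haveI : IsClosedImmersion σ := IsClosedImmersion.spec_of_surjective _ IsLocalRing.residue_surjective
  set i : pullback p σ ⟶ X := pullback.fst p σ
  haveI : IsClosedImmersion i := MorphismProperty.pullback_fst _ _ inferInstance
  have hne : Set.range i ≠ Set.univ := by
    intro h
    obtain ⟨c⟩ := ‹Nonempty C›
    have h1 : g c ∈ Set.range i := h ▸ trivial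
    rw [Scheme.Pullback.range_fst] at h1
    obtain ⟨z, hz⟩ := h1
    obtain ⟨π, hπ⟩ := IsDiscreteValuationRing.exists_irreducible R
    have h2 : p (g c) = Spec.map (CommRingCat.ofHom (algebraMap R (FractionRing R))) (fC c) := by
      rw [← Scheme.Hom.comp_apply, hg.w, Scheme.Hom.comp_apply]
    rw [h2] at hz
    have h3 : π ∈ (σ z : PrimeSpectrum R).asIdeal := by
      change algebraMap R (IsLocalRing.ResidueField R) π ∈ (z : PrimeSpectrum _).asIdeal
      rw [show algebraMap R (IsLocalRing.ResidueField R) π = 0 from
        (IsLocalRing.residue_eq_zero_iff π).2 hπ.not_isUnit]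
      exact zero_mem _
    rw [hz] at h3
    have h4 : algebraMap R (FractionRing R) π ∈ (fC c : PrimeSpectrum (FractionRing R)).asIdeal := h3
    exact (fC c : PrimeSpectrum (FractionRing R)).isPrime.ne_top
      (Ideal.eq_top_of_isUnit_mem _ h4
        ((map_ne_zero_iff _ (IsFractionRing.injective R (FractionRing R))).2 hπ.ne_zero).isUnit)
  let m : IrreducibleCloseds ↥(pullback p σ) → IrreducibleCloseds X :=
    fun T => IrreducibleCloseds.map i.base i.continuous T
  have hm : ∀ T : IrreducibleCloseds ↥(pullback p σ), (m T : Set X) = i.base '' T := fun T =>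
    (i.isClosedEmbedding.isClosedMap _ T.isClosed).closure_eq
  have hmono : StrictMono m := fun S T h => by
    rw [← SetLike.coe_ssubset_coe, hm, hm]
    exact ⟨Set.image_mono (SetLike.coe_ssubset_coe.2 h).1, fun h' => (SetLike.coe_ssubset_coe.2 h).2
      ((Set.image_subset_image_iff i.isClosedEmbedding.injective).1 h')⟩
  haveI : IsIntegral X := ‹IsIntegral (Over.mk p).left›
  let U : IrreducibleCloseds X := ⟨Set.univ, IrreducibleSpace.isIrreducible_univ X, isClosed_univ⟩
  have hlt : ∀ T, m T < U := fun T => by
    rw [← SetLike.coe_ssubset_coe, hm]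
    refine ⟨Set.subset_univ _, fun h => hne (Set.eq_univ_of_univ_subset ?_)⟩
    exact h.trans (Set.image_subset_range _ _)
  refine iSup_le fun s => ?_
  let t : LTSeries (IrreducibleCloseds X) := (s.map m hmono).snoc U (hlt _)
  have h5 : ((t.length : ℕ) : WithBot ℕ∞) ≤ 2 := (Order.LTSeries.length_le_krullDim t).trans hdim
  have h6 : t.length = s.length + 1 := rfl
  have h7 : t.length ≤ 2 := by exact_mod_cast h5
  exact_mod_cast (show s.length ≤ 1 by omega)

end Groth.ModelsGraphs.ModelFibreDim
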