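import Groth.Agent.LocImm.Birational
import Groth.Agent.PropsBasic.IntegralImage
import Groth.Agent.ModelsGraphs.ArithDim
import Groth.Agent.ModelsGraphs.GoingDownNormal
import Groth.Agent.CohC3.Thickening.Generic
import Groth.Prelude.Def_ModelsG

/-!
# Extending an identification of generic fibres to a morphism of models

The closure of the graph is finite over a normal source as soon as the valuation rings of the
components of the target fibre are centred at component points of the source.
-/

set_option autoImplicit false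
set_option backward.isDefEq.respectTransparency.types false

universe u

open CategoryTheory CategoryTheory.Limits AlgebraicGeometry TopologicalSpace

namespace Groth.ModelsGraphs.ModelHom

variable {C T : Scheme.{u}} [IsIntegral C]

/-- The map from a local ring into the function field of a dominant integral scheme. -/
noncomputable def θ (g : C ⟶ T) {x : T} (hx : g (genericPoint C) ⤳ x) :
    T.presheaf.stalk x ⟶ C.presheaf.stalk (genericPoint C) :=
  T.presheaf.stalkSpecializes hx ≫ g.stalkMap (genericPoint C)

theorem spec_θ (g : C ⟶ T) {x : T} (hx : g (genericPoint C) ⤳ x) :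
    Spec.map (θ g hx) ≫ T.fromSpecStalk x = C.fromSpecStalk (genericPoint C) ≫ g := by
  rw [θ, Spec.map_comp, Category.assoc, Scheme.SpecMap_stalkSpecializes_fromSpecStalk,
    Scheme.SpecMap_stalkMap_fromSpecStalk]

theorem θ_injective [IsIntegral T] (g : C ⟶ T) (hg : g (genericPoint C) = genericPoint T) {x : T}
    (hx : g (genericPoint C) ⤳ x) : Function.Injective (θ g hx) := by
  have h1 : Function.Injective (T.presheaf.stalkSpecializes hx) := by
    refine (injective_iff_map_eq_zero _).2 fun a ha => ?_
    obtain ⟨U, hU, s, rfl⟩ := T.presheaf.exists_germ_eq a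
    rw [← CommRingCat.comp_apply, TopCat.Presheaf.germ_stalkSpecializes] at ha
    rw [germ_injective_of_isIntegral T _ _ (ha.trans (map_zero _).symm), map_zero]
  have h2 : IsField (T.presheaf.stalk (g (genericPoint C))) :=
    hg ▸ Field.toIsField T.functionField
  letI := h2.toField
  exact (RingHom.injective (g.stalkMap (genericPoint C)).hom).comp h1

theorem isDominant_spec_θ [IsIntegral T] (g : C ⟶ T) (hg : g (genericPoint C) = genericPoint T) {x : T}
    (hx : g (genericPoint C) ⤳ x) : IsDominant (Spec.map (θ g hx)) := by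
  refine ⟨(PrimeSpectrum.denseRange_comap_iff_ker_le_nilRadical (θ g hx).hom).2 ?_⟩
  rw [(RingHom.injective_iff_ker_eq_bot _).1 (θ_injective g hg hx)]
  exact bot_le

variable {G A B S : Scheme.{u}} [IsIntegral G]

/-- If `g` is the morphism `h` near the image under `f` generically, it is so at every point. -/
theorem eq_of_generic (sB : B ⟶ S) [IsSeparated sB] [S.IsSeparated]
    (j : C ⟶ G) (hj : j (genericPoint C) = genericPoint G) (f : G ⟶ A) (g : G ⟶ B) (γ : G)
    (h : Spec (A.presheaf.stalk (f γ)) ⟶ B) (hx : (j ≫ f) (genericPoint C) ⤳ f γ)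
    (hh : Spec.map (θ (j ≫ f) hx) ≫ h = C.fromSpecStalk (genericPoint C) ≫ j ≫ g) :
    G.fromSpecStalk γ ≫ g = Spec.map (f.stalkMap γ) ≫ h := by
  have hγ : j (genericPoint C) ⤳ γ := hj ▸ genericPoint_specializes γ
  haveI : IsDomain (G.presheaf.stalk γ) := inferInstance
  haveI := isDominant_spec_θ j hj hγ
  have key : Spec.map (θ j hγ) ≫ Spec.map (f.stalkMap γ) = Spec.map (θ (j ≫ f) hx) := by
    rw [← cancel_mono (A.fromSpecStalk (f γ)), spec_θ, Category.assoc,
      Scheme.SpecMap_stalkMap_fromSpecStalk, reassoc_of% spec_θ j hγ]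
  have hagree : Spec.map (θ j hγ) ≫ G.fromSpecStalk γ ≫ g =
      Spec.map (θ j hγ) ≫ Spec.map (f.stalkMap γ) ≫ h := by
    rw [reassoc_of% spec_θ j hγ, reassoc_of% key, hh]
  refine ext_of_isDominant_of_isSeparated sB ?_ _ hagree
  exact ext_of_isDominant (Spec.map (θ j hγ)) (by simpa only [Category.assoc] using congrArg (· ≫ sB) hagree)

theorem closedPoint_image {γ : G} {f : G ⟶ A} :
    Spec.map (f.stalkMap γ) (IsLocalRing.closedPoint _) = IsLocalRing.closedPoint _ :=
  IsLocalRing.comap_closedPoint _

/-- The closed point version of `eq_of_generic`. -/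
theorem point_eq_of_generic (sB : B ⟶ S) [IsSeparated sB] [S.IsSeparated]
    (j : C ⟶ G) (hj : j (genericPoint C) = genericPoint G) (f : G ⟶ A) (g : G ⟶ B) (γ : G)
    (h : Spec (A.presheaf.stalk (f γ)) ⟶ B) (hx : (j ≫ f) (genericPoint C) ⤳ f γ)
    (hh : Spec.map (θ (j ≫ f) hx) ≫ h = C.fromSpecStalk (genericPoint C) ≫ j ≫ g) :
    g γ = h (IsLocalRing.closedPoint _) := by
  have h2 := congr($(eq_of_generic sB j hj f g γ h hx hh) (IsLocalRing.closedPoint _))
  rw [Scheme.Hom.comp_apply, Scheme.Hom.comp_apply, Scheme.fromSpecStalk_closedPoint, closedPoint_image] at h2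
  exact h2

theorem θ_congr {g g' : C ⟶ A} (e : g = g') {x : A} (hx : g (genericPoint C) ⤳ x)
    (hx' : g' (genericPoint C) ⤳ x) : θ g hx = θ g' hx' := by subst e; rfl

/-- Over a point with a generic map to `B` there is at most one point of a scheme embedded in
`A ×_S B` through which the curve dominates it. -/
theorem rigid [IsIntegral A] [S.IsSeparated] (sA : A ⟶ S) (sB : B ⟶ S) [IsSeparated sB]
    (ι : G ⟶ pullback sA sB) (hι : Function.Injective ι) (j : C ⟶ G)
    (hj : j (genericPoint C) = genericPoint G) (gA : C ⟶ A) (gB : C ⟶ B)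
    (hgA : gA (genericPoint C) = genericPoint A) (w₀ : gA ≫ sA = gB ≫ sB)
    (hjA : j ≫ ι ≫ pullback.fst sA sB = gA) (hjB : j ≫ ι ≫ pullback.snd sA sB = gB)
    (x : A) (hx : gA (genericPoint C) ⤳ x) (h : Spec (A.presheaf.stalk x) ⟶ B)
    (hh : Spec.map (θ gA hx) ≫ h = C.fromSpecStalk (genericPoint C) ≫ gB) {γ γ' : G}
    (hγ : (ι ≫ pullback.fst sA sB) γ = x) (hγ' : (ι ≫ pullback.fst sA sB) γ' = x) : γ = γ' := by
  haveI := isDominant_spec_θ gA hgA hx
  have w : h ≫ sB = A.fromSpecStalk x ≫ sA := ext_of_isDominant (Spec.map (θ gA hx)) (by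
    rw [reassoc_of% hh, reassoc_of% spec_θ gA hx, w₀])
  let L := pullback.lift (A.fromSpecStalk x) h w.symm
  suffices ∀ δ : G, (ι ≫ pullback.fst sA sB) δ = x → ι δ = L (IsLocalRing.closedPoint _) from
    hι ((this γ hγ).trans (this γ' hγ').symm)
  rintro δ rfl
  have hx' : (j ≫ ι ≫ pullback.fst sA sB) (genericPoint C) ⤳ (ι ≫ pullback.fst sA sB) δ := by
    rw [hjA]; exact hx
  have h1 := eq_of_generic sB j hj (ι ≫ pullback.fst sA sB) (ι ≫ pullback.snd sA sB) δ h hx'
    (by rw [θ_congr hjA hx' hx, hh, hjB])
  have h2 : G.fromSpecStalk δ ≫ ι = Spec.map ((ι ≫ pullback.fst sA sB).stalkMap δ) ≫ L := by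
    apply pullback.hom_ext
    · rw [Category.assoc, Category.assoc, pullback.lift_fst, Scheme.SpecMap_stalkMap_fromSpecStalk]
    · rw [Category.assoc, Category.assoc, pullback.lift_snd]; exact h1
  have h3 := congr($h2 (IsLocalRing.closedPoint _))
  rw [Scheme.Hom.comp_apply, Scheme.Hom.comp_apply, Scheme.fromSpecStalk_closedPoint, closedPoint_image] at h3
  exact h3

omit [IsIntegral G] in
/-- Above a closed point of `B` finite over `S` there are no specializations in a fibre over `A`. -/
theorem eq_over_closed (sA : A ⟶ S) (sB : B ⟶ S) [IsProper sB] (w : B) (hw : IsClosed ({w} : Set B))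
    {a b : ↑(pullback sA sB)} (hab : a ⤳ b) (ha : pullback.snd sA sB a = w) (hb : pullback.snd sA sB b = w)
    (hf : pullback.fst sA sB a = pullback.fst sA sB b) : a = b := by
  let t := B.fromSpecResidueField w
  haveI : IsClosedImmersion t := by
    refine IsClosedImmersion.of_isPreimmersion t ?_
    rw [Scheme.range_fromSpecResidueField]; exact hw
  haveI : LocallyQuasiFinite (t ≫ sB) :=
    LocallyQuasiFinite.of_injective (fun a b _ => Subsingleton.elim a b)
  haveI : IsFinite (t ≫ sB) := IsFinite.of_isProper_of_locallyQuasiFinite _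
  let m : pullback sA (t ≫ sB) ⟶ pullback sA sB :=
    pullback.lift (pullback.fst _ _) (pullback.snd _ _ ≫ t) (by rw [Category.assoc, pullback.condition])
  have hm : IsPullback m (pullback.snd sA (t ≫ sB)) (pullback.snd sA sB) t := by
    refine IsPullback.of_right ?_ (pullback.lift_snd _ _ _) (IsPullback.of_hasPullback sA sB)
    rw [pullback.lift_fst]
    exact IsPullback.of_hasPullback _ _
  haveI : IsClosedImmersion m := MorphismProperty.of_isPullback hm.flip inferInstance
  have hmem : ∀ c, pullback.snd sA sB c = w → ∃ z, m z = c := fun c hc => by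
    obtain ⟨z, hz, -⟩ := Scheme.exists_preimage_of_isPullback hm c
      (IsLocalRing.closedPoint (B.residueField w)) (by rw [Scheme.fromSpecResidueField_apply, hc])
    exact ⟨z, hz⟩
  obtain ⟨a', rfl⟩ := hmem a ha
  obtain ⟨b', rfl⟩ := hmem b hb
  have hab' : a' ⤳ b' := m.isEmbedding.specializes_iff.1 hab
  have hfab : pullback.fst sA (t ≫ sB) a' = pullback.fst sA (t ≫ sB) b' := by
    rw [← Scheme.Hom.comp_apply, ← Scheme.Hom.comp_apply, pullback.lift_fst] at hf
    exact hf
  rw [GoingDownNormal.eq_of_specializes _ hab' hfab]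

/-- Two local rings with the same image in the function field are isomorphic over it. -/
theorem exists_iso_of_range [IsIntegral A] [IsIntegral B] (gA : C ⟶ A) (gB : C ⟶ B)
    (hgA : gA (genericPoint C) = genericPoint A) (hgB : gB (genericPoint C) = genericPoint B)
    {a : A} {b : B} (ha : gA (genericPoint C) ⤳ a) (hb : gB (genericPoint C) ⤳ b)
    (hr : Set.range (θ gA ha) = Set.range (θ gB hb)) :
    ∃ E : B.presheaf.stalk b ≅ A.presheaf.stalk a, E.hom ≫ θ gA ha = θ gB hb := by
  have hA := θ_injective gA hgA ha
  have hB := θ_injective gB hgB hb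
  have hr' : (θ gB hb).hom.range = (θ gA ha).hom.range := SetLike.coe_injective hr.symm
  let e₁ := RingEquiv.ofBijective (θ gA ha).hom.rangeRestrict
    ⟨fun _ _ h => hA (congrArg Subtype.val h), RingHom.rangeRestrict_surjective _⟩
  let e₂ := RingEquiv.ofBijective (θ gB hb).hom.rangeRestrict
    ⟨fun _ _ h => hB (congrArg Subtype.val h), RingHom.rangeRestrict_surjective _⟩
  let e : B.presheaf.stalk b ≃+* A.presheaf.stalk a := e₂.trans ((RingEquiv.subringCongr hr').trans e₁.symm)
  refine ⟨e.toCommRingCatIso, CommRingCat.hom_ext (RingHom.ext fun v => ?_)⟩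
  exact congrArg Subtype.val (e₁.apply_symm_apply ((RingEquiv.subringCongr hr') (e₂ v)))

variable {R : Type u} [CommRing R] [IsDomain R] [IsDiscreteValuationRing R]

theorem mem_range_or (z : Spec (CommRingCat.of R)) :
    z = IsLocalRing.closedPoint R ∨
      z ∈ Set.range (Spec.map (CommRingCat.ofHom (algebraMap R (FractionRing R)))) := by
  rcases eq_or_ne z.asIdeal ⊥ with h | h
  · right
    refine ⟨⟨⊥, Ideal.isPrime_bot⟩, PrimeSpectrum.ext ?_⟩
    refine (Ideal.comap_bot_of_injective _ (IsFractionRing.injective R (FractionRing R))).trans h.symm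
  · left
    haveI := z.isPrime
    exact PrimeSpectrum.ext (IsLocalRing.eq_maximalIdeal (z.isPrime.isMaximal h))

/-- A point of the closed fibre of a surface over a DVR is a component point or is closed. -/
theorem component_or_closed {W : Over (Spec (CommRingCat.of R))} [IsIntegral W.left]
    (hdim : topologicalKrullDim W.left ≤ 2) {η' : W.left} (hη' : η' ∉ Models.specialFibreSet R W)
    {w : W.left} (hw : w ∈ Models.specialFibreSet R W) :
    closure ({w} : Set W.left) ∈ Models.fibreComponents R W ∨ IsClosed ({w} : Set W.left) := by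
  by_contra hcon
  push Not at hcon
  obtain ⟨hcomp, hcl⟩ := hcon
  have hsp := Models.isClosed_specialFibreSet R W
  obtain ⟨w', hww', hne⟩ : ∃ w', w ⤳ w' ∧ w' ≠ w := by
    by_contra hall
    push Not at hall
    refine hcl (?_ : IsClosed _)
    rw [← closure_subset_iff_isClosed]
    exact fun y hy => hall y (specializes_iff_mem_closure.2 hy)
  obtain ⟨S, hS, hwS, hSw⟩ : ∃ S : Set W.left, (IsIrreducible S ∧ S ⊆ Models.specialFibreSet R W) ∧
      closure {w} ⊆ S ∧ ¬ S ⊆ closure {w} := by
    by_contra hall
    push Not at hall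
    exact hcomp ⟨⟨isIrreducible_singleton.closure,
      closure_minimal (Set.singleton_subset_iff.2 hw) hsp⟩, fun S hS hle => hall S hS hle⟩
  let a : IrreducibleCloseds W.left := ⟨closure {w'}, isIrreducible_singleton.closure, isClosed_closure⟩
  let b : IrreducibleCloseds W.left := ⟨closure {w}, isIrreducible_singleton.closure, isClosed_closure⟩
  let c : IrreducibleCloseds W.left := ⟨closure S, hS.1.closure, isClosed_closure⟩
  let d : IrreducibleCloseds W.left :=
    ⟨Set.univ, IrreducibleSpace.isIrreducible_univ W.left, isClosed_univ⟩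
  have hab : a < b := by
    rw [← SetLike.coe_ssubset_coe]
    refine ⟨hww'.closure_subset, fun h => hne ?_⟩
    exact (hww'.antisymm (specializes_iff_mem_closure.2 (h (subset_closure rfl)))).eq.symm
  have hbc : b < c := by
    rw [← SetLike.coe_ssubset_coe]
    exact ⟨hwS.trans subset_closure, fun h => hSw (subset_closure.trans h)⟩
  have hcd : c < d := by
    rw [← SetLike.coe_ssubset_coe]
    exact ⟨Set.subset_univ _, fun h => hη' (closure_minimal hS.2 hsp (h trivial))⟩
  let chain : LTSeries (IrreducibleCloseds W.left) :=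
    ((((RelSeries.singleton _ d).cons c (by exact hcd)).cons b (by simpa using hbc)).cons a
      (by simpa using hab))
  have h3 : (chain.length : WithBot ℕ∞) ≤ topologicalKrullDim W.left :=
    Order.LTSeries.length_le_krullDim chain
  replace h3 := h3.trans hdim
  simp [chain] at h3
  norm_cast at h3

/-- A morphism of finite type without specializations inside its fibres is quasi-finite. -/
theorem locallyQuasiFinite_of_no_specializes {P Q : Scheme.{u}} (f : P ⟶ Q) [LocallyOfFiniteType f]
    [QuasiCompact f] [IsLocallyNoetherian Q]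
    (hf : ∀ a b : P, a ⤳ b → f a = f b → a = b) : LocallyQuasiFinite f := by
  refine LocallyQuasiFinite.of_finite_preimage_singleton _ fun x => ?_
  haveI : IsLocallyNoetherian (f.fiber x) :=
    LocallyOfFiniteType.isLocallyNoetherian (f.fiberToSpecResidueField x)
  haveI : IsNoetherian (f.fiber x) := ⟨⟩
  have hsub : ∀ a b : f.fiber x, a ⤳ b → a = b := fun a b h => by
    refine (f.fiberι x).isEmbedding.injective (hf _ _ (h.map (f.fiberι x).continuous) ?_)
    rw [← Scheme.Hom.comp_apply, ← Scheme.Hom.comp_apply]
    have : ∀ c : f.fiber x, (f.fiberι x ≫ f) c = x := fun c => by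
      have : f.fiberι x c ∈ Set.range (f.fiberι x) := ⟨c, rfl⟩
      rw [Scheme.Hom.range_fiberι] at this
      exact this
    rw [this, this]
  have : Finite (f.fiber x) := by
    rw [← Set.finite_univ_iff]
    refine Set.Finite.subset ((NoetherianSpace.finite_irreducibleComponents (α := f.fiber x)).biUnion
      fun Z hZ => Set.Subsingleton.finite ?_) fun a _ => Set.mem_biUnion (t := fun Z : Set (f.fiber x) => Z)
        (irreducibleComponent_mem_irreducibleComponents a) mem_irreducibleComponent
    intro a ha b hb
    have hg := hZ.1.isGenericPoint_genericPoint_closure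
    rw [← hsub _ _ (hg.specializes (subset_closure ha)), hsub _ _ (hg.specializes (subset_closure hb))]
  rw [← f.range_fiberι x]
  exact Set.finite_range _

section Main

variable {C : Scheme.{u}} [IsIntegral C] {fC : C ⟶ Spec (CommRingCat.of (FractionRing R))}
  [IsProper fC]
  {XR WR : Over (Spec (CommRingCat.of R))} [IsIntegral XR.left] [IsIntegral WR.left]
  [IsProper XR.hom] [IsProper WR.hom]

/-- The identification of generic fibres extends to the normal model. -/
theorem exists_hom (hdim : topologicalKrullDim C ≤ 1)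
    (hXn : ∀ x : XR.left, IsIntegrallyClosed (XR.left.presheaf.stalk x))
    (iX : C ⟶ XR.left) (hiX : IsPullback iX fC XR.hom (Spec.map (CommRingCat.ofHom (algebraMap R (FractionRing R)))))
    (iW : C ⟶ WR.left) (hiW : IsPullback iW fC WR.hom (Spec.map (CommRingCat.ofHom (algebraMap R (FractionRing R)))))
    (H : ∀ (ξ : WR.left) (hξ : iW (genericPoint C) ⤳ ξ),
      closure ({ξ} : Set WR.left) ∈ Models.fibreComponents R WR →
        ∃ (ξ' : XR.left) (hξ' : iX (genericPoint C) ⤳ ξ'), Set.range (θ iX hξ') = Set.range (θ iW hξ)) :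
    ∃ φ : XR ⟶ WR, iX ≫ φ.left = iW := by
  set σ := Spec.map (CommRingCat.ofHom (algebraMap R (FractionRing R))) with hσdef
  obtain ⟨ϖ, hϖ⟩ := IsDiscreteValuationRing.exists_irreducible R
  haveI := Groth.Pi1Tame.isLocalization_away (K := FractionRing R) hϖ
  haveI : IsOpenImmersion σ := IsOpenImmersion.of_isLocalization ϖ
  haveI : IsOpenImmersion iX := MorphismProperty.of_isPullback hiX.flip inferInstance
  haveI : IsOpenImmersion iW := MorphismProperty.of_isPullback hiW.flip inferInstance
  have hηX : iX (genericPoint C) = genericPoint XR.left := genericPoint_eq_of_isOpenImmersion iX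
  have hηW : iW (genericPoint C) = genericPoint WR.left := genericPoint_eq_of_isOpenImmersion iW
  haveI : CompactSpace C := QuasiCompact.compactSpace_of_compactSpace fC
  haveI : IsLocallyNoetherian XR.left := LocallyOfFiniteType.isLocallyNoetherian XR.hom
  haveI : IsLocallyNoetherian WR.left := LocallyOfFiniteType.isLocallyNoetherian WR.hom
  let j : C ⟶ pullback XR.hom WR.hom := pullback.lift iX iW (hiX.w.trans hiW.w.symm)
  haveI : IsLocallyNoetherian (pullback XR.hom WR.hom : Scheme.{u}) :=
    LocallyOfFiniteType.isLocallyNoetherian (pullback.fst XR.hom WR.hom ≫ XR.hom)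
  haveI : QuasiCompact j := inferInstance
  haveI : IsIntegral j.image := Groth.PropsBasic.isIntegral_image j
  let p : j.image ⟶ XR.left := j.imageι ≫ pullback.fst _ _
  let q : j.image ⟶ WR.left := j.imageι ≫ pullback.snd _ _
  haveI : IsProper p := inferInstance
  have hjp : j.toImage ≫ p = iX := by
    rw [← Category.assoc, Scheme.Hom.toImage_imageι, pullback.lift_fst]
  have hjq : j.toImage ≫ q = iW := by
    rw [← Category.assoc, Scheme.Hom.toImage_imageι, pullback.lift_snd]
  have hj : j.toImage (genericPoint C) = genericPoint j.image := by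
    refine (IsGenericPoint.eq (genericPoint_spec _) ?_).symm
    have := (genericPoint_spec C).image j.toImage.continuous
    rwa [Set.image_univ, j.toImage.denseRange.closure_range] at this
  have hover : ∀ γ, XR.hom (p γ) = WR.hom (q γ) := fun γ => by
    rw [← Scheme.Hom.comp_apply, ← Scheme.Hom.comp_apply, Category.assoc, Category.assoc, pullback.condition]
  have hw₀ : iX ≫ XR.hom = iW ≫ WR.hom := hiX.w.trans hiW.w.symm
  have rigid' : ∀ (x : XR.left) (hx : iX (genericPoint C) ⤳ x) (h : Spec (XR.left.presheaf.stalk x) ⟶ WR.left)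
      (_ : Spec.map (θ iX hx) ≫ h = C.fromSpecStalk (genericPoint C) ≫ iW),
      ∀ γ γ', p γ = x → p γ' = x → γ = γ' := fun x hx h hh γ γ' hγ hγ' =>
    rigid XR.hom WR.hom j.imageι j.imageι.isEmbedding.injective j.toImage hj iX iW hηX hw₀ hjp hjq
      x hx h hh hγ hγ'
  haveI : LocallyQuasiFinite p := by
    refine locallyQuasiFinite_of_no_specializes p fun γ γ' hsp he => ?_
    have hgen : iX (genericPoint C) ⤳ p γ := hηX ▸ genericPoint_specializes _
    rcases mem_range_or (XR.hom (p γ)) with hs | hs
    · -- closed fibre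
      have hw : q γ ∈ Models.specialFibreSet R WR := (hover γ).symm.trans hs
      have hη' : genericPoint WR.left ∉ Models.specialFibreSet R WR := fun hmem => by
        rw [← hηW] at hmem
        have h1 : WR.hom (iW (genericPoint C)) = IsLocalRing.closedPoint R := hmem
        rw [← Scheme.Hom.comp_apply, hiW.w, Scheme.Hom.comp_apply] at h1
        have h2 : ϖ ∈ (σ (fC (genericPoint C)) : PrimeSpectrum R).asIdeal := by
          rw [h1]; exact hϖ.not_isUnit
        exact (fC (genericPoint C) : PrimeSpectrum (FractionRing R)).isPrime.ne_top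
          (Ideal.eq_top_of_isUnit_mem _ h2
            ((map_ne_zero_iff _ (IsFractionRing.injective R (FractionRing R))).2 hϖ.ne_zero).isUnit)
      haveI : Nonempty C := ⟨genericPoint C⟩
      rcases component_or_closed (ArithDim.dim_le_two fC iW hiW hdim) hη' hw with hc | hc
      · have hξ : iW (genericPoint C) ⤳ q γ := hηW ▸ genericPoint_specializes _
        obtain ⟨ξ', hξ', hr⟩ := H (q γ) hξ hc
        obtain ⟨E, hE⟩ := exists_iso_of_range iX iW hηX hηW hξ' hξ hr
        have hE' : E.inv ≫ θ iW hξ = θ iX hξ' := by rw [← hE, E.inv_hom_id_assoc]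
        have hξj : (j.toImage ≫ q) (genericPoint C) ⤳ q γ := by rw [hjq]; exact hξ
        have hxy : p γ = ξ' := by
          refine (point_eq_of_generic XR.hom j.toImage hj q p γ
            (Spec.map E.inv ≫ XR.left.fromSpecStalk ξ') hξj
            (by rw [θ_congr hjq hξj hξ, ← Spec.map_comp_assoc, hE', spec_θ, hjp])).trans ?_
          rw [Scheme.Hom.comp_apply]
          refine (congrArg _ ?_).trans Scheme.fromSpecStalk_closedPoint
          exact IsLocalRing.comap_closedPoint _
        refine rigid' ξ' hξ' (Spec.map E.hom ≫ WR.left.fromSpecStalk (q γ)) ?_ γ γ' hxy (he ▸ hxy)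
        rw [← Spec.map_comp_assoc, hE, spec_θ]
      · -- over a closed point of `W` the fibre is finite
        have hq : q γ' = q γ := (hsp.map q.continuous).mem_closed hc rfl
        exact j.imageι.isEmbedding.injective (eq_over_closed XR.hom WR.hom (q γ) hc
          (hsp.map j.imageι.continuous) rfl hq he)
    · -- generic fibre
      obtain ⟨z, hz⟩ := hs
      obtain ⟨c, hc, -⟩ := Scheme.exists_preimage_of_isPullback hiX (p γ) z hz.symm
      have hcη : genericPoint C ⤳ c := genericPoint_specializes c
      have hgen' : iX (genericPoint C) ⤳ iX c := hcη.map iX.continuous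
      refine rigid' (iX c) hgen' (Spec.map (inv (iX.stalkMap c)) ≫ C.fromSpecStalk c ≫ iW) ?_ γ γ'
        hc.symm (he ▸ hc.symm)
      have : θ iX hgen' = iX.stalkMap c ≫ C.presheaf.stalkSpecializes hcη := by
        rw [θ, Scheme.Hom.stalkSpecializes_stalkMap]
      rw [← Spec.map_comp_assoc, this, IsIso.inv_hom_id_assoc, Scheme.SpecMap_stalkSpecializes_fromSpecStalk_assoc]
  haveI : IsFinite p := IsFinite.of_isProper_of_locallyQuasiFinite p
  have hpgen : p (genericPoint j.image) = genericPoint XR.left := by
    rw [← hj, ← Scheme.Hom.comp_apply, hjp, hηX]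
  have hbir : IsIso (p.stalkMap (genericPoint j.image)) := by
    refine Groth.LocImmersion.BirationalNormal.isIso_stalkMap_of_eq p hj ?_
    haveI hiso : IsIso ((j.toImage ≫ p).stalkMap (genericPoint C)) := by
      rw [Scheme.Hom.stalkMap_congr_hom _ _ hjp]; infer_instance
    rw [Scheme.Hom.stalkMap_comp] at hiso
    have hb := @ConcreteCategory.bijective_of_isIso _ _ _ _ _ _ _ _ _ hiso
    have hinj : Function.Injective (j.toImage.stalkMap (genericPoint C)) := by
      have h2 : IsField (j.image.presheaf.stalk (j.toImage (genericPoint C))) :=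
        hj ▸ Field.toIsField j.image.functionField
      letI := h2.toField
      exact RingHom.injective (j.toImage.stalkMap (genericPoint C)).hom
    refine (ConcreteCategory.isIso_iff_bijective _).2 ⟨fun a b h => hb.1 ?_, fun a => ?_⟩
    · exact congrArg (j.toImage.stalkMap (genericPoint C)) h
    · obtain ⟨b, hb⟩ := hb.2 (j.toImage.stalkMap (genericPoint C) a)
      exact ⟨b, hinj hb⟩
  haveI : IsIso p := Groth.LocImmersion.BirationalNormal.isIso_of_isIntegralHom hXn p hpgen hbir
  refine ⟨Over.homMk (inv p ≫ q) ?_, ?_⟩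
  · rw [Category.assoc, IsIso.inv_comp_eq, Category.assoc, Category.assoc, pullback.condition]
  · change iX ≫ inv p ≫ q = iW
    rw [← hjp, Category.assoc, IsIso.hom_inv_id_assoc, hjq]

end Main

end Groth.ModelsGraphs.ModelHom
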