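import Groth.Prelude.Def_Models
import Groth.Agent.ModelsGraphs.Form

/-! Basic facts on numerical types. -/

namespace Groth.ModelsGraphs

open Finset Matrix Models

/-- A connected matrix on `n` indices has at least `n - 1` edges inside some enumeration. -/
theorem card_edges_of_connected {n : ℕ} {M : Type*} [Zero M] [LT M] [DecidableLT M] (A : Matrix (Fin n) (Fin n) M)
    (hconn : ∀ I : Finset (Fin n), I.Nonempty → I ≠ univ → ∃ i ∈ I, ∃ j ∉ I, 0 < A i j ∧ 0 < A j i) :
    n ≤ (univ.filter fun p : Fin n × Fin n => p.1 < p.2 ∧ 0 < A p.1 p.2).card + 1 := by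
  classical
  set E := univ.filter fun p : Fin n × Fin n => p.1 < p.2 ∧ 0 < A p.1 p.2
  have key : ∀ k, k ≤ n → ∃ I : Finset (Fin n), I.card = k ∧
      k ≤ (E.filter fun p => p.1 ∈ I ∧ p.2 ∈ I).card + 1 := by
    intro k
    induction k with
    | zero => exact fun _ => ⟨∅, by simp, by simp⟩
    | succ k ih =>
      intro hk
      obtain ⟨I, hI, hle⟩ := ih (by omega)
      rcases I.eq_empty_or_nonempty with rfl | hne
      · have : k = 0 := by simpa using hI.symm
        subst this
        exact ⟨{⟨0, by omega⟩}, by simp, by omega⟩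
      have hIu : I ≠ univ := fun h => by rw [h, card_univ, Fintype.card_fin] at hI; omega
      obtain ⟨i, hi, j, hj, hij, hji⟩ := hconn I hne hIu
      refine ⟨insert j I, by rw [card_insert_of_notMem hj, hI], ?_⟩
      have hne' : i ≠ j := fun h => hj (h ▸ hi)
      let p : Fin n × Fin n := if i < j then (i, j) else (j, i)
      have hp : p ∈ E.filter (fun p => p.1 ∈ insert j I ∧ p.2 ∈ insert j I) ∧
          p ∉ E.filter (fun p => p.1 ∈ I ∧ p.2 ∈ I) := by
        by_cases h : i < j
        · simp [p, h, E, hij, hi, hj]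
        · have hlt : j < i := lt_of_le_of_ne (not_lt.1 h) hne'.symm
          simp [p, h, E, hji, hi, hj, hlt]
      have hlt : (E.filter fun p => p.1 ∈ I ∧ p.2 ∈ I).card <
          (E.filter fun p => p.1 ∈ insert j I ∧ p.2 ∈ insert j I).card := by
        apply card_lt_card
        rw [ssubset_iff_of_subset]
        · exact ⟨p, hp.1, hp.2⟩
        · intro q hq
          simp only [mem_filter, mem_insert] at hq ⊢
          exact ⟨hq.1, Or.inr hq.2.1, Or.inr hq.2.2⟩
      omega
  obtain ⟨I, -, hle⟩ := key n le_rfl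
  exact hle.trans (by gcongr; exact filter_subset _ _)

variable {n : ℕ} (T : NumericalType n)

theorem a_comm (i j : Fin n) : T.a i j = T.a j i := T.symm.apply j i

theorem w_dvd' (i j : Fin n) : T.w j ∣ T.a i j := by rw [a_comm]; exact T.w_dvd j i

theorem row_sum (i : Fin n) : ∑ j, T.a i j * T.m j = 0 := congrFun T.mulVec_m i

theorem row_split (i : Fin n) : ∑ j ∈ univ.erase i, T.a i j * T.m j = -(T.a i i * T.m i) := by
  have := row_sum T i
  rw [← add_sum_erase univ _ (mem_univ i)] at this
  omega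

theorem offDiag_mul_nonneg {i j : Fin n} (h : j ≠ i) : 0 ≤ T.a i j * T.m j :=
  mul_nonneg (T.offDiag_nonneg i j h.symm) (T.m_pos j).le

theorem sum_le_row (i : Fin n) (S : Finset (Fin n)) (hS : i ∉ S) :
    ∑ j ∈ S, T.a i j * T.m j ≤ -(T.a i i * T.m i) := by
  rw [← row_split]
  exact sum_le_sum_of_subset_of_nonneg (fun j hj => mem_erase.2 ⟨fun h => hS (h ▸ hj), mem_univ j⟩)
    fun j hj _ => offDiag_mul_nonneg T (mem_erase.1 hj).1

theorem diag_nonpos (i : Fin n) : T.a i i ≤ 0 := by
  have := sum_le_row T i ∅ (notMem_empty i)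
  have := T.m_pos i
  simp only [sum_empty] at *
  nlinarith

theorem exists_nbr (hn : 1 < n) (i : Fin n) : ∃ j, j ≠ i ∧ 0 < T.a i j := by
  obtain ⟨a, ha, b, hb, hab⟩ := T.connected {i} (singleton_nonempty i) (fun h => by
    have := congrArg card h; simp at this; omega)
  simp only [mem_singleton] at ha hb
  subst ha
  exact ⟨b, hb, lt_of_le_of_ne (T.offDiag_nonneg _ _ (Ne.symm hb)) (Ne.symm hab)⟩

theorem diag_neg (hn : 1 < n) (i : Fin n) : T.a i i < 0 := by
  obtain ⟨j, hj, hpos⟩ := exists_nbr T hn i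
  have h := sum_le_row T i {j} (by simpa using hj.symm)
  simp only [sum_singleton] at h
  have := mul_pos hpos (T.m_pos j)
  have := T.m_pos i
  nlinarith

theorem w_le_of_pos {i j : Fin n} (h : 0 < T.a i j) : T.w i ≤ T.a i j ∧ T.w j ≤ T.a i j :=
  ⟨Int.le_of_dvd h (T.w_dvd i j), Int.le_of_dvd h (w_dvd' T i j)⟩

theorem ne_of_pos {i j : Fin n} (h : 0 < T.a i j) : i ≠ j :=
  fun e => absurd (diag_nonpos T i) (by subst e; omega)

theorem a_mul_le {i j : Fin n} (h : i ≠ j) : T.m i * T.a i j ≤ T.m j * |T.a j j| := by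
  have := sum_le_row T j {i} (by simpa using h.symm)
  simp only [sum_singleton] at this
  rw [abs_of_nonpos (diag_nonpos T j), a_comm T i j]
  linarith

/-- Twice the contribution of an index to `genus - 1`. -/
def contrib (i : Fin n) : ℤ := T.m i * (2 * T.w i * (T.g i - 1) - T.a i i)

theorem two_dvd_sum : (2 : ℤ) ∣ ∑ i, T.m i * T.a i i := by
  classical
  apply (ZMod.intCast_zmod_eq_zero_iff_dvd _ 2).1
  push_cast
  have h : ∑ p : Fin n × Fin n, (T.m p.1 * T.a p.1 p.2 * T.m p.2 : ZMod 2) = 0 := by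
    rw [← univ_product_univ, sum_product]
    have h0 : ∀ i, ∑ j, (T.m i * T.a i j * T.m j : ZMod 2) = 0 := fun i => by
      have := congrArg (fun z : ℤ => (z : ZMod 2)) (row_sum T i)
      push_cast at this
      simp only [mul_assoc, ← mul_sum, this, mul_zero]
    simp [h0]
  have h2 : ∑ p ∈ univ.filter (fun p : Fin n × Fin n => ¬ p.1 = p.2),
      (T.m p.1 * T.a p.1 p.2 * T.m p.2 : ZMod 2) = 0 := by
    apply sum_involution (fun p _ => (p.2, p.1))
    · intro p _
      rw [a_comm T p.2 p.1]
      have h2 : (2 : ZMod 2) = 0 := rfl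
      linear_combination (T.m p.1 * T.a p.1 p.2 * T.m p.2 : ZMod 2) * h2
    · intro p hp _ he; exact (mem_filter.1 hp).2 (Prod.ext_iff.1 he).2
    · intro p hp; simpa [eq_comm] using hp
    · intro p _; rfl
  rw [← sum_filter_add_sum_filter_not univ (fun p : Fin n × Fin n => p.1 = p.2), h2, add_zero] at h
  rw [← h]
  refine sum_bij' (fun i _ => (i, i)) (fun p _ => p.1) (by simp) (by simp) (by simp)
    (by simp) fun i _ => ?_
  have hsq : ∀ z : ZMod 2, z * z = z := by decide
  linear_combination (-(T.a i i : ZMod 2)) * hsq (T.m i)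

theorem two_genus : 2 * (T.genus - 1) = ∑ i, contrib T i := by
  obtain ⟨c, hc⟩ := two_dvd_sum T
  have : ∑ i, contrib T i = 2 * (∑ i, T.m i * T.w i * (T.g i - 1)) - ∑ i, T.m i * T.a i i := by
    rw [mul_sum, ← sum_sub_distrib]
    exact sum_congr rfl fun i _ => by rw [contrib]; ring
  rw [this, NumericalType.genus, hc, Int.mul_ediv_cancel_left _ two_ne_zero]
  ring

theorem exists_k (hn : 1 < n) (i : Fin n) : ∃ k : ℤ, 1 ≤ k ∧ T.a i i = -(k * T.w i) ∧
    contrib T i = T.m i * T.w i * (2 * T.g i - 2 + k) := by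
  obtain ⟨c, hc⟩ := T.w_dvd i i
  have := diag_neg T hn i
  have := T.w_pos i
  refine ⟨-c, by nlinarith, by rw [hc]; ring, by rw [contrib, hc]; ring⟩

theorem isMinusOne_of_neg (hn : 1 < n) (i : Fin n) (h : contrib T i < 0) : T.IsMinusOne i := by
  obtain ⟨k, hk, ha, hc⟩ := exists_k T hn i
  have := mul_pos (T.m_pos i) (T.w_pos i)
  have := T.g_nonneg i
  have h1 : 2 * T.g i - 2 + k < 0 := by nlinarith
  obtain rfl : k = 1 := by omega
  exact ⟨by omega, by rw [ha]; ring⟩

theorem isMinusTwo_iff (hn : 1 < n) (i : Fin n) :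
    T.IsMinusTwo i ↔ contrib T i = 0 := by
  refine ⟨fun h => by rw [contrib, h.1, h.2]; ring, fun h => ?_⟩
  obtain ⟨k, hk, ha, hc⟩ := exists_k T hn i
  have := (mul_pos (T.m_pos i) (T.w_pos i)).ne'
  have := T.g_nonneg i
  rw [hc, mul_eq_zero] at h
  rcases h with h | h
  · contradiction
  obtain rfl : k = 2 := by omega
  exact ⟨by omega, by rw [ha]; ring⟩

theorem contrib_nonneg (hmin : T.IsMinimal) (hn : 1 < n) (i : Fin n) : 0 ≤ contrib T i :=
  not_lt.1 fun h => hmin i (isMinusOne_of_neg T hn i h)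

theorem one_le_genus (hmin : T.IsMinimal) (hn : 1 < n) : 1 ≤ T.genus := by
  have := two_genus T
  have := sum_nonneg (fun i (_ : i ∈ univ) => contrib_nonneg T hmin hn i)
  omega

theorem card_le_edgeCount_succ : n ≤ T.edgeCount + 1 :=
  card_edges_of_connected T.a fun I h1 h2 => by
    obtain ⟨i, hi, j, hj, h⟩ := T.connected I h1 h2
    have hne : i ≠ j := fun e => hj (e ▸ hi)
    have hpos := lt_of_le_of_ne (T.offDiag_nonneg i j hne) h.symm
    exact ⟨i, hi, j, hj, hpos, by rwa [a_comm]⟩

theorem topGenus_nonneg : 0 ≤ T.topGenus := by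
  have := card_le_edgeCount_succ T
  unfold NumericalType.topGenus
  omega

/-- Number of neighbours of `i` inside `S`. -/
def degIn (S : Finset (Fin n)) (i : Fin n) : ℕ := (S.filter fun j => 0 < T.a i j).card

theorem sum_degIn_le_contrib (hmin : T.IsMinimal) (hn : 1 < n) :
    ∀ S : Finset (Fin n), ∑ i ∈ S, ((degIn T S i : ℤ) - 2) ≤ ∑ i ∈ S, contrib T i := by
  intro S
  induction S using Finset.strongInduction with
  | _ S ih =>
    by_cases h : ∃ i ∈ S, degIn T S i ≤ 1
    · obtain ⟨i, hi, hdeg⟩ := h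
      have h1 := ih (S.erase i) (erase_ssubset hi)
      have hd : ∀ j ∈ S, (degIn T S j : ℤ) =
          degIn T (S.erase i) j + (if 0 < T.a i j then 1 else 0) := by
        intro j _
        unfold degIn
        have e : S = insert i (S.erase i) := (insert_erase hi).symm
        conv_lhs => rw [e, filter_insert, a_comm T j i]
        split_ifs <;> simp
      have hsum : ∑ j ∈ S, (if 0 < T.a i j then (1 : ℤ) else 0) = degIn T S i := by
        simp [degIn, sum_boole]
      have hii : ¬ 0 < T.a i i := by have := diag_nonpos T i; omega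
      rw [← add_sum_erase S _ hi] at hsum ⊢
      rw [← add_sum_erase S (fun j => contrib T j) hi,
        sum_congr rfl fun j hj => by rw [hd j (mem_of_mem_erase hj)]]
      simp only [hii, if_false, sum_add_distrib, sum_sub_distrib] at *
      have := contrib_nonneg T hmin hn i
      omega
    · simp only [not_exists, not_and, not_le] at h
      have hterm : ∀ i ∈ S, ((degIn T S i : ℤ) - 2) * (T.m i * T.w i) ≤
          contrib T i + (∑ j ∈ S.filter (fun j => 0 < T.a i j), (T.m i * T.w i - T.a i j * T.m j)) := by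
        intro i _
        have h1 : ∑ j ∈ S.filter (fun j => 0 < T.a i j), T.a i j * T.m j ≤ -(T.a i i * T.m i) :=
          sum_le_row T i _ fun hh => by have := diag_nonpos T i; simp at hh; omega
        rw [sum_sub_distrib, sum_const, contrib, degIn]
        have := mul_nonneg (mul_pos (T.m_pos i) (T.w_pos i)).le (T.g_nonneg i)
        simp only [nsmul_eq_mul]
        linarith
      have hsym : ∑ i ∈ S, ∑ j ∈ S.filter (fun j => 0 < T.a i j), (T.m i * T.w i - T.a i j * T.m j) ≤ 0 := by
        have e : ∑ i ∈ S, ∑ j ∈ S.filter (fun j => 0 < T.a i j), T.a i j * T.m j =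
            ∑ i ∈ S, ∑ j ∈ S.filter (fun j => 0 < T.a i j), T.a i j * T.m i := by
          simp only [sum_filter]
          rw [sum_comm]
          exact sum_congr rfl fun i _ => sum_congr rfl fun j _ => by rw [a_comm T j i]
        simp only [sum_sub_distrib, e, sub_nonpos]
        refine sum_le_sum fun i _ => sum_le_sum fun j hj => ?_
        rw [mul_comm]
        exact mul_le_mul_of_nonneg_right (w_le_of_pos T (mem_filter.1 hj).2).1 (T.m_pos i).le
      have h2 : ∑ i ∈ S, ((degIn T S i : ℤ) - 2) ≤ ∑ i ∈ S, ((degIn T S i : ℤ) - 2) * (T.m i * T.w i) :=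
        sum_le_sum fun i hi => le_mul_of_one_le_right (by have := h i hi; omega)
          (mul_pos (T.m_pos i) (T.w_pos i))
      have := sum_le_sum hterm
      rw [sum_add_distrib] at this
      linarith

theorem sum_degIn_univ : ∑ i, degIn T univ i = 2 * T.edgeCount := by
  classical
  have hz : ∀ i, ¬ 0 < T.a i i := fun i => by have := diag_nonpos T i; omega
  simp only [degIn, NumericalType.edgeCount, card_filter]
  rw [← univ_product_univ, sum_product]
  have e : ∀ i j : Fin n, (if 0 < T.a i j then 1 else 0 : ℕ) =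
      (if i < j ∧ 0 < T.a i j then 1 else 0) + (if j < i ∧ 0 < T.a j i then 1 else 0) := by
    intro i j
    rcases lt_trichotomy i j with h | h | h
    · simp [h, h.not_gt]
    · subst h; simp [hz]
    · simp [h, h.not_gt, a_comm T i j]
  simp only [e, sum_add_distrib, two_mul]
  congr 1
  exact sum_comm

theorem topGenus_le_genus (hmin : T.IsMinimal) (hn : 1 < n) : T.topGenus ≤ T.genus := by
  have h := sum_degIn_le_contrib T hmin hn univ
  have h2 := two_genus T
  have h3 : (∑ i, (degIn T univ i : ℤ)) = 2 * (T.edgeCount : ℤ) := by exact_mod_cast sum_degIn_univ T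
  simp only [sum_sub_distrib, sum_const, card_univ, Fintype.card_fin, nsmul_eq_mul] at h
  unfold NumericalType.topGenus
  omega

theorem single_index_aux (T : NumericalType 1) :
    T.a 0 0 = 0 ∧ T.genus = 1 + T.m 0 * T.w 0 * (T.g 0 - 1) := by
  have h := row_sum T 0
  simp only [Fin.sum_univ_one, mul_eq_zero] at h
  have ha : T.a 0 0 = 0 := h.resolve_right (T.m_pos 0).ne'
  exact ⟨ha, by simp [NumericalType.genus, ha]⟩

theorem eq_trivial_of_minimal_genus_zero (hmin : T.IsMinimal) (hg : T.genus = 0) :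
    n = 1 ∧ ∀ i, T.m i = 1 ∧ T.a i i = 0 ∧ T.w i = 1 ∧ T.g i = 0 := by
  have hn : n = 1 := by
    by_contra h
    have := one_le_genus T hmin (by have := T.pos; omega)
    omega
  subst hn
  refine ⟨rfl, fun i => ?_⟩
  obtain rfl : i = 0 := Subsingleton.elim _ _
  obtain ⟨ha, hge⟩ := single_index_aux T
  have := T.g_nonneg 0
  have hp := mul_pos (T.m_pos 0) (T.w_pos 0)
  have h1 : T.m 0 * T.w 0 * (T.g 0 - 1) = -1 := by omega
  have hg0 : T.g 0 = 0 := by nlinarith
  rw [hg0] at h1
  have hmw : T.m 0 * T.w 0 = 1 := by linarith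
  exact ⟨Int.eq_one_of_mul_eq_one_right (T.m_pos 0).le hmw, ha,
    Int.eq_one_of_mul_eq_one_left (T.w_pos 0).le hmw, hg0⟩

theorem bounds_non_minusTwo (hmin : T.IsMinimal) (hn : 1 < n) (hg : 2 ≤ T.genus) [DecidablePred T.IsMinusTwo] :
    ((univ.filter fun j => ¬T.IsMinusTwo j).card : ℤ) ≤ 2 * T.genus - 2 ∧
      ∀ j, ¬T.IsMinusTwo j →
        T.g j < T.genus ∧ T.m j * |T.a j j| ≤ 6 * T.genus - 6 ∧
          ∀ i, T.m i * T.a i j ≤ 6 * T.genus - 6 := by
  have hs := two_genus T
  have h0 := contrib_nonneg T hmin hn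
  have h1 : ∀ j, ¬T.IsMinusTwo j → 1 ≤ contrib T j := fun j hj => by
    have := h0 j; have := mt (isMinusTwo_iff T hn j).2 hj; omega
  have hle : ∀ j, contrib T j ≤ 2 * (T.genus - 1) := fun j =>
    hs ▸ single_le_sum (fun i _ => h0 i) (mem_univ j)
  refine ⟨?_, fun j hj => ?_⟩
  · calc ((univ.filter fun j => ¬T.IsMinusTwo j).card : ℤ)
        = ∑ _j ∈ univ.filter (fun j => ¬T.IsMinusTwo j), (1 : ℤ) := by simp
      _ ≤ ∑ j ∈ univ.filter (fun j => ¬T.IsMinusTwo j), contrib T j :=
          sum_le_sum fun j hj => h1 j (mem_filter.1 hj).2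
      _ ≤ ∑ j, contrib T j := sum_le_sum_of_subset_of_nonneg (subset_univ _) fun i _ _ => h0 i
      _ = _ := by omega
  · obtain ⟨k, hk, ha, hc⟩ := exists_k T hn j
    have hp := mul_pos (T.m_pos j) (T.w_pos j)
    have hcl := hle j
    have hc1 := h1 j hj
    have := T.g_nonneg j
    have hq : 1 ≤ 2 * T.g j - 2 + k := by
      by_contra hh
      nlinarith
    have hgj : 2 * T.g j - 2 + k ≤ contrib T j := by rw [hc]; nlinarith
    have habs : T.m j * |T.a j j| ≤ 6 * T.genus - 6 := by
      rw [abs_of_nonpos (diag_nonpos T j), ha, neg_neg]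
      have h3 : k ≤ 3 * (2 * T.g j - 2 + k) := by omega
      calc T.m j * (k * T.w j) = T.m j * T.w j * k := by ring
        _ ≤ T.m j * T.w j * (3 * (2 * T.g j - 2 + k)) := by gcongr
        _ ≤ _ := by rw [hc] at hcl; linarith
    refine ⟨by omega, habs, fun i => ?_⟩
    by_cases hij : i = j
    · subst hij; nlinarith [diag_nonpos T i, T.m_pos i]
    · exact (a_mul_le T hij).trans habs

end Groth.ModelsGraphs
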