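import Groth.Agent.ModelsGraphs.NodalContractAux
import Groth.Agent.Divisors.BlowUpBasic
import Groth.Agent.Curves1.Node.NodalLocus
import Groth.Prelude.Def_ModelsG

/-!
# Contractions of nodal families
-/

set_option autoImplicit false
set_option backward.isDefEq.respectTransparency.types false

universe u

open CategoryTheory Limits AlgebraicGeometry TopologicalSpace
open Groth.Curves1.Node

namespace Groth.ModelsGraphs.NodalContract

theorem locallyOfFinitePresentation {R : Type u} [CommRing R] [IsNoetherianRing R] {X : Scheme.{u}}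
    (f : X ⟶ Spec (CommRingCat.of R)) [LocallyOfFiniteType f] : LocallyOfFinitePresentation f :=
  inferInstance

variable {R : Type u} [CommRing R] [IsDomain R] [IsDiscreteValuationRing R]
  {X X' : Scheme.{u}} (p : X ⟶ Spec (CommRingCat.of R)) (p' : X' ⟶ Spec (CommRingCat.of R))
  (b : X ⟶ X') (hcomm : b ≫ p' = p) (hp : Curv2.IsNodalFamily p)
  (x₀ : X') (hx₀ : IsClosed ({x₀} : Set X'))
  (U : X'.Opens) (hU : ∀ y, y ∈ U ↔ y ≠ x₀) [IsIso (b ∣_ U)]

include hcomm hp in
omit [IsDiscreteValuationRing R] [IsDomain R] in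
theorem nodal_off : Curv2.IsNodalFamily (U.ι ≫ p') := by
  have h1 := Groth.Curves1.Node.isNodalFamily_comp_etale _
    (Groth.Curves1.Node.isNodalFamily_comp_etale p hp (b ⁻¹ᵁ U).ι) (inv (b ∣_ U))
  have h2 : inv (b ∣_ U) ≫ (b ⁻¹ᵁ U).ι ≫ p = U.ι ≫ p' := by
    rw [IsIso.inv_comp_eq, morphismRestrict_ι_assoc, hcomm]
  exact h2 ▸ h1

include hU in
omit [IsIso (b ∣_ U)] in
theorem exists_fiber_preimage {s : Spec (CommRingCat.of R)} (w : p'.fiber s) (h : p'.fiberι s w ≠ x₀) :
    ∃ v, fibreMapSource U.ι p' s v = w :=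
  mem_range_fibreMapSource U.ι p' s w (by rw [Scheme.Opens.range_ι]; exact (hU _).2 h)

include hcomm hp hx₀ hU in
/-- A two-dimensional point which is the image of a curve lies in the closed fibre. -/
theorem map_eq_closedPoint [IsProper b] [IsRegularLocalRing (X'.presheaf.stalk x₀)]
    (hd : ringKrullDim (X'.presheaf.stalk x₀) = 2) : p' x₀ = IsLocalRing.closedPoint R := by
  by_contra hne
  haveI : IsDomain (X'.presheaf.stalk x₀) := Groth.Ega4Algebra1.isDomain_of_isRegularLocalRing _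
  -- a chain of two generizations
  obtain ⟨a, ha, ha0⟩ : ∃ a ∈ IsLocalRing.maximalIdeal (X'.presheaf.stalk x₀), a ≠ 0 := by
    by_contra! hall
    have : IsField (X'.presheaf.stalk x₀) := IsLocalRing.isField_iff_maximalIdeal_eq.2
      (eq_bot_iff.2 fun z hz => (Submodule.mem_bot _).2 (hall z hz))
    rw [ringKrullDim_eq_zero_of_isField this] at hd
    exact absurd hd (by norm_num)
  obtain ⟨q, hq⟩ := Ideal.nonempty_minimalPrimes (I := Ideal.span {a})
    (fun h1 => (IsLocalRing.maximalIdeal.isMaximal _).ne_top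
      (top_le_iff.1 (h1 ▸ (Ideal.span_singleton_le_iff_mem _).2 ha)))
  haveI := hq.1.1
  have hq1 : q.height ≤ 1 := Ideal.height_le_one_of_isPrincipal_of_mem_minimalPrimes _ _ hq
  have hq0 : q.height ≠ 0 := fun h1 => by
    rw [Ideal.height_eq_zero_iff, IsDomain.minimalPrimes_eq_singleton_bot, Set.mem_singleton_iff] at h1
    exact ha0 ((Submodule.mem_bot _).1 (h1 ▸ hq.1.2 (Ideal.mem_span_singleton_self a)))
  obtain ⟨y₁, hy₁, -, hd₁⟩ := Groth.RefRank.exists_generization_of_prime q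
  obtain ⟨m, hm⟩ := Ideal.nonempty_minimalPrimes (I := (⊥ : Ideal (X'.presheaf.stalk y₁))) bot_ne_top
  haveI := hm.1.1
  obtain ⟨y₂, hy₂, -, hd₂⟩ := Groth.RefRank.exists_generization_of_prime m
  have hm0 : m.height = 0 := Ideal.height_eq_zero_iff.2 hm
  have hne₁ : y₁ ≠ x₀ := by
    rintro rfl
    rw [hd₁] at hd
    have h2 : q.height = 2 := WithBot.coe_inj.1 hd
    rw [h2] at hq1
    exact absurd hq1 (by decide)
  have hne₂ : y₂ ≠ y₁ := by
    rintro rfl
    rw [hd₁, hm0] at hd₂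
    exact hq0 (by exact_mod_cast hd₂)
  have hne₂' : y₂ ≠ x₀ := fun h => hne₁ (((h ▸ hy₂ : x₀ ⤳ y₁).antisymm hy₁).eq.symm)
  -- preimages
  obtain ⟨⟨z₁, hz₁U⟩, hz₁⟩ := (b ∣_ U).surjective ⟨y₁, (hU _).2 hne₁⟩
  obtain ⟨⟨z₂, hz₂U⟩, hz₂⟩ := (b ∣_ U).surjective ⟨y₂, (hU _).2 hne₂'⟩
  have hb₁ : b z₁ = y₁ := by
    rw [← show U.ι ((b ∣_ U) ⟨z₁, hz₁U⟩) = y₁ from congrArg U.ι hz₁, ← Scheme.Hom.comp_apply, morphismRestrict_ι]
    rfl
  have hb₂ : b z₂ = y₂ := by
    rw [← show U.ι ((b ∣_ U) ⟨z₂, hz₂U⟩) = y₂ from congrArg U.ι hz₂, ← Scheme.Hom.comp_apply, morphismRestrict_ι]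
    rfl
  have hz : (⟨z₂, hz₂U⟩ : b ⁻¹ᵁ U) ⤳ ⟨z₁, hz₁U⟩ :=
    (b ∣_ U).isEmbedding.specializes_iff.1 (U.ι.isEmbedding.specializes_iff.1 (by
      rw [hz₁, hz₂]; exact hy₂))
  have hz' : z₂ ⤳ z₁ := hz.map (b ⁻¹ᵁ U).ι.continuous
  obtain ⟨e, he, hbe⟩ : ∃ e, z₁ ⤳ e ∧ b e = x₀ := by
    have hcl := b.isClosedMap _ (isClosed_closure (s := ({z₁} : Set X)))
    have h1 : x₀ ∈ b '' closure {z₁} :=
      hy₁.mem_closed hcl ⟨z₁, subset_closure rfl, hb₁⟩
    obtain ⟨e, he, hbe⟩ := h1
    exact ⟨e, specializes_iff_mem_closure.2 he, hbe⟩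
  have hgen : ∀ z : Spec (CommRingCat.of R), z ⤳ p' x₀ → z = p' x₀ := fun z hz => by
    refine PrimeSpectrum.ext (le_antisymm ((PrimeSpectrum.le_iff_specializes z (p' x₀)).2 hz) ?_)
    rcases eq_or_ne (p' x₀).asIdeal ⊥ with h1 | h1
    · rw [h1]; exact bot_le
    · exact absurd (PrimeSpectrum.ext (IsLocalRing.eq_maximalIdeal ((p' x₀).isPrime.isMaximal h1))) hne
  have hp1 : ∀ z, b z ⤳ x₀ → p z = p' x₀ := fun z hz => by
    rw [← hcomm, Scheme.Hom.comp_apply]
    exact hgen _ (hz.map p'.continuous)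
  have hpz₁ : p z₁ = p' x₀ := hp1 _ (hb₁ ▸ hy₁)
  have hpz₂ : p z₂ = p' x₀ := hp1 _ (hb₂ ▸ hy₂.trans hy₁)
  have hpe : p e = p' x₀ := hp1 _ (hbe ▸ specializes_rfl)
  haveI : LocallyOfFinitePresentation p := hp.2.1
  haveI : @LocallyOfFiniteType (p.fiber (p' x₀))
      (Spec (CommRingCat.of ((Spec (CommRingCat.of R)).residueField (p' x₀)))) (p.fiberToSpecResidueField (p' x₀)) :=
    MorphismProperty.pullback_snd (P := @LocallyOfFiniteType) _ _ inferInstance
  obtain ⟨w₂, hw₂⟩ : z₂ ∈ Set.range (p.fiberι (p' x₀)) := by rw [Scheme.Hom.range_fiberι]; exact hpz₂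
  obtain ⟨w₁, hw₁⟩ : z₁ ∈ Set.range (p.fiberι (p' x₀)) := by rw [Scheme.Hom.range_fiberι]; exact hpz₁
  obtain ⟨w₀, hw₀⟩ : e ∈ Set.range (p.fiberι (p' x₀)) := by rw [Scheme.Hom.range_fiberι]; exact hpe
  refine false_of_chain (p.fiberToSpecResidueField (p' x₀)) (MorphismProperty.pullback_snd (P := @LocallyOfFiniteType) _ _ inferInstance) (hp.2.2 _).1 (a := w₂) (b := w₁) (c := w₀)
    ?_ ?_ ?_ ?_
  · rw [← (p.fiberι _).isEmbedding.specializes_iff, hw₂, hw₁]; exact hz'
  · rintro rfl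
    exact hne₂ (hb₂.symm.trans ((congrArg b (hw₂.symm.trans hw₁)).trans hb₁))
  · rw [← (p.fiberι _).isEmbedding.specializes_iff, hw₁, hw₀]; exact he
  · rintro rfl
    exact hne₁ (hb₁.symm.trans ((congrArg b (hw₁.symm.trans hw₀)).trans hbe))

include hcomm hp hx₀ in
omit [IsIso (b ∣_ U)] in
/-- The image of a component of the reduced closed fibre: the uniformizer is a regular parameter and
the residue field is separable. -/
theorem point_data {s : Spec (CommRingCat.of R)} (hx₀s : p' x₀ = s) (hs : s = IsLocalRing.closedPoint R) {π : R} (hπ : Irreducible π)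
    {e₁ e₂ : X} (he : e₁ ⤳ e₂) (hne : e₁ ≠ e₂) (h₁ : b e₁ = x₀) (h₂ : b e₂ = x₀)
    (w : p'.fiber s) (hw : p'.fiberι _ w = x₀) :
    Models.stalkHom R (Over.mk p') x₀ π ≠ 0 ∧
      Models.stalkHom R (Over.mk p') x₀ π ∈ IsLocalRing.maximalIdeal (X'.presheaf.stalk x₀) ∧
      Models.stalkHom R (Over.mk p') x₀ π ∉ IsLocalRing.maximalIdeal (X'.presheaf.stalk x₀) ^ 2 ∧
      (letI : (p'.fiber s).Over
          (Spec (CommRingCat.of ((Spec (CommRingCat.of R)).residueField s))) :=
          ⟨p'.fiberToSpecResidueField _⟩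
       letI := Curv2.resAlgebra ((Spec (CommRingCat.of R)).residueField s)
          (p'.fiber s) w
       Algebra.IsSeparable ((Spec (CommRingCat.of R)).residueField s)
          ((p'.fiber s).residueField w)) := by
  let k := (Spec (CommRingCat.of R)).residueField s
  haveI : LocallyOfFinitePresentation p := hp.2.1
  haveI : Flat p := hp.1
  letI : (p.fiber s).Over (Spec (CommRingCat.of k)) := ⟨p.fiberToSpecResidueField s⟩
  letI : (p'.fiber s).Over (Spec (CommRingCat.of k)) := ⟨p'.fiberToSpecResidueField s⟩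
  haveI : LocallyOfFinitePresentation (p.fiber s ↘ Spec (CommRingCat.of k)) :=
    MorphismProperty.pullback_snd (P := @LocallyOfFinitePresentation) _ _ inferInstance
  have hnod : Curv2.AtWorstNodal k (p.fiber s) := (hp.2.2 s).2
  have hdim := (hp.2.2 s).1
  haveI : @LocallyOfFiniteType (p.fiber s) (Spec (CommRingCat.of k)) (p.fiberToSpecResidueField s) :=
    MorphismProperty.pullback_snd (P := @LocallyOfFiniteType) _ _ inferInstance
  haveI : Flat (Over.mk p).hom := hp.1
  haveI : GeometricallyReduced (p.fiber s ↘ Spec (CommRingCat.of k)) :=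
    geometricallyReduced_of_atWorstNodal hnod
  haveI : IsReduced (p.fiber s) := isReduced_of_atWorstNodal (k := k) hnod
  have hp1 : ∀ z, b z = x₀ → p z = s := fun z hz => by rw [← hcomm, Scheme.Hom.comp_apply, hz, hx₀s]
  obtain ⟨v, hv⟩ : e₁ ∈ Set.range (p.fiberι s) := by rw [Scheme.Hom.range_fiberι]; exact hp1 _ h₁
  obtain ⟨v₂, hv₂⟩ : e₂ ∈ Set.range (p.fiberι s) := by rw [Scheme.Hom.range_fiberι]; exact hp1 _ h₂
  have hmax : ∀ z : p.fiber s, z ⤳ v → z = v := fun z hz => by
    by_contra hzv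
    refine false_of_chain (p.fiberToSpecResidueField s) (MorphismProperty.pullback_snd (P := @LocallyOfFiniteType) _ _ inferInstance) hdim hz hzv (c := v₂) ?_ ?_
    · rw [← (p.fiberι s).isEmbedding.specializes_iff, hv, hv₂]; exact he
    · rintro rfl; exact hne (hv.symm.trans hv₂)
  -- the component point: the uniformizer generates a nonzero maximal ideal
  have hF : IsField ((p.fiber s).presheaf.stalk v) :=
    Groth.VarietyBC.isField_stalk_of_maximal hmax
  subst hv
  let ξ := p.fiberι s v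
  obtain ⟨φ⟩ := nonempty_fibre_stalk p hπ hs v
  let t : X.presheaf.stalk ξ := Models.stalkHom R (Over.mk p) ξ π
  have hmaxξ : IsLocalRing.maximalIdeal (X.presheaf.stalk ξ) = Ideal.span {t} :=
    (IsLocalRing.eq_maximalIdeal (Ideal.Quotient.maximal_of_isField _
      (φ.toMulEquiv.isField hF))).symm
  have ht0 : t ≠ 0 := Groth.ModelsGraphs.Inter.stalkHom_ne_zero (X := Over.mk p) hπ.ne_zero ξ
  have ht2 : t ∉ IsLocalRing.maximalIdeal (X.presheaf.stalk ξ) ^ 2 := fun h => by
    rw [hmaxξ, Ideal.span_singleton_pow, Ideal.mem_span_singleton] at h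
    obtain ⟨c, hc⟩ := h
    have hu : IsUnit (1 - t * c) := IsLocalRing.isUnit_one_sub_self_of_mem_nonunits _ (by
      rw [← IsLocalRing.mem_maximalIdeal, hmaxξ]
      exact Ideal.mul_mem_right _ _ (Ideal.mem_span_singleton_self t))
    have h1 : (1 - t * c) * t = 0 := by
      rw [sub_mul, one_mul]
      conv_lhs => arg 1; rw [hc]
      ring
    exact ht0 (hu.mul_right_eq_zero.1 h1)
  have hbξ : b ξ = x₀ := h₁
  subst hbξ
  have hst := stalkMap_stalkHom p p' b hcomm ξ π
  have hloc : (IsLocalRing.maximalIdeal (X'.presheaf.stalk (b ξ))).map (b.stalkMap ξ).hom ≤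
      IsLocalRing.maximalIdeal (X.presheaf.stalk ξ) :=
    Ideal.map_le_iff_le_comap.2 fun a ha => map_nonunit (b.stalkMap ξ).hom a ha
  refine ⟨fun h => ?_, ?_, fun h => ?_, ?_⟩
  · rw [h, map_zero] at hst; exact ht0 hst.symm
  · exact (IsLocalRing.mem_maximalIdeal _).2 fun hu => by
      have h1 := hu.map (b.stalkMap ξ).hom
      rw [hst] at h1
      exact (IsLocalRing.mem_maximalIdeal t).1 (hmaxξ ▸ Ideal.mem_span_singleton_self t) h1
  · refine ht2 (Ideal.pow_right_mono hloc 2 ?_)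
    rw [← Ideal.map_pow]
    have h1 := Ideal.mem_map_of_mem (b.stalkMap ξ).hom h
    rwa [hst] at h1
  -- a separable closed point of the component
  haveI : IsLocallyNoetherian (p.fiber s) :=
    LocallyOfFiniteType.isLocallyNoetherian (p.fiberToSpecResidueField s)
  obtain ⟨_, ⟨W₀, hW, rfl⟩, hvW, -⟩ :=
    (p.fiber s).isBasis_affineOpens.exists_subset_of_mem_open (Set.mem_univ v) isOpen_univ
  let W : (p.fiber s).Opens := W₀
  haveI : CompactSpace (W : Scheme.{u}) := isCompact_iff_compactSpace.mp hW.isCompact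
  haveI : IsNoetherian (W : Scheme.{u}) := {}
  let G : Set (W : Scheme.{u}) :=
    ⋃₀ {T ∈ irreducibleComponents (W : Scheme.{u}) | (⟨v, hvW⟩ : W) ∉ T}
  have hG : IsClosed G := by
    rw [show G = ⋃ T ∈ {T ∈ irreducibleComponents (W : Scheme.{u}) | (⟨v, hvW⟩ : W) ∉ T}, T from
      Set.sUnion_eq_biUnion]
    refine Set.Finite.isClosed_biUnion ((TopologicalSpace.NoetherianSpace.finite_irreducibleComponents).subset
      fun T hT => hT.1) fun T hT => isClosed_of_mem_irreducibleComponents _ hT.1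
  let sm := (p.fiber s ↘ Spec (CommRingCat.of k)).smoothLocus
  let O : (p.fiber s).Opens := sm ⊓ W.ι ''ᵁ ⟨Gᶜ, hG.isOpen_compl⟩
  have hvsm : v ∈ sm := Groth.VarietyBC.mem_smoothLocus_of_maximal hmax
  have hvO : v ∈ O := ⟨hvsm, ⟨v, hvW⟩, fun h => by
    obtain ⟨T, hT, hvT⟩ := h
    exact hT.2 hvT, rfl⟩
  have hOv : ∀ c ∈ O, v ⤳ c := by
    rintro _ ⟨-, c, hc, rfl⟩
    have hvc : (⟨v, hvW⟩ : W) ∈ irreducibleComponent c := by
      by_contra hvT
      exact hc ⟨_, ⟨irreducibleComponent_mem_irreducibleComponents c, hvT⟩, mem_irreducibleComponent⟩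
    obtain ⟨g, hg⟩ := QuasiSober.sober (isIrreducible_irreducibleComponent (x := c)) isClosed_irreducibleComponent
    have h8 : W.ι g = v := hmax _ ((hg.specializes hvc).map W.ι.continuous)
    have h9 := (hg.specializes (mem_irreducibleComponent (x := c))).map W.ι.continuous
    rwa [h8] at h9
  letI : (O : Scheme.{u}).Over (Spec (CommRingCat.of k)) := ⟨O.ι ≫ (p.fiber s ↘ Spec (CommRingCat.of k))⟩
  haveI : Smooth ((O : Scheme.{u}) ↘ Spec (CommRingCat.of k)) := by
    show Smooth (O.ι ≫ (p.fiber s ↘ Spec (CommRingCat.of k)))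
    rw [← Scheme.Hom.smoothLocus_eq_top_iff, ← Scheme.Hom.preimage_smoothLocus_eq]
    exact eq_top_iff.2 fun z _ => z.2.1
  obtain ⟨c, -, -, hcfin, hcsep⟩ := Groth.VarietyBC.exists_closed_separable (k := k) (X := (O : Scheme.{u}))
    (O := ⊤) ⟨⟨v, hvO⟩, trivial⟩
  let ψ : (O : Scheme.{u}) ⟶ p'.fiber s := pullback.lift (O.ι ≫ p.fiberι s ≫ b)
    (O.ι ≫ p.fiberToSpecResidueField s) (by
      rw [Category.assoc, Category.assoc, Category.assoc, hcomm]
      exact congrArg (O.ι ≫ ·) pullback.condition)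
  have hψ : ψ ≫ (p'.fiber s ↘ Spec (CommRingCat.of k)) = (O : Scheme.{u}) ↘ Spec (CommRingCat.of k) :=
    pullback.lift_snd _ _ _
  have hψc : ψ c = w := by
    refine (p'.fiberι s).isEmbedding.injective ?_
    have h5 : ψ ≫ p'.fiberι s = O.ι ≫ p.fiberι s ≫ b := pullback.lift_fst _ _ _
    refine ((Scheme.Hom.comp_apply ψ (p'.fiberι s) c).symm.trans ?_).trans hw.symm
    rw [h5, Scheme.Hom.comp_apply, Scheme.Hom.comp_apply]
    have h4 : b ξ ⤳ b (p.fiberι s (O.ι c)) :=
      ((hOv _ c.2).map (p.fiberι s).continuous).map b.continuous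
    exact h4.mem_closed hx₀ rfl
  subst hψc
  letI := Curv2.resAlgebra k (O : Scheme.{u}) c
  letI := Curv2.resAlgebra k (p'.fiber s) (ψ c)
  haveI := hcsep
  have hcomp : CommRingCat.ofHom (Curv2.resMap k (p'.fiber s) (ψ c)) ≫ ψ.residueFieldMap c =
      CommRingCat.ofHom (Curv2.resMap k (O : Scheme.{u}) c) := by
    refine Spec.map_injective ?_
    rw [Spec.map_comp, ← Groth.VarietyBC.fromSpecResidueField_str, ← Groth.VarietyBC.fromSpecResidueField_str,
      Scheme.Hom.SpecMap_residueFieldMap_fromSpecResidueField_assoc, hψ]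
  exact Algebra.IsSeparable.of_algHom k ((O : Scheme.{u}).residueField c)
    { (ψ.residueFieldMap c).hom with
      commutes' := fun r => congr($hcomp r) }

include hcomm hp hx₀ hU in
/-- The contraction of a nodal family is nodal. -/
theorem isNodalFamily [IsProper b] [LocallyOfFinitePresentation p']
    [IsRegularLocalRing (X'.presheaf.stalk x₀)] (hd : ringKrullDim (X'.presheaf.stalk x₀) = 2)
    {e₁ e₂ : X} (he : e₁ ⤳ e₂) (hne : e₁ ≠ e₂) (h₁ : b e₁ = x₀) (h₂ : b e₂ = x₀) :
    Curv2.IsNodalFamily p' := by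
  obtain ⟨π, hπ⟩ := IsDiscreteValuationRing.exists_irreducible R
  have hx₀s := map_eq_closedPoint p p' b hcomm hp x₀ hx₀ U hU hd
  have hoff := (isNodalFamily_iff _).1 (nodal_off p p' b hcomm hp U)
  set s₀ : Spec (CommRingCat.of R) := IsLocalRing.closedPoint R
  obtain ⟨w₀, hw₀⟩ : x₀ ∈ Set.range (p'.fiberι s₀) := by rw [Scheme.Hom.range_fiberι]; exact hx₀s
  obtain ⟨ht0, htm, ht2, hsep⟩ := point_data p p' b hcomm hp x₀ hx₀ hx₀s rfl hπ he hne h₁ h₂ w₀ hw₀
  haveI : IsDomain (X'.presheaf.stalk x₀) := Groth.Ega4Algebra1.isDomain_of_isRegularLocalRing _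
  -- flatness
  haveI : Flat p' := by
    haveI := hoff.1
    refine Flat.of_stalkMap p' fun y => ?_
    rcases eq_or_ne y x₀ with rfl | hy
    · exact flat_stalkMap_of_ne_zero p' hπ _ hx₀s ht0
    · have h1 := Flat.stalkMap (U.ι ≫ p') ⟨y, (hU y).2 hy⟩
      rw [Scheme.Hom.stalkMap_comp] at h1
      haveI : IsIso (U.ι.stalkMap ⟨y, (hU y).2 hy⟩) :=
        (IsOpenImmersion.iff_isIso_stalkMap.mp inferInstance).2 _
      exact (@RingHom.RespectsIso.cancel_right_isIso _ RingHom.Flat.respectsIso _ _ _ (p'.stalkMap y)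
        (U.ι.stalkMap ⟨y, (hU y).2 hy⟩) this).1 h1
  -- the local ring of the fibre at the contracted point
  haveI : IsRegularLocalRing ((Over.mk p').left.presheaf.stalk x₀) := ‹_›
  haveI : IsNoetherianRing ((Over.mk p').left.presheaf.stalk x₀) :=
    (inferInstance : IsNoetherianRing (X'.presheaf.stalk x₀))
  obtain ⟨hq, hqd⟩ := Groth.Ega4Algebra1.isRegularLocalRing_quotient_span_singleton htm ht2
  obtain ⟨φ₀⟩ : Nonempty (X'.presheaf.stalk x₀ ⧸ Ideal.span {Models.stalkHom R (Over.mk p') x₀ π} ≃+*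
      (p'.fiber s₀).presheaf.stalk w₀) := by
    subst hw₀
    exact nonempty_fibre_stalk p' hπ rfl w₀
  haveI : IsRegularLocalRing ((p'.fiber s₀).presheaf.stalk w₀) := IsRegularLocalRing.of_ringEquiv φ₀
  have hd1 : ringKrullDim ((p'.fiber s₀).presheaf.stalk w₀) = 1 := by
    rw [← ringKrullDim_eq_of_ringEquiv φ₀]
    replace hqd := hqd.trans (hd.trans one_add_one_eq_two.symm)
    exact ENat.WithBot.add_one_cancel.mp hqd
  have hnotmax : ¬ IsMax w₀ := fun hmax => by
    obtain ⟨q, hq'⟩ := Ideal.nonempty_minimalPrimes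
      (I := (⊥ : Ideal ((p'.fiber s₀).presheaf.stalk w₀))) bot_ne_top
    haveI := hq'.1.1
    obtain ⟨y, hy, -, hyd⟩ := Groth.RefRank.exists_generization_of_prime q
    obtain rfl : y = w₀ :=
      ((Scheme.le_iff_specializes.1 (hmax (Scheme.le_iff_specializes.2 hy))).antisymm hy).eq.symm
    rw [hd1, Ideal.height_eq_zero_iff.2 hq'] at hyd
    exact absurd hyd (by norm_num)
  have hsm : x₀ ∈ p'.smoothLocus := by
    let k := (Spec (CommRingCat.of R)).residueField s₀
    letI : (p'.fiber s₀).Over (Spec (CommRingCat.of k)) := ⟨p'.fiberToSpecResidueField s₀⟩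
    haveI : LocallyOfFinitePresentation (p'.fiber s₀ ↘ Spec (CommRingCat.of k)) :=
      MorphismProperty.pullback_snd (P := @LocallyOfFinitePresentation) _ _ inferInstance
    letI := Curv2.resAlgebra k (p'.fiber s₀) w₀
    haveI := hsep
    have : Algebra.FormallyEtale k ((p'.fiber s₀).residueField w₀) := Algebra.FormallyEtale.of_isSeparable k _
    have h1 := (Groth.VarietyBC.mem_smoothLocus_iff_isRegularLocalRing (k := k) w₀ inferInstance).2 inferInstance
    have h2 := (Groth.Curves1.Node.mem_fibre_smoothLocus_iff p' s₀ w₀).1 h1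
    rwa [hw₀] at h2
  -- pure dimension one
  have hdim : ∀ s : Spec (CommRingCat.of R), ∀ Z ∈ irreducibleComponents (p'.fiber s : Type u),
      topologicalKrullDim Z = 1 := fun s => by
    refine (dim_iff (p'.fiberToSpecResidueField s) (MorphismProperty.pullback_snd (P := @LocallyOfFiniteType) _ _ inferInstance)).2 fun w hw => ?_
    by_cases h : p'.fiberι s w = x₀
    · have hs : s = s₀ := by rw [← Groth.FibreDim.apply_fiberι p' s w, h, hx₀s]
      subst hs
      obtain rfl : w = w₀ := (p'.fiberι s₀).isEmbedding.injective (h.trans hw₀.symm)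
      exact absurd hw hnotmax
    · obtain ⟨v, rfl⟩ := exists_fiber_preimage p' x₀ U hU w h
      haveI := etale_fibreMapSource U.ι p' s
      have hcomp := fibreMapSource_snd U.ι p' s
      refine (height_eq _ _ (MorphismProperty.pullback_snd (P := @LocallyOfFiniteType) _ _ inferInstance) (fibreMapSource U.ι p' s) (etale_fibreMapSource U.ι p' s) hcomp v).trans ?_
      exact (dim_iff ((U.ι ≫ p').fiberToSpecResidueField s) (MorphismProperty.pullback_snd (P := @LocallyOfFiniteType) _ _ inferInstance)).1 (hoff.2.2 s).1 v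
        (isMax_of_isMax_map _ _ (MorphismProperty.pullback_snd (P := @LocallyOfFiniteType) _ _ inferInstance) (fibreMapSource U.ι p' s) (etale_fibreMapSource U.ι p' s) hcomp hw)
  -- the cover
  let V : X'.Opens := p'.smoothLocus
  have hV : Curv2.IsNodalFamily (V.ι ≫ p') := by
    haveI : Smooth (V.ι ≫ p') := by
      rw [← Scheme.Hom.smoothLocus_eq_top_iff, ← Scheme.Hom.preimage_smoothLocus_eq]
      exact eq_top_iff.2 fun z _ => z.2
    refine (isNodalFamily_iff _).2 ⟨inferInstance, inferInstance, fun s => ?_⟩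
    let k := (Spec (CommRingCat.of R)).residueField s
    letI : (p'.fiber s).Over (Spec (CommRingCat.of k)) := ⟨p'.fiberToSpecResidueField s⟩
    letI : ((V.ι ≫ p').fiber s).Over (Spec (CommRingCat.of k)) := ⟨(V.ι ≫ p').fiberToSpecResidueField s⟩
    haveI : LocallyOfFiniteType (p'.fiber s ↘ Spec (CommRingCat.of k)) :=
      MorphismProperty.pullback_snd (P := @LocallyOfFiniteType) _ _ inferInstance
    haveI hsmf : Smooth ((V.ι ≫ p').fiberToSpecResidueField s) :=
      MorphismProperty.pullback_snd (P := @Smooth) _ _ inferInstance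
    haveI := etale_fibreMapSource V.ι p' s
    have hcomp := fibreMapSource_snd V.ι p' s
    refine ⟨(dim_iff ((V.ι ≫ p').fiberToSpecResidueField s) (MorphismProperty.pullback_snd (P := @LocallyOfFiniteType) _ _ inferInstance)).2 fun v hv => ?_,
      fun v _ => Or.inl ⟨⊤, trivial, ?_⟩⟩
    · rw [← height_eq _ _ (MorphismProperty.pullback_snd (P := @LocallyOfFiniteType) _ _ inferInstance) (fibreMapSource V.ι p' s) (etale_fibreMapSource V.ι p' s) hcomp v]
      exact (dim_iff (p'.fiberToSpecResidueField s) (MorphismProperty.pullback_snd (P := @LocallyOfFiniteType) _ _ inferInstance)).1 (hdim s) _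
        (@isMax_image_of_etale _ _ (fibreMapSource V.ι p' s) (etale_fibreMapSource V.ι p' s) _ hv)
    · haveI : Smooth ((V.ι ≫ p').fiber s ↘ Spec (CommRingCat.of k)) := hsmf
      infer_instance
  refine isNodalFamily_of_etale_cover p'
    (fun i : ULift.{u} Bool => ((bif i.down then U else V : X'.Opens) : Scheme.{u}))
    (fun i => Scheme.Opens.ι _) ?_ ?_
  · intro y
    rcases eq_or_ne y x₀ with rfl | hy
    · exact ⟨⟨false⟩, by rw [Scheme.Opens.range_ι]; exact hsm⟩
    · exact ⟨⟨true⟩, by rw [Scheme.Opens.range_ι]; exact (hU y).2 hy⟩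
  · rintro ⟨_ | _⟩
    · exact hV
    · exact nodal_off p p' b hcomm hp U

end Groth.ModelsGraphs.NodalContract
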