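import Groth.Agent.Curves1.Node.NodalRegular
import Groth.Agent.Curves1.Node.Family
import Groth.Agent.ModelsGraphs.InterBasic
import Groth.Agent.Ega4Algebra1.RegularLocal
import Groth.Agent.Flatmor4.FlatDedekind
import Groth.Agent.RefRank.Gen
import Groth.Agent.VarietyBC.SmoothChart
import Groth.Agent.VarietyBC.SepPoints
import Groth.Agent.VarietyBC.GeomReducedGeneric
import Groth.Agent.Curves1.CurveMor.Smooth
import Groth.Agent.S9501
import Groth.Agent.Variety2.ProjDim

/-!
# Local rings of schemes over a discrete valuation ring and chains in the fibres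
-/

set_option autoImplicit false
set_option backward.isDefEq.respectTransparency.types false

universe u

open CategoryTheory Limits AlgebraicGeometry TopologicalSpace

namespace Groth.ModelsGraphs.NodalContract

section Stalks

variable {R : Type u} [CommRing R] [IsDomain R] [IsDiscreteValuationRing R] {X : Scheme.{u}}
  (p : X ⟶ Spec (CommRingCat.of R))

theorem stalkMap_germ_eq (x : X) (r : R) :
    p.stalkMap x ((Spec (CommRingCat.of R)).presheaf.germ ⊤ (p x) trivial
      ((Scheme.ΓSpecIso (CommRingCat.of R)).inv r)) = Models.stalkHom R (Over.mk p) x r := by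
  rw [Scheme.Hom.germ_stalkMap_apply]
  rfl

theorem stalkMap_stalkHom {X' : Scheme.{u}} (p' : X' ⟶ Spec (CommRingCat.of R)) (b : X ⟶ X')
    (hb : b ≫ p' = p) (x : X) (r : R) :
    b.stalkMap x (Models.stalkHom R (Over.mk p') (b x) r) = Models.stalkHom R (Over.mk p) x r := by
  subst hb
  change b.stalkMap x (X'.presheaf.germ ⊤ (b x) trivial (Coh.toGlobal p' r)) = _
  erw [Scheme.Hom.germ_stalkMap_apply]
  rfl

theorem map_maximalIdeal {π : R} (hπ : Irreducible π) (x : X) (hx : p x = IsLocalRing.closedPoint R) :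
    Ideal.map (p.stalkMap x).hom (IsLocalRing.maximalIdeal ((Spec (CommRingCat.of R)).presheaf.stalk (p x))) =
      Ideal.span {Models.stalkHom R (Over.mk p) x π} := by
  let S := Spec (CommRingCat.of R)
  have hU : IsAffineOpen (⊤ : S.Opens) := isAffineOpen_top S
  letI := TopCat.Presheaf.algebra_section_stalk S.presheaf (⟨p x, trivial⟩ : (⊤ : S.Opens))
  haveI : IsLocalization.AtPrime (S.presheaf.stalk (p x)) (hU.primeIdealOf ⟨p x, trivial⟩).asIdeal :=
    hU.isLocalization_stalk ⟨p x, trivial⟩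
  let g : Γ(S, ⊤) →+* S.presheaf.stalk (p x) := (S.presheaf.germ ⊤ (p x) trivial).hom
  have hbij := ConcreteCategory.bijective_of_isIso (Scheme.ΓSpecIso (CommRingCat.of R)).inv
  have hmem : ∀ r : R, g ((Scheme.ΓSpecIso (CommRingCat.of R)).inv r) ∈
      IsLocalRing.maximalIdeal (S.presheaf.stalk (p x)) ↔ r ∈ IsLocalRing.maximalIdeal R := fun r => by
    rw [IsLocalRing.mem_maximalIdeal, mem_nonunits_iff]
    refine (not_congr ((Scheme.mem_basicOpen S (U := ⊤) _ (p x) trivial).symm)).trans ?_
    rw [basicOpen_eq_of_affine]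
    refine (not_congr (PrimeSpectrum.mem_basicOpen _ _)).trans ?_
    rw [not_not, hx]
    rfl
  have hcomap : (IsLocalRing.maximalIdeal (S.presheaf.stalk (p x))).comap g =
      Ideal.span {(Scheme.ΓSpecIso (CommRingCat.of R)).inv π} := by
    ext z
    obtain ⟨r, rfl⟩ := hbij.2 z
    rw [Ideal.mem_comap, hmem, hπ.maximalIdeal_eq, Ideal.mem_span_singleton, Ideal.mem_span_singleton]
    refine ⟨fun h => map_dvd (Scheme.ΓSpecIso (CommRingCat.of R)).inv.hom h, fun ⟨c, hc⟩ => ?_⟩
    obtain ⟨c', rfl⟩ := hbij.2 c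
    exact ⟨c', hbij.1 (by rw [map_mul]; exact hc)⟩
  have hmap : Ideal.map g ((IsLocalRing.maximalIdeal (S.presheaf.stalk (p x))).comap g) =
      IsLocalRing.maximalIdeal (S.presheaf.stalk (p x)) :=
    IsLocalization.map_comap (hU.primeIdealOf ⟨p x, trivial⟩).asIdeal.primeCompl (S.presheaf.stalk (p x)) _
  rw [← hmap, hcomap, Ideal.map_map, Ideal.map_span, Set.image_singleton]
  congr 2
  exact stalkMap_germ_eq p x π

/-- The local ring of a closed fibre is the quotient by a uniformizer. -/
theorem nonempty_fibre_stalk {π : R} (hπ : Irreducible π) {s : Spec (CommRingCat.of R)}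
    (hs : s = IsLocalRing.closedPoint R) (w : p.fiber s) :
    Nonempty (X.presheaf.stalk (p.fiberι s w) ⧸ Ideal.span {Models.stalkHom R (Over.mk p) (p.fiberι s w) π} ≃+*
      (p.fiber s).presheaf.stalk w) := by
  obtain ⟨h1, h2⟩ := Groth.Agent.S9501.result p s w
  have hx : p (p.fiberι s w) = IsLocalRing.closedPoint R :=
    (Groth.FibreDim.apply_fiberι p s w).trans hs
  exact ⟨(Ideal.quotEquivOfEq ((map_maximalIdeal p hπ _ hx).symm.trans h2.symm)).trans
    (RingHom.quotientKerEquivOfSurjective h1)⟩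

/-- Over a uniformizer which stays nonzero, a domain is flat over the local ring of the base. -/
theorem flat_stalkMap_of_ne_zero {π : R} (hπ : Irreducible π) (x : X) (hx : p x = IsLocalRing.closedPoint R)
    [IsDomain (X.presheaf.stalk x)]
    (h : Models.stalkHom R (Over.mk p) x π ≠ 0) : (p.stalkMap x).hom.Flat := by
  let S := Spec (CommRingCat.of R)
  have hU : IsAffineOpen (⊤ : S.Opens) := isAffineOpen_top S
  letI := TopCat.Presheaf.algebra_section_stalk S.presheaf (⟨p x, trivial⟩ : (⊤ : S.Opens))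
  haveI : IsLocalization.AtPrime (S.presheaf.stalk (p x)) (hU.primeIdealOf ⟨p x, trivial⟩).asIdeal :=
    hU.isLocalization_stalk ⟨p x, trivial⟩
  let g : Γ(S, ⊤) →+* S.presheaf.stalk (p x) := (S.presheaf.germ ⊤ (p x) trivial).hom
  let e : R →+* S.presheaf.stalk (p x) := g.comp (Scheme.ΓSpecIso (CommRingCat.of R)).inv.hom
  have hbij := ConcreteCategory.bijective_of_isIso (Scheme.ΓSpecIso (CommRingCat.of R)).inv
  have hunit : ∀ t : Γ(S, ⊤), IsUnit (g t) → IsUnit t := fun t ht => by
    obtain ⟨r, rfl⟩ := hbij.2 t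
    refine IsUnit.map (Scheme.ΓSpecIso (CommRingCat.of R)).inv.hom ?_
    by_contra hr
    have h1 := (Scheme.mem_basicOpen S (U := ⊤) _ (p x) trivial).2 ht
    rw [basicOpen_eq_of_affine] at h1
    exact (PrimeSpectrum.mem_basicOpen _ _).1 h1 (hx ▸ (IsLocalRing.mem_maximalIdeal r).2 hr)
  have hg : Function.Bijective g := by
    have hle : (hU.primeIdealOf ⟨p x, trivial⟩).asIdeal.primeCompl ≤ IsUnit.submonoid Γ(S, ⊤) :=
      fun t ht => hunit t (IsLocalization.map_units (S.presheaf.stalk (p x)) ⟨t, ht⟩)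
    exact (IsLocalization.atUnits Γ(S, ⊤) (hU.primeIdealOf ⟨p x, trivial⟩).asIdeal.primeCompl hle).bijective
  let eR : R ≃+* S.presheaf.stalk (p x) := RingEquiv.ofBijective e (hg.comp hbij)
  haveI : IsDomain (S.presheaf.stalk (p x)) := eR.symm.toMulEquiv.isDomain _
  haveI : IsPrincipalIdealRing (S.presheaf.stalk (p x)) :=
    IsPrincipalIdealRing.of_surjective eR.toRingHom eR.surjective
  letI := (p.stalkMap x).hom.toAlgebra
  show Module.Flat (S.presheaf.stalk (p x)) (X.presheaf.stalk x)
  rw [Module.Flat.flat_iff_torsion_eq_bot_of_isBezout, Submodule.eq_bot_iff]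
  rintro b ⟨⟨a, ha⟩, hab⟩
  have hab' : (p.stalkMap x).hom a * b = 0 := hab
  rcases mul_eq_zero.1 hab' with h1 | h1
  · obtain ⟨r, rfl⟩ := eR.surjective a
    have hr : r ≠ 0 := fun hr => nonZeroDivisors.ne_zero ha (by rw [hr, map_zero])
    obtain ⟨n, u, rfl⟩ := IsDiscreteValuationRing.eq_unit_mul_pow_irreducible hr hπ
    let ψ : R →+* X.presheaf.stalk x := Models.stalkHom R (Over.mk p) x
    have h2 : ψ (↑u * π ^ n) = 0 := (stalkMap_germ_eq p x _).symm.trans h1
    rw [map_mul, map_pow] at h2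
    rcases mul_eq_zero.1 h2 with h3 | h3
    · exact absurd h3 (u.isUnit.map ψ).ne_zero
    · exact absurd (eq_zero_of_pow_eq_zero h3) h
  · exact h1

end Stalks

section Chains

variable {k : Type u} [Field k] {X : Scheme.{u}}

/-- No chain of three points fits in a pure one-dimensional scheme over a field. -/
theorem false_of_chain (f : X ⟶ Spec (CommRingCat.of k)) (hf : LocallyOfFiniteType f)
    (hdim : ∀ Z ∈ irreducibleComponents (X : Type u), topologicalKrullDim Z = 1) {a b c : X}
    (hab : a ⤳ b) (hne : a ≠ b) (hbc : b ⤳ c) (hne' : b ≠ c) : False := by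
  letI : X.Over (Spec (CommRingCat.of k)) := ⟨f⟩
  haveI : LocallyOfFiniteType (X ↘ Spec (CommRingCat.of k)) := hf
  have h := Groth.Curves1.Node.height_le_one_of_dim (k := k) hdim a
  have hcb : c < b := lt_of_le_not_ge (Scheme.le_iff_specializes.2 hbc) fun h' =>
    hne' (hbc.antisymm (Scheme.le_iff_specializes.1 h')).eq
  have hba : b < a := lt_of_le_not_ge (Scheme.le_iff_specializes.2 hab) fun h' =>
    hne (hab.antisymm (Scheme.le_iff_specializes.1 h')).eq
  have h1 : (1 : ℕ∞) ≤ Order.height b :=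
    le_trans (le_add_of_nonneg_left zero_le) (Order.height_add_one_le hcb)
  have h2 : (2 : ℕ∞) ≤ Order.height a :=
    le_trans (by rw [← one_add_one_eq_two]; exact add_le_add_left h1 1) (Order.height_add_one_le hba)
  exact absurd (h2.trans h) (by decide)

theorem dim_iff (f : X ⟶ Spec (CommRingCat.of k)) (hf : LocallyOfFiniteType f) :
    (∀ Z ∈ irreducibleComponents (X : Type u), topologicalKrullDim Z = 1) ↔
      ∀ x : X, IsMax x → Order.height x = 1 :=
  Groth.Curves1.Node.dim_irreducibleComponents_iff f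

theorem height_eq {Y : Scheme.{u}} (f : X ⟶ Spec (CommRingCat.of k)) (g : Y ⟶ Spec (CommRingCat.of k))
    (hf : LocallyOfFiniteType f) (π : Y ⟶ X) (hπ : Etale π) (h : π ≫ f = g) (y : Y) :
    Order.height (π y) = Order.height y := by
  letI : X.Over (Spec (CommRingCat.of k)) := ⟨f⟩
  letI : Y.Over (Spec (CommRingCat.of k)) := ⟨g⟩
  haveI : LocallyOfFiniteType (X ↘ Spec (CommRingCat.of k)) := hf
  exact Groth.Curves1.Node.height_eq_of_etale (k := k) π h y

theorem isMax_of_isMax_map {Y : Scheme.{u}} (f : X ⟶ Spec (CommRingCat.of k)) (g : Y ⟶ Spec (CommRingCat.of k))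
    (hf : LocallyOfFiniteType f) (π : Y ⟶ X) (hπ : Etale π) (h : π ≫ f = g) {y : Y} (hy : IsMax (π y)) :
    IsMax y := by
  letI : X.Over (Spec (CommRingCat.of k)) := ⟨f⟩
  letI : Y.Over (Spec (CommRingCat.of k)) := ⟨g⟩
  haveI : LocallyOfFiniteType (X ↘ Spec (CommRingCat.of k)) := hf
  exact Groth.Curves1.Node.isMax_of_etale (k := k) π h hy

end Chains

end Groth.ModelsGraphs.NodalContract
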