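import Groth.Agent.S7656
import Groth.Agent.S9241
import Groth.Agent.Curves1.Node.NodalLocal
import Groth.Agent.Calg1.CompletionLocal
import Groth.Agent.Calg6.PowerSeries

/-!
# A node has more than one geometric branch
-/

set_option autoImplicit false
set_option backward.isDefEq.respectTransparency.types false

universe u

open CategoryTheory AlgebraicGeometry IsLocalRing
open Groth.Curves1.Node

namespace Groth.ModelsGraphs

section Algebra

variable {K : Type u} [Field K]

local notation "P₂" => MvPowerSeries (Fin 2) K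
local notation "Q₂" => (MvPowerSeries (Fin 2) K) ⧸ Ideal.span
  {(MvPowerSeries.X 0 * MvPowerSeries.X 1 : MvPowerSeries (Fin 2) K)}

theorem isReduced_nodeQuotient : _root_.IsReduced Q₂ := by
  have hD : 4 * (0 : K) * 0 - 1 ^ 2 ≠ 0 := by simp
  haveI := quadric_isReduced' hD
  let e : Q₂ ≃+* Quadric (0 : K) 1 0 := Ideal.quotEquivOfEq (by simp [quad])
  exact isReduced_of_injective e.toRingHom e.injective

theorem not_X_dvd_X (i j : Fin 2) (hij : i ≠ j) :
    ¬ (MvPowerSeries.X i : P₂) ∣ MvPowerSeries.X j := fun h => by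
  classical
  have := MvPowerSeries.X_dvd_iff.1 h (Finsupp.single j 1) (by simp [Finsupp.single_apply, hij.symm])
  rw [MvPowerSeries.coeff_X, if_pos rfl] at this
  exact one_ne_zero this

theorem not_isDomain_nodeQuotient : ¬ IsDomain Q₂ := fun _ => by
  have h0 : (Ideal.Quotient.mk _ (MvPowerSeries.X 0) : Q₂) * Ideal.Quotient.mk _ (MvPowerSeries.X 1) = 0 := by
    rw [← map_mul, Ideal.Quotient.eq_zero_iff_mem]
    exact Ideal.mem_span_singleton_self _
  rcases mul_eq_zero.1 h0 with h | h <;> rw [Ideal.Quotient.eq_zero_iff_mem, Ideal.mem_span_singleton] at h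
  · exact not_X_dvd_X 1 0 (by decide) ((dvd_mul_left _ _).trans h)
  · exact not_X_dvd_X 0 1 (by decide) ((dvd_mul_right _ _).trans h)

theorem card_minimalPrimes_ne_one {A : Type u} [CommRing A] [_root_.IsReduced A] [Nontrivial A] (h : ¬ IsDomain A) :
    ENat.card (minimalPrimes A) ≠ 1 := fun h1 => h <| by
  obtain ⟨P, hP⟩ := Ideal.nonempty_minimalPrimes (I := (⊥ : Ideal A)) bot_ne_top
  have hsub : Subsingleton (minimalPrimes A) := (ENat.card_le_one_iff_subsingleton _).1 h1.le
  have hbot : P = ⊥ := by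
    refine eq_bot_iff.2 ?_
    refine le_trans ?_ (nilradical_eq_zero A).le
    rw [nilradical, ← Ideal.sInf_minimalPrimes]
    exact le_sInf fun J hJ => le_of_eq (congrArg Subtype.val (hsub.elim ⟨P, hP⟩ ⟨J, hJ⟩))
  haveI : (⊥ : Ideal A).IsPrime := hbot ▸ hP.1.1
  exact IsDomain.of_bot_isPrime A

theorem isSepClosed_residue_nodeQuotient [IsAlgClosed K] [IsLocalRing Q₂] : IsSepClosed (ResidueField Q₂) := by
  let f : K →+* ResidueField Q₂ := (residue Q₂).comp ((Ideal.Quotient.mk _).comp MvPowerSeries.C)
  refine Groth.EtaleBase.NormalEt.isSepClosed_of_ringEquiv (RingEquiv.ofBijective f ⟨f.injective, fun z => ?_⟩)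
  obtain ⟨q, rfl⟩ := residue_surjective z
  obtain ⟨g, rfl⟩ := Ideal.Quotient.mk_surjective q
  refine ⟨MvPowerSeries.constantCoeff g, ?_⟩
  have hg : ¬ IsUnit (MvPowerSeries.C (MvPowerSeries.constantCoeff g) - g) := by
    rw [MvPowerSeries.isUnit_iff_constantCoeff]
    simp
  refine sub_eq_zero.1 ?_
  show residue Q₂ (Ideal.Quotient.mk _ (MvPowerSeries.C (MvPowerSeries.constantCoeff g))) -
    residue Q₂ (Ideal.Quotient.mk _ g) = 0
  rw [← map_sub, ← map_sub, residue_eq_zero_iff, mem_maximalIdeal]
  haveI : Nontrivial Q₂ := inferInstance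
  haveI := IsLocalHom.of_surjective (Ideal.Quotient.mk (Ideal.span
    {(MvPowerSeries.X 0 * MvPowerSeries.X 1 : P₂)})) Ideal.Quotient.mk_surjective
  exact fun hu => hg (isUnit_of_map_unit _ _ hu)

theorem ringKrullDim_nodeQuotient : ringKrullDim Q₂ = 1 := by
  classical
  haveI := Groth.Calg6.isRegularLocalRing_mvPowerSeries K 2
  have hne : (MvPowerSeries.X 0 * MvPowerSeries.X 1 : P₂) ≠ 0 := by
    refine mul_ne_zero ?_ ?_ <;> intro h
    · have := congrArg (MvPowerSeries.coeff (Finsupp.single (0 : Fin 2) 1)) h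
      rw [MvPowerSeries.coeff_X, if_pos rfl, map_zero] at this
      exact one_ne_zero this
    · have := congrArg (MvPowerSeries.coeff (Finsupp.single (1 : Fin 2) 1)) h
      rw [MvPowerSeries.coeff_X, if_pos rfl, map_zero] at this
      exact one_ne_zero this
  have hmem : (MvPowerSeries.X 0 * MvPowerSeries.X 1 : P₂) ∈ maximalIdeal P₂ := by
    rw [mem_maximalIdeal, mem_nonunits_iff, MvPowerSeries.isUnit_iff_constantCoeff]
    simp
  have h := ringKrullDim_quotient_span_singleton_succ_eq_ringKrullDim_of_mem_nonZeroDivisors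
    (mem_nonZeroDivisors_of_ne_zero hne) hmem
  rw [Groth.Calg6.ringKrullDim_mvPowerSeries K 2, show ((2 : ℕ) : WithBot ℕ∞) = 1 + 1 by norm_num] at h
  exact ENat.WithBot.add_one_cancel.mp h

/-- A local ring whose completion is the node over an algebraically closed field has more than one
geometric branch. -/
theorem numGeomBranches_ne_one_of_isOrdDoublePt [IsAlgClosed K] {A : Type u} [CommRing A] [IsLocalRing A]
    [IsNoetherianRing A] [Algebra K A] (h : Curv2.IsOrdDoublePt K A) : Brnch.numGeomBranches A ≠ 1 := by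
  obtain ⟨e, -⟩ := h
  let Â := AdicCompletion (maximalIdeal A) A
  haveI : IsNoetherianRing Â := isNoetherianRing_completion A
  haveI := Groth.Calg6.Branch.henselianLocalRing_of_isAdicComplete Â
  haveI : IsLocalRing Q₂ := e.isLocalRing
  haveI : IsSepClosed (ResidueField Q₂) := isSepClosed_residue_nodeQuotient
  haveI : IsSepClosed (ResidueField Â) :=
    Groth.EtaleBase.NormalEt.isSepClosed_of_ringEquiv (ResidueField.mapEquiv e).symm
  haveI := isReduced_nodeQuotient (K := K)
  haveI : _root_.IsReduced Â := isReduced_of_injective e.toRingHom e.injective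
  have hd : ringKrullDim A = 1 := by
    rw [← Groth.Calg1.ringKrullDim_adicCompletion, ringKrullDim_eq_of_ringEquiv e, ringKrullDim_nodeQuotient]
  rw [← (Groth.Agent.S9241.result A hd).2, Groth.Hensel1.numGeomBranches_eq_card_minimalPrimes_of_henselian Â]
  exact card_minimalPrimes_ne_one fun hdom => not_isDomain_nodeQuotient (K := K) (e.symm.toMulEquiv.isDomain _)

end Algebra

variable {k : Type u} [Field k] {X : Scheme.{u}} [X.Over (Spec (CommRingCat.of k))]
  [LocallyOfFiniteType (X ↘ (Spec (CommRingCat.of k)))]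

attribute [local instance] Curv2.resAlgebra Curv2.stalkAlgebra

/-- A node has more than one geometric branch. -/
theorem numGeomBranchesAt_ne_one_of_isNode {x : X} (h : Curv2.IsNode k X x) :
    Brnch.numGeomBranchesAt X x ≠ 1 := by
  obtain ⟨-, xb, rfl, hxb⟩ := h
  rw [Groth.Agent.S7656.result k X (AlgebraicClosure k) xb]
  letI : (Curv2.bc k X (AlgebraicClosure k)).Over (Spec (CommRingCat.of (AlgebraicClosure k))) :=
    ⟨Curv2.bcSnd k X (AlgebraicClosure k)⟩
  haveI := Groth.Curves1.Node.isNoetherianRing_stalk_bc (k := k) (X := X) (AlgebraicClosure k) xb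
  exact numGeomBranches_ne_one_of_isOrdDoublePt (K := AlgebraicClosure k) hxb

end Groth.ModelsGraphs
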