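import Groth.Agent.ModelsGraphs.GenerizeLift
import Groth.Agent.ModelsGraphs.NodeBranches
import Groth.Agent.ModelsGraphs.NodalContractAux
import Groth.Agent.Hensel1.BranchFibre
import Groth.Agent.Ega4Algebra1.RegularNormal
import Groth.Agent.Ega4Algebra2.GeomConnectedEtaleDescent
import Groth.Agent.HensPair.NormalUnibranch
import Groth.Agent.Curves1.Node.NodalLocus
import Groth.Agent.EtPbc.NormalOpenConst

/-!
# Smooth points and nodes along quasi-finite morphisms of nodal families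
-/

set_option autoImplicit false
set_option backward.isDefEq.respectTransparency.types false

universe u

open CategoryTheory Limits AlgebraicGeometry
open Groth.Curves1.Node

namespace Groth.ModelsGraphs

theorem eq_of_specializes_map_eq {X Y : Scheme.{u}} (f : X ⟶ Y) [LocallyQuasiFinite f] {a b : X}
    (h : a ⤳ b) (hf : f a = f b) : a = b :=
  (f.isDiscrete_preimage_singleton (f b)).eq_of_specializes h hf rfl

theorem eq_of_isGenericPoint_component {X : Type u} [TopologicalSpace X] [T0Space X] {Z : Set X}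
    (hZ : Z ∈ irreducibleComponents X) {g : X} (hg : IsGenericPoint g Z) {z : X} (hz : z ⤳ g) : z = g := by
  have hle : Z ⊆ closure {z} := by
    rw [← hg.def]
    exact closure_minimal (Set.singleton_subset_iff.2 (specializes_iff_mem_closure.1 hz)) isClosed_closure
  have h1 : closure {z} ⊆ Z := hZ.2 isIrreducible_singleton.closure hle
  exact IsGenericPoint.eq (show IsGenericPoint z Z from h1.antisymm hle) hg

/-- Near a node of a fibre there is an étale neighbourhood on which two branches are separated. -/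
theorem exists_two_generizations {Y S : Scheme.{u}} (q : Y ⟶ S) (hq : Curv2.IsNodalFamily q) (y : Y)
    (hy : y ∈ DualGr.nonsmoothPts q) (hcl : IsClosed ({q.asFiber y} : Set (q.fiber (q y)))) :
    ∃ (U : Scheme.{u}) (g : U ⟶ Y) (u η₁ η₂ : U), Etale g ∧ g u = y ∧ η₁ ≠ η₂ ∧ η₁ ⤳ u ∧ η₂ ⤳ u ∧
      η₁ ≠ u ∧ η₂ ≠ u ∧ (g ≫ q) η₁ = q y ∧ (g ≫ q) η₂ = q y := by
  haveI : Flat q := hq.1
  haveI : LocallyOfFinitePresentation q := hq.2.1
  let k := S.residueField (q y)
  letI : (q.fiber (q y)).Over (Spec (CommRingCat.of k)) := ⟨q.fiberToSpecResidueField (q y)⟩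
  haveI : LocallyOfFinitePresentation (q.fiber (q y) ↘ Spec (CommRingCat.of k)) :=
    MorphismProperty.pullback_snd (P := @LocallyOfFinitePresentation) _ _ inferInstance
  have hnode : Curv2.IsNode k (q.fiber (q y)) (q.asFiber y) := by
    rcases (hq.2.2 (q y)).2 _ hcl with ⟨U, hyU, hU⟩ | hn
    · exfalso
      haveI := hU
      have h1 : (⟨q.asFiber y, hyU⟩ : U) ∈
          U.ι ⁻¹ᵁ (q.fiber (q y) ↘ Spec (CommRingCat.of k)).smoothLocus := by
        rw [Scheme.Hom.preimage_smoothLocus_eq, Scheme.Hom.smoothLocus_eq_top]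
        trivial
      have h2 := (mem_fibre_smoothLocus_iff q (q y) (q.asFiber y)).1 h1
      rw [Scheme.Hom.fiberι_asFiber] at h2
      exact hy h2
    · exact hn
  have hb := numGeomBranchesAt_ne_one_of_isNode (k := k) hnode
  rw [Groth.Hensel1.numGeomBranchesAt_fibre_eq_iSup] at hb
  by_contra hall
  push Not at hall
  refine hb (le_antisymm (iSup_le fun U => iSup_le fun g => iSup_le fun u => iSup_le fun h => ?_) ?_)
  · haveI := h.1
    obtain ⟨u', hu', -⟩ := Groth.Hensel1.exists_fiber_point q y g u h.2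
    rw [Groth.Hensel1.components_fiber_eq q y g u u' hu']
    refine Set.encard_le_one_iff.2 fun Z₁ Z₂ hZ₁ hZ₂ => ?_
    by_contra hne
    obtain ⟨g₁, hg₁⟩ := QuasiSober.sober hZ₁.1.1 (isClosed_of_mem_irreducibleComponents _ hZ₁.1)
    obtain ⟨g₂, hg₂⟩ := QuasiSober.sober hZ₂.1.1 (isClosed_of_mem_irreducibleComponents _ hZ₂.1)
    have hne' : g₁ ≠ g₂ := fun h' => hne (by rw [← hg₁.def, ← hg₂.def, h'])
    have hs₁ : g₁ ⤳ u' := hg₁.specializes hZ₁.2
    have hs₂ : g₂ ⤳ u' := hg₂.specializes hZ₂.2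
    have hn₁ : g₁ ≠ u' := fun h' =>
      hne' (eq_of_isGenericPoint_component hZ₁.1 hg₁ (h' ▸ hs₂)).symm
    have hn₂ : g₂ ≠ u' := fun h' =>
      hne' (eq_of_isGenericPoint_component hZ₂.1 hg₂ (h' ▸ hs₁))
    let ι := (g ≫ q).fiberι (q y)
    have hinj : Function.Injective ι := ι.isEmbedding.injective
    exact hall U g u (ι g₁) (ι g₂) h.1 h.2 (hinj.ne hne') (hu' ▸ hs₁.map ι.continuous)
      (hu' ▸ hs₂.map ι.continuous) (hu' ▸ hinj.ne hn₁) (hu' ▸ hinj.ne hn₂)
      (Groth.FibreDim.apply_fiberι _ _ _) (Groth.FibreDim.apply_fiberι _ _ _)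
  · refine le_iSup_of_le Y (le_iSup_of_le (𝟙 Y) (le_iSup_of_le y (le_iSup_of_le ⟨inferInstance, rfl⟩ ?_)))
    obtain ⟨u', hu', -⟩ := Groth.Hensel1.exists_fiber_point q y (𝟙 Y) y rfl
    rw [Groth.Hensel1.components_fiber_eq q y (𝟙 Y) y u' hu']
    exact Groth.Hensel1.one_le_encard_components u'

/-- A smooth point of a fibre has at most one proper generization in the fibre. -/
theorem eq_of_specializes_smooth {W S : Scheme.{u}} (h : W ⟶ S) (hn : Curv2.IsNodalFamily h) {w z₁ z₂ : W}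
    [LocallyOfFinitePresentation h]
    (hw : w ∈ h.smoothLocus) (h₁ : z₁ ⤳ w) (h₂ : z₂ ⤳ w) (hne₁ : z₁ ≠ w) (hne₂ : z₂ ≠ w)
    (he₁ : h z₁ = h w) (he₂ : h z₂ = h w) : z₁ = z₂ := by
  haveI : Flat h := hn.1
  let k := S.residueField (h w)
  letI : (h.fiber (h w)).Over (Spec (CommRingCat.of k)) := ⟨h.fiberToSpecResidueField (h w)⟩
  haveI : LocallyOfFinitePresentation (h.fiber (h w) ↘ Spec (CommRingCat.of k)) :=
    MorphismProperty.pullback_snd (P := @LocallyOfFinitePresentation) _ _ inferInstance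
  let ι := h.fiberι (h w)
  obtain ⟨w', hw'⟩ : w ∈ Set.range ι := by rw [Scheme.Hom.range_fiberι]; rfl
  obtain ⟨a₁, ha₁⟩ : z₁ ∈ Set.range ι := by rw [Scheme.Hom.range_fiberι]; exact he₁
  obtain ⟨a₂, ha₂⟩ : z₂ ∈ Set.range ι := by rw [Scheme.Hom.range_fiberι]; exact he₂
  have hs₁ : a₁ ⤳ w' := ι.isEmbedding.specializes_iff.1 (by rw [ha₁, hw']; exact h₁)
  have hs₂ : a₂ ⤳ w' := ι.isEmbedding.specializes_iff.1 (by rw [ha₂, hw']; exact h₂)
  have hmax : ∀ a : h.fiber (h w), a ⤳ w' → a ≠ w' → ∀ z, z ⤳ a → z = a := fun a ha hne z hz => by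
    by_contra hza
    exact NodalContract.false_of_chain (h.fiberToSpecResidueField (h w))
      (MorphismProperty.pullback_snd (P := @LocallyOfFiniteType) _ _ inferInstance)
      (hn.2.2 (h w)).1 hz hza ha hne
  have hsm : w' ∈ (h.fiber (h w) ↘ Spec (CommRingCat.of k)).smoothLocus :=
    (mem_fibre_smoothLocus_iff h (h w) w').2 (show h.fiberι (h w) w' ∈ h.smoothLocus from hw'.symm ▸ hw)
  haveI := Groth.VarietyBC.isRegularLocalRing_of_mem_smoothLocus hsm
  haveI : IsDomain ((h.fiber (h w)).presheaf.stalk w') :=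
    Groth.Ega4Algebra1.isDomain_of_isRegularLocalRing _
  let j := (h.fiber (h w)).fromSpecStalk w'
  let P₀ := j ⟨⊥, Ideal.isPrime_bot⟩
  have hP : ∀ a, a ⤳ w' → P₀ ⤳ a := fun a ha => by
    obtain ⟨P, rfl⟩ : a ∈ Set.range j := by rw [Scheme.range_fromSpecStalk]; exact ha
    exact ((PrimeSpectrum.le_iff_specializes ⟨⊥, Ideal.isPrime_bot⟩ P).1 bot_le).map j.continuous
  have hn₁ : a₁ ≠ w' := fun e => hne₁ (ha₁.symm.trans ((congrArg ι e).trans hw'))
  have hn₂ : a₂ ≠ w' := fun e => hne₂ (ha₂.symm.trans ((congrArg ι e).trans hw'))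
  rw [← ha₁, ← ha₂, ← hmax a₁ hs₁ hn₁ P₀ (hP a₁ hs₁), ← hmax a₂ hs₂ hn₂ P₀ (hP a₂ hs₂)]

/-- A quasi-finite morphism of nodal families maps no smooth point to a node of the closed fibre,
if the target is normal. -/
theorem notMem_nonsmoothPts {XR YR S : Scheme.{u}} (p : XR ⟶ S) (hp : Curv2.IsNodalFamily p)
    (q : YR ⟶ S) (hq : Curv2.IsNodalFamily q) (φ : XR ⟶ YR) [LocallyOfFiniteType φ] (hφ : φ ≫ q = p)
    (hN : Pi1.IsNormalScheme YR) (x : XR) (hyn : φ x ∈ DualGr.nonsmoothPts q)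
    (hcl : IsClosed ({q.asFiber (φ x)} : Set (q.fiber (q (φ x))))) (hqf : φ.QuasiFiniteAt x)
    (hmax : ∀ ξ : XR, (∀ z, z ⤳ ξ → z = ξ) → ξ ⤳ x → ∀ z, z ⤳ φ ξ → z = φ ξ) :
    x ∈ DualGr.nonsmoothPts p := by
  intro hsm
  haveI : LocallyOfFinitePresentation p := hp.2.1
  haveI : LocallyOfFinitePresentation q := hq.2.1
  obtain ⟨U, g, u, η₁, η₂, hg, hgu, hne, hs₁, hs₂, hn₁, hn₂, he₁, he₂⟩ :=
    exists_two_generizations q hq (φ x) hyn hcl
  haveI := hg
  haveI := Groth.Ega4b.EtaleDescent.locallyQuasiFinite_of_etale g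
  let π : pullback g φ ⟶ U := pullback.fst g φ
  let g' : pullback g φ ⟶ XR := pullback.snd g φ
  haveI : Etale g' := MorphismProperty.pullback_snd _ _ inferInstance
  haveI := Groth.Ega4b.EtaleDescent.locallyQuasiFinite_of_etale g'
  haveI : LocallyOfFiniteType π := MorphismProperty.pullback_fst (P := @LocallyOfFiniteType) _ _ inferInstance
  have hw0 : π ≫ g = g' ≫ φ := pullback.condition
  obtain ⟨w, hwu, hwx⟩ := Scheme.Pullback.exists_preimage_pullback (f := g) (g := φ) u x hgu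
  have hgw : g' w = x := hwx
  have hπw : π w = u := hwu
  -- quasi-finiteness
  have hqπ : π.QuasiFiniteAt w := by
    rw [← Scheme.Hom.quasiFiniteAt_comp_iff (g := g), hw0]
    show ((g' ≫ φ).stalkMap w).hom.QuasiFinite
    rw [Scheme.Hom.stalkMap_comp]
    have h1 : φ.QuasiFiniteAt (g' w) := hgw.symm ▸ hqf
    exact RingHom.QuasiFinite.comp (g'.quasiFiniteAt w) h1
  -- normality
  have hNU := Groth.EtPbc.NormalOpen.isNormalScheme_of_etale hN g (π w)
  haveI := hNU.1
  haveI := hNU.2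
  have huni : CAlg2.IsUnibranch (U.presheaf.stalk (π w)) :=
    Groth.HensPair.isUnibranch_of_isIntegrallyClosed _
  -- a maximal generization
  obtain ⟨ξ, hξ⟩ := QuasiSober.sober (isIrreducible_irreducibleComponent (x := w))
    isClosed_irreducibleComponent
  have hξmax : ∀ z, z ⤳ ξ → z = ξ := fun z hz =>
    eq_of_isGenericPoint_component (irreducibleComponent_mem_irreducibleComponents w) hξ hz
  have hξw : ξ ⤳ w := hξ.specializes mem_irreducibleComponent
  have hgξ : ∀ z, z ⤳ g' ξ → z = g' ξ := fun z hz => by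
    obtain ⟨ξ', hξ', rfl⟩ := Flat.generalizingMap g' hz
    rw [hξmax ξ' hξ']
  have hπξ : ∀ z, z ⤳ π ξ → z = π ξ := fun z hz => by
    refine eq_of_specializes_map_eq g hz ?_
    have h1 : g (π ξ) = φ (g' ξ) := by rw [← Scheme.Hom.comp_apply, hw0, Scheme.Hom.comp_apply]
    rw [h1]
    exact hmax _ hgξ (hgw ▸ hξw.map g'.continuous) _ (h1 ▸ hz.map g.continuous)
  have lift : ∀ η, η ⤳ u → ∃ z, z ⤳ w ∧ π z = η := fun η hη =>
    exists_specializes_map_eq π huni hqπ hξw hπξ (hπw.symm ▸ hη)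
  obtain ⟨z₁, hz₁, hπ₁⟩ := lift η₁ hs₁
  obtain ⟨z₂, hz₂, hπ₂⟩ := lift η₂ hs₂
  -- the composite is a nodal family, smooth at `w`
  have hn := isNodalFamily_comp_etale p hp g'
  haveI : LocallyOfFinitePresentation (g' ≫ p) := hn.2.1
  have hwsm : w ∈ (g' ≫ p).smoothLocus := by
    rw [Scheme.Hom.mem_smoothLocus, Scheme.Hom.stalkMap_comp]
    have h1 : (g'.stalkMap w).hom.FormallySmooth := by
      have : w ∈ g'.smoothLocus := by rw [Scheme.Hom.smoothLocus_eq_top]; trivial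
      exact this
    have h2 : (p.stalkMap (g' w)).hom.FormallySmooth := hgw.symm ▸ hsm
    exact RingHom.FormallySmooth.stableUnderComposition _ _ h2 h1
  have hval : ∀ z, (g' ≫ p) z = (g ≫ q) (π z) := fun z => by
    rw [← Scheme.Hom.comp_apply, ← Category.assoc, hw0, Category.assoc, hφ]
  have hvw : (g' ≫ p) w = q (φ x) := by rw [hval, hπw, Scheme.Hom.comp_apply, hgu]
  refine hne ?_
  rw [← hπ₁, ← hπ₂, eq_of_specializes_smooth (g' ≫ p) hn hwsm hz₁ hz₂
    (fun e => hn₁ (by rw [← hπ₁, e, hπw])) (fun e => hn₂ (by rw [← hπ₂, e, hπw]))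
    (by rw [hval, hπ₁, he₁, hvw]) (by rw [hval, hπ₂, he₂, hvw])]

end Groth.ModelsGraphs
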