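import Groth.Agent.ModelsGraphs.NodeUnique
import Groth.Agent.Curves1.Node.NodalNormal
import Groth.Agent.CohC3.Thickening.Generic
import Groth.Agent.NeronArea.WeilExtension
import Groth.Agent.NeronArea.WeilExtensionBase
import Groth.Prelude.Def_Curve
import Groth.Prelude.Def_ModelsG

/-!
# Nodal models over a discrete valuation ring
-/

set_option autoImplicit false
set_option backward.isDefEq.respectTransparency.types false

universe u

open CategoryTheory Limits AlgebraicGeometry
open Groth.Curves1.Node

namespace Groth.ModelsGraphs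

variable {R : Type u} [CommRing R] [IsDomain R] [IsDiscreteValuationRing R]

theorem mem_range_generic {C M : Scheme.{u}} (f : C ⟶ Spec (CommRingCat.of (FractionRing R)))
    (p : M ⟶ Spec (CommRingCat.of R)) (i : C ⟶ M)
    (hi : IsPullback i f p (Spec.map (CommRingCat.ofHom (algebraMap R (FractionRing R))))) {x : M}
    (hx : (p x).asIdeal = ⊥) : x ∈ Set.range i := by
  obtain ⟨z, hz, -⟩ := Scheme.Pullback.exists_preimage_pullback (f := p)
    (g := Spec.map (CommRingCat.ofHom (algebraMap R (FractionRing R)))) x ⟨⊥, Ideal.isPrime_bot⟩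
    (PrimeSpectrum.ext (hx.trans (Ideal.comap_bot_of_injective _
      (IsFractionRing.injective R (FractionRing R))).symm))
  refine ⟨hi.isoPullback.inv z, ?_⟩
  rw [← Scheme.Hom.comp_apply, IsPullback.isoPullback_inv_fst, hz]

theorem isOpenImmersion_generic' {C M : Scheme.{u}} {f : C ⟶ Spec (CommRingCat.of (FractionRing R))}
    {p : M ⟶ Spec (CommRingCat.of R)} {i : C ⟶ M}
    (hi : IsPullback i f p (Spec.map (CommRingCat.ofHom (algebraMap R (FractionRing R))))) :
    IsOpenImmersion i :=
  haveI : IsOpenImmersion (Spec.map (CommRingCat.ofHom (algebraMap R (FractionRing R)))) := by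
    obtain ⟨π, hπ⟩ := IsDiscreteValuationRing.exists_irreducible R
    haveI := Groth.Pi1Tame.isLocalization_away (K := FractionRing R) hπ
    exact IsOpenImmersion.of_isLocalization π
  MorphismProperty.of_isPullback hi.flip inferInstance

/-- A nodal model of a smooth curve is normal. -/
theorem isNormalScheme_of_nodal {C M : Scheme.{u}} (f : C ⟶ Spec (CommRingCat.of (FractionRing R))) [Smooth f]
    (p : M ⟶ Spec (CommRingCat.of R)) (hp : Curv2.IsNodalFamily p) (i : C ⟶ M)
    (hi : IsPullback i f p (Spec.map (CommRingCat.ofHom (algebraMap R (FractionRing R))))) :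
    Pi1.IsNormalScheme M := fun x =>
  normal_of_nodalFamily p hp (fun x hx => by
    haveI := isOpenImmersion_generic' hi
    obtain ⟨c, rfl⟩ := mem_range_generic f p i hi hx
    haveI := Groth.NeronArea.Weil.isRegularLocalRing_of_smooth f c
      (Groth.NeronArea.Weil.dedekind_stalk (f c)).1
    haveI := Groth.Ega4Algebra1.isDomain_of_isRegularLocalRing (C.presheaf.stalk c)
    haveI := Groth.Ega4Algebra1.isIntegrallyClosed_of_isRegularLocalRing (C.presheaf.stalk c)
    let e := (asIso (i.stalkMap c)).commRingCatIsoToRingEquiv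
    exact ⟨e.toMulEquiv.isDomain _, IsIntegrallyClosed.of_equiv e.symm⟩) x

set_option maxHeartbeats 1000000 in
/-- A point where a nodal family is not smooth is closed in its fibre. -/
theorem isClosed_asFiber_of_nonsmooth {M S : Scheme.{u}} (p : M ⟶ S) (hp : Curv2.IsNodalFamily p) (y : M)
    (hy : y ∈ DualGr.nonsmoothPts p) : IsClosed ({p.asFiber y} : Set (p.fiber (p y))) := by
  haveI : Flat p := hp.1
  haveI : LocallyOfFinitePresentation p := hp.2.1
  let k := S.residueField (p y)
  letI : (p.fiber (p y)).Over (Spec (CommRingCat.of k)) := ⟨p.fiberToSpecResidueField (p y)⟩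
  haveI : LocallyOfFinitePresentation (p.fiber (p y) ↘ Spec (CommRingCat.of k)) :=
    MorphismProperty.pullback_snd (P := @LocallyOfFinitePresentation) _ _ inferInstance
  haveI : GeometricallyReduced (p.fiber (p y) ↘ Spec (CommRingCat.of k)) :=
    geometricallyReduced_of_atWorstNodal (hp.2.2 (p y)).2
  haveI : IsReduced (p.fiber (p y)) := isReduced_of_atWorstNodal (k := k) (hp.2.2 (p y)).2
  by_contra hcl
  obtain ⟨c, hc, hne⟩ : ∃ c, p.asFiber y ⤳ c ∧ c ≠ p.asFiber y := by
    by_contra! hall
    exact hcl (isClosed_of_closure_subset fun c hc => hall c (specializes_iff_mem_closure.2 hc))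
  have hmax : ∀ z, z ⤳ p.asFiber y → z = p.asFiber y := fun z hz => by
    by_contra hzy
    exact NodalContract.false_of_chain (p.fiberToSpecResidueField (p y))
      (MorphismProperty.pullback_snd (P := @LocallyOfFiniteType) _ _ inferInstance)
      (hp.2.2 (p y)).1 hz hzy hc hne.symm
  have h1 : p.asFiber y ∈ (p.fiber (p y) ↘ Spec (CommRingCat.of k)).smoothLocus :=
    Groth.VarietyBC.mem_smoothLocus_of_maximal hmax
  have h2 := (mem_fibre_smoothLocus_iff p (p y) (p.asFiber y)).1 h1
  rw [Scheme.Hom.fiberι_asFiber] at h2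
  exact hy h2

/-- A finite fibre gives quasi-finiteness. -/
theorem quasiFiniteAt_of_finite_fibre {A B : Scheme.{u}} (φ : A ⟶ B) [LocallyOfFiniteType φ] (x : A)
    (h : (φ ⁻¹' {φ x}).Finite) : φ.QuasiFiniteAt x := by
  rw [Scheme.Hom.quasiFiniteAt_iff_isOpen_singleton_asFiber]
  haveI : LocallyOfFiniteType (φ.fiberToSpecResidueField (φ x)) :=
    MorphismProperty.pullback_snd (P := @LocallyOfFiniteType) _ _ inferInstance
  haveI := LocallyOfFiniteType.jacobsonSpace (φ.fiberToSpecResidueField (φ x))
  haveI : Finite (φ ⁻¹' {φ x} : Set A) := h.to_subtype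
  haveI : Finite (φ.fiber (φ x)) := Finite.of_equiv _ (φ.fiberHomeo (φ x)).toEquiv.symm
  exact isOpen_discrete _

/-- A finite morphism of curves sends the generic point to the generic point. -/
theorem map_maximal_of_finite {K : Type u} [Field K] {X Y : Scheme.{u}} {fX : X ⟶ Spec (CommRingCat.of K)}
    {fY : Y ⟶ Spec (CommRingCat.of K)} (hX : Curve.IsSmoothProperCurve K X fX)
    (hY : Curve.IsSmoothProperCurve K Y fY) (f : X ⟶ Y) [IsFinite f] {a : X} (ha : ∀ z, z ⤳ a → z = a) :
    ∀ z, z ⤳ f a → z = f a := by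
  obtain ⟨hXp, -, hXi, hXd⟩ := hX
  obtain ⟨hYp, -, hYi, hYd⟩ := hY
  haveI := hXp; haveI := hYp; haveI := hXi; haveI := hYi
  have hdY : ∀ Z ∈ irreducibleComponents (Y : Type u), topologicalKrullDim Z = 1 := fun Z hZ => by
    rw [irreducibleComponents_eq_singleton] at hZ
    obtain rfl := hZ
    rw [← hYd]
    exact IsHomeomorph.topologicalKrullDim_eq _ (Homeomorph.Set.univ Y).isHomeomorph
  have hdX : ∀ Z ∈ irreducibleComponents (X : Type u), topologicalKrullDim Z = 1 := fun Z hZ => by
    rw [irreducibleComponents_eq_singleton] at hZ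
    obtain rfl := hZ
    rw [← hXd]
    exact IsHomeomorph.topologicalKrullDim_eq _ (Homeomorph.Set.univ X).isHomeomorph
  intro z hz
  by_contra hne
  have hm : IsMax a := fun w hw => Scheme.le_iff_specializes.2
    (specializes_of_eq (ha w (Scheme.le_iff_specializes.1 hw)).symm)
  have h1 := (NodalContract.dim_iff fX inferInstance).1 hdX a hm
  obtain ⟨c, hc⟩ := not_isMin_iff.1 fun h => by
    rw [Order.height_eq_zero.2 h] at h1
    exact zero_ne_one h1
  have hac : a ⤳ c := Scheme.le_iff_specializes.1 hc.le
  exact NodalContract.false_of_chain fY inferInstance hdY hz hne (hac.map f.continuous)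
    fun h => hc.ne' (eq_of_specializes_map_eq f hac h)

end Groth.ModelsGraphs
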