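import Groth.Agent.PropsBasic2.Spread3
import Groth.Agent.GrpschAbsch.SchDense
import Groth.Agent.NeronArea.GenericDense
import Groth.Agent.PropsBasic2.StalkFlat
import Mathlib

/-! A proper morphism which is an isomorphism on the generic fibre is an isomorphism over a
codimension one normal point of the closed fibre. -/

set_option backward.isDefEq.respectTransparency false

universe u

open CategoryTheory CategoryTheory.Limits AlgebraicGeometry

namespace Groth.ModelsGraphs.NormalPt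

/-- An isomorphism of local rings at the only point of a fibre spreads out, for a proper morphism. -/
theorem exists_nhds_of_stalk_iso {Z C : Scheme.{u}} (g : Z ⟶ C) [IsProper g] [LocallyOfFinitePresentation g]
    (z : Z) [IsIso (g.stalkMap z)] (huniq : ∀ z', g z' = g z → z' = z) :
    ∃ V : C.Opens, g z ∈ V ∧ IsIso (g ∣_ V) := by
  obtain ⟨U, hcU, W, f, hf, hfac, hfg⟩ := PropsBasic2.Spread.exist_iso (𝟙 C) g (x := g z) (y := z) rfl
    (inv (g.stalkMap z)) (by simp [Scheme.Hom.stalkMap_id, TopCat.Presheaf.stalkSpecializes_refl])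
  have hzW : z ∈ W := by
    have h1 := congr($hfac (IsLocalRing.closedPoint _))
    change Z.fromSpecStalk z (Spec.map (inv (g.stalkMap z)) _) = W.ι (f _) at h1
    have h3 : IsIso (Spec.map (inv (g.stalkMap z))) := inferInstance
    have h2 : Spec.map (inv (g.stalkMap z)) (IsLocalRing.closedPoint _) = IsLocalRing.closedPoint _ :=
      IsLocalRing.comap_closedPoint _
    rw [h2, Scheme.fromSpecStalk_closedPoint] at h1
    rw [h1]
    exact Subtype.coe_prop _
  have hclosed : IsClosed (g '' (W : Set Z)ᶜ) := g.isClosedMap _ W.isOpen.isClosed_compl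
  let V : C.Opens := U ⊓ ⟨(g '' (W : Set Z)ᶜ)ᶜ, hclosed.isOpen_compl⟩
  refine ⟨V, ⟨hcU, ?_⟩, ?_⟩
  · rintro ⟨z', hz', he⟩
    exact hz' (huniq z' he ▸ hzW)
  have hVW : g ⁻¹ᵁ V ≤ W := fun z' hz' => by
    by_contra h
    exact hz'.2 ⟨z', h, rfl⟩
  -- the inverse over `V`
  have hfg' : f ≫ W.ι ≫ g = U.ι := by rw [hfg, Category.comp_id]
  let σ : V.toScheme ⟶ Z := C.homOfLE inf_le_left ≫ f ≫ W.ι
  have hσg : σ ≫ g = V.ι := by simp only [σ, Category.assoc, hfg', Scheme.homOfLE_ι]
  have hσV : Set.range σ ⊆ Set.range (g ⁻¹ᵁ V).ι := by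
    rintro _ ⟨x, rfl⟩
    rw [Scheme.Opens.range_ι]
    show g (σ x) ∈ V
    rw [← Scheme.Hom.comp_apply, hσg]
    exact x.2
  let τ := IsOpenImmersion.lift (g ⁻¹ᵁ V).ι σ hσV
  have hτ : τ ≫ (g ⁻¹ᵁ V).ι = σ := IsOpenImmersion.lift_fac _ _ _
  refine ⟨τ, ?_, ?_⟩
  · rw [← cancel_mono (g ⁻¹ᵁ V).ι, Category.assoc, hτ, Category.id_comp]
    -- both maps factor through `W`, where `g` is a monomorphism
    have hWU : Z.homOfLE hVW ≫ W.ι = (g ⁻¹ᵁ V).ι := Scheme.homOfLE_ι _ _
    rw [← hWU]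
    have h1 : Z.homOfLE hVW ≫ inv f ≫ U.ι = (g ∣_ V) ≫ V.ι := by
      rw [morphismRestrict_ι, ← hWU, ← hfg', IsIso.inv_hom_id_assoc, Category.assoc]
    have h2 : Z.homOfLE hVW ≫ inv f = (g ∣_ V) ≫ C.homOfLE inf_le_left := by
      rw [← cancel_mono U.ι, Category.assoc, Category.assoc, h1, Scheme.homOfLE_ι]
    simp only [σ]
    rw [← reassoc_of% h2, IsIso.inv_hom_id_assoc]
  · rw [← cancel_mono V.ι, Category.assoc, morphismRestrict_ι, ← Category.assoc, hτ, hσg, Category.id_comp]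

theorem exists_nhds_isIso (R : Type u) [CommRing R] [IsDomain R]
    [IsDiscreteValuationRing R] {C Z : Scheme.{u}} (πC : C ⟶ Spec (CommRingCat.of R)) [Flat πC]
    [LocallyOfFiniteType πC] (g : Z ⟶ C) [IsProper g]
    [Flat (g ≫ πC)] (ϖ : R) (hϖ : Irreducible ϖ)
    (hgen : IsIso (g ∣_ (πC ⁻¹ᵁ (PrimeSpectrum.basicOpen ϖ))))
    (c : C) (hdom : IsDomain (C.presheaf.stalk c)) (hnorm : IsIntegrallyClosed (C.presheaf.stalk c))
    (hdim : ringKrullDim (C.presheaf.stalk c) = 1) :
    ∃ V : C.Opens, c ∈ V ∧ IsIso (g ∣_ V) := by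
  set W : C.Opens := πC ⁻¹ᵁ (PrimeSpectrum.basicOpen ϖ) with hW
  by_cases hcW : c ∈ W
  · exact ⟨W, hcW, hgen⟩
  haveI : IsLocallyNoetherian C := LocallyOfFiniteType.isLocallyNoetherian πC
  -- the local ring is a discrete valuation ring
  let A := C.presheaf.stalk c
  have hnf : ¬ IsField A := fun hF => by
    letI := hF.toField
    rw [ringKrullDim_eq_zero_of_field] at hdim
    exact zero_ne_one hdim
  haveI : Ring.KrullDimLE 1 A := Ring.krullDimLE_iff.2 hdim.le
  haveI : IsDiscreteValuationRing A := by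
    have h4 : IsIntegrallyClosed A ∧ ∃! P : Ideal A, P ≠ ⊥ ∧ P.IsPrime :=
      ⟨hnorm, IsLocalRing.maximalIdeal A, ⟨(IsLocalRing.isField_iff_maximalIdeal_eq.not).1 hnf, inferInstance⟩,
        fun P hP => IsLocalRing.eq_maximalIdeal
          ((Ring.krullDimLE_one_iff_of_noZeroDivisors.1 inferInstance) P hP.1 hP.2)⟩
    exact ((IsDiscreteValuationRing.TFAE A hnf).out 3 0).1 h4
  let j := C.fromSpecStalk c
  let φ : R →+* A := (Spec.preimage (j ≫ πC)).hom
  have hφ : Spec.map (CommRingCat.ofHom φ) = j ≫ πC := Spec.map_preimage _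
  haveI hflatj : Flat j := Groth.PropsBasic2.flat_fromSpecStalk c
  have hφflat : φ.Flat := by
    have : Flat (Spec.map (CommRingCat.ofHom φ)) := hφ ▸ inferInstance
    exact Flat.SpecMap_iff.1 this
  have hφϖ : φ ϖ ≠ 0 := by
    letI := φ.toAlgebra
    haveI : Module.Flat R A := hφflat
    intro h0
    have h1 : IsSMulRegular A ϖ :=
      (IsSMulRegular.of_ne_zero hϖ.ne_zero : IsSMulRegular R ϖ).of_flat
    have h2 : ϖ • (1 : A) = ϖ • (0 : A) := by
      rw [smul_zero, Algebra.smul_def, mul_one]; exact h0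
    exact one_ne_zero (h1 h2)
  -- the generic point
  let K := FractionRing A
  let ηK : Spec (CommRingCat.of K) ⟶ Spec A := Spec.map (CommRingCat.ofHom (algebraMap A K))
  have hηW : Set.range (ηK ≫ j) ⊆ W := by
    rintro _ ⟨x, rfl⟩
    show πC ((ηK ≫ j) x) ∈ PrimeSpectrum.basicOpen ϖ
    rw [← Scheme.Hom.comp_apply, Category.assoc, ← hφ, Scheme.Hom.comp_apply]
    show φ ϖ ∉ (PrimeSpectrum.comap (algebraMap A K) x).asIdeal
    intro hmem
    have hbot : x.asIdeal = ⊥ := (Ideal.eq_bot_or_top x.asIdeal).resolve_right x.2.ne_top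
    rw [PrimeSpectrum.comap_asIdeal, Ideal.mem_comap, hbot, Ideal.mem_bot] at hmem
    exact hφϖ (IsFractionRing.injective A K (hmem.trans (map_zero _).symm))
  let κ0 : Spec (CommRingCat.of K) ⟶ W.toScheme :=
    IsOpenImmersion.lift W.ι (ηK ≫ j) (by rwa [Scheme.Opens.range_ι])
  have hκ0 : κ0 ≫ W.ι = ηK ≫ j := IsOpenImmersion.lift_fac _ _ _
  let z0 : Spec (CommRingCat.of K) ⟶ Z := κ0 ≫ inv (g ∣_ W) ≫ (g ⁻¹ᵁ W).ι
  have hz0 : z0 ≫ g = ηK ≫ j := by
    simp only [z0, Category.assoc]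
    rw [← morphismRestrict_ι, IsIso.inv_hom_id_assoc, hκ0]
  -- the valuative criterion
  have hex : ValuativeCriterion.Existence g := by
    have : UniversallyClosed g := inferInstance
    rw [UniversallyClosed.eq_valuativeCriterion] at this
    exact this.1
  let S : ValuativeCommSq g :=
    { R := A
      K := K
      i₁ := z0
      i₂ := j
      commSq := ⟨hz0⟩ }
  obtain ⟨⟨l, hl1, hl2⟩⟩ := (hex S).exists_lift
  change Spec A ⟶ Z at l
  replace hl2 : l ≫ g = j := hl2
  -- the base change to the local ring is trivial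
  let q := pullback.snd g j
  let m := pullback.fst g j
  let s : Spec A ⟶ pullback g j := pullback.lift l (𝟙 _) (by rw [hl2, Category.id_comp])
  have hsq : s ≫ q = 𝟙 _ := pullback.lift_snd _ _ _
  have hsm : s ≫ m = l := pullback.lift_fst _ _ _
  haveI : Flat m := inferInstance
  let r : pullback g j ⟶ Spec (CommRingCat.of R) := m ≫ g ≫ πC
  haveI : Flat r := inferInstance
  haveI := Groth.NeronArea.isSchemeTheoreticallyDominant_genPt R
  let gp : Spec (CommRingCat.of (FractionRing R)) ⟶ Spec (CommRingCat.of R) := Neron.genPt R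
  haveI : QuasiCompact gp := inferInstance
  let ι := pullback.fst r gp
  haveI : IsSchemeTheoreticallyDominant ι := inferInstance
  have hιD : ∀ x, r (ι x) ∈ PrimeSpectrum.basicOpen ϖ := by
    intro x
    rw [← Scheme.Hom.comp_apply, pullback.condition, Scheme.Hom.comp_apply]
    show algebraMap R (FractionRing R) ϖ ∉ (pullback.snd r gp x).asIdeal
    intro hmem
    have hbot : (pullback.snd r gp x).asIdeal = ⊥ :=
      (Ideal.eq_bot_or_top (pullback.snd r gp x).asIdeal).resolve_right (pullback.snd r gp x).2.ne_top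
    rw [hbot, Ideal.mem_bot] at hmem
    exact hϖ.ne_zero (IsFractionRing.injective R (FractionRing R) (hmem.trans (map_zero _).symm))
  have hmW : Set.range (ι ≫ m) ⊆ Set.range (g ⁻¹ᵁ W).ι := by
    rintro _ ⟨x, rfl⟩
    rw [Scheme.Opens.range_ι]
    exact hιD x
  have hsW : Set.range (ι ≫ q ≫ l) ⊆ Set.range (g ⁻¹ᵁ W).ι := by
    rintro _ ⟨x, rfl⟩
    rw [Scheme.Opens.range_ι]
    show πC (g ((ι ≫ q ≫ l) x)) ∈ PrimeSpectrum.basicOpen ϖ
    have e : (ι ≫ q ≫ l) ≫ g ≫ πC = ι ≫ r := by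
      simp only [Category.assoc, r, reassoc_of% hl2, q, m, reassoc_of% (pullback.condition (f := g) (g := j))]
    exact (congrArg (fun φ => φ x ∈ PrimeSpectrum.basicOpen ϖ) e).mpr (hιD x)
  have heq : ι ≫ q ≫ l = ι ≫ m := by
    rw [← IsOpenImmersion.lift_fac (g ⁻¹ᵁ W).ι _ hsW, ← IsOpenImmersion.lift_fac (g ⁻¹ᵁ W).ι _ hmW]
    congr 1
    rw [← cancel_mono ((g ∣_ W) ≫ W.ι), morphismRestrict_ι, IsOpenImmersion.lift_fac_assoc,
      IsOpenImmersion.lift_fac_assoc, Category.assoc, Category.assoc, Category.assoc, hl2, pullback.condition]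
  have hqs : q ≫ s = 𝟙 _ := by
    refine Groth.GrpschAbsch.ext_of_isSchemeTheoreticallyDominant q
      (by rw [Category.assoc, hsq, Category.comp_id, Category.id_comp]) ι ?_
    apply pullback.hom_ext
    · show (ι ≫ q ≫ s) ≫ m = (ι ≫ 𝟙 _) ≫ m
      rw [Category.assoc, Category.assoc, hsm, Category.comp_id, heq]
    · show (ι ≫ q ≫ s) ≫ q = (ι ≫ 𝟙 _) ≫ q
      rw [Category.assoc, Category.assoc, hsq, Category.comp_id, Category.comp_id]
  haveI : IsIso s := ⟨q, hsq, hqs⟩
  haveI : Flat l := hsm ▸ inferInstance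
  -- the point over `c` and its local ring
  set z := l (IsLocalRing.closedPoint A) with hz
  have hgz : g z = c := by
    rw [hz, ← Scheme.Hom.comp_apply, hl2]
    exact Scheme.fromSpecStalk_closedPoint
  have huniq : ∀ z', g z' = g z → z' = z := by
    intro z' hz'
    have hz'' : g z' = j (IsLocalRing.closedPoint A) := by
      rw [hz', hgz]; exact Scheme.fromSpecStalk_closedPoint.symm
    obtain ⟨p, hp1, hp2⟩ := Scheme.Pullback.exists_preimage_pullback (f := g) (g := j) z' (IsLocalRing.closedPoint A) hz''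
    have hp : s (q p) = p := by rw [← Scheme.Hom.comp_apply, hqs]; rfl
    rw [← hp1, ← hp, ← Scheme.Hom.comp_apply, hsm, hp2]
  have hlinj : Function.Injective (Scheme.stalkClosedPointTo l) := by
    rw [Scheme.stalkClosedPointTo]
    exact (ConcreteCategory.bijective_of_isIso (AlgebraicGeometry.stalkClosedPointIso A).hom).1.comp
      (Groth.PropsBasic2.stalkMap_injective_of_flat l _)
  have hcomp := Scheme.stalkClosedPointTo_comp l g
  haveI hiso1 : IsIso (g.stalkMap z ≫ Scheme.stalkClosedPointTo l) := by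
    have key : ∀ φ' : Spec A ⟶ C, φ' = j → IsIso (Scheme.stalkClosedPointTo φ') := by
      rintro _ rfl
      rw [Scheme.stalkClosedPointTo_fromSpecStalk]
      infer_instance
    have h1 := key (l ≫ g) hl2
    rw [hcomp] at h1
    exact h1
  haveI : IsIso (Scheme.stalkClosedPointTo l) := by
    refine (ConcreteCategory.isIso_iff_bijective _).2 ⟨hlinj, fun a => ?_⟩
    obtain ⟨b, hb⟩ := (ConcreteCategory.bijective_of_isIso (g.stalkMap z ≫ Scheme.stalkClosedPointTo l)).2 a
    exact ⟨g.stalkMap z b, hb⟩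
  haveI : IsIso (g.stalkMap z) := IsIso.of_isIso_comp_right _ (Scheme.stalkClosedPointTo l)
  haveI : LocallyOfFinitePresentation g := inferInstance
  obtain ⟨V, hV, hVi⟩ := exists_nhds_of_stalk_iso g z huniq
  exact ⟨V, hgz ▸ hV, hVi⟩

end Groth.ModelsGraphs.NormalPt
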