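import Groth.Agent.ModelsGraphs.PicStep
import Groth.Agent.ModelsGraphs.InvAlgebraize
import Groth.Agent.Inter.Vanishing
import Groth.Agent.CohFin.ProjFinite
import Groth.Agent.ModelsGraphs.FieldChain
import Groth.Agent.Calg1.SmallLiftsAt
import Mathlib.RingTheory.Polynomial.Nilpotent
import Mathlib.Dynamics.Newton
import Mathlib.RingTheory.Artinian.Ring

/-!
# Picard groups of a proper scheme over a complete ring and of its closed fibre

Surjectivity of restriction and unique divisibility of its kernel by exponents prime to the residue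
characteristic, for fibres of dimension at most one over an algebraically closed residue field.
-/

set_option autoImplicit false
set_option backward.isDefEq.respectTransparency.types false
set_option linter.style.haveILetI false

universe u

open CategoryTheory Limits AlgebraicGeometry Opposite TopologicalSpace
open scoped Groth.Abvar.PicCalc

noncomputable section

namespace Groth.ModelsGraphs.PicKernel

open Groth.Abvar.PicCalc (pull)

section Units

open Polynomial

/-- Units of a finite Artinian algebra over a ring with algebraically closed residue field have roots. -/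
theorem roots_of_units {k A : Type*} [Field k] [IsAlgClosed k] [CommRing A] [IsArtinianRing A]
    {R : Type*} [CommRing R] [Algebra R k] [Algebra R A] [Module.Finite R A]
    (hsurj : Function.Surjective (algebraMap R k))
    (hker : RingHom.ker (algebraMap R k) ≤ Ring.jacobson R)
    (q : ℕ) (hq : IsUnit (q : A)) (v : Aˣ) : ∃ w : Aˣ, w ^ q = v := by
  classical
  by_cases h0 : q = 0
  · subst h0
    rw [Nat.cast_zero, isUnit_zero_iff] at hq
    haveI := subsingleton_of_zero_eq_one hq
    exact ⟨v, Units.ext (Subsingleton.elim _ _)⟩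
  -- roots modulo each maximal ideal
  have hroot : ∀ m : MaximalSpectrum A, ∃ a : A ⧸ m.asIdeal, a ^ q = Ideal.Quotient.mk _ (v : A) := by
    intro m
    haveI := m.isMaximal
    letI := Ideal.Quotient.field m.asIdeal
    have hle : RingHom.ker (algebraMap R k) ≤ RingHom.ker (algebraMap R (A ⧸ m.asIdeal)) := by
      haveI : (RingHom.ker (algebraMap R (A ⧸ m.asIdeal))).IsMaximal := by
        have : RingHom.ker (algebraMap R (A ⧸ m.asIdeal)) = m.asIdeal.comap (algebraMap R A) := by
          ext r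
          rw [RingHom.mem_ker, IsScalarTower.algebraMap_apply R A (A ⧸ m.asIdeal), Ideal.Quotient.algebraMap_eq,
            Ideal.Quotient.eq_zero_iff_mem, Ideal.mem_comap]
        rw [this]
        exact Ideal.isMaximal_comap_of_isIntegral_of_isMaximal m.asIdeal
      refine hker.trans ?_
      rw [Ring.jacobson_eq_sInf_isMaximal]
      exact sInf_le this
    let e := RingHom.liftOfSurjective (algebraMap R k) hsurj ⟨algebraMap R (A ⧸ m.asIdeal), hle⟩
    letI := e.toAlgebra
    haveI : IsScalarTower R k (A ⧸ m.asIdeal) := IsScalarTower.of_algebraMap_eq fun r =>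
      (RingHom.liftOfRightInverse_comp_apply (algebraMap R k) (Function.surjInv hsurj) (Function.rightInverse_surjInv hsurj) ⟨algebraMap R (A ⧸ m.asIdeal), hle⟩ r).symm
    haveI : Module.Finite k (A ⧸ m.asIdeal) := Module.Finite.of_restrictScalars_finite R k _
    obtain ⟨c, hc⟩ := (IsAlgClosed.algebraMap_bijective_of_isIntegral (k := k) (K := A ⧸ m.asIdeal)).2
      (Ideal.Quotient.mk _ (v : A))
    obtain ⟨z, hz⟩ := IsAlgClosed.exists_pow_nat_eq c (Nat.pos_of_ne_zero h0)
    exact ⟨algebraMap k _ z, by rw [← map_pow, hz, hc]⟩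
  choose a ha using hroot
  obtain ⟨b, hb⟩ := IsArtinianRing.quotNilradicalEquivPi A |>.surjective a |> fun ⟨z, hz⟩ =>
    (Ideal.Quotient.mk_surjective z).elim fun b hb => (⟨b, by rw [hb, hz]⟩ : ∃ b : A,
      IsArtinianRing.quotNilradicalEquivPi A (Ideal.Quotient.mk _ b) = a)
  have hnil : IsNilpotent (b ^ q - (v : A)) := by
    rw [← mem_nilradical, ← Ideal.Quotient.eq_zero_iff_mem]
    apply (IsArtinianRing.quotNilradicalEquivPi A).injective
    rw [map_sub, map_pow, map_sub, map_pow, hb, map_zero, sub_eq_zero]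
    funext m
    exact ha m
  have hbu : IsUnit b := by
    have := hnil.isUnit_add_left_of_commute v.isUnit (Commute.all _ _)
    rw [add_sub_cancel] at this
    exact (isUnit_pow_iff h0).1 this
  obtain ⟨r, ⟨-, hr⟩, -⟩ := existsUnique_nilpotent_sub_and_aeval_eq_zero (S := A)
    (P := (X ^ q - C (v : A))) (x := b) (by simpa using hnil) (by
      simp only [derivative_sub, derivative_X_pow, derivative_C, sub_zero, aeval_mul, aeval_C,
        map_natCast, map_pow, aeval_X]
      exact hq.mul (hbu.pow _))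
  simp only [aeval_sub, map_pow, aeval_X, aeval_C, Algebra.algebraMap_self, RingHom.id_apply, sub_eq_zero] at hr
  have hru : IsUnit r := (isUnit_pow_iff h0).1 (hr ▸ v.isUnit)
  exact ⟨hru.unit, Units.ext hr⟩

end Units

section Step

variable {Y Z : Scheme.{u}} (t : Y ⟶ Z) [IsClosedImmersion t]

theorem exists_pull_bijective :
    ∃ e : Y ≅ t.ker.subscheme, e.hom ≫ t.ker.subschemeι = t := by
  let a := IsClosedImmersion.lift t.ker.subschemeι t (Scheme.IdealSheafData.ker_subschemeι t.ker).le
  let b := IsClosedImmersion.lift t t.ker.subschemeι (Scheme.IdealSheafData.ker_subschemeι t.ker).ge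
  have ha : a ≫ t.ker.subschemeι = t := IsClosedImmersion.lift_fac _ _ _
  have hb : b ≫ t = t.ker.subschemeι := IsClosedImmersion.lift_fac _ _ _
  exact ⟨⟨a, b, by rw [← cancel_mono t, Category.assoc, hb, ha, Category.id_comp],
    by rw [← cancel_mono t.ker.subschemeι, Category.assoc, ha, hb, Category.id_comp]⟩, ha⟩

theorem pull_iso_bijective {V W : Scheme.{u}} (e : V ≅ W) : Function.Bijective (pull e.hom) := by
  refine ⟨fun a b h => ?_, fun c => ⟨pull e.inv c, ?_⟩⟩
  · have := congrArg (pull e.inv) h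
    simpa [← Groth.Abvar.PicCalc.pull_comp, Groth.Abvar.PicCalc.pull_id] using this
  · rw [← Groth.Abvar.PicCalc.pull_comp, e.hom_inv_id, Groth.Abvar.PicCalc.pull_id]

variable (hI : t.ker * t.ker = ⊥)

include hI in
theorem step_surjective (h2 : Subsingleton (Coh.HH Z (ClSub.idealMod t.ker) 2)) :
    Function.Surjective (pull t) := fun c => by
  obtain ⟨e, he⟩ := exists_pull_bijective t
  obtain ⟨c', rfl⟩ := (pull_iso_bijective e).2 c
  obtain ⟨d, rfl⟩ := Groth.ModelsGraphs.PicStep.pullHom_surjective (Groth.Abvar.PicCalc.pullMulCl _) hI h2 c'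
  exact ⟨d, (congrArg (fun s => pull s d) he.symm).trans (Groth.Abvar.PicCalc.pull_comp _ _ d)⟩

include hI in
theorem step_root (q : ℕ) (hq : IsUnit (q : Γ(Z, ⊤))) (hroot : ∀ v : (Γ(Y, ⊤))ˣ, ∃ w, w ^ q = v)
    {c : PicLoc.PicSet Z} (hc : pull t c = 1) : ∃! d : PicLoc.PicSet Z, pull t d = 1 ∧ d ^ q = c := by
  obtain ⟨e, he⟩ := exists_pull_bijective t
  have hiff : ∀ d, pull t d = 1 ↔ pull t.ker.subschemeι d = 1 := fun d => by
    have : pull t d = pull e.hom (pull t.ker.subschemeι d) :=
      (congrArg (fun s => pull s d) he.symm).trans (Groth.Abvar.PicCalc.pull_comp _ _ d)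
    rw [this]
    exact ⟨fun h => (pull_iso_bijective e).1 (h.trans (map_one _).symm), fun h => by rw [h, map_one]⟩
  have hroot' : ∀ v : (Γ(t.ker.subscheme, ⊤))ˣ, ∃ w, w ^ q = v := by
    intro v
    let φ : Γ(t.ker.subscheme, ⊤) ≃+* Γ(Y, ⊤) := (asIso (Scheme.Γ.map e.hom.op)).commRingCatIsoToRingEquiv
    obtain ⟨w, hw⟩ := hroot (Units.mapEquiv φ.toMulEquiv v)
    refine ⟨(Units.mapEquiv φ.toMulEquiv).symm w, ?_⟩
    rw [← map_pow, hw, MulEquiv.symm_apply_apply]
  obtain ⟨d, ⟨hd, hdq⟩, hu⟩ :=
    Groth.ModelsGraphs.PicStep.existsUnique_root (Groth.Abvar.PicCalc.pullMulCl _) hI q hq hroot' ((hiff c).1 hc)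
  exact ⟨d, ⟨(hiff d).2 hd, hdq⟩, fun d' h => hu d' ⟨(hiff d').1 h.1, h.2⟩⟩

end Step

section Tower

open Groth.ModelsGraphs.InvAlg

variable {A : Type u} [CommRing A] (I : Ideal A) (X : Scheme.{u}) [X.Over (Spec (CommRingCat.of A))]
  [IsNoetherianRing A] [IsAdicComplete I A] [IsProper (X ↘ Spec (CommRingCat.of A))]

/-- Compatible classes on the levels come from `X`. -/
theorem exists_of_compatible (c : ∀ n, PicLoc.PicSet (lvl I X n))
    (hc : ∀ n, pull (tr I X n) (c (n + 1)) = c n) :
    ∃ d : PicLoc.PicSet X, ∀ n, pull (inc I X n) d = c n := by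
  choose L hL hLc using fun n => PicGrp.exists_eq_cls (c n)
  have hLt : ∀ n, Nonempty ((Scheme.Modules.pullback (tr I X n)).obj (L (n + 1)) ≅ L n) := fun n => by
    refine (PicGrp.cls_eq_cls_iff (PicLoc.isInvertible_pullback _ (hL (n + 1))) (hL n)).1 ?_
    exact ((Groth.Abvar.PicCalc.pull_cls _ (hL (n + 1))).symm.trans
      ((congrArg (pull (tr I X n)) (hLc (n + 1))).symm.trans (hc n))).trans (hLc n)
  obtain ⟨M, hM, hMe⟩ := exists_invertible I X L hL hLt
  refine ⟨PicGrp.cls M hM, fun n => ?_⟩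
  rw [hLc n, show pull (inc I X n) (PicGrp.cls M hM) = _ from Groth.Abvar.PicCalc.pull_cls _ hM]
  exact (PicGrp.cls_eq_cls_iff _ _).2 (hMe n)

/-- A class trivial on all levels is trivial. -/
theorem eq_one_of_forall (c : PicLoc.PicSet X) (hc : ∀ n, pull (inc I X n) c = 1) : c = 1 := by
  obtain ⟨M, hM, rfl⟩ := PicGrp.exists_eq_cls c
  refine (PicGrp.cls_eq_one_iff hM).2 (nonempty_iso_structure I X hM fun n => ?_)
  refine (PicGrp.cls_eq_one_iff (PicLoc.isInvertible_pullback _ hM)).1 ?_
  exact (Groth.Abvar.PicCalc.pull_cls _ hM).symm.trans (hc n)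

omit [IsNoetherianRing A] [IsAdicComplete I A] [IsProper (X ↘ Spec (CommRingCat.of A))] in
theorem pull_tr_inc (n : ℕ) (c : PicLoc.PicSet X) :
    pull (tr I X n) (pull (inc I X (n + 1)) c) = pull (inc I X n) c := by
  rw [← Groth.Abvar.PicCalc.pull_comp]
  exact congrArg (fun s => pull s c) (Groth.FormalAlg.thickTrans_ι _ I n)

/-- Restriction to the zeroth level is surjective if all steps are. -/
theorem surjective_inc_zero (hs : ∀ n, Function.Surjective (pull (tr I X n))) :
    Function.Surjective (pull (inc I X 0)) := fun c => by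
  choose σ hσ using hs
  let s : ∀ n, PicLoc.PicSet (lvl I X n) := fun n =>
    Nat.rec (motive := fun n => PicLoc.PicSet (lvl I X n)) c (fun n x => σ n x) n
  obtain ⟨d, hd⟩ := exists_of_compatible I X s (fun n => hσ n _)
  exact ⟨d, hd 0⟩

/-- Unique divisibility of the kernel of restriction to the zeroth level. -/
theorem existsUnique_root_inc_zero (hs : ∀ n, Function.Surjective (pull (tr I X n))) (q : ℕ)
    (hr : ∀ n (c : PicLoc.PicSet (lvl I X (n + 1))), pull (tr I X n) c = 1 →
      ∃! d, pull (tr I X n) d = 1 ∧ d ^ q = c)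
    {c : PicLoc.PicSet X} (hc : pull (inc I X 0) c = 1) :
    ∃! d : PicLoc.PicSet X, pull (inc I X 0) d = 1 ∧ d ^ q = c := by
  have hstep : ∀ (n : ℕ) (x : PicLoc.PicSet (lvl I X n)), x ^ q = pull (inc I X n) c →
      ∃ y : PicLoc.PicSet (lvl I X (n + 1)), pull (tr I X n) y = x ∧ y ^ q = pull (inc I X (n + 1)) c := by
    intro n x hx
    obtain ⟨y', rfl⟩ := hs n x
    obtain ⟨e, ⟨he, heq⟩, -⟩ := hr n (pull (inc I X (n + 1)) c / y' ^ q) (by
      rw [map_div, map_pow, hx, pull_tr_inc, div_self'])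
    exact ⟨y' * e, by rw [map_mul, he, mul_one], by rw [mul_pow, heq, mul_div_cancel]⟩
  choose σ hσ₁ hσ₂ using hstep
  let s : ∀ n, {x : PicLoc.PicSet (lvl I X n) // x ^ q = pull (inc I X n) c} := fun n =>
    Nat.rec (motive := fun n => {x : PicLoc.PicSet (lvl I X n) // x ^ q = pull (inc I X n) c})
      ⟨1, by rw [one_pow, hc]⟩ (fun n x => ⟨σ n x.1 x.2, hσ₂ n x.1 x.2⟩) n
  obtain ⟨d, hd⟩ := exists_of_compatible I X (fun n => (s n).1) (fun n => hσ₁ n _ _)
  refine ⟨d, ⟨hd 0, ?_⟩, fun d' hd' => ?_⟩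
  · refine div_eq_one.1 (eq_one_of_forall I X _ fun n => ?_)
    rw [map_div, map_pow, hd n, (s n).2, div_self']
  · refine div_eq_one.1 (eq_one_of_forall I X _ fun n => ?_)
    induction n with
    | zero =>
      rw [map_div, hd'.1, hd 0, div_eq_one]
      rfl
    | succ n ih =>
      refine (hr n 1 (map_one _)).unique ⟨?_, ?_⟩ ⟨map_one _, one_pow _⟩
      · rw [pull_tr_inc]
        exact ih
      · rw [← map_pow, div_pow, hd'.2, map_div]
        rw [map_pow, hd (n + 1), (s (n + 1)).2, div_self']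

end Tower

section Closed

open Groth.ModelsGraphs.InvAlg IsLocalRing

variable (R : Type u) [CommRing R] [IsLocalRing R] [IsNoetherianRing R] [IsAdicComplete (maximalIdeal R) R]
  (X : Scheme.{u}) [X.Over (Spec (CommRingCat.of R))] [IsProper (X ↘ Spec (CommRingCat.of R))]

omit [IsNoetherianRing R] [IsAdicComplete (maximalIdeal R) R] [IsProper (X ↘ Spec (CommRingCat.of R))] in
theorem isClosedImmersion_tr (n : ℕ) : IsClosedImmersion (tr (maximalIdeal R) X n) :=
  Groth.CohTwo.isClosedImmersion_of_cart _ _ _ _ (cart (maximalIdeal R) X) n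

omit [IsNoetherianRing R] [IsAdicComplete (maximalIdeal R) R] [IsProper (X ↘ Spec (CommRingCat.of R))] in
theorem ker_tr_sq (n : ℕ) : (tr (maximalIdeal R) X n).ker * (tr (maximalIdeal R) X n).ker = ⊥ := by
  refine Scheme.IdealSheafData.ext (funext fun U => ?_)
  rw [Scheme.IdealSheafData.ideal_mul, Pi.mul_apply, Scheme.IdealSheafData.ideal_bot, Pi.bot_apply,
    eq_bot_iff]
  have h := Groth.CohTwo.ker_le_of_isPullback (Ideal.pow_le_pow_right (Nat.le_succ (n + 1)))
    (cart (maximalIdeal R) X n) rfl U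
  refine (Ideal.mul_mono h h).trans ?_
  rw [← Ideal.map_mul, ← pow_add, Ideal.map_le_iff_le_comap]
  intro a ha
  have h0 : Coh.toGlobal (lvl (maximalIdeal R) X (n + 1) ↘ Spec (CommRingCat.of R)) a = 0 :=
    Groth.CohTwo.toGlobal_eq_zero_of_factor (f := CohB1.thickToBase _ _ (n + 1)) rfl
      (Ideal.pow_le_pow_right (show n + 1 + 1 ≤ n + 1 + (n + 1) by omega) ha)
  rw [Ideal.mem_comap, Ideal.mem_bot]
  exact (congrArg (Coh.resTop _ (op U.1)) h0).trans (map_zero _)

instance isProper_lvl (n : ℕ) :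
    IsProper (lvl (maximalIdeal R) X n ↘ Spec (CommRingCat.of R)) := by
  rw [← inc_over]
  infer_instance

/-- The closed fibre. -/
abbrev fib : Scheme.{u} :=
  pullback (X ↘ Spec (CommRingCat.of R)) (Spec.map (CommRingCat.ofHom (algebraMap R (ResidueField R))))

/-- The inclusion of the closed fibre. -/
abbrev fibι : fib R X ⟶ X := pullback.fst _ _

omit [IsNoetherianRing R] [IsAdicComplete (maximalIdeal R) R] [IsProper (X ↘ Spec (CommRingCat.of R))] in
theorem range_inc (n : ℕ) : Set.range (inc (maximalIdeal R) X n) = Set.range (fibι R X) := by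
  change Set.range (pullback.fst (X ↘ Spec (CommRingCat.of R)) (CohB1.specQuot (maximalIdeal R) n)) = _
  rw [Scheme.Pullback.range_fst, Scheme.Pullback.range_fst]
  congr 1
  change Set.range (PrimeSpectrum.comap (Ideal.Quotient.mk (maximalIdeal R ^ (n + 1)))) =
    Set.range (PrimeSpectrum.comap (residue R))
  rw [range_comap_of_surjective _ _ Ideal.Quotient.mk_surjective,
    range_comap_of_surjective _ _ residue_surjective, Ideal.mk_ker, ker_residue,
    PrimeSpectrum.zeroLocus_pow _ n.succ_ne_zero]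

omit [IsNoetherianRing R] [IsAdicComplete (maximalIdeal R) R] [IsProper (X ↘ Spec (CommRingCat.of R))] in
theorem isClosedImmersion_fibι : IsClosedImmersion (fibι R X) := by
  haveI : IsClosedImmersion (Spec.map (CommRingCat.ofHom (algebraMap R (ResidueField R)))) :=
    IsClosedImmersion.spec_of_surjective _ residue_surjective
  exact MorphismProperty.pullback_fst _ _ inferInstance

omit [IsNoetherianRing R] [IsAdicComplete (maximalIdeal R) R] [IsProper (X ↘ Spec (CommRingCat.of R))] in
theorem dim_lvl_le {d : ℕ} (hdim : topologicalKrullDim (fib R X) ≤ d) (n : ℕ) :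
    topologicalKrullDim (lvl (maximalIdeal R) X n) ≤ d := by
  haveI := isClosedImmersion_fibι R X
  refine le_trans ?_ hdim
  exact (((inc (maximalIdeal R) X n).isClosedEmbedding.isEmbedding.toHomeomorph.trans
    (Homeomorph.setCongr (range_inc R X n))).trans
      (fibι R X).isClosedEmbedding.isEmbedding.toHomeomorph.symm).isInducing.topologicalKrullDim_le

theorem steps_surjective (hdim : topologicalKrullDim (fib R X) ≤ 1) (n : ℕ) :
    Function.Surjective (pull (tr (maximalIdeal R) X n)) := by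
  haveI := isClosedImmersion_tr R X n
  haveI : IsNoetherian (lvl (maximalIdeal R) X (n + 1)) := Groth.CohC3.isNoetherian_of_proper R _
  exact step_surjective _ (ker_tr_sq R X n) (Groth.Inter.Vanishing.subsingleton_H_of_dim_le (d := 1)
    (by exact_mod_cast dim_lvl_le R X (d := 1) (by exact_mod_cast hdim) (n + 1)) _ 2 one_lt_two)

/-- The units of every level have `q`-th roots. -/
theorem roots_lvl [IsAlgClosed (ResidueField R)] (q : ℕ) (hq : IsUnit (q : R)) (n : ℕ)
    (v : (Γ(lvl (maximalIdeal R) X n, ⊤))ˣ) : ∃ w, w ^ q = v := by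
  let Y := lvl (maximalIdeal R) X n
  let f := Y ↘ Spec (CommRingCat.of R)
  haveI : IsNoetherian Y := Groth.CohC3.isNoetherian_of_proper R _
  have hfin := Groth.CohFin.hFin_of_proper Groth.CohFin.projFinite 0 Y f (Coh.structureModule Y)
    (Groth.Inter.isCoh_of_isInvertible (PicLoc.isInvertible_structureModule Y))
  letI : Algebra R Γ(Y, ⊤) := (show R →+* Γ(Y, ⊤) from Coh.toGlobal f).toAlgebra
  let eS := Groth.CohFin.equivSections f (Coh.structureModule Y)
  let sec : Groth.CohFin.HA f (Coh.structureModule Y) 0 ≃ₗ[R] Γ(Y, ⊤) :=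
    { toFun := fun x => (eS x : Γ(Coh.structureModule Y, ⊤))
      invFun := fun s => eS.symm (s : Γ(Coh.structureModule Y, ⊤))
      left_inv := eS.symm_apply_apply
      right_inv := eS.apply_symm_apply
      map_add' := eS.map_add
      map_smul' := fun r x => Groth.CohFin.equivSections_smul f (Coh.structureModule Y) r x }
  haveI := hfin
  haveI : Module.Finite R Γ(Y, ⊤) := Module.Finite.equiv sec
  let Q := R ⧸ maximalIdeal R ^ (n + 1)
  have hK : maximalIdeal R ^ (n + 1) ≤ RingHom.ker (algebraMap R Γ(Y, ⊤)) := fun a ha =>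
    Groth.CohTwo.toGlobal_eq_zero_of_factor (f := CohB1.thickToBase _ _ n) rfl ha
  letI : Algebra Q Γ(Y, ⊤) := (Ideal.Quotient.lift _ (algebraMap R Γ(Y, ⊤)) hK).toAlgebra
  haveI : IsScalarTower R Q Γ(Y, ⊤) := IsScalarTower.of_algebraMap_eq fun r => rfl
  haveI : Module.Finite Q Γ(Y, ⊤) := Module.Finite.of_restrictScalars_finite R Q _
  haveI : IsArtinianRing Q := Groth.Calg1.isArtinianRing_quotient_of_pow_le _
    (fun h => (maximalIdeal.isMaximal R).ne_top (top_le_iff.1 (h ▸ Ideal.pow_le_self n.succ_ne_zero))) _ le_rfl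
  haveI : IsArtinianRing Γ(Y, ⊤) := IsArtinianRing.of_finite Q _
  refine roots_of_units (k := ResidueField R) (R := R) residue_surjective ?_ q ?_ v
  · rw [ResidueField.algebraMap_eq, ker_residue, Ring.jacobson_eq_sInf_isMaximal]
    exact le_sInf fun M hM => (eq_maximalIdeal hM).ge
  · have := hq.map (algebraMap R Γ(Y, ⊤))
    rwa [map_natCast] at this

theorem steps_root [IsAlgClosed (ResidueField R)] (q : ℕ) (hq : IsUnit (q : R)) (n : ℕ)
    (c : PicLoc.PicSet (lvl (maximalIdeal R) X (n + 1))) (hc : pull (tr (maximalIdeal R) X n) c = 1) :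
    ∃! d, pull (tr (maximalIdeal R) X n) d = 1 ∧ d ^ q = c := by
  haveI := isClosedImmersion_tr R X n
  refine step_root _ (ker_tr_sq R X n) q ?_ (roots_lvl R X q hq n) hc
  have := hq.map (show R →+* Γ(lvl (maximalIdeal R) X (n + 1), ⊤) from
    Coh.toGlobal (lvl (maximalIdeal R) X (n + 1) ↘ Spec (CommRingCat.of R)))
  rwa [map_natCast] at this

omit [IsNoetherianRing R] [IsAdicComplete (maximalIdeal R) R] [IsProper (X ↘ Spec (CommRingCat.of R))] in
theorem exists_iso_zero : ∃ e : fib R X ≅ lvl (maximalIdeal R) X 0,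
    e.hom ≫ inc (maximalIdeal R) X 0 = fibι R X := by
  let φ : (R ⧸ maximalIdeal R ^ (0 + 1)) ≃+* ResidueField R := Ideal.quotEquivOfEq (pow_one _)
  let ψ : Spec (CommRingCat.of (ResidueField R)) ≅ Spec (CommRingCat.of (R ⧸ maximalIdeal R ^ (0 + 1))) :=
    Scheme.Spec.mapIso φ.toCommRingCatIso.op
  have hψ : ψ.hom ≫ CohB1.specQuot (maximalIdeal R) 0 =
      Spec.map (CommRingCat.ofHom (algebraMap R (ResidueField R))) := by
    change Spec.map _ ≫ Spec.map _ = _
    rw [← Spec.map_comp]
    rfl
  have h : IsPullback (fibι R X) (pullback.snd _ _ ≫ ψ.hom) (X ↘ Spec (CommRingCat.of R))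
      (CohB1.specQuot (maximalIdeal R) 0) :=
    (IsPullback.of_hasPullback (X ↘ Spec (CommRingCat.of R))
      (Spec.map (CommRingCat.ofHom (algebraMap R (ResidueField R))))).of_iso (Iso.refl _) (Iso.refl _) ψ (Iso.refl _)
      ((Category.comp_id _).trans (Category.id_comp _).symm) (Category.id_comp _).symm (by simp) (by simp [hψ])
  exact ⟨h.isoPullback, h.isoPullback_hom_fst⟩

/-- Restriction to the closed fibre is surjective. -/
theorem surjective_fib (hdim : topologicalKrullDim (fib R X) ≤ 1) : Function.Surjective (pull (fibι R X)) := by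
  intro c
  obtain ⟨e, he⟩ := exists_iso_zero R X
  obtain ⟨c', rfl⟩ := (pull_iso_bijective e).2 c
  obtain ⟨d, rfl⟩ := surjective_inc_zero (maximalIdeal R) X (steps_surjective R X hdim) c'
  exact ⟨d, (congrArg (fun s => pull s d) he.symm).trans (Groth.Abvar.PicCalc.pull_comp _ _ d)⟩

/-- The kernel of restriction to the closed fibre is uniquely `q`-divisible. -/
theorem existsUnique_root_fib [IsAlgClosed (ResidueField R)] (hdim : topologicalKrullDim (fib R X) ≤ 1)
    (q : ℕ) (hq : IsUnit (q : R)) {c : PicLoc.PicSet X} (hc : pull (fibι R X) c = 1) :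
    ∃! d : PicLoc.PicSet X, pull (fibι R X) d = 1 ∧ d ^ q = c := by
  obtain ⟨e, he⟩ := exists_iso_zero R X
  have hiff : ∀ d, pull (fibι R X) d = 1 ↔ pull (inc (maximalIdeal R) X 0) d = 1 := fun d => by
    have : pull (fibι R X) d = pull e.hom (pull (inc (maximalIdeal R) X 0) d) :=
      (congrArg (fun s => pull s d) he.symm).trans (Groth.Abvar.PicCalc.pull_comp _ _ d)
    rw [this]
    exact ⟨fun h => (pull_iso_bijective e).1 (h.trans (map_one _).symm), fun h => by rw [h, map_one]⟩
  obtain ⟨d, ⟨hd, hdq⟩, hu⟩ := existsUnique_root_inc_zero (maximalIdeal R) X (steps_surjective R X hdim) q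
    (steps_root R X q hq) ((hiff c).1 hc)
  exact ⟨d, ⟨(hiff d).2 hd, hdq⟩, fun d' h => hu d' ⟨(hiff d').1 h.1, h.2⟩⟩

end Closed

end Groth.ModelsGraphs.PicKernel
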