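import Groth.Agent.PicAux.PicExpSeq

/-!
# One infinitesimal step for Picard groups

The restriction of Picard groups along a thickening with square zero ideal: surjective when the
second cohomology of the ideal vanishes, with uniquely `q`-divisible kernel when `q` is invertible
and every unit of the smaller scheme is a `q`-th power.
-/

set_option autoImplicit false
set_option backward.isDefEq.respectTransparency.types false

universe u

open CategoryTheory Limits AlgebraicGeometry Opposite TopologicalSpace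

noncomputable section

namespace Groth.ModelsGraphs.PicStep

variable {X : Scheme.{u}} {I : X.IdealSheafData}

/-- Surjectivity. -/
theorem pullHom_surjective [PicGrp.Law X] [PicGrp.Law I.subscheme]
    (hi : PicGrp.PullMul I.subschemeι) (hI : I * I = ⊥)
    (h2 : Subsingleton (Coh.HH X (ClSub.idealMod I) 2)) :
    Function.Surjective (PicGrp.pullHom I.subschemeι hi) := by
  obtain ⟨ε, δ₀, α, δ₁, -, -, -, -, -, h⟩ := Groth.PicAux.PicExpSeq.exists_sequence hi hI
  intro c
  have hc : c ∈ δ₁.ker := by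
    rw [MonoidHom.mem_ker]
    exact Multiplicative.toAdd.injective (Subsingleton.elim _ _)
  rw [h] at hc
  exact hc

/-- Multiplication by an invertible integer is bijective on cohomology. -/
theorem nsmul_bijective (M : X.Modules) (n q : ℕ) (hq : IsUnit (q : Γ(X, ⊤))) :
    Function.Bijective (fun x : Coh.HH X M n => q • x) := by
  have hq' : IsUnit (q : Coh.Γtop X) := hq
  obtain ⟨u, hu⟩ := hq'
  have h : ∀ x : Coh.HH X M n, q • x = (u : Coh.Γtop X) • x := fun x => by
    rw [hu, Nat.cast_smul_eq_nsmul]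
  refine ⟨fun x y hxy => ?_, fun y => ⟨(↑u⁻¹ : Coh.Γtop X) • y, ?_⟩⟩
  · simp only [h] at hxy
    have := congrArg (fun z => (↑u⁻¹ : Coh.Γtop X) • z) hxy
    simpa [smul_smul] using this
  · simp only [h, smul_smul, Units.mul_inv, one_smul]

/-- The kernel of restriction is uniquely `q`-divisible. -/
theorem existsUnique_root [PicGrp.Law X] [PicGrp.Law I.subscheme]
    (hi : PicGrp.PullMul I.subschemeι) (hI : I * I = ⊥) (q : ℕ) (hq : IsUnit (q : Γ(X, ⊤)))
    (hroot : ∀ v : (Γ(I.subscheme, ⊤))ˣ, ∃ w, w ^ q = v)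
    {c : PicLoc.PicSet X} (hc : PicGrp.pullHom I.subschemeι hi c = 1) :
    ∃! d : PicLoc.PicSet X, PicGrp.pullHom I.subschemeι hi d = 1 ∧ d ^ q = c := by
  obtain ⟨ε, δ₀, α, δ₁, -, -, -, hα, hk, -⟩ := Groth.PicAux.PicExpSeq.exists_sequence hi hI
  have hb := nsmul_bijective (ClSub.idealMod I) 1 q hq
  have hker : ∀ d, PicGrp.pullHom I.subschemeι hi d = 1 → ∃ x, α (Multiplicative.ofAdd x) = d := by
    intro d hd
    have : d ∈ α.range := hk ▸ hd
    obtain ⟨x, rfl⟩ := this
    exact ⟨Multiplicative.toAdd x, rfl⟩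
  obtain ⟨x, rfl⟩ := hker c hc
  obtain ⟨y, rfl⟩ := hb.2 x
  refine ⟨α (Multiplicative.ofAdd y), ⟨hk.ge ⟨_, rfl⟩, ?_⟩, ?_⟩
  · rw [← map_pow, ← ofAdd_nsmul]
  rintro d ⟨hd, hdq⟩
  obtain ⟨z, rfl⟩ := hker d hd
  rw [← map_pow, ← ofAdd_nsmul] at hdq
  have h1 : Multiplicative.ofAdd (q • z - q • y) ∈ α.ker := by
    rw [MonoidHom.mem_ker, ofAdd_sub, map_div, hdq, div_self']
  rw [hα] at h1
  obtain ⟨v, hv⟩ := h1
  obtain ⟨w, rfl⟩ := hroot v
  have h2 : z - y = Multiplicative.toAdd (δ₀ w) := by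
    refine hb.1 ?_
    change q • (z - y) = q • Multiplicative.toAdd (δ₀ w)
    rw [← toAdd_pow, ← map_pow, hv, toAdd_ofAdd, smul_sub]
  have h3 : δ₀ w ∈ α.ker := hα.ge ⟨w, rfl⟩
  rw [MonoidHom.mem_ker, ← ofAdd_toAdd (δ₀ w), ← h2, ofAdd_sub, map_div, div_eq_one] at h3
  exact h3

end Groth.ModelsGraphs.PicStep
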