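import Groth.Agent.ModelsGraphs.PicKernel
import Groth.Agent.CurveDiv.FlatH0
import Groth.Agent.S3852
import Groth.Agent.AdicLinTop.Thickenings
import Groth.Agent.EGA43Topo.DVRInflate

/-!
# Torsion line bundles trivial on the closed fibre

A line bundle of order prime to the residue characteristic on a proper scheme over a discrete
valuation ring with constant global functions, trivial on a closed subscheme supported on the
closed fibre, is trivial.
-/

set_option autoImplicit false
set_option backward.isDefEq.respectTransparency.types false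
set_option linter.style.haveILetI false

universe u

open CategoryTheory Limits AlgebraicGeometry Opposite TopologicalSpace TensorProduct
open scoped Groth.Abvar.PicCalc

noncomputable section

namespace Groth.ModelsGraphs.PicTorsion

open Groth.Abvar.PicCalc (pull)
open Groth.ModelsGraphs.InvAlg IsLocalRing

variable {R : Type u} [CommRing R] [IsLocalRing R] [IsNoetherianRing R]
  {X : Scheme.{u}} [X.Over (Spec (CommRingCat.of R))] [IsProper (X ↘ Spec (CommRingCat.of R))]

/-- The units of a closed subscheme supported on the closed fibre have roots. -/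
theorem roots_subscheme [IsAlgClosed (ResidueField R)] (K : X.IdealSheafData)
    (hK : ∀ x ∈ (K.support : Set X), (X ↘ Spec (CommRingCat.of R)) x = closedPoint R)
    (q : ℕ) (hq : IsUnit (q : R)) (v : (Γ(K.subscheme, ⊤))ˣ) : ∃ w, w ^ q = v := by
  let Y := K.subscheme
  let f : Y ⟶ Spec (CommRingCat.of R) := K.subschemeι ≫ (X ↘ Spec (CommRingCat.of R))
  letI : Y.Over (Spec (CommRingCat.of R)) := ⟨f⟩
  haveI : IsProper (Y ↘ Spec (CommRingCat.of R)) := inferInstanceAs (IsProper (_ ≫ _))
  haveI : IsNoetherian Y := Groth.CohC3.isNoetherian_of_proper R _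
  have hfin := Groth.CohFin.hFin_of_proper Groth.CohFin.projFinite 0 Y f (Coh.structureModule Y)
    (Groth.Inter.isCoh_of_isInvertible (PicLoc.isInvertible_structureModule Y))
  letI : Algebra R Γ(Y, ⊤) := (show R →+* Γ(Y, ⊤) from Coh.toGlobal f).toAlgebra
  let eS := Groth.CohFin.equivSections f (Coh.structureModule Y)
  let sec : Groth.CohFin.HA f (Coh.structureModule Y) 0 ≃ₗ[R] Γ(Y, ⊤) :=
    { toFun := fun x => (eS x : Γ(Coh.structureModule Y, ⊤))
      invFun := fun s => eS.symm (s : Γ(Coh.structureModule Y, ⊤))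
      left_inv := eS.symm_apply_apply
      right_inv := eS.apply_symm_apply
      map_add' := eS.map_add
      map_smul' := fun r x => Groth.CohFin.equivSections_smul f (Coh.structureModule Y) r x }
  haveI := hfin
  haveI : Module.Finite R Γ(Y, ⊤) := Module.Finite.equiv sec
  have hnil : (maximalIdeal R).map (algebraMap R Γ(Y, ⊤)) ≤ nilradical Γ(Y, ⊤) := by
    refine Ideal.map_le_iff_le_comap.2 fun a ha => ?_
    rw [Ideal.mem_comap, mem_nilradical,
      Scheme.isNilpotent_iff_basicOpen_eq_bot, eq_bot_iff]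
    intro y hy
    have h1 : (K.subschemeι y) ∈ (K.support : Set X) := by
      rw [← Scheme.IdealSheafData.range_subschemeι]
      exact Set.mem_range_self y
    have h2 : f y = closedPoint R := (Scheme.Hom.comp_apply _ _ y).trans (hK _ h1)
    change y ∈ Y.basicOpen (f.appTop ((Scheme.ΓSpecIso (CommRingCat.of R)).inv a)) at hy
    rw [← Scheme.preimage_basicOpen_top, basicOpen_eq_of_affine] at hy
    change f y ∈ PrimeSpectrum.basicOpen a at hy
    rw [h2] at hy
    exact absurd ha hy
  obtain ⟨N, hN⟩ := Ideal.exists_pow_le_of_le_radical_of_fg hnil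
    (Ideal.FG.map (IsNoetherian.noetherian (maximalIdeal R)) _)
  rw [← Ideal.map_pow] at hN
  let Q := R ⧸ maximalIdeal R ^ (N + 1)
  have hQ : maximalIdeal R ^ (N + 1) ≤ RingHom.ker (algebraMap R Γ(Y, ⊤)) := fun a ha =>
    (Submodule.mem_bot _).1 (hN (Ideal.mem_map_of_mem _ (Ideal.pow_le_pow_right N.le_succ ha)))
  letI : Algebra Q Γ(Y, ⊤) := (Ideal.Quotient.lift _ (algebraMap R Γ(Y, ⊤)) hQ).toAlgebra
  haveI : IsScalarTower R Q Γ(Y, ⊤) := IsScalarTower.of_algebraMap_eq fun r => rfl
  haveI : Module.Finite Q Γ(Y, ⊤) := Module.Finite.of_restrictScalars_finite R Q _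
  haveI : IsArtinianRing Q := Groth.Calg1.isArtinianRing_quotient_of_pow_le _
    (fun h => (maximalIdeal.isMaximal R).ne_top (top_le_iff.1 (h ▸ Ideal.pow_le_self N.succ_ne_zero))) _ le_rfl
  haveI : IsArtinianRing Γ(Y, ⊤) := IsArtinianRing.of_finite Q _
  refine Groth.ModelsGraphs.PicKernel.roots_of_units (k := ResidueField R) (R := R) residue_surjective ?_ q ?_ v
  · rw [ResidueField.algebraMap_eq, ker_residue, Ring.jacobson_eq_sInf_isMaximal]
    exact le_sInf fun M hM => (eq_maximalIdeal hM).ge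
  · have := hq.map (algebraMap R Γ(Y, ⊤))
    rwa [map_natCast] at this

/-- A torsion class trivial on a closed subscheme with the support of the closed fibre is trivial. -/
theorem eq_one_of_torsion [IsAlgClosed (ResidueField R)] (J : X.IdealSheafData)
    (hJ : (J.support : Set X) = (X ↘ Spec (CommRingCat.of R)) ⁻¹' {closedPoint R})
    (q : ℕ) (hq : IsUnit (q : R)) {c : PicLoc.PicSet X} (hc : pull J.subschemeι c = 1) (hcq : c ^ q = 1) :
    c = 1 := by
  haveI := Groth.CohC3.isNoetherian_of_proper R X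
  have hsupp : ∀ n, ∀ x ∈ ((J ^ (n + 1)).support : Set X),
      (X ↘ Spec (CommRingCat.of R)) x = closedPoint R := fun n x hx => by
    rw [Scheme.IdealSheafData.support_pow_succ, hJ] at hx
    exact hx
  have hpow : ∀ n, pull (J ^ (n + 1)).subschemeι c = 1 := by
    intro n
    induction n with
    | zero =>
      have h1 : J ≤ J ^ (0 + 1) := (pow_one J).ge
      rw [show (J ^ (0 + 1)).subschemeι = Scheme.IdealSheafData.inclusion h1 ≫ J.subschemeι from
        (Scheme.IdealSheafData.inclusion_subschemeι h1).symm, Groth.Abvar.PicCalc.pull_comp, hc, map_one]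
    | succ n ih =>
      have hle : J ^ (n + 1 + 1) ≤ J ^ (n + 1) := fun W => by
        simp only [Scheme.IdealSheafData.ideal_pow, Pi.pow_apply]
        exact Ideal.pow_le_pow_right (Nat.le_succ _)
      let t := Scheme.IdealSheafData.inclusion hle
      have ht : t ≫ (J ^ (n + 1 + 1)).subschemeι = (J ^ (n + 1)).subschemeι :=
        Scheme.IdealSheafData.inclusion_subschemeι hle
      have hsq : t.ker * t.ker = ⊥ := by
        rw [Groth.AdicLinTop.Thickenings.ker_inclusion, ← Groth.Divisors.comap_mul, eq_bot_iff,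
          ← Scheme.IdealSheafData.le_map_iff_comap_le, Scheme.IdealSheafData.map_bot,
          Scheme.IdealSheafData.ker_subschemeι, ← pow_add]
        intro W
        simp only [Scheme.IdealSheafData.ideal_pow, Pi.pow_apply]
        exact Ideal.pow_le_pow_right (by omega)
      have hu : IsUnit (q : Γ((J ^ (n + 1 + 1)).subscheme, ⊤)) := by
        have := hq.map (show R →+* Γ((J ^ (n + 1 + 1)).subscheme, ⊤) from
          Coh.toGlobal ((J ^ (n + 1 + 1)).subschemeι ≫ (X ↘ Spec (CommRingCat.of R))))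
        rwa [map_natCast] at this
      refine (Groth.ModelsGraphs.PicKernel.step_root t hsq q hu
        (roots_subscheme _ (hsupp n) q hq) (map_one (pull t))).unique ⟨?_, ?_⟩ ⟨map_one _, one_pow _⟩
      · rw [← Groth.Abvar.PicCalc.pull_comp, ht]
        exact ih
      · rw [← map_pow, hcq, map_one]
  obtain ⟨M, hM, rfl⟩ := PicGrp.exists_eq_cls c
  refine (PicGrp.cls_eq_one_iff hM).2 (nonempty_iso_structure_of_le_jacobson (maximalIdeal R) X
    (jacobson_eq_maximalIdeal ⊥ bot_ne_top).ge hM fun n => ?_)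
  refine (PicGrp.cls_eq_one_iff (PicLoc.isInvertible_pullback _ hM)).1
    ((Groth.Abvar.PicCalc.pull_cls _ hM).symm.trans ?_)
  obtain ⟨b, hb⟩ := Groth.Agent.S3852.result X J (inc (maximalIdeal R) X n).ker (by
    rw [hJ, Scheme.Hom.support_ker]
    refine closure_minimal ?_ (IsClosed.preimage (X ↘ Spec (CommRingCat.of R)).continuous
      (isClosed_singleton_closedPoint R))
    rintro _ ⟨z, rfl⟩
    obtain ⟨w, hw⟩ : inc (maximalIdeal R) X n z ∈ Set.range (Groth.ModelsGraphs.PicKernel.fibι R X) :=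
      Groth.ModelsGraphs.PicKernel.range_inc R X n ▸ Set.mem_range_self z
    rw [← hw, Set.mem_preimage, ← Scheme.Hom.comp_apply, pullback.condition, Scheme.Hom.comp_apply,
      Subsingleton.elim (pullback.snd (X ↘ Spec (CommRingCat.of R)) _ w) (closedPoint (ResidueField R))]
    exact comap_closedPoint (residue R))
  let g := IsClosedImmersion.lift (J ^ (b + 1)).subschemeι (inc (maximalIdeal R) X n)
    ((Scheme.IdealSheafData.ker_subschemeι _).le.trans hb)
  rw [show inc (maximalIdeal R) X n = g ≫ (J ^ (b + 1)).subschemeι from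
    (IsClosedImmersion.lift_fac _ _ _).symm, Groth.Abvar.PicCalc.pull_comp]
  exact (congrArg (pull g) (hpow b)).trans (map_one _)

omit [IsNoetherianRing R] in
/-- Triviality descends along a faithfully flat extension of the base with constant functions. -/
theorem nonempty_iso_of_baseChange {E : Type u} [CommRing E] [IsLocalRing E] (ψ : R →+* E)
    (hflat : ψ.Flat) [IsLocalHom ψ] {X' : Scheme.{u}} {g' : X' ⟶ X} {f' : X' ⟶ Spec (CommRingCat.of E)}
    (sq : IsPullback g' f' (X ↘ Spec (CommRingCat.of R)) (Spec.map (CommRingCat.ofHom ψ)))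
    (hR : Function.Surjective (Coh.toGlobal (X ↘ Spec (CommRingCat.of R))))
    {M : X.Modules} (hM : PicF.IsInvertible M)
    (h : Nonempty ((Scheme.Modules.pullback g').obj M ≅ Coh.structureModule X')) :
    Nonempty (M ≅ Coh.structureModule X) := by
  classical
  let f := X ↘ Spec (CommRingCat.of R)
  let σ := Spec.map (CommRingCat.ofHom ψ)
  haveI : Flat σ := (HasRingHomProperty.Spec_iff (P := @Flat)).mpr hflat
  haveI : Surjective σ := by
    letI := ψ.toAlgebra
    haveI : Module.Flat R E := hflat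
    haveI : IsLocalHom (algebraMap R E) := ‹IsLocalHom ψ›
    haveI : Module.FaithfullyFlat R E := Module.FaithfullyFlat.of_flat_of_isLocalHom
    exact ⟨PrimeSpectrum.comap_surjective_of_faithfullyFlat (A := R) (B := E)⟩
  haveI : Surjective g' := MorphismProperty.of_isPullback sq.flip ‹_›
  haveI := (Groth.Inter.isCoh_of_isInvertible hM).1
  haveI : (Coh.structureModule X).IsQuasicoherent := Groth.PicAux.isQCoh_structureModule X
  let V : (Spec (CommRingCat.of R)).Opens := ⊤
  let V' : (Spec (CommRingCat.of E)).Opens := ⊤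
  have e : V' ≤ σ ⁻¹ᵁ V := le_rfl
  have e₁ : f' ⁻¹ᵁ V' ≤ g' ⁻¹ᵁ (f ⁻¹ᵁ V) := le_rfl
  letI := Groth.QCohMod.sectionsAlg σ e
  -- every global function of `X'` comes from `E`
  have hE : ∀ a : Γ(X', f' ⁻¹ᵁ V'), ∃ b, f'.app V' b = a := by
    intro a
    obtain ⟨Φ, hΦ⟩ := Groth.CurveDiv.FlatH0.exists_baseChange_equiv sq (Coh.structureModule X)
      (isAffineOpen_top _) (isAffineOpen_top _) e e₁
    haveI := Groth.PicAux.isIso_pullUnit g'
    obtain ⟨z, hz⟩ := Φ.surjective ((inv (Groth.PicAux.pullUnit g')).app _ (show Γ(Coh.structureModule X', _) from a))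
    suffices H : ∀ z, ∃ b, (Groth.PicAux.pullUnit g').app _ (Φ z) = f'.app V' b • Groth.PicAux.oneSec X' _ by
      obtain ⟨b, hb⟩ := H z
      refine ⟨b, ?_⟩
      have h1 : (Groth.PicAux.pullUnit g').app _ (Φ z) = (show Γ(Coh.structureModule X', f' ⁻¹ᵁ V') from a) := by
        rw [hz]
        exact congr(($(IsIso.inv_hom_id (Groth.PicAux.pullUnit g'))).app _ a)
      have h2 := congrArg Groth.PicAux.toFun (hb.symm.trans h1)
      rw [Groth.PicAux.toFun_smul, Groth.PicAux.toFun_oneSec, mul_one] at h2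
      exact h2
    intro z
    induction z using TensorProduct.induction_on with
    | zero => exact ⟨0, by rw [map_zero, map_zero, map_zero, zero_smul]⟩
    | add z w hz hw =>
      obtain ⟨b, hb⟩ := hz
      obtain ⟨b', hb'⟩ := hw
      exact ⟨b + b', by rw [map_add, map_add, map_add, hb, hb', add_smul]⟩
    | tmul c m =>
      obtain ⟨r, hr⟩ := hR (Groth.PicAux.toFun (show Γ(Coh.structureModule X, f ⁻¹ᵁ V) from m))
      refine ⟨c * σ.appLE V V' e ((Scheme.ΓSpecIso (CommRingCat.of R)).inv r), ?_⟩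
      rw [hΦ, Scheme.Modules.Hom.app_smul,
        Groth.PicAux.eq_toFun_smul_oneSec (show Γ(Coh.structureModule X, f ⁻¹ᵁ V) from m),
        Groth.CohBase.FlatBC.psec_smul, Scheme.Modules.Hom.app_smul,
        Groth.CurveDiv.FlatH0.oneSec_pullUnit, map_mul, mul_smul]
      congr 2
      refine (congrArg (g'.appLE _ _ e₁) hr.symm).trans ?_
      change (f.appTop ≫ g'.appLE (⊤ : X.Opens) (⊤ : X'.Opens) le_rfl) _ = (σ.appLE V V' e ≫ f'.appTop) _
      have e2 : σ.appLE V V' e = σ.appTop := σ.app_eq_appLE.symm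
      have e3 : g'.appLE (⊤ : X.Opens) (⊤ : X'.Opens) le_rfl = g'.appTop := g'.app_eq_appLE.symm
      rw [e2, e3, ← Scheme.Hom.comp_appTop, ← Scheme.Hom.comp_appTop, sq.w]
  obtain ⟨Φ, hΦ⟩ := Groth.CurveDiv.FlatH0.exists_baseChange_equiv sq M
    (isAffineOpen_top _) (isAffineOpen_top _) e e₁
  obtain ⟨eM⟩ := h
  let g : Γ((Scheme.Modules.pullback g').obj M, f' ⁻¹ᵁ V') :=
    eM.inv.app _ (Groth.PicAux.oneSec X' (f' ⁻¹ᵁ V'))
  have hg : Groth.PicAux.Gen _ (f' ⁻¹ᵁ V') g := (Groth.PicAux.gen_oneSec _).map eM.inv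
  haveI : IsLocalRing Γ(Spec (CommRingCat.of E), V') :=
    (show E ≃+* Γ(Spec (CommRingCat.of E), V') from
      (Scheme.ΓSpecIso (CommRingCat.of E)).symm.commRingCatIsoToRingEquiv).isLocalRing
  -- some global section of `M` pulls back to a basis
  have hgen : ∃ (s : Γ(M, ⊤)) (a : Γ(X', f' ⁻¹ᵁ V')), IsUnit a ∧
      Groth.CohBase.FlatBC.psec g' M e₁ s = a • g := by
    by_contra hno
    push Not at hno
    have key : ∀ z, ∃ b, ¬ IsUnit b ∧ Φ z = f'.app V' b • g := by
      intro z
      induction z using TensorProduct.induction_on with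
      | zero => exact ⟨0, not_isUnit_zero, by rw [map_zero, map_zero, zero_smul]⟩
      | add z w hz hw =>
        obtain ⟨b, hb, hb'⟩ := hz
        obtain ⟨c, hc, hc'⟩ := hw
        refine ⟨b + c, ?_, by rw [map_add, map_add, hb', hc', add_smul]⟩
        exact IsLocalRing.nonunits_add hb hc
      | tmul c m =>
        obtain ⟨a, ha⟩ := hg.exists_coeff le_rfl
          (Groth.CohBase.FlatBC.psec g' M e₁ (show Γ(M, f ⁻¹ᵁ V) from m))
        rw [Groth.PicAux.res_self] at ha
        obtain ⟨b, rfl⟩ := hE a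
        refine ⟨c * b, fun hu => hno _ _ ((isUnit_of_mul_isUnit_right hu).map (f'.app V').hom) ha, ?_⟩
        rw [hΦ, ha, map_mul, mul_smul]
    obtain ⟨z, hz⟩ := Φ.surjective g
    obtain ⟨b, hb, hb'⟩ := key z
    rw [hz] at hb'
    have h1 : f'.app V' b = 1 := hg.smul_inj le_rfl (by
      simp only [Groth.PicAux.res_self]
      rw [one_smul]
      exact hb'.symm)
    have h2 : IsUnit (1 - b) := (IsLocalRing.isUnit_or_isUnit_one_sub_self b).resolve_left hb
    have h3 := h2.map (f'.app V').hom
    rw [map_sub, map_one, h1, sub_self, isUnit_zero_iff] at h3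
    haveI := subsingleton_of_zero_eq_one h3
    obtain ⟨a, ha⟩ := hg.exists_coeff le_rfl (Groth.CohBase.FlatBC.psec g' M e₁ (0 : Γ(M, ⊤)))
    rw [Groth.PicAux.res_self] at ha
    exact hno 0 a (isUnit_of_subsingleton a) ha
  obtain ⟨s, a, ha, hs⟩ := hgen
  refine Groth.PicAux.nonempty_iso_structure_iff.2 ⟨s, ?_⟩
  let s' := Groth.PicAux.homOfSection (show Γ((Scheme.Modules.pullback g').obj M, ⊤) from
    Groth.PicAux.pullSec g' M s)
  have h4 : CohB1.genLocus _ s' = g' ⁻¹ᵁ CohB1.genLocus M (Groth.PicAux.homOfSection s) :=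
    Groth.PicAux.genLocus_pullback g' hM _ (by
      rw [Groth.PicAux.gsec_homOfSection, Groth.PicAux.gsec_homOfSection])
  have h5 : ⊤ ≤ CohB1.genLocus _ s' := by
    rw [Groth.PicAux.le_genLocus_iff, Groth.PicAux.gsec_homOfSection, Groth.PicAux.res_self]
    have h6 := hg.smul_unit ha
    rw [← hs, Groth.CohBase.FlatBC.psec_apply] at h6
    have h9 : Groth.PicAux.Gen ((Scheme.Modules.pullback g').obj M) (⊤ : X'.Opens)
        (Groth.PicAux.res _ (le_refl (⊤ : X'.Opens)) (Groth.PicAux.pullSec g' M s)) := h6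
    rwa [Groth.PicAux.res_self] at h9
  have h7 : ⊤ ≤ CohB1.genLocus M (Groth.PicAux.homOfSection s) := fun x _ => by
    obtain ⟨x', rfl⟩ := g'.surjective x
    exact (h4 ▸ h5 (trivial : x' ∈ (⊤ : X'.Opens)) :)
  have h8 := (Groth.PicAux.le_genLocus_iff _ _).1 h7
  rwa [Groth.PicAux.gsec_homOfSection, Groth.PicAux.res_self] at h8

end Groth.ModelsGraphs.PicTorsion
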