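import Groth.Agent.ModelsGraphs.PicTorsion
import Groth.Agent.ModelsGraphs.GlobalFunctions
import Groth.Agent.S3852
import Mathlib.FieldTheory.IsAlgClosed.AlgebraicClosure
import Mathlib.RingTheory.Flat.TorsionFree

/-!
# Torsion line bundles over a discrete valuation ring with arbitrary residue field
-/

set_option autoImplicit false
set_option backward.isDefEq.respectTransparency.types false
set_option linter.style.haveILetI false

universe u

open CategoryTheory Limits AlgebraicGeometry
open scoped Groth.Abvar.PicCalc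

noncomputable section

namespace Groth.ModelsGraphs.PicTorsion

open Groth.Abvar.PicCalc (pull)
open IsLocalRing

variable {R : Type u} [CommRing R] [IsDomain R] [IsDiscreteValuationRing R] {X : Scheme.{u}}
  (p : X ⟶ Spec (CommRingCat.of R)) [IsProper p]

/-- A torsion class trivial on a closed subscheme with the support of the closed fibre is trivial. -/
theorem nonempty_iso_of_torsion (hR : Function.Surjective (Coh.toGlobal p)) (J : X.IdealSheafData)
    (hJ : (J.support : Set X) = p ⁻¹' {closedPoint R}) (h : ℕ) (hh : IsUnit (h : R))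
    (M : X.Modules) (hM : PicF.IsInvertible M)
    (htors : Nonempty (CohB1.tensorPow M h ≅ Coh.structureModule X))
    (htriv : Nonempty ((Scheme.Modules.pullback J.subschemeι).obj M ≅ Coh.structureModule J.subscheme)) :
    Nonempty (M ≅ Coh.structureModule X) := by
  obtain ⟨E, _, _, _, ψ, _, -, hinj, hmax, θ, -⟩ := Groth.EGA43Topo.exists_complete_dvr R
    (AlgebraicClosure (ResidueField R)) (algebraMap _ _)
  haveI : IsAlgClosed (ResidueField E) := IsAlgClosed.of_ringEquiv _ _ θ.symm
  have hflat : ψ.Flat := by
    letI := ψ.toAlgebra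
    haveI : Module.IsTorsionFree R E := Module.IsTorsionFree.of_smul_eq_zero fun r x hrx => by
      rw [Algebra.smul_def, mul_eq_zero] at hrx
      exact hrx.imp (fun h => hinj (h.trans (map_zero ψ).symm)) id
    exact (inferInstance : Module.Flat R E)
  let σ := Spec.map (CommRingCat.ofHom ψ)
  letI : X.Over (Spec (CommRingCat.of R)) := ⟨p⟩
  haveI : IsProper (X ↘ Spec (CommRingCat.of R)) := ‹IsProper p›
  let X' := pullback p σ
  let g' : X' ⟶ X := pullback.fst p σ
  let f' : X' ⟶ Spec (CommRingCat.of E) := pullback.snd p σ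
  letI : X'.Over (Spec (CommRingCat.of E)) := ⟨f'⟩
  haveI : IsProper (X' ↘ Spec (CommRingCat.of E)) := MorphismProperty.pullback_snd p σ ‹IsProper p›
  have hσ : ∀ y, σ y = closedPoint R ↔ y = closedPoint E := fun y => by
    refine ⟨fun hy => ?_, fun hy => hy ▸ comap_closedPoint ψ⟩
    refine PrimeSpectrum.ext ((maximalIdeal.isMaximal E).eq_of_le y.isPrime.ne_top ?_).symm
    rw [← hmax, Ideal.map_le_iff_le_comap]
    exact (congrArg PrimeSpectrum.asIdeal hy).ge
  have hJ' : ((J.comap g').support : Set X') = (X' ↘ Spec (CommRingCat.of E)) ⁻¹' {closedPoint E} := by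
    rw [Scheme.IdealSheafData.support_comap]
    ext x
    change g' x ∈ (J.support : Set X) ↔ f' x = closedPoint E
    rw [hJ, Set.mem_preimage]
    change p (g' x) = closedPoint R ↔ f' x = closedPoint E
    rw [← Scheme.Hom.comp_apply, pullback.condition, Scheme.Hom.comp_apply]
    exact hσ _
  have hqE : IsUnit (h : E) := by
    have := hh.map ψ
    rwa [map_natCast] at this
  refine nonempty_iso_of_baseChange ψ hflat (IsPullback.of_hasPullback p σ) hR hM ?_
  have hMh : (PicGrp.cls M hM) ^ h = 1 :=
    Subtype.ext ((PicGrp.cls_pow_val hM h).trans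
      (((PicGrp.cl_eq_cl_iff _ _).2 htors).trans PicGrp.one_val.symm))
  refine (PicGrp.cls_eq_one_iff (PicLoc.isInvertible_pullback g' hM)).1
    ((Groth.Abvar.PicCalc.pull_cls g' hM).symm.trans ?_)
  refine eq_one_of_torsion (J.comap g') hJ' h hqE ?_ (by rw [← map_pow, hMh, map_one])
  let b := IsClosedImmersion.lift J.subschemeι ((J.comap g').subschemeι ≫ g') (by
    rw [← Scheme.IdealSheafData.map_ker, Scheme.IdealSheafData.ker_subschemeι,
      Scheme.IdealSheafData.ker_subschemeι, Scheme.IdealSheafData.le_map_iff_comap_le])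
  rw [← Groth.Abvar.PicCalc.pull_comp, ← IsClosedImmersion.lift_fac J.subschemeι ((J.comap g').subschemeι ≫ g') _,
    Groth.Abvar.PicCalc.pull_comp]
  change pull b (pull J.subschemeι _) = 1
  rw [show pull J.subschemeι (PicGrp.cls M hM) = 1 from
    (Groth.Abvar.PicCalc.pull_cls _ hM).trans ((PicGrp.cls_eq_one_iff _).2 htriv), map_one]

/-- An integer prime to the residue characteristic is a unit. -/
theorem isUnit_natCast (h : ℕ) (hh : 0 < h)
    (hchar : ∀ q : ℕ, q.Prime → CharP (ResidueField R) q → ¬ q ∣ h) : IsUnit (h : R) := by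
  rw [← residue_ne_zero_iff_isUnit, map_natCast]
  intro h0
  obtain ⟨q, hq⟩ := CharP.exists (ResidueField R)
  rcases CharP.char_is_prime_or_zero (ResidueField R) q with hp | rfl
  · exact hchar q hp hq ((CharP.cast_eq_zero_iff (ResidueField R) q h).1 h0)
  · haveI := CharP.charP_to_charZero (ResidueField R)
    exact hh.ne' (Nat.cast_eq_zero.1 h0)

end Groth.ModelsGraphs.PicTorsion
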