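import Groth.Agent.ModelsGraphs.QuotMulSeq
import Groth.Agent.PicAux.Sections

/-!
# Restricting global functions from `Z + P` to `Z`
-/

set_option autoImplicit false

universe u

open CategoryTheory CategoryTheory.Limits AlgebraicGeometry TopologicalSpace
open Groth.PicAux

namespace Groth.ModelsGraphs.QuotInclusion

variable {X : Scheme.{u}}

lemma π_cokerIso (I : X.IdealSheafData) :
    cokernel.π (ClSub.idealModι I) ≫ (QuotMulSeq.cokerIso I).hom = ClSub.toSubscheme I := by
  haveI := (shortExact_idealMod I).epi_g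
  exact IsColimit.comp_coconePointUniqueUpToIso_hom (cokernelIsCokernel (ClSub.idealModι I))
    (shortExact_idealMod I).gIsCokernel WalkingParallelPair.one

/-- `0 → O/J ⊗ I → O/IJ → O/I → 0`, compatibly with the projections from `O`. -/
theorem exists_shortExact_compat {I J : X.IdealSheafData} (hI : BlowUp.IsEffCartierIdeal I)
    (hJ : BlowUp.IsEffCartierIdeal J) :
    ∃ (K : X.Modules) (f : K ⟶ ClSub.quotMod (I * J)) (m : ClSub.quotMod (I * J) ⟶ ClSub.quotMod I)
      (w : f ≫ m = 0), (ShortComplex.mk f m w).ShortExact ∧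
      Nonempty (K ≅ CohB1.tensorMod (ClSub.quotMod J) (ClSub.idealMod I)) ∧
      ClSub.toSubscheme (I * J) ≫ m = ClSub.toSubscheme I := by
  obtain ⟨u, hu⟩ := exists_leftUnitor (ClSub.idealMod I)
  let T := DCoh.tensorRightMod (ClSub.idealMod I)
  let j := T.map (ClSub.idealModι J) ≫ u.hom
  haveI : Mono (ClSub.idealModι I) := (shortExact_idealMod I).mono_f
  let φ := j ≫ ClSub.idealModι I
  obtain ⟨e, he⟩ := QuotMulSeq.exists_iso_mul hI hJ φ (fun W a b => by
    have h1 : (T.map (ClSub.idealModι J)).app W (tmulSec a b) =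
        tmulSec ((ClSub.idealModι J).app W a) b := by
      have h0 : T.map (ClSub.idealModι J) = KoszTw.tensorMap (ClSub.idealModι J) (𝟙 _) := by
        first
          | rfl
          | (simp [T, DCoh.tensorRightMod, KoszTw.tensorMap]; exact (Category.comp_id _).symm)
      rw [h0]
      exact tensorMap_app_tmulSec _ _ W a b
    change toFun ((ClSub.idealModι I).app W (u.hom.app W ((T.map (ClSub.idealModι J)).app W
      (tmulSec a b)))) = _
    rw [h1, hu, Scheme.Modules.Hom.app_smul, toFun_smul]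
    rfl)
  have hSJ := shortExact_idealMod_twist J (isInvertible_idealMod hI)
  haveI := hSJ.epi_g
  let f : cokernel j ⟶ cokernel φ := cokernel.map j φ (𝟙 _) (ClSub.idealModι I)
    (by simp [φ])
  let g : cokernel φ ⟶ cokernel (ClSub.idealModι I) := cokernel.map φ (ClSub.idealModι I) j (𝟙 _)
    (by simp [φ])
  obtain ⟨w, hw⟩ := Groth.LocCohZBase.shortExact_cokernel_comp j (ClSub.idealModι I) (k := φ) rfl f g
    (cokernel.π_desc _ _ _) ((cokernel.π_desc _ _ _).trans (Category.id_comp _))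
  let a : cokernel φ ≅ ClSub.quotMod (I * J) :=
    cokernelIsoOfEq he.symm ≪≫ cokernelEpiComp e.hom _ ≪≫ QuotMulSeq.cokerIso (I * J)
  let c := QuotMulSeq.cokerIso I
  have hm : (f ≫ a.hom) ≫ (a.inv ≫ g ≫ c.hom) = 0 := by
    rw [Category.assoc, a.hom_inv_id_assoc, ← Category.assoc, w, zero_comp]
  refine ⟨cokernel j, f ≫ a.hom, a.inv ≫ g ≫ c.hom, hm,
    ShortComplex.shortExact_of_iso (ShortComplex.isoMk (S₁ := ShortComplex.mk f g w)
      (S₂ := ShortComplex.mk (f ≫ a.hom) (a.inv ≫ g ≫ c.hom) hm) (Iso.refl _) a c (by simp) (by simp)) hw,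
    ⟨cokernelCompIsIso (T.map (ClSub.idealModι J)) u.hom ≪≫
      IsColimit.coconePointUniqueUpToIso (cokernelIsCokernel _) hSJ.gIsCokernel⟩, ?_⟩
  have h1 : cokernel.π φ ≫ a.hom = ClSub.toSubscheme (I * J) := by
    simp only [a, Iso.trans_hom]
    rw [π_comp_cokernelIsoOfEq_hom_assoc]
    have h2 : cokernel.π (e.hom ≫ ClSub.idealModι (I * J)) ≫
        (cokernelEpiComp e.hom (ClSub.idealModι (I * J))).hom = cokernel.π _ := cokernel.π_desc _ _ _
    exact (Category.assoc _ _ _).symm.trans ((congrArg (· ≫ _) h2).trans (π_cokerIso _))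
  have h3 : cokernel.π φ ≫ g = cokernel.π (ClSub.idealModι I) :=
    (cokernel.π_desc _ _ _).trans (Category.id_comp _)
  rw [← h1, Category.assoc, a.hom_inv_id_assoc, ← Category.assoc, h3, π_cokerIso]

/-- A left exact sequence without sections on the left is injective on sections. -/
theorem app_top_injective {S : ShortComplex X.Modules} (hS : S.ShortExact)
    (h0 : ∀ t : Γ(S.X₁, ⊤), t = 0) : Function.Injective (S.g.app ⊤) := by
  refine (injective_iff_map_eq_zero _).2 fun v hv => ?_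
  have h1 : homOfSection v ≫ S.g = 0 := hom_structure_ext (by
    change S.g.app ⊤ ((homOfSection v).app ⊤ (oneSec X ⊤)) = _
    rw [homOfSection_one, hv]
    rfl)
  haveI := hS.mono_f
  obtain ⟨ψ, hψ⟩ := KernelFork.IsLimit.lift' hS.exact.fIsKernel _ h1
  have h2 : S.f.app ⊤ (ψ.app ⊤ (oneSec X ⊤)) = v := by
    rw [← ConcreteCategory.comp_apply, ← Scheme.Modules.Hom.comp_app, ← homOfSection_one v]
    exact congr(($hψ).app ⊤ (oneSec X ⊤))
  rw [← h2, h0 (ψ.app ⊤ (oneSec X ⊤)), map_zero]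

/-- If `O(-Z)|_P` has no sections, functions on `Z + P` are determined by their restriction to `Z`. -/
theorem appTop_inclusion_injective {I J : X.IdealSheafData} (hI : BlowUp.IsEffCartierIdeal I)
    (hJ : BlowUp.IsEffCartierIdeal J) (h : I * J ≤ I)
    (h0 : ∀ t : Γ(CohB1.tensorMod (ClSub.quotMod J) (ClSub.idealMod I), ⊤), t = 0) :
    Function.Injective (Scheme.IdealSheafData.inclusion h).appTop := by
  obtain ⟨K, f, m, w, hS, ⟨k⟩, hm⟩ := exists_shortExact_compat hI hJ
  have hK : ∀ t : Γ(K, ⊤), t = 0 := fun t => by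
    have h1 : k.inv.app ⊤ (k.hom.app ⊤ t) = t := congr(($(k.hom_inv_id)).app ⊤ t)
    rw [← h1, h0 (k.hom.app ⊤ t), map_zero]
  let P := I * J
  let i := Scheme.IdealSheafData.inclusion h
  have hi : i ≫ P.subschemeι = I.subschemeι := Scheme.IdealSheafData.inclusion_subschemeι h
  suffices key : ∀ a : Γ(P.subscheme, ⊤), i.appTop a = m.app ⊤ a by
    intro a b hab
    rw [key, key] at hab
    exact app_top_injective hS hK hab
  intro a
  refine TopCat.Sheaf.eq_of_locally_eq' I.subscheme.sheaf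
    (fun W : X.affineOpens => I.subschemeι ⁻¹ᵁ W.1) ⊤ (fun W => homOfLE le_top) ?_ _ _ fun W => ?_
  · intro x hx
    have : I.subschemeι x ∈ ⨆ W : X.affineOpens, (W : X.Opens) := by
      rw [iSup_affineOpens_eq_top]; trivial
    obtain ⟨W, hW⟩ := Opens.mem_iSup.1 this
    exact Opens.mem_iSup.2 ⟨W, hW⟩
  obtain ⟨b, hb⟩ := P.subschemeι_app_surjective W
    (P.subscheme.presheaf.map (homOfLE (le_top : P.subschemeι ⁻¹ᵁ W.1 ≤ ⊤)).op a)
  have hle : I.subschemeι ⁻¹ᵁ W.1 ≤ i ⁻¹ᵁ (P.subschemeι ⁻¹ᵁ W.1) := by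
    rw [← Scheme.Hom.comp_preimage, hi]
  refine Eq.trans (b := I.subschemeι.app W.1 b) ?_ ?_
  · change I.subscheme.presheaf.map (homOfLE le_top).op (i.appTop a) = _
    have e1 : I.subscheme.presheaf.map (homOfLE (le_top : I.subschemeι ⁻¹ᵁ W.1 ≤ ⊤)).op (i.appTop a) =
        i.appLE _ _ hle (P.subscheme.presheaf.map (homOfLE le_top).op a) := by
      rw [← CommRingCat.comp_apply, ← CommRingCat.comp_apply, Scheme.Hom.map_appLE, Scheme.Hom.appLE]
      rfl
    rw [e1, ← hb, ← CommRingCat.comp_apply, Scheme.Hom.app_eq_appLE P.subschemeι,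
      Scheme.Hom.appLE_comp_appLE]
    simp only [hi, Scheme.Hom.app_eq_appLE I.subschemeι]
  · have e2 : res _ (le_top : W.1 ≤ (⊤ : X.Opens)) (m.app ⊤ a) =
        m.app W.1 (res (ClSub.quotMod P) (le_top : W.1 ≤ (⊤ : X.Opens)) a) := (app_res _ _ _).symm
    have e3 : res (ClSub.quotMod P) (le_top : W.1 ≤ (⊤ : X.Opens)) a =
        (ClSub.toSubscheme P).app W.1 b := hb.symm
    refine Eq.trans ?_ e2.symm
    rw [e3]
    exact congr(($hm).app W.1 b).symm

end Groth.ModelsGraphs.QuotInclusion
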