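import Groth.Agent.ModelsGraphs.RatSingPush
import Groth.Agent.ModelsGraphs.ArithDim
import Groth.Agent.Limits.FibreVanishingGeneral
import Groth.Agent.Duality.PushHLin
import Groth.Agent.PicAux.EffCartierLine
import Groth.Agent.OmegaSheaf.IdealMod
import Groth.Agent.Misc3Stein.Connected
import Groth.Agent.PropsBasic2.Reduced
import Groth.Agent.Curves1.RR.AlgClosed

/-!
# The fibre over a rational singularity consists of projective lines
-/

set_option autoImplicit false
set_option backward.isDefEq.respectTransparency.types false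

universe u

open CategoryTheory Limits AlgebraicGeometry TopologicalSpace Opposite

namespace Groth.ModelsGraphs.RatSingFibre

/-- In a connected one-dimensional Noetherian space no component is a point. -/
theorem not_subsingleton_component {F : Type u} [TopologicalSpace F] [NoetherianSpace F] [PreconnectedSpace F]
    (hdim : topologicalKrullDim F = 1) {E : Set F} (hE : E ∈ irreducibleComponents F) : ¬ E.Subsingleton := by
  intro hs
  have hfin : (irreducibleComponents F).Finite := NoetherianSpace.finite_irreducibleComponents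
  let G : Set F := ⋃ T ∈ irreducibleComponents F \ {E}, T
  have hG : IsClosed G := (hfin.subset Set.diff_subset).isClosed_biUnion fun T hT =>
    isClosed_of_mem_irreducibleComponents T hT.1
  have hEG : E = Gᶜ := by
    ext z
    refine ⟨fun hz hzG => ?_, fun hz => ?_⟩
    · obtain ⟨T, ⟨hT, hTE⟩, hzT⟩ := Set.mem_iUnion₂.1 hzG
      have hsub : E ⊆ T := fun w hw => hs hz hw ▸ hzT
      exact hTE (le_antisymm (hE.2 hT.1 hsub) hsub)
    · by_contra hzE
      exact hz (Set.mem_biUnion (t := fun T : Set F => T)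
        ⟨irreducibleComponent_mem_irreducibleComponents z,
          fun h => hzE ((Set.mem_singleton_iff.1 h) ▸ mem_irreducibleComponent)⟩ mem_irreducibleComponent)
  have hclopen : IsClopen E := ⟨isClosed_of_mem_irreducibleComponents E hE, hEG ▸ hG.isOpen_compl⟩
  have huniv : E = Set.univ := hclopen.eq_univ hE.1.nonempty
  haveI : Subsingleton F := ⟨fun a b => hs (huniv ▸ trivial) (huniv ▸ trivial)⟩
  haveI : Subsingleton (IrreducibleCloseds F) := ⟨fun a b => IrreducibleCloseds.ext
    ((Set.eq_univ_of_forall (s := (a : Set F)) fun z =>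
      Subsingleton.elim _ z ▸ a.isIrreducible.nonempty.choose_spec).trans
      (Set.eq_univ_of_forall (s := (b : Set F)) fun z =>
        Subsingleton.elim _ z ▸ b.isIrreducible.nonempty.choose_spec).symm)⟩
  have h0 : topologicalKrullDim F ≤ 0 := Order.krullDim_nonpos_of_subsingleton
  rw [hdim] at h0
  exact absurd h0 (by norm_num)

theorem mem_basicOpen_toGlobal {X : Scheme.{u}} {A : Type u} [CommRing A] (f : X ⟶ Spec (CommRingCat.of A))
    (a : A) (x : X) : x ∈ X.basicOpen (U := ⊤) (Coh.toGlobal f a) ↔ a ∉ (f x).asIdeal := by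
  have h : X.basicOpen (U := ⊤) (Coh.toGlobal f a) =
      f ⁻¹ᵁ (Spec (CommRingCat.of A)).basicOpen ((Scheme.ΓSpecIso (CommRingCat.of A)).inv a) :=
    (Scheme.preimage_basicOpen f _).symm
  rw [h, Scheme.Hom.mem_preimage, basicOpen_eq_of_affine]
  exact PrimeSpectrum.mem_basicOpen _ _

theorem eq_toSpecΓ_toGlobal {X : Scheme.{u}} {A : Type u} [CommRing A] (f : X ⟶ Spec (CommRingCat.of A)) :
    f = X.toSpecΓ ≫ Spec.map (CommRingCat.ofHom (show A →+* Γ(X, ⊤) from Coh.toGlobal f)) := by
  refine ext_of_isAffine ?_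
  rw [Scheme.Hom.comp_appTop, Scheme.toSpecΓ_appTop]
  erw [Scheme.ΓSpecIso_naturality]
  ext a
  simp [Coh.toGlobal]

section H1

variable {Z Y : Scheme.{u}} [IsIntegral Z] [IsIntegral Y] [IsLocallyNoetherian Y] (π : Z ⟶ Y) [IsProper π]

/-- `H¹(O) = 0` on a closed subscheme inside a one-dimensional fibre over a rational singularity. -/
theorem subsingleton_h1 (hZn : Pi1.IsNormalScheme Z) (U₀ : Y.Opens) (hU₀ : (U₀ : Set Y).Nonempty)
    [IsIso (π ∣_ U₀)] (y : Y) (hrat : Curv2.IsRationalSing (Y.presheaf.stalk y))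
    (hdim : topologicalKrullDim (π.fiber y) ≤ 1) {V : Y.Opens} (hV : IsAffineOpen V) (hy : y ∈ V)
    (I : (π ⁻¹ᵁ V : Z.Opens).toScheme.IdealSheafData)
    (hI : ∀ d : I.subscheme, π ((π ⁻¹ᵁ V).ι (I.subschemeι d)) = y) :
    Subsingleton (Coh.HH I.subscheme (Coh.structureModule I.subscheme) 1) := by
  let A := Γ(Y, V)
  let U : Scheme.{u} := (π ⁻¹ᵁ V : Z.Opens)
  letI : U.Over (Spec (CommRingCat.of A)) := ⟨CohBase.preimageToSpec π⟩
  letI : I.subscheme.Over (Spec (CommRingCat.of A)) := ⟨I.subschemeι ≫ CohBase.preimageToSpec π⟩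
  haveI : IsProper (U ↘ Spec (CommRingCat.of A)) :=
    MorphismProperty.of_isPullback (CohBase.isPullback_preimageToSpec π hV) ‹IsProper π›
  haveI : (Coh.structureModule I.subscheme).IsQuasicoherent :=
    (Groth.EulerDeg.isCoh_of_isInvertible (Groth.EulerDeg.isInvertible_structureModule _)).1
  haveI : (ClSub.idealMod I).IsQuasicoherent := inferInstance
  let P := hV.primeIdealOf ⟨y, hy⟩
  -- functions not vanishing at `y` are invertible on the subscheme
  have hunit : ∀ s : A, y ∈ Y.basicOpen s →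
      IsUnit (Coh.toGlobal (I.subscheme ↘ Spec (CommRingCat.of A)) s) := fun s hs => by
    refine RingedSpace.isUnit_of_isUnit_germ I.subscheme.toRingedSpace ⊤ _ fun d hd => ?_
    refine (Scheme.mem_basicOpen I.subscheme _ d hd).1 ((mem_basicOpen_toGlobal _ s d).2 ?_)
    have h1 : hV.fromSpec ((CohBase.preimageToSpec π (V := V)) (I.subschemeι d)) = y := by
      rw [← Scheme.Hom.comp_apply, ← (CohBase.isPullback_preimageToSpec π hV).w, Scheme.Hom.comp_apply]
      exact hI d
    have h2 : CohBase.preimageToSpec π (V := V) (I.subschemeι d) ∈ hV.fromSpec ⁻¹ᵁ Y.basicOpen s := by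
      change hV.fromSpec _ ∈ Y.basicOpen s
      rw [h1]; exact hs
    rw [hV.fromSpec_preimage_basicOpen] at h2
    exact h2
  let e := Groth.Duality.PushHLin.pushLin (A := A) I.subschemeι rfl (Coh.structureModule I.subscheme) 1
  have hS := Groth.PicAux.shortExact_idealMod I
  refine subsingleton_of_forall_eq 0 fun ξ => ?_
  obtain ⟨s, hs, hsδ⟩ := Groth.Limits.FibreVanishing.exists_smul_eq_zero_general (A := A) (X := U) P 1
    (Groth.Limits.FibreVanishing.dim_fiber_preimageToSpec_le π hV y hy 1 (by exact_mod_cast hdim)) (ClSub.idealMod I) 2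
    (by norm_num) (EulerDeg.hDelta A hS 1 (e.symm ξ))
  obtain ⟨η, hη⟩ := (EulerDeg.exact_right A hS 1 (s • e.symm ξ)).1 (by rw [map_smul]; exact hsδ)
  let i0 : (Coh.structureModule Z).restrict (π ⁻¹ᵁ V).ι ≅ Coh.structureModule U :=
    ((Scheme.Modules.restrictFunctorIsoPullback (π ⁻¹ᵁ V).ι).app _) ≪≫
      (Groth.PicAux.pullback_structure_iso (π ⁻¹ᵁ V).ι).some
  obtain ⟨t, ht, htη⟩ := RatSingPush.exists_smul_eq_zero π hZn U₀ hU₀ y hrat hV hy
    ((EulerDeg.hEquiv A i0 1).symm η)
  rw [← map_smul, LinearEquiv.map_eq_zero_iff] at htη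
  have h3 : (t * s) • ξ = 0 := by
    rw [← e.symm.map_eq_zero_iff, map_smul, mul_smul, ← hη, ← map_smul]
    exact (congrArg _ htη).trans (map_zero _)
  have hs' : y ∈ Y.basicOpen s := by
    have h4 : P ∈ hV.fromSpec ⁻¹ᵁ Y.basicOpen s := by
      rw [hV.fromSpec_preimage_basicOpen]; exact hs
    have h5 : hV.fromSpec P ∈ Y.basicOpen s := h4
    rw [show hV.fromSpec P = y from hV.fromSpec_primeIdealOf ⟨y, hy⟩] at h5
    exact h5
  have hu := (hunit t ht).mul (hunit s hs')
  rw [← map_mul] at hu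
  exact hu.smul_eq_zero.1 h3

end H1

/-- A component of a one-dimensional fibre over a rational singularity is a projective line. -/
theorem exists_projLine {R : Type u} [CommRing R] [IsDomain R] [IsDiscreteValuationRing R]
    [IsAlgClosed (IsLocalRing.ResidueField R)] (YR ZR : Over (Spec (CommRingCat.of R)))
    [IsIntegral YR.left] [IsIntegral ZR.left]
    (hYn : Pi1.IsNormalScheme YR.left) (hZn : Pi1.IsNormalScheme ZR.left)
    [IsProper YR.hom] (π : ZR ⟶ YR) [IsProper π.left]
    (U₀ : YR.left.Opens) (hU₀ : (U₀ : Set YR.left).Nonempty) [IsIso (π.left ∣_ U₀)]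
    (y : YR.left) (hyc : IsClosed ({y} : Set YR.left)) (hys : y ∈ Models.specialFibreSet R YR)
    (hrat : Curv2.IsRationalSing (YR.left.presheaf.stalk y))
    (hdim : topologicalKrullDim (π.left.base ⁻¹' ({y} : Set YR.left)) = 1) (E : Set ZR.left)
    (hE : Maximal (fun S : Set ZR.left => IsIrreducible S ∧ S ⊆ π.left.base ⁻¹' ({y} : Set YR.left)) E) :
    ∃ e : CohB1.ProjSpace 1 (IsLocalRing.ResidueField R) ⟶ ZR.left, IsClosedImmersion e ∧ Set.range e.base = E ∧
      e ≫ ZR.hom = CohB1.ProjSpace.toSpec 1 (IsLocalRing.ResidueField R) ≫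
        Spec.map (CommRingCat.ofHom (algebraMap R (IsLocalRing.ResidueField R))) := by
  haveI : IsLocallyNoetherian YR.left := LocallyOfFiniteType.isLocallyNoetherian YR.hom
  haveI : IsProper ZR.hom := Over.w π ▸ inferInstance
  haveI : IsLocallyNoetherian ZR.left := LocallyOfFiniteType.isLocallyNoetherian ZR.hom
  haveI : CompactSpace ZR.left := QuasiCompact.compactSpace_of_compactSpace ZR.hom
  haveI : IsNoetherian ZR.left := ⟨⟩
  have hFc : IsClosed (π.left.base ⁻¹' ({y} : Set YR.left)) := hyc.preimage π.left.continuous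
  have hEc : IsClosed E := by
    rw [← closure_subset_iff_isClosed]
    exact hE.2 ⟨hE.1.1.closure, closure_minimal hE.1.2 hFc⟩ subset_closure
  -- the fibre is connected
  obtain ⟨u, hu⟩ := hU₀
  haveI : Nonempty U₀ := ⟨⟨u, hu⟩⟩
  haveI : Nonempty (π.left ⁻¹ᵁ U₀) := (π.left ∣_ U₀).surjective.nonempty
  haveI : IsIntegral U₀ := isIntegral_of_isOpenImmersion U₀.ι
  haveI : IsIntegral (π.left ⁻¹ᵁ U₀) := isIntegral_of_isOpenImmersion (π.left ⁻¹ᵁ U₀).ι
  have hgen : π.left (genericPoint ZR.left) = genericPoint YR.left := by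
    rw [← genericPoint_eq_of_isOpenImmersion (π.left ⁻¹ᵁ U₀).ι, ← Scheme.Hom.comp_apply, ← morphismRestrict_ι,
      Scheme.Hom.comp_apply, genericPoint_eq_of_isOpenImmersion (π.left ∣_ U₀),
      genericPoint_eq_of_isOpenImmersion U₀.ι]
  have hbir : IsIso (π.left.stalkMap (genericPoint ZR.left)) := by
    refine LocImmersion.BirationalNormal.isIso_stalkMap_of_eq π.left
      (genericPoint_eq_of_isOpenImmersion (π.left ⁻¹ᵁ U₀).ι) ?_
    have h1 : IsIso (((π.left ⁻¹ᵁ U₀).ι ≫ π.left).stalkMap (genericPoint (π.left ⁻¹ᵁ U₀))) := by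
      rw [Scheme.Hom.stalkMap_congr_hom _ _ (morphismRestrict_ι π.left U₀).symm]
      infer_instance
    rw [Scheme.Hom.stalkMap_comp] at h1
    exact @IsIso.of_isIso_comp_right _ _ _ _ _ _ ((π.left ⁻¹ᵁ U₀).ι.stalkMap _) inferInstance h1
  haveI := RatSingPush.isIso_unitToPush π.left (fun x => (hYn x).2) hgen hbir
  haveI : GeometricallyConnected π.left := Misc3Stein.geometricallyConnected_of_isIso_app π.left
    fun V _ => (ConcreteCategory.isIso_iff_bijective _).2
      (ConcreteCategory.bijective_of_isIso ((ClSub.unitToPush π.left).app V))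
  haveI : ConnectedSpace (π.left.fiber y) := inferInstance
  let F : Type u := ↥(π.left.base ⁻¹' ({y} : Set YR.left))
  haveI : ConnectedSpace F := (π.left.fiberHomeo y).surjective.connectedSpace (π.left.fiberHomeo y).continuous
  haveI : NoetherianSpace F := inferInstance
  -- the component
  let EF : Set F := Subtype.val ⁻¹' E
  have hEF : EF ∈ irreducibleComponents F := by
    refine ⟨⟨?_, ?_⟩, fun T hT hle z hz => ?_⟩
    · obtain ⟨w, hw⟩ := hE.1.1.nonempty
      exact ⟨⟨w, hE.1.2 hw⟩, hw⟩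
    · rintro _ _ ⟨u', hu', rfl⟩ ⟨v', hv', rfl⟩ ⟨a, ha, hau⟩ ⟨b, hb, hbv⟩
      obtain ⟨w, hw, hwu, hwv⟩ := hE.1.1.2 u' v' hu' hv' ⟨a.1, ha, hau⟩ ⟨b.1, hb, hbv⟩
      exact ⟨⟨w, hE.1.2 hw⟩, hw, hwu, hwv⟩
    · exact hE.2 ⟨hT.image _ continuous_subtype_val.continuousOn, by rintro _ ⟨t, -, rfl⟩; exact t.2⟩
        (fun w hw => ⟨⟨w, hE.1.2 hw⟩, hle (show (⟨w, hE.1.2 hw⟩ : F) ∈ EF from hw), rfl⟩) ⟨z, hz, rfl⟩
  have hns : ¬ E.Subsingleton := fun h => not_subsingleton_component hdim hEF
    (fun a ha b hb => Subtype.ext (h ha hb))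
  -- the reduced component as a subscheme of an affine neighbourhood
  obtain ⟨V, hV, hyV⟩ := QCohMod.exists_affine_mem y
  let U : Scheme.{u} := (π.left ⁻¹ᵁ V : ZR.left.Opens)
  let CU : Closeds U := ⟨(π.left ⁻¹ᵁ V).ι ⁻¹' E, hEc.preimage (π.left ⁻¹ᵁ V).ι.continuous⟩
  let I : U.IdealSheafData := Scheme.IdealSheafData.vanishingIdeal CU
  have hIr : Set.range I.subschemeι = (π.left ⁻¹ᵁ V).ι ⁻¹' E := by
    rw [Groth.PropsBasic2.range_vanishingIdeal_subschemeι]; rfl
  let j : I.subscheme ⟶ ZR.left := I.subschemeι ≫ (π.left ⁻¹ᵁ V).ι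
  have hjr : Set.range j = E := by
    rw [Scheme.Hom.comp_base, TopCat.coe_comp, Set.range_comp, hIr, Set.image_preimage_eq_inter_range,
      Scheme.Opens.range_ι, Set.inter_eq_left]
    intro z hz
    change π.left z ∈ V
    rw [show π.left z = y from hE.1.2 hz]; exact hyV
  haveI : IsClosedImmersion j := IsClosedImmersion.of_isPreimmersion j (hjr ▸ hEc)
  have hjy : ∀ d, π.left (j d) = y := fun d => hE.1.2 (hjr ▸ Set.mem_range_self d)
  have hh1 : Subsingleton (Coh.HH I.subscheme (Coh.structureModule I.subscheme) 1) :=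
    subsingleton_h1 π.left hZn U₀ ⟨u, hu⟩ y hrat
      ((π.left.fiberHomeo y).isInducing.topologicalKrullDim_le.trans hdim.le) hV hyV I hjy
  -- it is an integral proper curve over the residue field
  let D := I.subscheme
  haveI : IsReduced D := Groth.PropsBasic2.isReduced_vanishingIdeal_subscheme CU
  let φ : R →+* Γ(D, ⊤) := Coh.toGlobal (j ≫ ZR.hom)
  have hker : ∀ a ∈ IsLocalRing.maximalIdeal R, φ a = 0 := fun a ha => by
    refine eq_zero_of_basicOpen_eq_bot _ ?_
    refine eq_bot_iff.2 fun d hd => ?_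
    have h1 : (j ≫ ZR.hom) d = IsLocalRing.closedPoint R := by
      rw [Scheme.Hom.comp_apply, ← Over.w π, Scheme.Hom.comp_apply, hjy]
      exact hys
    have h2 := (mem_basicOpen_toGlobal (j ≫ ZR.hom) a d).1 hd
    rw [h1] at h2
    exact h2 ha
  let ψ : IsLocalRing.ResidueField R →+* Γ(D, ⊤) := Ideal.Quotient.lift _ φ hker
  let q : D ⟶ Spec (CommRingCat.of (IsLocalRing.ResidueField R)) :=
    D.toSpecΓ ≫ Spec.map (CommRingCat.ofHom ψ)
  have hq : q ≫ Spec.map (CommRingCat.ofHom (algebraMap R (IsLocalRing.ResidueField R))) = j ≫ ZR.hom := by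
    rw [Category.assoc, ← Spec.map_comp]
    exact (eq_toSpecΓ_toGlobal (j ≫ ZR.hom)).symm
  letI : D.Over (Spec (CommRingCat.of (IsLocalRing.ResidueField R))) := ⟨q⟩
  haveI : IsProper (D ↘ Spec (CommRingCat.of (IsLocalRing.ResidueField R))) := by
    haveI : IsProper (q ≫ Spec.map (CommRingCat.ofHom (algebraMap R (IsLocalRing.ResidueField R)))) := by
      rw [hq]; infer_instance
    exact IsProper.of_comp q (Spec.map (CommRingCat.ofHom (algebraMap R (IsLocalRing.ResidueField R))))
  let he := j.isClosedEmbedding.isEmbedding.toHomeomorph.trans (Homeomorph.setCongr hjr)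
  haveI : IrreducibleSpace ↥E := Subtype.irreducibleSpace hE.1.1
  haveI : IrreducibleSpace D := he.symm.surjective.irreducibleSpace he.symm.continuous
  haveI : IsIntegral D := isIntegral_of_irreducibleSpace_of_isReduced D
  have hdimD : topologicalKrullDim D = 1 := by
    rw [IsHomeomorph.topologicalKrullDim_eq he he.isHomeomorph]
    refine le_antisymm ?_ ?_
    · refine le_trans ?_ hdim.le
      exact (Topology.IsEmbedding.inclusion hE.1.2).isInducing.topologicalKrullDim_le
    · obtain ⟨c, hcE, hc⟩ := IsClosed.exists_closed_singleton hEc hE.1.1.nonempty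
      refine Order.one_le_krullDim_iff.2 ⟨⟨{⟨c, hcE⟩}, isIrreducible_singleton, ?_⟩,
        ⟨Set.univ, IrreducibleSpace.isIrreducible_univ _, isClosed_univ⟩, ?_⟩
      · have : ({⟨c, hcE⟩} : Set ↥E) = Subtype.val ⁻¹' {c} := by ext w; simp [Subtype.ext_iff]
        exact this ▸ hc.preimage continuous_subtype_val
      · rw [← SetLike.coe_ssubset_coe]
        refine ⟨Set.subset_univ _, fun h => hns fun a ha b hb => ?_⟩
        have h1 : (⟨a, ha⟩ : ↥E) = ⟨c, hcE⟩ := h trivial
        have h2 : (⟨b, hb⟩ : ↥E) = ⟨c, hcE⟩ := h trivial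
        exact congrArg Subtype.val (h1.trans h2.symm)
  have hg : Curv2.genus (IsLocalRing.ResidueField R) D = 0 :=
    @Module.finrank_zero_of_subsingleton _ _ _ _ _ _ hh1
  obtain ⟨e, he'⟩ := Groth.Curves1.RR.iso_projectiveLine_of_isAlgClosed (IsLocalRing.ResidueField R) hdimD hg
  refine ⟨e.inv ≫ j, inferInstance, ?_, ?_⟩
  · rw [Scheme.Hom.comp_base, TopCat.coe_comp, Set.range_comp, e.inv.surjective.range_eq, Set.image_univ]
    exact hjr
  · rw [Category.assoc, ← hq, ← Category.assoc, show e.inv ≫ q = _ from e.inv_comp_eq.2 he'.symm]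

end Groth.ModelsGraphs.RatSingFibre
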