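import Groth.Agent.Limits.FibreVanishing
import Groth.Agent.CohBase.FlatBC.AffineBase
import Groth.Agent.CohDev.PushEdgeMod
import Groth.Agent.LocImm.Birational
import Groth.Agent.PropsBasic2.StalkFlat
import Groth.Agent.SiteCohomology.SubSheafGerms
import Groth.Agent.PicAux.H0Universal
import Groth.Agent.PicAux.PicLaw
import Groth.Agent.CohC3.PushPull
import Groth.Agent.EulerDeg.HLinear
import Groth.Agent.EulerDeg.LineBundle
import Groth.Prelude.Def_Curv2
import Groth.Prelude.Def_ClSub2

/-!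
# Higher direct images of the structure sheaf under modifications of rational singularities
-/

set_option autoImplicit false
set_option backward.isDefEq.respectTransparency.types false

universe u

open CategoryTheory Limits AlgebraicGeometry TopologicalSpace Opposite
open CategoryTheory.Abelian (Ext)

namespace Groth.ModelsGraphs.RatSingPush

section EdgeOne

variable {X Y : TopCat.{u}} (f : X ⟶ Y)

open Groth.CohDev in
/-- The edge map in degree one is bijective as soon as the first higher direct image vanishes. -/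
theorem edgeAb_one_bijective (A : CohTop.Ab X)
    (hA : IsZero (((CohBase.pushSheaf f).rightDerived 1).obj A)) : Function.Bijective (edgeAb f A 1) := by
  let S := CohBase.injPres A
  have hS : S.ShortExact := CohBase.injPres_shortExact A
  haveI hI : Injective S.X₂ := inferInstanceAs (Injective (Injective.under A))
  haveI : Epi ((CohBase.pushSheaf f).map S.g) := epi_map_of_isZero_rightDerived_one _ hS hA
  have hS' : (S.map (CohTop.push f)).ShortExact := by
    haveI := hS.mono_f
    exact ShortComplex.ShortExact.mk'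
      ((((Functor.preservesFiniteLimits_tfae (CohBase.pushSheaf f)).out 3 1 rfl rfl).mp
        inferInstance S ⟨hS.exact, hS.mono_f⟩).1)
      (inferInstanceAs (Mono ((CohBase.pushSheaf f).map S.f)))
      (inferInstanceAs (Epi ((CohBase.pushSheaf f).map S.g)))
  haveI : Injective (S.map (CohTop.push f)).X₂ := CohBase.injective_pushSheaf_obj (f := f) S.X₂
  have hX₂ := edgeAb_zero_bijective f S.X₂
  have hX₃ := edgeAb_zero_bijective f S.X₃
  refine ⟨(injective_iff_map_eq_zero _).2 fun x hx => ?_, fun z => ?_⟩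
  · obtain ⟨y, rfl⟩ := Ext.covariant_sequence_exact₁ (ZC Y) hS' x (Ext.eq_zero_of_injective _) rfl
    replace hx : (edgeAb f S.X₃ 0 y).comp hS.extClass rfl = 0 := (edgeAb_extClass f hS hS' 0 y).symm.trans hx
    obtain ⟨v, hv⟩ := Ext.covariant_sequence_exact₃ (ZC X) hS _ rfl hx
    obtain ⟨v', rfl⟩ := hX₂.2 v
    rw [← edgeAb_map] at hv
    rw [← hX₃.1 hv]
    refine (Ext.comp_assoc_of_second_deg_zero _ _ _ _).trans ?_
    exact (congrArg (fun t => Ext.comp v' t rfl) hS'.comp_extClass).trans (Ext.comp_zero _ _ _ _ _)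
  · obtain ⟨w, rfl⟩ := Ext.covariant_sequence_exact₁ (ZC X) hS z (Ext.eq_zero_of_injective _) rfl
    obtain ⟨y, rfl⟩ := hX₃.2 w
    exact ⟨y.comp hS'.extClass rfl, edgeAb_extClass f hS hS' 0 y⟩

end EdgeOne

/-- `H¹` of a direct image with vanishing first higher direct image, linearly. -/
theorem nonempty_pushLin_one {R : Type u} [CommRing R] {X' X : Scheme.{u}}
    [X.Over (Spec (CommRingCat.of R))] [X'.Over (Spec (CommRingCat.of R))] (ρ : X' ⟶ X)
    (hρ : ρ ≫ (X ↘ Spec (CommRingCat.of R)) = X' ↘ Spec (CommRingCat.of R)) (G : X'.Modules)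
    (hA : IsZero ((Coh.RpushAb ρ 1).obj (Coh.toAb G))) :
    Nonempty (Coh.HH X ((Scheme.Modules.pushforward ρ).obj G) 1 ≃ₗ[R] Coh.HH X' G 1) := by
  have hb := edgeAb_one_bijective (X := X'.toTopCat) (Y := X.toTopCat) ρ.base (Coh.toAb G) hA
  let e : Coh.HH X ((Scheme.Modules.pushforward ρ).obj G) 1 ≃+ Coh.HH X' G 1 :=
    AddEquiv.ofBijective (CohDev.edgeAb (X := X'.toTopCat) (Y := X.toTopCat) ρ.base (Coh.toAb G) 1) hb
  refine ⟨e.toLinearEquiv fun a x => ?_⟩
  have h1 : EulerDeg.hMap R ((Scheme.Modules.pushforward ρ).map (Formal.smulMod R G a)) 1 x = a • x := by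
    rw [CohC3.pushforward_map_smulMod hρ G a]
    rfl
  rw [← h1]
  exact (CohDev.edgeAb_map (X := X'.toTopCat) (Y := X.toTopCat) ρ.base
    ((SheafOfModules.toSheaf.{u} X'.ringCatSheaf).map (Formal.smulMod R G a)) 1 x).trans rfl

section Normal

variable {X' X : Scheme.{u}} [IsIntegral X'] [IsIntegral X] (ρ : X' ⟶ X) [IsProper ρ]

/-- A proper birational morphism to a normal scheme has `ρ_* O = O` on affine opens. -/
theorem app_bijective_affine (hN : ∀ x : X, IsIntegrallyClosed (X.presheaf.stalk x))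
    (hgen : ρ (genericPoint X') = genericPoint X) (hbir : IsIso (ρ.stalkMap (genericPoint X')))
    {V : X.Opens} (hV : IsAffineOpen V) : Function.Bijective (ρ.app V) := by
  rcases (V : Set X).eq_empty_or_nonempty with he | ⟨y, hy⟩
  · have hVb : V = ⊥ := Opens.ext he
    subst hVb
    have h1 : Subsingleton Γ(X', ρ ⁻¹ᵁ ⊥) := by
      rw [show ρ ⁻¹ᵁ (⊥ : X.Opens) = ⊥ from rfl]; infer_instance
    exact ⟨fun a b _ => Subsingleton.elim a b, fun b => ⟨0, Subsingleton.elim _ _⟩⟩
  have hsp : IsIso (X.presheaf.stalkSpecializes (specializes_of_eq hgen.symm)) :=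
    (TopCat.Presheaf.stalkCongr X.presheaf (Inseparable.of_eq hgen)).isIso_hom
  have hb : Function.Bijective
      (inv (ρ.stalkMap (genericPoint X')) ≫ X.presheaf.stalkSpecializes (specializes_of_eq hgen.symm) :
        X'.presheaf.stalk (genericPoint X') ⟶ X.functionField) :=
    ConcreteCategory.bijective_of_isIso _
  have hηV : genericPoint X ∈ V := ((genericPoint_spec X).mem_open_set_iff V.2).2 ⟨y, trivial, hy⟩
  have hξV : ρ (genericPoint X') ∈ V := hgen ▸ hηV
  have : Nonempty V := ⟨⟨y, hy⟩⟩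
  have : Nonempty (ρ ⁻¹ᵁ V) := ⟨⟨genericPoint X', hξV⟩⟩
  let ψ : Γ(X', ρ ⁻¹ᵁ V) ⟶ X.functionField :=
    X'.presheaf.germ (ρ ⁻¹ᵁ V) (genericPoint X') hξV ≫ inv (ρ.stalkMap (genericPoint X')) ≫
      X.presheaf.stalkSpecializes (specializes_of_eq hgen.symm)
  have hψA : ρ.app V ≫ ψ = X.germToFunctionField V := by
    rw [← Scheme.Hom.germ_stalkMap_assoc ρ V (genericPoint X') hξV, IsIso.hom_inv_id_assoc,
      TopCat.Presheaf.germ_stalkSpecializes]
  have hψinj : Function.Injective ψ := fun a b h =>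
    germ_injective_of_isIntegral X' (genericPoint X') hξV (hb.1 h)
  haveI : IsAffine V.toScheme := hV
  have happ : (ρ.app V).hom.IsIntegral := by
    have h := isIntegral_appTop_of_universallyClosed (ρ ∣_ V)
    have e : (ρ ∣_ V).appTop = (X.presheaf.map (eqToHom V.ι_image_top.symm).op) ≫
        ρ.app V ≫ X'.presheaf.map (eqToHom (ρ ⁻¹ᵁ V).ι_image_top).op := by
      rw [morphismRestrict_appTop, ← Category.assoc, ρ.naturality, Category.assoc, ← Functor.map_comp]
      rfl
    rw [e] at h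
    exact (RingHom.isIntegral_respectsIso.cancel_right_isIso (ρ.app V) _).1
      ((RingHom.isIntegral_respectsIso.cancel_left_isIso _ _).1 h)
  refine ⟨fun a b h => X.germToFunctionField_injective V (by rw [← hψA]; exact congrArg ψ h), fun c => ?_⟩
  have hint : _root_.IsIntegral Γ(X, V) (ψ c) := by
    obtain ⟨P, hP, hPc⟩ := happ c
    refine ⟨P, hP, ?_⟩
    have hP2 := Polynomial.hom_eval₂ P (ρ.app V).hom ψ.hom c
    rw [hPc, map_zero, ← CommRingCat.hom_comp, hψA] at hP2
    exact hP2.symm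
  obtain ⟨a, ha⟩ := Groth.Variety2.exists_section_of_forall_stalk V (ψ c) fun x hx => by
    let := (X.presheaf.germ V x hx).hom.toAlgebra
    have : IsScalarTower Γ(X, V) (X.presheaf.stalk x) X.functionField :=
      functionField_isScalarTower X V ⟨x, hx⟩
    have := hN x
    exact IsIntegrallyClosed.isIntegral_iff.1 (hint.tower_top (A := X.presheaf.stalk x))
  exact ⟨a, hψinj (by rw [← CommRingCat.comp_apply, hψA]; exact ha)⟩

/-- A proper birational morphism to a normal scheme has `ρ_* O = O`. -/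
theorem isIso_unitToPush (hN : ∀ x : X, IsIntegrallyClosed (X.presheaf.stalk x))
    (hgen : ρ (genericPoint X') = genericPoint X) (hbir : IsIso (ρ.stalkMap (genericPoint X'))) :
    IsIso (ClSub.unitToPush ρ) := by
  have hb : ∀ U : X.Opens, Function.Bijective (ρ.app U) := fun U =>
    Groth.PicAux.Seesaw.app_bijective_of_basis ρ (fun W => IsAffineOpen W)
      (fun W hW => app_bijective_affine ρ hN hgen hbir hW)
      (fun V t ht => by
        obtain ⟨_, ⟨W, hW, rfl⟩, htW, hWV⟩ := X.isBasis_affineOpens.exists_subset_of_mem_open ht V.2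
        exact ⟨W, hW, htW, hWV⟩) U
  exact Scheme.Modules.Hom.isIso_iff_isIso_app.mpr fun U =>
    (ConcreteCategory.isIso_iff_bijective _).mpr (hb U)

/-- The first higher direct image vanishes near a point with a rational singularity. -/
theorem exists_smul_eq_zero [IsLocallyNoetherian X] (hn : Pi1.IsNormalScheme X')
    (U₀ : X.Opens) (hU₀ : (U₀ : Set X).Nonempty) [IsIso (ρ ∣_ U₀)] (x : X)
    (hrat : Curv2.IsRationalSing (X.presheaf.stalk x)) {V : X.Opens} (hV : IsAffineOpen V) (hx : x ∈ V) :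
    letI : ((ρ ⁻¹ᵁ V : X'.Opens) : Scheme.{u}).Over (Spec (CommRingCat.of Γ(X, V))) :=
      ⟨CohBase.preimageToSpec ρ⟩
    ∀ ξ : Coh.HH (ρ ⁻¹ᵁ V : X'.Opens) ((Coh.structureModule X').restrict (ρ ⁻¹ᵁ V).ι) 1,
      ∃ s : Γ(X, V), x ∈ X.basicOpen s ∧ s • ξ = 0 := by
  letI : ((ρ ⁻¹ᵁ V : X'.Opens) : Scheme.{u}).Over (Spec (CommRingCat.of Γ(X, V))) :=
    ⟨CohBase.preimageToSpec ρ⟩
  let A := Γ(X, V)
  let B := X.presheaf.stalk x
  letI : Algebra A B := (X.presheaf.germ V x hx).hom.toAlgebra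
  haveI : IsLocalization.AtPrime B (hV.primeIdealOf ⟨x, hx⟩).asIdeal := hV.isLocalization_stalk ⟨x, hx⟩
  haveI : Module.Flat A B := IsLocalization.flat B (hV.primeIdealOf ⟨x, hx⟩).asIdeal.primeCompl
  let W : Scheme.{u} := pullback (CohBase.preimageToSpec ρ (V := V)) (Spec.map (CommRingCat.ofHom (algebraMap A B)))
  letI : W.Over (Spec (CommRingCat.of B)) := ⟨pullback.snd _ _⟩
  let g' : W ⟶ (ρ ⁻¹ᵁ V : X'.Opens) := pullback.fst _ _
  have hpb : IsPullback g' (W ↘ Spec (CommRingCat.of B))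
      ((ρ ⁻¹ᵁ V : X'.Opens).toScheme ↘ Spec (CommRingCat.of A)) (Spec.map (CommRingCat.ofHom (algebraMap A B))) :=
    IsPullback.of_hasPullback _ _
  have hspec : Spec.map (CommRingCat.ofHom (algebraMap A B)) ≫ hV.fromSpec = X.fromSpecStalk x := by
    rw [← hV.fromSpecStalk_eq_fromSpecStalk hx, IsAffineOpen.fromSpecStalk]
    rfl
  let j : W ⟶ X' := g' ≫ (ρ ⁻¹ᵁ V).ι
  have hbig : IsPullback j (W ↘ Spec (CommRingCat.of B)) ρ (X.fromSpecStalk x) :=
    hspec ▸ hpb.paste_horiz (CohBase.isPullback_preimageToSpec ρ hV)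
  haveI : IsProper (W ↘ Spec (CommRingCat.of B)) := MorphismProperty.of_isPullback hbig ‹IsProper ρ›
  haveI : Flat (X.fromSpecStalk x) := Groth.PropsBasic2.flat_fromSpecStalk x
  haveI : IsPreimmersion j := MorphismProperty.of_isPullback hbig.flip inferInstance
  haveI : Flat j := MorphismProperty.of_isPullback hbig.flip ‹Flat (X.fromSpecStalk x)›
  have hst : ∀ t : W, IsIso (j.stalkMap t) := fun t => (ConcreteCategory.isIso_iff_bijective _).2
    ⟨Groth.PropsBasic2.stalkMap_injective_of_flat j t, j.stalkMap_surjective t⟩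
  have hWn : Pi1.IsNormalScheme W := fun t => by
    haveI := hst t
    obtain ⟨h1, h2⟩ := hn (j t)
    have e := (asIso (j.stalkMap t)).commRingCatIsoToRingEquiv
    haveI := h1
    haveI := h2
    exact ⟨e.symm.toMulEquiv.isDomain _, IsIntegrallyClosed.of_equiv e⟩
  haveI : IsReduced W := by
    haveI : ∀ t : W, _root_.IsReduced (W.presheaf.stalk t) := fun t => by
      haveI := (hWn t).1
      infer_instance
    exact isReduced_of_isReduced_stalk W
  have hξη : ρ (genericPoint X') = genericPoint X := by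
    obtain ⟨u, hu⟩ := hU₀
    obtain ⟨t, ht⟩ := (ρ ∣_ U₀).surjective ⟨u, hu⟩
    haveI : Nonempty U₀ := ⟨⟨u, hu⟩⟩
    haveI : Nonempty (ρ ⁻¹ᵁ U₀) := ⟨t⟩
    haveI : IsIntegral U₀ := isIntegral_of_isOpenImmersion U₀.ι
    haveI : IsIntegral (ρ ⁻¹ᵁ U₀) := isIntegral_of_isOpenImmersion (ρ ⁻¹ᵁ U₀).ι
    rw [← genericPoint_eq_of_isOpenImmersion (ρ ⁻¹ᵁ U₀).ι, ← Scheme.Hom.comp_apply, ← morphismRestrict_ι,
      Scheme.Hom.comp_apply, genericPoint_eq_of_isOpenImmersion (ρ ∣_ U₀), genericPoint_eq_of_isOpenImmersion U₀.ι]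
  obtain ⟨z, hz⟩ : genericPoint X ∈ Set.range (X.fromSpecStalk x) := by
    rw [Scheme.range_fromSpecStalk]; exact genericPoint_specializes x
  obtain ⟨w, hw, -⟩ := Scheme.exists_preimage_of_isPullback hbig (genericPoint X') z (hξη.trans hz.symm)
  haveI : Nonempty W := ⟨w⟩
  haveI : IrreducibleSpace W := by
    rw [irreducibleSpace_def, Set.top_eq_univ]
    have h1 : closure ({w} : Set W) = Set.univ := by
      refine Set.eq_univ_of_forall fun t => ?_
      rw [← specializes_iff_mem_closure]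
      exact j.isEmbedding.specializes_iff.1 (hw ▸ genericPoint_specializes _)
    rw [← h1]
    exact isIrreducible_singleton.closure
  haveI : IsIntegral W := isIntegral_of_irreducibleSpace_of_isReduced W
  -- the rational singularity
  have hvan : Subsingleton (Coh.HH W (Coh.structureModule W) 1) := by
    refine hrat W (W ↘ Spec (CommRingCat.of B)) inferInstance inferInstance hWn ⟨(X.fromSpecStalk x) ⁻¹ᵁ U₀, ?_, ?_⟩
    · refine ⟨z, ?_⟩
      change X.fromSpecStalk x z ∈ U₀
      rw [hz]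
      exact ((genericPoint_spec X).mem_open_set_iff U₀.2).2 (by simpa using hU₀)
    · let U' := (X.fromSpecStalk x) ⁻¹ᵁ U₀
      have e : (W ↘ Spec (CommRingCat.of B)) ⁻¹ᵁ U' ≤ j ⁻¹ᵁ (ρ ⁻¹ᵁ U₀) := by
        rw [← Scheme.Hom.comp_preimage, ← Scheme.Hom.comp_preimage, hbig.w]
      have hres : IsPullback (j.resLE (ρ ⁻¹ᵁ U₀) _ e) ((W ↘ Spec (CommRingCat.of B)) ∣_ U') (ρ ∣_ U₀)
          ((X.fromSpecStalk x) ∣_ U₀) := by
        refine IsPullback.of_right ?_ ?_ (isPullback_morphismRestrict ρ U₀).flip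
        · rw [Scheme.Hom.resLE_comp_ι, morphismRestrict_ι]
          exact (isPullback_morphismRestrict _ U').flip.paste_horiz hbig
        · rw [← cancel_mono U₀.ι, Category.assoc, Category.assoc, morphismRestrict_ι, morphismRestrict_ι,
            Scheme.Hom.resLE_comp_ι_assoc, morphismRestrict_ι_assoc, hbig.w]
      exact MorphismProperty.of_isPullback (P := MorphismProperty.isomorphisms Scheme) hres ‹IsIso (ρ ∣_ U₀)›
  intro ξ
  let M := (Coh.structureModule X').restrict (ρ ⁻¹ᵁ V).ι
  haveI : CompactSpace (ρ ⁻¹ᵁ V : X'.Opens).toScheme := by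
    haveI : IsProper (CohBase.preimageToSpec ρ (V := V)) :=
      MorphismProperty.of_isPullback (CohBase.isPullback_preimageToSpec ρ hV) ‹IsProper ρ›
    exact QuasiCompact.compactSpace_of_compactSpace (CohBase.preimageToSpec ρ (V := V))
  haveI : QuasiSeparatedSpace (ρ ⁻¹ᵁ V : X'.Opens).toScheme := by
    haveI : IsLocallyNoetherian X' := LocallyOfFiniteType.isLocallyNoetherian ρ
    infer_instance
  haveI : (Coh.structureModule X').IsQuasicoherent :=
    (Groth.EulerDeg.isCoh_of_isInvertible (Groth.EulerDeg.isInvertible_structureModule X')).1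
  haveI : M.IsQuasicoherent := inferInstance
  obtain ⟨eBC⟩ := Groth.CohBase.FlatBC.exists_affine_base_linEquiv A B g' hpb M 1
  obtain ⟨i1⟩ := Groth.PicAux.pullback_structure_iso j
  let i2 : (Scheme.Modules.pullback g').obj M ≅ Coh.structureModule W :=
    (Scheme.Modules.pullback g').mapIso ((Scheme.Modules.restrictFunctorIsoPullback (ρ ⁻¹ᵁ V).ι).app _) ≪≫
      (Scheme.Modules.pullbackComp g' (ρ ⁻¹ᵁ V).ι).app _ ≪≫ i1
  haveI : Subsingleton (Coh.HH W ((Scheme.Modules.pullback g').obj M) 1) :=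
    (Groth.EulerDeg.hEquiv B i2 1).toEquiv.subsingleton
  have h0 : (1 : B) ⊗ₜ[A] ξ = 0 := eBC.injective (Subsingleton.elim _ _)
  have hloc : IsLocalizedModule (hV.primeIdealOf ⟨x, hx⟩).asIdeal.primeCompl (TensorProduct.mk A B (Coh.HH (ρ ⁻¹ᵁ V : X'.Opens) M 1) 1) :=
    inferInstance
  obtain ⟨s, hs⟩ := (IsLocalizedModule.eq_zero_iff (hV.primeIdealOf ⟨x, hx⟩).asIdeal.primeCompl
    (TensorProduct.mk A B _ 1)).1 h0
  refine ⟨s, (X.mem_basicOpen s.1 x hx).2 ?_, hs⟩
  exact IsLocalization.map_units B s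

/-- The first higher direct image of a modification vanishes if every closed point of the normal
target is a rational singularity. -/
theorem isZero_RpushAb_one [IsLocallyNoetherian X] [CompactSpace X] (hn : Pi1.IsNormalScheme X')
    (U₀ : X.Opens) (hU₀ : (U₀ : Set X).Nonempty) [IsIso (ρ ∣_ U₀)]
    (hrat : ∀ x : X, IsClosed ({x} : Set X) → Curv2.IsRationalSing (X.presheaf.stalk x)) :
    IsZero ((Coh.RpushAb ρ 1).obj (Coh.toAb (Coh.structureModule X'))) := by
  haveI : (Coh.structureModule X').IsQuasicoherent :=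
    (Groth.EulerDeg.isCoh_of_isInvertible (Groth.EulerDeg.isInvertible_structureModule X')).1
  refine Groth.SiteCohomology.SubSheafGerms.isZero_of_stalks fun y a => ?_
  obtain ⟨x, hx, hxc⟩ := IsClosed.exists_closed_singleton (isClosed_closure (s := ({y} : Set X)))
    ⟨y, subset_closure rfl⟩
  have hyx : y ⤳ x := specializes_iff_mem_closure.2 hx
  obtain ⟨V, hV, hxV⟩ := QCohMod.exists_affine_mem x
  have hz := Groth.Limits.FibreVanishing.isZero_stalk_RpushAb ρ (Coh.structureModule X') 1 hV y (hyx.mem_open V.2 hxV) (fun ξ => by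
    obtain ⟨s, hs, hξ⟩ := exists_smul_eq_zero ρ hn U₀ hU₀ x (hrat x hxc) hV hxV ξ
    exact ⟨s, hyx.mem_open (X.basicOpen s).2 hs, hξ⟩)
  have hz2 := (Groth.SiteCohomology.isZero_sfib_iff ((Coh.RpushAb ρ 1).obj (Coh.toAb (Coh.structureModule X'))) y).2 ((Groth.SiteCohomology.isZero_stalk_iff _ y).1 hz)
  exact @Subsingleton.elim _ (AddCommGrpCat.subsingleton_of_isZero hz2) a 0

end Normal

end Groth.ModelsGraphs.RatSingPush

namespace Groth.ModelsGraphs.RatSingPush

/-- A normal model of an irreducible generic fibre is integral. -/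
theorem isIntegral_of_model {R : Type u} [CommRing R] [IsDomain R] {X C : Scheme.{u}} [IsIntegral C]
    (p : X ⟶ Spec (CommRingCat.of R)) [Flat p] (g : C ⟶ X) {f : C ⟶ Spec (CommRingCat.of (FractionRing R))}
    (hg : IsPullback g f p (Spec.map (CommRingCat.ofHom (algebraMap R (FractionRing R)))))
    (hn : Pi1.IsNormalScheme X) : IsIntegral X := by
  have hdense : ∀ x : X, g (genericPoint C) ⤳ x := fun x => by
    obtain ⟨y, hy, hye⟩ := Flat.generalizingMap p (genericPoint_specializes (p x))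
    have hη : Spec.map (CommRingCat.ofHom (algebraMap R (FractionRing R)))
        (IsLocalRing.closedPoint (FractionRing R)) = genericPoint ↥(Spec (CommRingCat.of R)) := by
      refine (IsGenericPoint.eq (genericPoint_spec _) ?_).symm
      rw [isGenericPoint_iff_specializes]
      refine fun z => iff_of_true ((PrimeSpectrum.le_iff_specializes _ z).1 ?_) trivial
      intro a ha
      have hzb : (IsLocalRing.closedPoint (FractionRing R)).asIdeal = ⊥ :=
        (Ideal.eq_bot_or_top _).resolve_right (IsLocalRing.closedPoint (FractionRing R)).isPrime.ne_top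
      have h1 : algebraMap R (FractionRing R) a ∈ (IsLocalRing.closedPoint (FractionRing R)).asIdeal := ha
      rw [hzb, Ideal.mem_bot, map_eq_zero_iff _ (IsFractionRing.injective R _)] at h1
      exact h1 ▸ zero_mem _
    obtain ⟨c, hc, -⟩ := Scheme.exists_preimage_of_isPullback hg y _ (hye.trans hη.symm)
    exact (hc ▸ (genericPoint_specializes c).map g.continuous : g (genericPoint C) ⤳ y).trans hy
  haveI : Nonempty X := ⟨g (genericPoint C)⟩
  haveI : IrreducibleSpace X := by
    rw [irreducibleSpace_def, Set.top_eq_univ, ← Set.eq_univ_of_forall fun x => (hdense x).mem_closure]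
    exact isIrreducible_singleton.closure
  haveI : IsReduced X := by
    haveI : ∀ x : X, _root_.IsReduced (X.presheaf.stalk x) := fun x => by
      haveI := (hn x).1
      infer_instance
    exact isReduced_of_isReduced_stalk X
  exact isIntegral_of_irreducibleSpace_of_isReduced X

/-- Modifications of a normal model with rational singularities do not change `H¹(O)`. -/
theorem main {R : Type u} [CommRing R] [IsDomain R] [IsDiscreteValuationRing R] {X X' : Scheme.{u}}
    [X.Over (Spec (CommRingCat.of R))] [X'.Over (Spec (CommRingCat.of R))]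
    [IsProper (X ↘ Spec (CommRingCat.of R))] [IsIntegral X] [IsIntegral X'] (hn : Pi1.IsNormalScheme X)
    (hrat : ∀ x : X, IsClosed ({x} : Set X) → Curv2.IsRationalSing (X.presheaf.stalk x))
    (ρ : X' ⟶ X) [IsProper ρ] (hρ : ρ ≫ (X ↘ Spec (CommRingCat.of R)) = X' ↘ Spec (CommRingCat.of R))
    (hn' : Pi1.IsNormalScheme X') (U : X.Opens) (hU : (U : Set X).Nonempty) [IsIso (ρ ∣_ U)] :
    IsZero ((Coh.RpushAb ρ 1).obj (Coh.toAb (Coh.structureModule X'))) ∧
      Function.Bijective (Sheaf.H.map ((SheafOfModules.toSheaf X.ringCatSheaf).map (ClSub.unitToPush ρ)) 1) ∧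
      Nonempty (Coh.HH X (Coh.structureModule X) 1 ≃ₗ[R] Coh.HH X' (Coh.structureModule X') 1) := by
  haveI : IsLocallyNoetherian X := LocallyOfFiniteType.isLocallyNoetherian (X ↘ Spec (CommRingCat.of R))
  haveI : CompactSpace X := QuasiCompact.compactSpace_of_compactSpace (X ↘ Spec (CommRingCat.of R))
  have hz := isZero_RpushAb_one ρ hn' U hU hrat
  obtain ⟨u, hu⟩ := hU
  haveI : Nonempty U := ⟨⟨u, hu⟩⟩
  haveI : Nonempty (ρ ⁻¹ᵁ U) := (ρ ∣_ U).surjective.nonempty
  haveI : IsIntegral U := isIntegral_of_isOpenImmersion U.ι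
  haveI : IsIntegral (ρ ⁻¹ᵁ U) := isIntegral_of_isOpenImmersion (ρ ⁻¹ᵁ U).ι
  have hgen : ρ (genericPoint X') = genericPoint X := by
    rw [← genericPoint_eq_of_isOpenImmersion (ρ ⁻¹ᵁ U).ι, ← Scheme.Hom.comp_apply, ← morphismRestrict_ι,
      Scheme.Hom.comp_apply, genericPoint_eq_of_isOpenImmersion (ρ ∣_ U), genericPoint_eq_of_isOpenImmersion U.ι]
  have hbir : IsIso (ρ.stalkMap (genericPoint X')) := by
    refine LocImmersion.BirationalNormal.isIso_stalkMap_of_eq ρ
      (genericPoint_eq_of_isOpenImmersion (ρ ⁻¹ᵁ U).ι) ?_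
    have h1 : IsIso (((ρ ⁻¹ᵁ U).ι ≫ ρ).stalkMap (genericPoint (ρ ⁻¹ᵁ U))) := by
      rw [Scheme.Hom.stalkMap_congr_hom _ _ (morphismRestrict_ι ρ U).symm]
      infer_instance
    rw [Scheme.Hom.stalkMap_comp] at h1
    exact @IsIso.of_isIso_comp_right _ _ _ _ _ _ ((ρ ⁻¹ᵁ U).ι.stalkMap _) inferInstance h1
  haveI := isIso_unitToPush ρ (fun x => (hn x).2) hgen hbir
  let e1 := Groth.EulerDeg.hEquiv R (asIso (ClSub.unitToPush ρ)) 1
  obtain ⟨e2⟩ := nonempty_pushLin_one ρ hρ (Coh.structureModule X') hz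
  exact ⟨hz, e1.bijective, ⟨e1.trans e2⟩⟩

end Groth.ModelsGraphs.RatSingPush
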