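import Groth.Agent.ModelsGraphs.InterForm
import Groth.Agent.EulerDeg.LineBundle
import Groth.Agent.NeronArea.WeilExtensionBase
import Groth.Agent.SmoothWeil.Geom
import Groth.Agent.PnCoh.Euler
import Groth.Agent.PnCoh.GlobalFun
import Groth.Agent.Chow.ToPn
import Groth.Agent.PicAux.Powers

/-!
# A smooth proper model has no exceptional curve
-/

set_option autoImplicit false

universe u

open CategoryTheory CategoryTheory.Limits AlgebraicGeometry TopologicalSpace
open Groth.DivisorLength (eta)

namespace Groth.ModelsGraphs.SmoothMinimal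

open Groth.ModelsGraphs.Inter Groth.ModelsGraphs.InterPair Groth.ModelsGraphs.InterForm

variable {R : Type u} [CommRing R] [IsDomain R] [IsDiscreteValuationRing R]
  {X : Over (Spec (CommRingCat.of R))} [Flat X.hom] [IsProper X.hom]

local notation "kR" => IsLocalRing.ResidueField R

omit [IsProper X.hom] in
lemma range_subset_fibre (Γ : ArSurf.VertComp R X) :
    Set.range Γ.ι.base ⊆ Models.specialFibreSet R X := by
  rintro _ ⟨c, rfl⟩
  change X.hom (Γ.ι c) = IsLocalRing.closedPoint R
  rw [← Scheme.Hom.comp_apply, Γ.w, Scheme.Hom.comp_apply,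
    Subsingleton.elim (Γ.curve.hom c) (IsLocalRing.closedPoint kR)]
  exact IsLocalRing.comap_closedPoint (IsLocalRing.residue R)

/-- A vertical curve which is a Cartier divisor is a component of the closed fibre. -/
theorem mem_fibreComponents_of_isEffCartier (hreg : Models.IsRegularScheme X.left)
    {Γ : ArSurf.VertComp R X} (hΓ : BlowUp.IsEffCartierIdeal Γ.ι.ker) :
    Set.range Γ.ι.base ∈ Models.fibreComponents R X := by
  haveI : IsLocallyNoetherian X.left := LocallyOfFiniteType.isLocallyNoetherian X.hom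
  haveI := Γ.isIntegral
  have hξ := isGenericPoint_genPtOf Γ
  refine ⟨⟨by rw [← hξ.def]; exact isIrreducible_singleton.closure, range_subset_fibre Γ⟩,
    fun S hS hle => ?_⟩
  obtain ⟨y, hy⟩ := QuasiSober.sober hS.1.closure isClosed_closure
  have hyS : y ∈ Models.specialFibreSet R X :=
    closure_minimal hS.2 (Models.isClosed_specialFibreSet R X) hy.mem
  suffices h : y = Models.genPtOf R X Γ by
    refine subset_closure.trans ?_
    rw [← hy.def, h, hξ.def]
  have hyξ : y ⤳ Models.genPtOf R X Γ := hy.specializes (subset_closure (hle hξ.mem))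
  by_contra hne
  obtain ⟨W, hW, a, -, ha⟩ := hΓ (Models.genPtOf R X Γ)
  have hyW : y ∈ W.1 := hyξ.mem_open W.1.2 hW
  haveI : IsNoetherianRing Γ(X.left, W.1) := IsLocallyNoetherian.component_noetherian W
  have he : eta Γ.ι.ker = Models.genPtOf R X Γ := eta_ker Γ
  have hP : Γ.ι.ker.ideal W = (W.2.primeIdealOf ⟨_, hW⟩).asIdeal := by
    have hW' : eta Γ.ι.ker ∈ W.1 := by rw [he]; exact hW
    rw [← Groth.DivisorLength.primeIdealOf_eta Γ.ι.ker hW']
    congr 2
    exact Subtype.ext he
  have h1 : (W.2.primeIdealOf ⟨_, hW⟩).asIdeal.height ≤ 1 := by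
    rw [← hP, ha]
    refine Ideal.height_le_one_of_isPrincipal_of_mem_minimalPrimes (Ideal.span {a}) _ ?_
    rw [← ha, hP, Ideal.minimalPrimes_eq_subsingleton_self]
    exact Set.mem_singleton _
  have hlt : (W.2.primeIdealOf ⟨y, hyW⟩).asIdeal < (W.2.primeIdealOf ⟨_, hW⟩).asIdeal :=
    lt_of_le_of_ne ((Groth.DivisorLength.specializes_iff hyW hW).1 hyξ)
      fun h2 => hne (Groth.DivisorLength.eq_of_primeIdealOf_eq hyW hW h2)
  have h3 := (Ideal.height_strict_mono_of_isPrime_of_isPrime hlt).trans_le h1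
  rw [ENat.lt_one_iff_eq_zero] at h3
  have h4 := Groth.DivisorLength.dim_stalk hyW
  rw [h3] at h4
  haveI := hreg y
  haveI := isDomain_stalk hreg y
  obtain ⟨π, hπ⟩ := IsDiscreteValuationRing.exists_irreducible R
  have hfld : IsField (X.left.presheaf.stalk y) := by
    haveI : Ring.KrullDimLE 0 (X.left.presheaf.stalk y) := Ring.krullDimLE_iff.2 (le_of_eq h4)
    exact Ring.KrullDimLE.isField_of_isDomain
  letI := hfld.toField
  exact (mem_specialFibreSet_iff hπ y).1 hyS (isUnit_iff_ne_zero.2 (stalkHom_ne_zero hπ.ne_zero y))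

/-- The closed fibre of a smooth proper model with `H⁰ = R` is irreducible. -/
theorem isPreirreducible_fibre [Smooth X.hom] (hH0 : Function.Bijective (Coh.toGlobal X.hom)) :
    IsPreirreducible (Models.specialFibreSet R X) := by
  let σ := Spec.map (CommRingCat.ofHom (IsLocalRing.residue R))
  let Z := pullback X.hom σ
  haveI : IsClosedImmersion σ := IsClosedImmersion.spec_of_surjective _ IsLocalRing.residue_surjective
  letI : Z.Over (Spec (CommRingCat.of kR)) := ⟨pullback.snd _ _⟩
  haveI : Smooth (Z ↘ Spec (CommRingCat.of kR)) := inferInstanceAs (Smooth (pullback.snd X.hom σ))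
  haveI : IsLocallyNoetherian Z :=
    LocallyOfFiniteType.isLocallyNoetherian (Z ↘ Spec (CommRingCat.of kR))
  have hrange : Set.range (pullback.fst X.hom σ).base = Models.specialFibreSet R X := by
    rw [Scheme.Pullback.range_fst]
    congr 1
    ext s
    constructor
    · rintro ⟨c, rfl⟩
      rw [Subsingleton.elim c (IsLocalRing.closedPoint kR)]
      exact IsLocalRing.comap_closedPoint (IsLocalRing.residue R)
    · intro hs
      exact ⟨IsLocalRing.closedPoint kR, (IsLocalRing.comap_closedPoint (IsLocalRing.residue R)).trans hs.symm⟩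
  rw [← hrange]
  rcases isEmpty_or_nonempty Z with hZ | hZ
  · rw [Set.range_eq_empty]
    exact isPreirreducible_empty
  haveI : ConnectedSpace Z := by
    refine { toPreconnectedSpace := ?_, toNonempty := hZ }
    refine preconnectedSpace_iff_univ.2 ?_
    refine (pullback.fst X.hom σ).isClosedEmbedding.isInducing.isPreconnected_image.1 ?_
    rw [Set.image_univ, hrange]
    exact Connected.isPreconnected_closedFibre X.hom hH0
  haveI : IrreducibleSpace Z := Groth.SmoothWeil.irreducibleSpace_of_connected Z fun z => by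
    haveI := Groth.VarietyBC.isRegularLocalRing_of_mem_smoothLocus (k := kR) (X := Z) (x := z)
      (by rw [Scheme.Hom.smoothLocus_eq_top]; trivial)
    exact Groth.Ega4Algebra1.isDomain_of_isRegularLocalRing _
  rw [← Set.image_univ]
  exact (IrreducibleSpace.isIrreducible_univ Z).isPreirreducible.image _
    (pullback.fst X.hom σ).continuous.continuousOn

/-- No vertical curve of a smooth proper model is exceptional of the first kind. -/
theorem not_isExcCurve [Smooth X.hom] (hH0 : Function.Bijective (Coh.toGlobal X.hom))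
    (Γ : ArSurf.VertComp R X) : ¬ Models.IsExcCurve Γ.ι := by
  rintro ⟨hD, k₀, _, e, ⟨t⟩⟩
  haveI : IsLocallyNoetherian X.left := LocallyOfFiniteType.isLocallyNoetherian X.hom
  haveI : CompactSpace X.left := QuasiCompact.compactSpace_of_compactSpace X.hom
  have hreg : Models.IsRegularScheme X.left := fun x =>
    Groth.NeronArea.Weil.isRegularLocalRing_of_smooth_dedekind X.hom x
  have hmem := mem_fibreComponents_of_isEffCartier hreg hD
  haveI := Γ.isIntegral
  haveI : IsProper (Γ.curve.left ↘ Spec (CommRingCat.of kR)) := isProper_hom Γ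
  have hlist : Models.IsComponentList R X ![Γ] := by
    refine ⟨fun i j _ => Subsingleton.elim i j, Set.Subset.antisymm ?_ ?_⟩
    · rintro _ ⟨i, rfl⟩
      fin_cases i
      exact hmem
    · intro S hS
      refine ⟨0, ?_⟩
      have hirr : IsIrreducible (Models.specialFibreSet R X) :=
        ⟨⟨_, genPtOf_mem hmem⟩, isPreirreducible_fibre hH0⟩
      have h1 : Models.specialFibreSet R X ⊆ Set.range Γ.ι.base :=
        hmem.2 ⟨hirr, subset_rfl⟩ (range_subset_fibre Γ)
      exact Set.Subset.antisymm (hS.2 hmem.1 (hS.1.2.trans h1)) (hS.1.2.trans h1)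
  obtain ⟨M, -, hM⟩ := Groth.PicAux.exists_isInverseOf (Groth.PicAux.isInvertible_idealMod hD)
  have hL : ∀ i : Fin 1, ClSub.IsInverseOf (![M] i) (ClSub.idealMod ((![Γ] i).ι.ker)) := fun i => by
    fin_cases i
    exact Groth.PicAux.isInverseOf_symm hM
  -- the conormal bundle has degree zero
  have h0 := InterForm.sum_mult_mul_inter hreg hlist hL 0
  rw [Fin.sum_univ_one] at h0
  have hδ : δ Γ (ClSub.idealMod Γ.ι.ker) = 0 := by
    have h1 : ArSurf.inter R X M Γ = 0 :=
      (mul_eq_zero.1 h0).resolve_left (Int.natCast_ne_zero.2 (mult_pos hreg hmem).ne')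
    rw [δ_eq_inter, δ_inverse Γ (Groth.PicAux.isInverseOf_symm hM)] at h1
    linarith
  let N := (Scheme.Modules.pullback Γ.ι).obj (ClSub.idealMod Γ.ι.ker)
  have hN : PicF.IsInvertible N :=
    Groth.PicAux.isInvertible_pullback Γ.ι (Groth.PicAux.isInvertible_idealMod hD)
  -- the tautological bundle has a non-zero section
  let P := CohB1.ProjSpace 1 k₀
  letI : P.Over (Spec (CommRingCat.of k₀)) := ⟨CohB1.ProjSpace.toSpec 1 k₀⟩
  let O1 : P.Modules := Twist.twistProjSpace 1 k₀ 1
  have hh1 : Module.finrank k₀ (Coh.HH P O1 0) = 2 := Groth.PnCoh.finrank_h0 k₀ 1 1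
  have hh0 : Module.finrank k₀ (Coh.HH P (Coh.structureModule P) 0) = 1 := by
    obtain ⟨e0⟩ := Groth.PnCoh.nonempty_twist_zero_iso (CohB1.polyGrading 1 k₀)
    let e0' : Twist.twistProjSpace 1 k₀ ((0 : ℕ) : ℤ) ≅ Coh.structureModule P := e0
    rw [← Groth.EulerDeg.finrank_congr (k := k₀) e0' 0]
    exact Groth.PnCoh.finrank_h0 k₀ 1 0
  obtain ⟨s, hs⟩ : ∃ s : Γ(O1, ⊤), s ≠ 0 := by
    by_contra hcon
    simp only [ne_eq, not_exists, not_not] at hcon
    haveI : Subsingleton (Coh.HH P O1 0) :=
      (Groth.CohFin.equivSections (CohB1.ProjSpace.toSpec 1 k₀) O1).toEquiv.subsingleton_congr.2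
        ⟨fun a b => (hcon a).trans (hcon b).symm⟩
    rw [Module.finrank_zero_of_subsingleton] at hh1
    omega
  let σ₁ := Groth.PicAux.homOfSection s
  have hσ₁ : σ₁ ≠ 0 := fun h => hs (by
    rw [← Groth.PicAux.homOfSection_one s]
    change σ₁.app ⊤ _ = 0
    rw [h]
    rfl)
  let pb := Scheme.Modules.pullback e.inv
  let c : pb.obj O1 ≅ N := pb.mapIso (t.symm ≪≫ ((Scheme.Modules.pullbackComp e.hom Γ.ι).app _).symm) ≪≫
    (Scheme.Modules.pullbackComp e.inv e.hom).app _ ≪≫
    (Scheme.Modules.pullbackCongr e.inv_hom_id).app _ ≪≫ (Scheme.Modules.pullbackId _).app _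
  let o := (Groth.PicAux.pullback_structure_iso e.inv).some
  let σ₂ : Coh.structureModule Γ.curve.left ⟶ N := o.inv ≫ pb.map σ₁ ≫ c.hom
  have hσ₂ : σ₂ ≠ 0 := by
    intro h
    apply hσ₁
    have h1 : pb.map σ₁ = 0 := by
      rw [← cancel_mono c.hom, ← cancel_epi o.inv, zero_comp, comp_zero]
      exact h
    let θ : Scheme.Modules.pullback e.inv ⋙ Scheme.Modules.pullback e.hom ≅ 𝟭 P.Modules :=
      Scheme.Modules.pullbackComp e.hom e.inv ≪≫ Scheme.Modules.pullbackCongr e.hom_inv_id ≪≫
        Scheme.Modules.pullbackId _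
    have h2 := θ.hom.naturality σ₁
    rw [Functor.comp_map, show (Scheme.Modules.pullback e.inv).map σ₁ = 0 from h1, Functor.map_zero,
      zero_comp] at h2
    exact (cancel_epi (θ.hom.app _)).1 (h2.symm.trans comp_zero.symm)
  have hdeg := Groth.EulerDeg.deg_le_and_isIso (Groth.EulerDeg.isInvertible_structureModule _) hN hσ₂
    kR (le_of_eq Γ.dim_eq)
  rw [Groth.EulerDeg.deg_structure] at hdeg
  haveI : IsIso σ₂ := hdeg.2 (le_of_eq hδ)
  obtain ⟨o'⟩ := Groth.PicAux.pullback_structure_iso e.hom
  have i1 : O1 ≅ Coh.structureModule P :=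
    t.symm ≪≫ ((Scheme.Modules.pullbackComp e.hom Γ.ι).app _).symm ≪≫
      (Scheme.Modules.pullback e.hom).mapIso (asIso σ₂).symm ≪≫ o'
  rw [Groth.EulerDeg.finrank_congr (k := k₀) i1 0, hh0] at hh1
  omega

end Groth.ModelsGraphs.SmoothMinimal
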