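import Groth.Agent.ModelsGraphs.Test

/-! Affine diagrams as test configurations, and their consequences for configurations of (-2)-indices. -/

namespace Groth.ModelsGraphs

open Finset Matrix Models

variable {n : ℕ} (T : NumericalType n)

/-- A path of (-2)-indices `p 0, …, p (t-1)`. -/
structure IsPath (p : ℕ → Fin n) (t : ℕ) : Prop where
  inj : Set.InjOn p (Set.Iio t)
  two : ∀ i < t, T.IsMinusTwo (p i)
  adj : ∀ i, i + 1 < t → 0 < T.a (p i) (p (i + 1))

/-- Both weights equal the intersection number. -/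
def Simple (i j : Fin n) : Prop := T.a i j = T.w i ∧ T.a i j = T.w j

/-- The square of the normalised intersection number is at least two. -/
def Big (i j : Fin n) : Prop := 0 < T.a i j ∧ 2 * (T.w i * T.w j) ≤ T.a i j * T.a i j

theorem Simple.symm {T : NumericalType n} {i j : Fin n} (h : Simple T i j) : Simple T j i :=
  ⟨(a_comm T j i).trans h.2, (a_comm T j i).trans h.1⟩

theorem Big.symm {T : NumericalType n} {i j : Fin n} (h : Big T i j) : Big T j i :=
  ⟨a_comm T j i ▸ h.1, by rw [mul_comm (T.w j), a_comm T j i]; exact h.2⟩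

theorem exists_pq {i j : Fin n} (h : 0 < T.a i j) :
    ∃ p q : ℤ, 1 ≤ p ∧ 1 ≤ q ∧ T.a i j = p * T.w i ∧ T.a i j = q * T.w j ∧
      T.a i j * T.a i j = p * q * (T.w i * T.w j) := by
  obtain ⟨p, hp⟩ := T.w_dvd i j
  obtain ⟨q, hq⟩ := w_dvd' T i j
  have h1 := T.w_pos i
  have h2 := T.w_pos j
  refine ⟨p, q, by nlinarith, by nlinarith, by rw [hp]; ring, by rw [hq]; ring, ?_⟩
  nth_rewrite 1 [hp]
  nth_rewrite 1 [hq]
  ring

theorem simple_or_big {i j : Fin n} (h : 0 < T.a i j) : Simple T i j ∨ Big T i j := by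
  obtain ⟨p, q, hp, hq, ha, ha', haa⟩ := exists_pq T h
  by_cases hpq : p = 1 ∧ q = 1
  · exact Or.inl ⟨by rw [ha, hpq.1, one_mul], by rw [ha', hpq.2, one_mul]⟩
  · refine Or.inr ⟨h, haa ▸ mul_le_mul_of_nonneg_right ?_ (mul_pos (T.w_pos i) (T.w_pos j)).le⟩
    rcases not_and_or.1 hpq with h1 | h1
    · have : 2 ≤ p := by omega
      nlinarith
    · have : 2 ≤ q := by omega
      nlinarith

theorem Big.le_nA {T : NumericalType n} {i j : Fin n} (h : Big T i j) : Real.sqrt 2 ≤ nA T i j :=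
  Groth.ModelsGraphs.le_nA T (ne_of_pos T h.1) (Real.sqrt_nonneg _)
    (by rw [Real.sq_sqrt zero_le_two]; simpa using le_nA_sq T h.2)

theorem ne_of_path {p : ℕ → Fin n} {t : ℕ} (h : IsPath T p t) {i j : ℕ} (hi : i < t) (hj : j < t)
    (hij : i ≠ j) : p i ≠ p j :=
  fun e => hij (h.inj hi hj e)

/-- A cycle of (-2)-indices is the whole type. -/
theorem cycle_test {p : ℕ → Fin n} {t : ℕ} (ht : 3 ≤ t) (h : IsPath T p t) (hc : 0 < T.a (p (t - 1)) (p 0)) :
    n = t ∧ (∃ q : ℝ, 0 < q ∧ ∀ i < t, nu T (p i) = q) ∧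
      (∀ i, i + 1 < t → nA T (p i) (p (i + 1)) = 1) ∧ nA T (p (t - 1)) (p 0) = 1 ∧
      ∀ i k, i + 1 < k → k < t → ¬ (i = 0 ∧ k + 1 = t) → T.a (p i) (p k) = 0 := by
  have : Nonempty (Fin t) := ⟨⟨0, by omega⟩⟩
  let v : Fin t ↪ Fin n := ⟨fun i => p i, fun a b e => Fin.ext (h.inj a.2 b.2 e)⟩
  let nx : Fin t → Fin t := fun x => if hx : x.val + 1 < t then ⟨x + 1, hx⟩ else ⟨0, by omega⟩
  have hnx : ∀ x : Fin t, (nx x).val = if x.val + 1 < t then x.val + 1 else 0 := fun x => by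
    simp only [nx]; split_ifs <;> rfl
  obtain ⟨hs, ⟨q, hq0, hq⟩, hl, hz⟩ := config_test T v (fun j => h.two j j.2) (fun x => (x, nx x))
    (by
      intro a b e
      rcases Sym2.eq_iff.1 e with h' | h'
      · exact h'.1
      · have h1 := congrArg Fin.val h'.1
        have h2 := congrArg Fin.val h'.2
        simp only [hnx] at h1 h2
        ext
        split_ifs at h1 h2 <;> omega)
    (fun x e => by
      have h1 := congrArg Fin.val e
      simp only [hnx] at h1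
      split_ifs at h1 <;> omega)
    (fun _ => 1) (fun x => one_le_nA T (by
      show 0 < T.a (p x) (p (nx x))
      rw [hnx]
      split_ifs with hx
      · exact h.adj x hx
      · rwa [show (x : ℕ) = t - 1 by have := x.2; omega]))
    (fun _ => 1) (fun _ => one_pos) (by simp)
  have hn : n = t := by
    have h1 := Fintype.card_le_of_surjective v hs
    have h2 := Fintype.card_le_of_embedding v
    simp only [Fintype.card_fin] at h1 h2
    omega
  refine ⟨hn, ⟨q, hq0, fun i hi => (hq ⟨i, hi⟩).trans (mul_one q)⟩, fun i hi => ?_, ?_, fun i k hik hk hne => ?_⟩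
  · have := hl ⟨i, by omega⟩
    simp only [v, Function.Embedding.coeFn_mk, hnx, if_pos hi] at this
    exact this.symm
  · have := hl ⟨t - 1, by omega⟩
    simp only [v, Function.Embedding.coeFn_mk, hnx, if_neg (show ¬ t - 1 + 1 < t by omega)] at this
    exact this.symm
  · refine hz ⟨i, by omega⟩ ⟨k, hk⟩ (fun e => by simp at e; omega) fun x e => ?_
    rcases Sym2.eq_iff.1 e with h' | h' <;>
    · have h1 := congrArg Fin.val h'.1
      have h2 := congrArg Fin.val h'.2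
      simp only [hnx] at h1 h2
      split_ifs at h2 <;> omega

theorem cycle_false {p : ℕ → Fin n} {t : ℕ} (ht : 3 ≤ t) (htn : t < n) (h : IsPath T p t)
    (hc : 0 < T.a (p (t - 1)) (p 0)) : False := by
  have := (cycle_test T ht h hc).1
  omega

/-- A path whose two ends carry endings (a fork, or a double edge) is the whole type. -/
theorem ends_test {k : ℕ} {α β : Type*} [Fintype α] [Fintype β]
    (v : Fin (k + 1) ⊕ (α ⊕ β) ↪ Fin n) (hv : ∀ x, T.IsMinusTwo (v x))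
    (hp : ∀ i : Fin k, 0 < T.a (v (.inl i.castSucc)) (v (.inl i.succ)))
    (la ya : α → ℝ) (lb yb : β → ℝ) (hya : ∀ a, 0 < ya a) (hyb : ∀ b, 0 < yb b)
    (ha1 : ∑ a, ya a ^ 2 = 2) (ha2 : ∑ a, la a * ya a = 2) (hb1 : ∑ b, yb b ^ 2 = 2) (hb2 : ∑ b, lb b * yb b = 2)
    (hla : ∀ a, la a ≤ nA T (v (.inl 0)) (v (.inr (.inl a))))
    (hlb : ∀ b, lb b ≤ nA T (v (.inl (Fin.last k))) (v (.inr (.inr b)))) :
    Function.Surjective v ∧
      (∃ q : ℝ, 0 < q ∧ (∀ i, nu T (v (.inl i)) = 2 * q) ∧ (∀ a, nu T (v (.inr (.inl a))) = q * ya a) ∧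
        ∀ b, nu T (v (.inr (.inr b))) = q * yb b) ∧
      (∀ i : Fin k, nA T (v (.inl i.castSucc)) (v (.inl i.succ)) = 1) ∧
      (∀ a, nA T (v (.inl 0)) (v (.inr (.inl a))) = la a) ∧
      (∀ b, nA T (v (.inl (Fin.last k))) (v (.inr (.inr b))) = lb b) ∧
      (∀ i j : Fin (k + 1), i.val + 1 < j.val → T.a (v (.inl i)) (v (.inl j)) = 0) ∧
      (∀ a (i : Fin (k + 1)), i ≠ 0 → T.a (v (.inl i)) (v (.inr (.inl a))) = 0) ∧
      (∀ b (i : Fin (k + 1)), i ≠ Fin.last k → T.a (v (.inl i)) (v (.inr (.inr b))) = 0) ∧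
      ∀ x y : α ⊕ β, x ≠ y → T.a (v (.inr x)) (v (.inr y)) = 0 := by
  let e : Fin k ⊕ (α ⊕ β) → (Fin (k + 1) ⊕ (α ⊕ β)) × (Fin (k + 1) ⊕ (α ⊕ β)) :=
    Sum.elim (fun i => (.inl i.castSucc, .inl i.succ))
      (Sum.elim (fun a => (.inl 0, .inr (.inl a))) (fun b => (.inl (Fin.last k), .inr (.inr b))))
  obtain ⟨hs, ⟨q, hq0, hq⟩, hl, hz⟩ := config_test T v hv e
    (by
      rintro (i | a | b) (j | c | d) hh <;>
        simp only [e, Sum.elim_inl, Sum.elim_inr, Sym2.eq_iff, Sum.inl.injEq, Sum.inr.injEq, reduceCtorEq, and_false,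
          false_and, or_false, false_or] at hh <;>
        first
        | exact congrArg _ (by simp only [hh.2])
        | (rcases hh with h | h
           · exact congrArg _ (Fin.castSucc_injective _ h.1)
           · have h1 := congrArg Fin.val h.1
             have h2 := congrArg Fin.val h.2
             simp at h1 h2
             omega))
    (by
      rintro (i | a | b) <;>
        simp only [e, Sum.elim_inl, Sum.elim_inr, ne_eq, Sum.inl.injEq, reduceCtorEq, not_false_iff]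
      exact (Fin.castSucc_lt_succ (i := i)).ne)
    (Sum.elim (fun _ => 1) (Sum.elim la lb))
    (by
      rintro (i | a | b)
      exacts [one_le_nA T (hp i), hla a, hlb b])
    (Sum.elim (fun _ => 2) (Sum.elim ya yb))
    (by
      rintro (i | a | b)
      exacts [two_pos, hya a, hyb b])
    (by
      have e1 : ∀ a, la a * 2 * ya a = 2 * (la a * ya a) := fun a => by ring
      have e2 : ∀ b, lb b * 2 * yb b = 2 * (lb b * yb b) := fun b => by ring
      simp only [Fintype.sum_sum_type, e, Sum.elim_inl, Sum.elim_inr, sum_const, card_univ, Fintype.card_fin,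
        nsmul_eq_mul, e1, e2, ← mul_sum, ha1, ha2, hb1, hb2]
      push_cast
      linarith)
  refine ⟨hs, ⟨q, hq0, fun i => (hq (.inl i)).trans (mul_comm _ _), fun a => hq (.inr (.inl a)),
    fun b => hq (.inr (.inr b))⟩, fun i => (hl (.inl i)).symm, fun a => (hl (.inr (.inl a))).symm,
    fun b => (hl (.inr (.inr b))).symm, fun i j hij => ?_, fun a i hi => ?_, fun b i hi => ?_, fun x y hxy => ?_⟩
  · refine hz _ _ (fun h => ?_) fun x h => ?_
    · simp only [Sum.inl.injEq] at h; subst h; omega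
    · rcases x with z | a | b <;> simp [e] at h
      rcases h with h | h <;>
      · have h1 := congrArg Fin.val h.1
        have h2 := congrArg Fin.val h.2
        simp at h1 h2
        omega
  · refine hz _ _ (by simp) fun x h => ?_
    rcases x with z | c | d <;> simp [e] at h
    exact hi h.1.symm
  · refine hz _ _ (by simp) fun x h => ?_
    rcases x with z | c | d <;> simp [e] at h
    exact hi h.1.symm
  · refine hz _ _ (by simpa using hxy) fun z h => ?_
    rcases z with z | c | d <;> simp [e] at h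

/-- A fork or a double edge at the end of a configuration. -/
theorem ending_fork : (∑ _a : Fin 2, (1 : ℝ) ^ 2 = 2) ∧ ∑ _a : Fin 2, (1 : ℝ) * 1 = 2 := by norm_num

theorem ending_double : (∑ _a : Fin 1, Real.sqrt 2 ^ 2 = 2) ∧ ∑ _a : Fin 1, Real.sqrt 2 * Real.sqrt 2 = 2 := by
  simp

/-- A vertex joined to a set of others: the squares of the normalised numbers sum to less than four,
unless this is the whole type. -/
theorem star_test (c : Fin n) {α : Type*} [Fintype α] (x : α → Fin n) (hx : Function.Injective x)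
    (hne : ∀ a, x a ≠ c) (hc : T.IsMinusTwo c) (h2 : ∀ a, T.IsMinusTwo (x a)) (hpos : ∀ a, 0 < T.a c (x a))
    (l : α → ℝ) (hl0 : ∀ a, 0 < l a) (hl : ∀ a, l a ≤ nA T c (x a)) (h4 : 4 ≤ ∑ a, l a ^ 2) :
    n = Fintype.card α + 1 ∧ (∀ a, nA T c (x a) = l a) ∧ (∀ a b, a ≠ b → T.a (x a) (x b) = 0) ∧
      ∃ q : ℝ, 0 < q ∧ nu T c = q ∧ ∀ a, nu T (x a) = q * (l a / 2) := by
  let v : Option α ↪ Fin n := ⟨fun o => o.elim c x, by
    rintro (_ | a) (_ | b) h
    exacts [rfl, absurd h.symm (hne b), absurd h (hne a), congrArg _ (hx h)]⟩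
  obtain ⟨hs, ⟨q, hq0, hq⟩, hle, hz⟩ := config_test T v
    (by rintro (_ | a); exacts [hc, h2 a]) (fun a => (none, some a))
    (fun a b h => by simpa using h) (fun a => by simp) l hl (fun o => o.elim 1 fun a => l a / 2)
    (by rintro (_ | a); exacts [one_pos, half_pos (hl0 a)])
    (by
      have e1 : ∀ a, l a * 1 * (l a / 2) = l a ^ 2 / 2 := fun a => by ring
      have e2 : ∀ a, (l a / 2) ^ 2 = l a ^ 2 / 4 := fun a => by ring
      simp only [Fintype.sum_option, Option.elim, e1, e2, ← sum_div]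
      linarith)
  refine ⟨?_, fun a => (hle a).symm, fun a b hab => hz (some a) (some b) (by simpa using hab) (fun z => by simp),
    q, hq0, (hq none).trans (mul_one q), fun a => hq (some a)⟩
  have h1 := Fintype.card_le_of_surjective v hs
  have h3 := Fintype.card_le_of_embedding v
  simp only [Fintype.card_fin, Fintype.card_option] at h1 h3
  omega

theorem star_false (c : Fin n) {t : ℕ} (x : Fin t → Fin n) (hx : Function.Injective x) (ht : t + 1 < n)
    (hne : ∀ a, x a ≠ c) (hc : T.IsMinusTwo c) (h2 : ∀ a, T.IsMinusTwo (x a)) (hpos : ∀ a, 0 < T.a c (x a))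
    (k : Fin t → ℤ) (hk : ∀ a, k a * (T.w c * T.w (x a)) ≤ T.a c (x a) * T.a c (x a)) (hk0 : ∀ a, 1 ≤ k a)
    (h4 : 4 ≤ ∑ a, k a) : False := by
  have hk1 : ∀ a, (1 : ℝ) ≤ (k a : ℝ) := fun a => by exact_mod_cast hk0 a
  have h := (star_test T c x hx hne hc h2 hpos (fun a => Real.sqrt (k a))
    (fun a => Real.sqrt_pos.2 (by linarith [hk1 a]))
    (fun a => le_nA T (hne a).symm (Real.sqrt_nonneg _)
      (by rw [Real.sq_sqrt (by linarith [hk1 a])]; exact le_nA_sq T (hk a)))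
    (by
      rw [sum_congr rfl fun a _ => Real.sq_sqrt (by linarith [hk1 a] : (0 : ℝ) ≤ k a)]
      exact_mod_cast h4)).1
  rw [Fintype.card_fin] at h
  omega

theorem star4_false (hn : 5 < n) (c x₁ x₂ x₃ x₄ : Fin n) (hx : Function.Injective ![x₁, x₂, x₃, x₄])
    (h : T.IsMinusTwo c) (hh : ∀ a, T.IsMinusTwo (![x₁, x₂, x₃, x₄] a))
    (hp : ∀ a, 0 < T.a c (![x₁, x₂, x₃, x₄] a)) : False :=
  star_false T c _ hx (by omega) (fun a => (ne_of_pos T (hp a)).symm) h hh hp (fun _ => 1)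
    (fun a => ww_le_aa T (hp a)) (fun _ => le_rfl) (by simp)

theorem pair_class (hn : 2 < n) {i j : Fin n} (hi : T.IsMinusTwo i) (hj : T.IsMinusTwo j) (h : 0 < T.a i j) :
    Simple T i j ∨ (T.a i j = 2 * T.w i ∧ T.w j = 2 * T.w i) ∨ (T.a i j = 2 * T.w j ∧ T.w i = 2 * T.w j) ∨
      (T.a i j = 3 * T.w i ∧ T.w j = 3 * T.w i) ∨ (T.a i j = 3 * T.w j ∧ T.w i = 3 * T.w j) := by
  obtain ⟨p, q, hp, hq, ha, ha', haa⟩ := exists_pq T h
  have h4 : ¬ 4 ≤ p * q := fun h4 =>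
    star_false T i ![j] (fun a b _ => Subsingleton.elim a b) (by omega)
      (fun a => by simpa using (ne_of_pos T h).symm) hi (fun a => by simpa using hj) (fun a => by simpa using h)
      (fun _ => p * q) (fun a => by simpa using haa.ge) (fun _ => by nlinarith) (by simpa using h4)
  have hp3 : p ≤ 3 := by nlinarith
  have hq3 : q ≤ 3 := by nlinarith
  unfold Simple
  interval_cases p <;> interval_cases q <;> omega

/-- The middle of three is joined to each side by at most a double edge, and not both double. -/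
theorem mid_class (hn : 3 < n) {i c k : Fin n} (hik : i ≠ k) (hi : T.IsMinusTwo i) (hc : T.IsMinusTwo c)
    (hk : T.IsMinusTwo k) (h1 : 0 < T.a c i) (h2 : 0 < T.a c k) :
    (Simple T c i ∨ (T.a c i = 2 * T.w c ∧ T.w i = 2 * T.w c) ∨ (T.a c i = 2 * T.w i ∧ T.w c = 2 * T.w i)) ∧
      (Simple T c i ∨ Simple T c k) := by
  have key : ∀ a b : ℤ, 1 ≤ a → 1 ≤ b → a * (T.w c * T.w i) ≤ T.a c i * T.a c i →
      b * (T.w c * T.w k) ≤ T.a c k * T.a c k → a + b < 4 := by
    intro a b ha hb hA hB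
    by_contra hh
    exact star_false T c ![i, k] (by intro x y e; fin_cases x <;> fin_cases y <;> simp_all [eq_comm]) (by omega)
      (Fin.forall_fin_two.2 ⟨(ne_of_pos T h1).symm, (ne_of_pos T h2).symm⟩) hc
      (Fin.forall_fin_two.2 ⟨hi, hk⟩) (Fin.forall_fin_two.2 ⟨h1, h2⟩) ![a, b]
      (Fin.forall_fin_two.2 ⟨hA, hB⟩) (Fin.forall_fin_two.2 ⟨ha, hb⟩) (by simp; omega)
  constructor
  · rcases pair_class T (by omega) hc hi h1 with h | h | h | ⟨ha, hw⟩ | ⟨ha, hw⟩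
    · exact Or.inl h
    · exact Or.inr (Or.inl h)
    · exact Or.inr (Or.inr h)
    all_goals
      have := key 3 1 (by norm_num) le_rfl (by rw [ha, hw]; ring_nf; rfl) (ww_le_aa T h2)
      omega
  · rcases simple_or_big T h1 with h | hb1
    · exact Or.inl h
    rcases simple_or_big T h2 with h | hb2
    · exact Or.inr h
    have := key 2 2 (by norm_num) (by norm_num) hb1.2 hb2.2
    omega

/-- Next to a branch vertex all edges are simple. -/
theorem branch_simple (hn : 4 < n) {c x y z : Fin n} (hxy : x ≠ y) (hxz : x ≠ z) (hyz : y ≠ z)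
    (hc : T.IsMinusTwo c) (hx : T.IsMinusTwo x) (hy : T.IsMinusTwo y) (hz : T.IsMinusTwo z)
    (h1 : 0 < T.a c x) (h2 : 0 < T.a c y) (h3 : 0 < T.a c z) : Simple T c x := by
  refine (simple_or_big T h1).resolve_right fun hb => star_false T c ![x, y, z] ?_ (by omega) ?_ hc ?_ ?_
    ![2, 1, 1] ?_ ?_ (by simp [Fin.sum_univ_three])
  · intro a b e; fin_cases a <;> fin_cases b <;> simp_all [eq_comm]
  all_goals intro a; fin_cases a
  all_goals first
    | exact hx | exact hy | exact hz | exact h1 | exact h2 | exact h3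
    | exact (ne_of_pos T h1).symm | exact (ne_of_pos T h2).symm | exact (ne_of_pos T h3).symm
    | exact hb.2 | exact ww_le_aa T h2 | exact ww_le_aa T h3 | norm_num

/-- No simply laced configuration of type extended F4. -/
theorem f4_test {p : ℕ → Fin n} (h : IsPath T p 5) (hb : Big T (p 2) (p 3)) :
    n = 5 ∧ nA T (p 0) (p 1) = 1 ∧ nA T (p 1) (p 2) = 1 ∧ nA T (p 2) (p 3) = Real.sqrt 2 ∧ nA T (p 3) (p 4) = 1 ∧
      T.a (p 0) (p 2) = 0 ∧ T.a (p 0) (p 3) = 0 ∧ T.a (p 0) (p 4) = 0 ∧ T.a (p 1) (p 3) = 0 ∧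
      T.a (p 1) (p 4) = 0 ∧ T.a (p 2) (p 4) = 0 ∧
      ∃ q : ℝ, 0 < q ∧ nu T (p 0) = q ∧ nu T (p 1) = 2 * q ∧ nu T (p 2) = 3 * q ∧
        nu T (p 3) = 2 * Real.sqrt 2 * q ∧ nu T (p 4) = Real.sqrt 2 * q := by
  let v : Fin 5 ↪ Fin n := ⟨fun i => p i, fun a b e => Fin.ext (h.inj a.2 b.2 e)⟩
  have hs2 : (0 : ℝ) < Real.sqrt 2 := Real.sqrt_pos.2 two_pos
  obtain ⟨hs, ⟨q, hq0, hq⟩, hl, hz⟩ := config_test T v (fun j => h.two j j.2)
    (![(0, 1), (1, 2), (2, 3), (3, 4)] : Fin 4 → Fin 5 × Fin 5) (by decide) (by decide)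
    ![1, 1, Real.sqrt 2, 1]
    (by
      intro a
      fin_cases a
      exacts [one_le_nA T (h.adj 0 (by omega)), one_le_nA T (h.adj 1 (by omega)), hb.le_nA,
        one_le_nA T (h.adj 3 (by omega))])
    ![1, 2, 3, 2 * Real.sqrt 2, Real.sqrt 2]
    (by intro a; fin_cases a <;> simp [hs2])
    (by
      simp [Fin.sum_univ_five, Fin.sum_univ_four, mul_pow]
      nlinarith [Real.mul_self_sqrt (zero_le_two (α := ℝ))])
  refine ⟨?_, (hl 0).symm, (hl 1).symm, (hl 2).symm, (hl 3).symm,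
    hz 0 2 (by decide) (by decide), hz 0 3 (by decide) (by decide), hz 0 4 (by decide) (by decide),
    hz 1 3 (by decide) (by decide), hz 1 4 (by decide) (by decide), hz 2 4 (by decide) (by decide),
    q, hq0, (hq 0).trans (mul_one q), (hq 1).trans (mul_comm _ _), (hq 2).trans (mul_comm _ _),
    (hq 3).trans (mul_comm _ _), (hq 4).trans (mul_comm _ _)⟩
  have h1 := Fintype.card_le_of_surjective v hs
  have h2 := Fintype.card_le_of_embedding v
  simp only [Fintype.card_fin] at h1 h2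
  omega

theorem e6_test (v : Fin 7 ↪ Fin n) (hv : ∀ j, T.IsMinusTwo (v j))
    (hp : ∀ x : Fin 6, 0 < T.a (v ((![(0, 1), (1, 2), (2, 3), (3, 4), (2, 5), (5, 6)] : Fin 6 → Fin 7 × Fin 7) x).1)
      (v ((![(0, 1), (1, 2), (2, 3), (3, 4), (2, 5), (5, 6)] : Fin 6 → Fin 7 × Fin 7) x).2)) :
    n = 7 ∧ (∃ q : ℝ, 0 < q ∧ ∀ j, nu T (v j) = q * (![1, 2, 3, 2, 1, 2, 1] : Fin 7 → ℝ) j) ∧
      (∀ x : Fin 6, nA T (v ((![(0, 1), (1, 2), (2, 3), (3, 4), (2, 5), (5, 6)] : Fin 6 → Fin 7 × Fin 7) x).1)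
        (v ((![(0, 1), (1, 2), (2, 3), (3, 4), (2, 5), (5, 6)] : Fin 6 → Fin 7 × Fin 7) x).2) = 1) ∧
      ∀ j k : Fin 7, j ≠ k → (∀ x, s(((![(0, 1), (1, 2), (2, 3), (3, 4), (2, 5), (5, 6)] : Fin 6 → Fin 7 × Fin 7) x).1,
        ((![(0, 1), (1, 2), (2, 3), (3, 4), (2, 5), (5, 6)] : Fin 6 → Fin 7 × Fin 7) x).2) ≠ s(j, k)) →
        T.a (v j) (v k) = 0 := by
  obtain ⟨hs, hq, hl, hz⟩ := config_test T v hv
    (![(0, 1), (1, 2), (2, 3), (3, 4), (2, 5), (5, 6)] : Fin 6 → Fin 7 × Fin 7) (by decide) (by decide)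
    (fun _ => 1) (fun x => one_le_nA T (hp x)) ![1, 2, 3, 2, 1, 2, 1]
    (by intro a; fin_cases a <;> simp) (by simp [Fin.sum_univ_succ]; norm_num)
  refine ⟨?_, hq, fun x => (hl x).symm, hz⟩
  have h1 := Fintype.card_le_of_surjective v hs
  have h2 := Fintype.card_le_of_embedding v
  simp only [Fintype.card_fin] at h1 h2
  omega

theorem e7_test (v : Fin 8 ↪ Fin n) (hv : ∀ j, T.IsMinusTwo (v j))
    (hp : ∀ x : Fin 7, 0 < T.a (v ((![(0, 1), (1, 2), (2, 3), (3, 4), (4, 5), (5, 6), (3, 7)] : Fin 7 → Fin 8 × Fin 8) x).1)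
      (v ((![(0, 1), (1, 2), (2, 3), (3, 4), (4, 5), (5, 6), (3, 7)] : Fin 7 → Fin 8 × Fin 8) x).2)) :
    n = 8 ∧ (∃ q : ℝ, 0 < q ∧ ∀ j, nu T (v j) = q * (![1, 2, 3, 4, 3, 2, 1, 2] : Fin 8 → ℝ) j) ∧
      (∀ x : Fin 7, nA T (v ((![(0, 1), (1, 2), (2, 3), (3, 4), (4, 5), (5, 6), (3, 7)] : Fin 7 → Fin 8 × Fin 8) x).1)
        (v ((![(0, 1), (1, 2), (2, 3), (3, 4), (4, 5), (5, 6), (3, 7)] : Fin 7 → Fin 8 × Fin 8) x).2) = 1) ∧
      ∀ j k : Fin 8, j ≠ k → (∀ x, s(((![(0, 1), (1, 2), (2, 3), (3, 4), (4, 5), (5, 6), (3, 7)] : Fin 7 → Fin 8 × Fin 8) x).1,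
        ((![(0, 1), (1, 2), (2, 3), (3, 4), (4, 5), (5, 6), (3, 7)] : Fin 7 → Fin 8 × Fin 8) x).2) ≠ s(j, k)) →
        T.a (v j) (v k) = 0 := by
  obtain ⟨hs, hq, hl, hz⟩ := config_test T v hv
    (![(0, 1), (1, 2), (2, 3), (3, 4), (4, 5), (5, 6), (3, 7)] : Fin 7 → Fin 8 × Fin 8) (by decide) (by decide)
    (fun _ => 1) (fun x => one_le_nA T (hp x)) ![1, 2, 3, 4, 3, 2, 1, 2]
    (by intro a; fin_cases a <;> simp) (by simp [Fin.sum_univ_succ]; norm_num)
  refine ⟨?_, hq, fun x => (hl x).symm, hz⟩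
  have h1 := Fintype.card_le_of_surjective v hs
  have h2 := Fintype.card_le_of_embedding v
  simp only [Fintype.card_fin] at h1 h2
  omega

theorem e8_test (v : Fin 9 ↪ Fin n) (hv : ∀ j, T.IsMinusTwo (v j))
    (hp : ∀ x : Fin 8, 0 < T.a (v ((![(0, 1), (1, 2), (2, 3), (3, 4), (4, 5), (5, 6), (6, 7), (5, 8)] : Fin 8 → Fin 9 × Fin 9) x).1)
      (v ((![(0, 1), (1, 2), (2, 3), (3, 4), (4, 5), (5, 6), (6, 7), (5, 8)] : Fin 8 → Fin 9 × Fin 9) x).2)) :
    n = 9 ∧ (∃ q : ℝ, 0 < q ∧ ∀ j, nu T (v j) = q * (![1, 2, 3, 4, 5, 6, 4, 2, 3] : Fin 9 → ℝ) j) ∧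
      (∀ x : Fin 8, nA T (v ((![(0, 1), (1, 2), (2, 3), (3, 4), (4, 5), (5, 6), (6, 7), (5, 8)] : Fin 8 → Fin 9 × Fin 9) x).1)
        (v ((![(0, 1), (1, 2), (2, 3), (3, 4), (4, 5), (5, 6), (6, 7), (5, 8)] : Fin 8 → Fin 9 × Fin 9) x).2) = 1) ∧
      ∀ j k : Fin 9, j ≠ k → (∀ x, s(((![(0, 1), (1, 2), (2, 3), (3, 4), (4, 5), (5, 6), (6, 7), (5, 8)] : Fin 8 → Fin 9 × Fin 9) x).1,
        ((![(0, 1), (1, 2), (2, 3), (3, 4), (4, 5), (5, 6), (6, 7), (5, 8)] : Fin 8 → Fin 9 × Fin 9) x).2) ≠ s(j, k)) →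
        T.a (v j) (v k) = 0 := by
  obtain ⟨hs, hq, hl, hz⟩ := config_test T v hv
    (![(0, 1), (1, 2), (2, 3), (3, 4), (4, 5), (5, 6), (6, 7), (5, 8)] : Fin 8 → Fin 9 × Fin 9) (by decide) (by decide)
    (fun _ => 1) (fun x => one_le_nA T (hp x)) ![1, 2, 3, 4, 5, 6, 4, 2, 3]
    (by intro a; fin_cases a <;> simp) (by simp [Fin.sum_univ_succ]; norm_num)
  refine ⟨?_, hq, fun x => (hl x).symm, hz⟩
  have h1 := Fintype.card_le_of_surjective v hs
  have h2 := Fintype.card_le_of_embedding v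
  simp only [Fintype.card_fin] at h1 h2
  omega

end Groth.ModelsGraphs
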