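import Groth.Agent.ModelsGraphs.NT
import Mathlib.Analysis.SpecialFunctions.Sqrt

/-! The normalised form of a numerical type on a configuration of (-2)-indices. -/

namespace Groth.ModelsGraphs

open Finset Matrix Models

variable {n : ℕ} (T : NumericalType n)

/-- `√(w i)`. -/
noncomputable def sw (i : Fin n) : ℝ := Real.sqrt (T.w i)

/-- `a i j / √(w i w j)`. -/
noncomputable def nA (i j : Fin n) : ℝ := (T.a i j : ℝ) / (sw T i * sw T j)

/-- `m i √(w i)`. -/
noncomputable def nu (i : Fin n) : ℝ := (T.m i : ℝ) * sw T i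

theorem sw_pos (i : Fin n) : 0 < sw T i := Real.sqrt_pos.2 (by exact_mod_cast T.w_pos i)

theorem sw_mul_self (i : Fin n) : sw T i * sw T i = (T.w i : ℝ) :=
  Real.mul_self_sqrt (by exact_mod_cast (T.w_pos i).le)

theorem nu_pos (i : Fin n) : 0 < nu T i := mul_pos (by exact_mod_cast T.m_pos i) (sw_pos T i)

theorem nA_comm (i j : Fin n) : nA T i j = nA T j i := by
  rw [nA, nA, a_comm T i j, mul_comm (sw T i)]

theorem nA_nonneg {i j : Fin n} (h : i ≠ j) : 0 ≤ nA T i j :=
  div_nonneg (by exact_mod_cast T.offDiag_nonneg i j h) (mul_pos (sw_pos T i) (sw_pos T j)).le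

theorem nA_diag {i : Fin n} (h : T.IsMinusTwo i) : nA T i i = -2 := by
  rw [nA, h.2, sw_mul_self, div_eq_iff (by exact_mod_cast (T.w_pos i).ne')]
  push_cast; ring

theorem nA_sq (i j : Fin n) : nA T i j ^ 2 = (T.a i j : ℝ) ^ 2 / ((T.w i : ℝ) * T.w j) := by
  rw [nA, div_pow]
  congr 1
  rw [← sw_mul_self T i, ← sw_mul_self T j]
  ring

theorem le_nA_sq {i j : Fin n} {c : ℤ} (h : c * (T.w i * T.w j) ≤ T.a i j * T.a i j) :
    (c : ℝ) ≤ nA T i j ^ 2 := by
  rw [nA_sq, le_div_iff₀ (mul_pos (by exact_mod_cast T.w_pos i) (by exact_mod_cast T.w_pos j)), sq]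
  exact_mod_cast h

theorem ww_le_aa {i j : Fin n} (h : 0 < T.a i j) : 1 * (T.w i * T.w j) ≤ T.a i j * T.a i j := by
  have h1 := w_le_of_pos T h
  rw [one_mul]
  exact mul_le_mul h1.1 h1.2 (T.w_pos j).le h.le

theorem le_nA {i j : Fin n} {l : ℝ} (hne : i ≠ j) (hl : 0 ≤ l) (h : l ^ 2 ≤ nA T i j ^ 2) : l ≤ nA T i j :=
  (sq_le_sq₀ hl (nA_nonneg T hne)).1 h

theorem one_le_nA {i j : Fin n} (h : 0 < T.a i j) : 1 ≤ nA T i j :=
  le_nA T (ne_of_pos T h) zero_le_one (by simpa using le_nA_sq T (ww_le_aa T h))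

/-- Configuration test: for an embedded weighted graph of (-2)-indices whose normalised intersections are
at least the weights `l`, if the form is non-negative on a positive vector `y`, then the configuration is the
whole type, the weights are exact and `y` is proportional to `m √w`. -/
theorem config_test {κ ε : Type*} [Fintype κ] [Nonempty κ] [Fintype ε]
    (v : κ ↪ Fin n) (hv : ∀ j, T.IsMinusTwo (v j)) (e : ε → κ × κ)
    (hinj : Function.Injective fun x => s((e x).1, (e x).2)) (hne : ∀ x, (e x).1 ≠ (e x).2)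
    (l : ε → ℝ) (hl : ∀ x, l x ≤ nA T (v (e x).1) (v (e x).2))
    (y : κ → ℝ) (hy : ∀ j, 0 < y j)
    (hQ : ∑ j, y j ^ 2 ≤ ∑ x, l x * y (e x).1 * y (e x).2) :
    Function.Surjective v ∧ (∃ q : ℝ, 0 < q ∧ ∀ j, nu T (v j) = q * y j) ∧
      (∀ x, l x = nA T (v (e x).1) (v (e x).2)) ∧
      ∀ j k, j ≠ k → (∀ x, s((e x).1, (e x).2) ≠ s(j, k)) → T.a (v j) (v k) = 0 := by
  classical
  let A : Matrix (Fin n) (Fin n) ℝ := Matrix.of fun i j => nA T i j
  let x : Fin n → ℝ := fun i => ∑ j, if v j = i then y j else 0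
  have hxv : ∀ j, x (v j) = y j := fun j => by simp [x, v.injective.eq_iff]
  have hs : A.IsSymm := Matrix.IsSymm.ext fun i j => nA_comm T j i
  have hAu : A.mulVec (nu T) = 0 := by
    funext i
    have h := congrArg (fun z : ℤ => (z : ℝ)) (row_sum T i)
    push_cast at h
    calc ∑ j, nA T i j * nu T j = ∑ j, (T.a i j : ℝ) * T.m j / sw T i :=
          sum_congr rfl fun j _ => by
            have := (sw_pos T j).ne'
            have := (sw_pos T i).ne'
            rw [nA, nu]; field_simp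
      _ = (0 : Fin n → ℝ) i := by rw [← sum_div, h, zero_div]; rfl
  have hconn : ∀ I : Finset (Fin n), I.Nonempty → I ≠ univ → ∃ i ∈ I, ∃ j ∉ I, A i j ≠ 0 := by
    intro I h1 h2
    obtain ⟨i, hi, j, hj, h⟩ := T.connected I h1 h2
    exact ⟨i, hi, j, hj, div_ne_zero (by exact_mod_cast h) (mul_pos (sw_pos T i) (sw_pos T j)).ne'⟩
  have hform := form_nonpos hs (fun i j h => nA_nonneg T h) (nu_pos T) (fun i => by rw [hAu]; rfl) x
  -- the form in terms of the configuration
  let F : κ × κ → ℝ := fun p => nA T (v p.1) (v p.2) * y p.1 * y p.2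
  have hval : dotProduct x (A.mulVec x) = ∑ p : κ × κ, F p := by
    have h1 : ∀ G : Fin n → ℝ, ∑ i, x i * G i = ∑ j, y j * G (v j) := fun G => by
      simp only [x, sum_mul, ite_mul, zero_mul]
      rw [sum_comm]
      simp
    rw [dotProduct, h1, ← univ_product_univ, sum_product]
    refine sum_congr rfl fun j _ => ?_
    have h2 : A.mulVec x (v j) = ∑ i, x i * nA T (v j) i := by
      simp only [Matrix.mulVec, dotProduct, A, Matrix.of_apply]
      exact sum_congr rfl fun i _ => mul_comm _ _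
    rw [h2, h1, mul_sum]
    exact sum_congr rfl fun k _ => by simp only [F]; ring
  have hoff : ∀ p ∈ univ.filter (fun p : κ × κ => ¬ p.1 = p.2), 0 ≤ F p := fun p hp =>
    mul_nonneg (mul_nonneg (nA_nonneg T (v.injective.ne (mem_filter.1 hp).2)) (hy _).le) (hy _).le
  let P : ε ⊕ ε → κ × κ := Sum.elim e (fun z => (e z).swap)
  have hP : Function.Injective P := by
    rintro (a | a) (b | b) h <;> simp only [P, Sum.elim_inl, Sum.elim_inr] at h
    · exact congrArg _ (hinj (by simp only [h]))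
    · obtain rfl : a = b := hinj (by simp only [h, Prod.fst_swap, Prod.snd_swap, Sym2.eq_swap])
      exact absurd (congrArg Prod.fst h) (hne a)
    · obtain rfl : a = b := hinj (by simp only [← h, Prod.fst_swap, Prod.snd_swap, Sym2.eq_swap])
      exact absurd (congrArg Prod.snd h) (hne a)
    · exact congrArg _ (hinj (by simp only [Prod.swap_inj] at h; simp only [h]))
  have hdiag : ∑ p ∈ univ.filter (fun p : κ × κ => p.1 = p.2), F p = -2 * ∑ j, y j ^ 2 := by
    rw [mul_sum]
    refine sum_bij' (fun p _ => p.1) (fun j _ => (j, j)) (by simp) (by simp)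
      (fun p hp => Prod.ext rfl (mem_filter.1 hp).2) (by simp) fun p hp => ?_
    simp only [F, ← (mem_filter.1 hp).2, nA_diag T (hv p.1)]
    ring
  have hsub : univ.image P ⊆ univ.filter (fun p : κ × κ => ¬ p.1 = p.2) := by
    intro p hp
    obtain ⟨(a | a), -, rfl⟩ := mem_image.1 hp <;> simpa [P, eq_comm] using hne a
  have hedge : 2 * ∑ z, l z * y (e z).1 * y (e z).2 ≤ 2 * ∑ z, F (e z) := by
    refine mul_le_mul_of_nonneg_left (sum_le_sum fun z _ => ?_) zero_le_two
    exact mul_le_mul_of_nonneg_right (mul_le_mul_of_nonneg_right (hl z) (hy _).le) (hy _).le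
  have himg : ∑ p ∈ univ.image P, F p = 2 * ∑ z, F (e z) := by
    rw [sum_image fun a _ b _ h => hP h, Fintype.sum_sum_type, two_mul]
    congr 1
    refine sum_congr rfl fun z _ => ?_
    simp only [P, Sum.elim_inr, F, Prod.fst_swap, Prod.snd_swap]
    rw [nA_comm]; ring
  have hge : ∑ p ∈ univ.filter (fun p : κ × κ => ¬ p.1 = p.2), F p =
      2 * ∑ z, F (e z) + ∑ p ∈ univ.filter (fun p : κ × κ => ¬ p.1 = p.2) \ univ.image P, F p := by
    rw [← himg, add_comm, sum_sdiff hsub]
  have hrest : 0 ≤ ∑ p ∈ univ.filter (fun p : κ × κ => ¬ p.1 = p.2) \ univ.image P, F p :=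
    sum_nonneg fun p hp => hoff p (mem_sdiff.1 hp).1
  have htot : dotProduct x (A.mulVec x) = -2 * ∑ j, y j ^ 2 + 2 * ∑ z, F (e z) +
      ∑ p ∈ univ.filter (fun p : κ × κ => ¬ p.1 = p.2) \ univ.image P, F p := by
    rw [hval, ← sum_filter_add_sum_filter_not univ (fun p : κ × κ => p.1 = p.2), hdiag, hge]
    ring
  have h0 : dotProduct x (A.mulVec x) = 0 := le_antisymm hform.1 (by rw [htot]; linarith)
  obtain ⟨q, hq⟩ := eq_smul_of_form_zero hs (fun i j h => nA_nonneg T h) (nu_pos T) hAu hconn x h0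
  have hqv : ∀ j, y j = q * nu T (v j) := fun j => by
    rw [← hxv j, hq]; rfl
  obtain ⟨j0⟩ := (inferInstance : Nonempty κ)
  have hq0 : 0 < q := by
    by_contra hh
    have := hqv j0
    have := hy j0
    nlinarith [nu_pos T (v j0), not_lt.1 hh]
  refine ⟨fun i => ?_, ⟨q⁻¹, inv_pos.2 hq0, fun j => by rw [hqv j, inv_mul_cancel_left₀ hq0.ne']⟩,
    fun z => ?_, fun j k hjk hno => ?_⟩
  · by_contra hi
    have hxi : x i = 0 := sum_eq_zero fun j _ => if_neg fun hh => hi ⟨j, hh⟩
    rw [hq] at hxi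
    exact (mul_pos hq0 (nu_pos T i)).ne' hxi
  · have hz : ∑ z, (F (e z) - l z * y (e z).1 * y (e z).2) = 0 := by
      rw [sum_sub_distrib]; linarith
    have := (sum_eq_zero_iff_of_nonneg fun z _ => sub_nonneg.2
      (mul_le_mul_of_nonneg_right (mul_le_mul_of_nonneg_right (hl z) (hy _).le) (hy _).le)).1 hz z (mem_univ z)
    simp only [F, ← sub_mul, mul_eq_zero, (hy _).ne', or_false, sub_eq_zero] at this
    exact this.symm
  · have hz : ∑ p ∈ univ.filter (fun p : κ × κ => ¬ p.1 = p.2) \ univ.image P, F p = 0 := by linarith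
    have := (sum_eq_zero_iff_of_nonneg fun p hp => hoff p (mem_sdiff.1 hp).1).1 hz (j, k) (by
      simp only [mem_sdiff, mem_filter, mem_univ, true_and, mem_image, not_exists]
      refine ⟨hjk, ?_⟩
      rintro (z | z) hz <;> simp only [P, Sum.elim_inl, Sum.elim_inr] at hz
      · exact hno z (by rw [hz])
      · refine hno z ?_
        have h2 := congrArg Prod.swap hz
        rw [Prod.swap_swap] at h2
        rw [h2]; exact Sym2.eq_swap)
    simp only [F, nA, mul_eq_zero, (hy _).ne', or_false, div_eq_zero_iff, (sw_pos T _).ne'] at this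
    exact_mod_cast this

/-- A configuration whose form is non-negative cannot be proper. -/
theorem config_false {κ ε : Type*} [Fintype κ] [Nonempty κ] [Fintype ε] (hc : Fintype.card κ < n)
    (v : κ ↪ Fin n) (hv : ∀ j, T.IsMinusTwo (v j)) (e : ε → κ × κ)
    (hinj : Function.Injective fun x => s((e x).1, (e x).2)) (hne : ∀ x, (e x).1 ≠ (e x).2)
    (l : ε → ℝ) (hl : ∀ x, l x ≤ nA T (v (e x).1) (v (e x).2))
    (y : κ → ℝ) (hy : ∀ j, 0 < y j)
    (hQ : ∑ j, y j ^ 2 ≤ ∑ x, l x * y (e x).1 * y (e x).2) : False := by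
  have := Fintype.card_le_of_surjective v (config_test T v hv e hinj hne l hl y hy hQ).1
  rw [Fintype.card_fin] at this
  omega

end Groth.ModelsGraphs
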