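import Mathlib

/-! Unramified, generically separable extensions of a discrete valuation ring with prescribed residue field. -/

namespace Groth.ModelsGraphs.Unram

open Polynomial

universe u

variable {R : Type u} [CommRing R] [IsDomain R] [IsDiscreteValuationRing R]
variable {Ω κ : Type u} [Field Ω] [Field κ] [Algebra R Ω] [Algebra R κ]

/-- A partial lift: a subalgebra of `Ω × κ`. -/
structure Good (π : R) (Γ : Subalgebra R (Ω × κ)) : Prop where
  zero : ∀ z ∈ Γ, z.1 = 0 → z = 0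
  int : ∀ z ∈ Γ, IsIntegral R z.1
  ker : ∀ z ∈ Γ, z.2 = 0 → ∃ y ∈ Γ, z = π • y

theorem pow_unit_of_not_unit_pi {π : R} (hinjΩ : Function.Injective (algebraMap R Ω)) (hπ : Irreducible π)
    (t : Ω) (ht : IsIntegral R t) : algebraMap R Ω π * t ≠ 1 := by
  intro h
  let K := FractionRing R
  letI : Algebra K Ω := (IsFractionRing.lift hinjΩ).toAlgebra
  haveI : IsScalarTower R K Ω := IsScalarTower.of_algebraMap_eq fun x => (IsFractionRing.lift_algebraMap hinjΩ x).symm
  have hπ0 : algebraMap R K π ≠ 0 := by simpa using hπ.ne_zero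
  have ht' : t = algebraMap K Ω (algebraMap R K π)⁻¹ := by
    rw [map_inv₀, ← IsScalarTower.algebraMap_apply]
    exact eq_inv_of_mul_eq_one_right h
  rw [ht', isIntegral_algebraMap_iff (algebraMap K Ω).injective] at ht
  obtain ⟨c, hc⟩ := IsIntegrallyClosed.isIntegral_iff.1 ht
  refine hπ.not_isUnit ⟨⟨π, c, IsFractionRing.injective R K ?_, IsFractionRing.injective R K ?_⟩, rfl⟩ <;>
    rw [map_mul, hc, map_one]
  exacts [mul_inv_cancel₀ hπ0, inv_mul_cancel₀ hπ0]

theorem base_good {π : R} (hinjΩ : Function.Injective (algebraMap R Ω)) (hker : ∀ a : R, algebraMap R κ a = 0 ↔ π ∣ a) :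
    Good π (⊥ : Subalgebra R (Ω × κ)) := by
  refine ⟨fun z hz h => ?_, fun z hz => ?_, fun z hz h => ?_⟩ <;> obtain ⟨a, rfl⟩ := Algebra.mem_bot.1 hz
  · rw [show a = 0 from hinjΩ (by simpa using h), map_zero]
  · exact isIntegral_algebraMap
  · obtain ⟨b, rfl⟩ := (hker a).1 h
    exact ⟨algebraMap R _ b, Subalgebra.algebraMap_mem _ b, by rw [Algebra.smul_def, map_mul]⟩

theorem chain_good {π : R} (c : Set (Subalgebra R (Ω × κ))) (hc : IsChain (· ≤ ·) c) (hne : c.Nonempty)
    (hg : ∀ Γ ∈ c, Good π Γ) : ∃ U : Subalgebra R (Ω × κ), Good π U ∧ ∀ Γ ∈ c, Γ ≤ U := by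
  haveI := hne.to_subtype
  have hdir : Directed (· ≤ ·) fun Γ : c => Γ.1 := hc.directed
  have hmem : ∀ z, z ∈ (⨆ Γ : c, Γ.1) → ∃ Γ : c, z ∈ Γ.1 := fun z hz => by
    rw [← SetLike.mem_coe, Subalgebra.coe_iSup_of_directed hdir] at hz
    exact Set.mem_iUnion.1 hz
  refine ⟨⨆ Γ : c, Γ.1, ⟨fun z hz => ?_, fun z hz => ?_, fun z hz h => ?_⟩,
    fun Γ hΓ => le_iSup (fun Γ : c => Γ.1) ⟨Γ, hΓ⟩⟩ <;> obtain ⟨Γ, hΓ⟩ := hmem z hz
  · exact (hg _ Γ.2).zero z hΓ
  · exact (hg _ Γ.2).int z hΓ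
  · obtain ⟨y, hy, rfl⟩ := (hg _ Γ.2).ker z hΓ h
    exact ⟨y, le_iSup (fun Γ : c => Γ.1) Γ hy, rfl⟩

/-- In a separably closed field a polynomial with nonzero derivative has a root. -/
theorem exists_root_of_derivative_ne_zero [IsSepClosed Ω] (P : (Polynomial Ω)) (h : derivative P ≠ 0) :
    ∃ α, P.eval α = 0 := by
  classical
  have hP : P ≠ 0 := fun h0 => h (by rw [h0, derivative_zero])
  obtain ⟨g, hg, hg'⟩ : ∃ g ∈ UniqueFactorizationMonoid.normalizedFactors P, derivative g ≠ 0 := by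
    by_contra hno
    push Not at hno
    obtain ⟨c, hc⟩ := UniqueFactorizationMonoid.prod_normalizedFactors hP
    refine h ?_
    have key : ∀ s : Multiset (Polynomial Ω), (∀ g ∈ s, derivative g = 0) → derivative s.prod = 0 := by
      intro s
      induction s using Multiset.induction with
      | empty => simp
      | cons a s ih =>
        intro hs
        rw [Multiset.prod_cons, derivative_mul, hs a (Multiset.mem_cons_self a s),
          ih fun g hg => hs g (Multiset.mem_cons_of_mem hg), zero_mul, mul_zero, add_zero]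
    obtain ⟨r, -, hr⟩ := Polynomial.isUnit_iff.1 c.isUnit
    rw [← hc, derivative_mul, key _ hno, ← hr, derivative_C, zero_mul, mul_zero, add_zero]
  have hirr := UniqueFactorizationMonoid.irreducible_of_normalized_factor g hg
  obtain ⟨α, hα⟩ := IsSepClosed.exists_root g (degree_pos_of_irreducible hirr).ne'
    ((separable_iff_derivative_ne_zero hirr).2 hg')
  exact ⟨α, eval_eq_zero_of_dvd_of_eval_eq_zero (UniqueFactorizationMonoid.dvd_of_mem_normalizedFactors hg) hα⟩

theorem step {π : R} (hinjΩ : Function.Injective (algebraMap R Ω)) (hπ : Irreducible π)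
    (hker : ∀ a : R, algebraMap R κ a = 0 ↔ π ∣ a)
    [IsSepClosed Ω] {Γ : Subalgebra R (Ω × κ)} (hΓ : Good π Γ) (a : κ) (ha : IsIntegral R a)
    (hout : ∀ z ∈ Γ, z.2 ≠ a) : ∃ Γ' : Subalgebra R (Ω × κ), Good π Γ' ∧ Γ < Γ' := by
  classical
  let f1 : Γ →ₐ[R] Ω := (AlgHom.fst R Ω κ).comp Γ.val
  let f2 : Γ →ₐ[R] κ := (AlgHom.snd R Ω κ).comp Γ.val
  have hπκ : algebraMap R κ π = 0 := (hker π).2 dvd_rfl
  -- the image in `κ` is a field
  let F₀ := f2.range
  have hFint : Algebra.IsIntegral R F₀ := ⟨fun x => by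
    obtain ⟨z, hz⟩ := x.2
    have h1 : IsIntegral R z := (isIntegral_algHom_iff f1 fun x y hxy => by
      refine Subtype.ext (sub_eq_zero.1 (hΓ.zero _ (Γ.sub_mem x.2 y.2) ?_))
      exact sub_eq_zero.2 hxy).1 (hΓ.int z.1 z.2)
    refine (isIntegral_algHom_iff F₀.val Subtype.val_injective).1 ?_
    rw [Subalgebra.val_apply, ← hz]
    exact h1.map f2⟩
  have hF : IsField F₀ := by
    let k₀ := R ⧸ RingHom.ker (algebraMap R κ)
    have hmax : (RingHom.ker (algebraMap R κ)).IsMaximal := by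
      rw [show RingHom.ker (algebraMap R κ) = Ideal.span {π} from
        Ideal.ext fun x => (hker x).trans Ideal.mem_span_singleton.symm]
      exact PrincipalIdealRing.isMaximal_of_irreducible hπ
    haveI hmax' : (RingHom.ker (algebraMap R F₀)).IsMaximal := by
      convert hmax using 1
      ext x
      simp [RingHom.mem_ker, ← Subtype.coe_inj]
    letI := (RingHom.kerLift (algebraMap R F₀)).toAlgebra
    haveI : IsScalarTower R (R ⧸ RingHom.ker (algebraMap R F₀)) F₀ := IsScalarTower.of_algebraMap_eq fun _ => rfl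
    haveI : Algebra.IsIntegral (R ⧸ RingHom.ker (algebraMap R F₀)) F₀ := Algebra.IsIntegral.tower_top R
    exact (Algebra.IsIntegral.isField_iff_isField (RingHom.kerLift_injective (algebraMap R F₀))).1
      ((Ideal.Quotient.maximal_ideal_iff_isField_quotient _).1 hmax')
  letI : Field F₀ := hF.toField
  have haF : IsIntegral F₀ a := ha.tower_top
  let μ := minpoly F₀ a
  have hμm : μ.Monic := minpoly.monic haF
  -- a lift of the minimal polynomial, with nonzero derivative
  let s2 : Γ →+* F₀ := f2.rangeRestrict.toRingHom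
  have hs2 : Function.Surjective s2 := f2.rangeRestrict_surjective
  obtain ⟨P₀, hP₀, hP₀d, hP₀m⟩ := lifts_and_degree_eq_and_monic
    ((mem_lifts μ).2 (Polynomial.map_surjective s2 hs2 μ)) hμm
  haveI : Nontrivial Γ := ⟨⟨0, 1, fun h => zero_ne_one (congrArg (fun z : Γ => f1 z) h |>.trans (by simp) |> fun e => by
    simpa using e)⟩⟩
  have hd2 : 2 ≤ μ.natDegree := by
    refine (minpoly.two_le_natDegree_iff haF).2 ?_
    rintro ⟨⟨b, z, hz⟩, rfl⟩
    exact hout z.1 z.2 hz
  let πΓ : Γ := algebraMap R Γ π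
  let P : Γ[X] := if derivative (P₀.map (f1 : Γ →+* Ω)) = 0 then P₀ + C πΓ * X else P₀
  have hs2π : s2 πΓ = 0 := Subtype.ext (by show f2 (algebraMap R Γ π) = 0; rw [AlgHom.commutes, hπκ])
  have hPs : P.map s2 = μ := by
    simp only [P]
    split_ifs
    · rw [Polynomial.map_add, Polynomial.map_mul, map_C, hs2π, map_zero, zero_mul, add_zero, hP₀]
    · exact hP₀
  have hPm : P.Monic := by
    simp only [P]
    split_ifs
    · refine hP₀m.add_of_left (lt_of_le_of_lt (degree_C_mul_X_le _) ?_)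
      rw [hP₀d, degree_eq_natDegree hμm.ne_zero]
      exact_mod_cast hd2
    · exact hP₀m
  have hPd : derivative (P.map (f1 : Γ →+* Ω)) ≠ 0 := by
    simp only [P]
    split_ifs with h
    · rw [Polynomial.map_add, derivative_add, h, zero_add, Polynomial.map_mul, map_C, map_X, derivative_C_mul,
        derivative_X, mul_one, Ne, C_eq_zero]
      show f1 (algebraMap R Γ π) ≠ 0
      rw [AlgHom.commutes]
      exact (map_ne_zero_iff _ hinjΩ).2 hπ.ne_zero
    · exact h
  obtain ⟨α, hα⟩ := exists_root_of_derivative_ne_zero (P.map (f1 : Γ →+* Ω)) hPd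
  -- evaluation at `(α, a)`
  let φ : Γ[X] →ₐ[R] (Ω × κ) :=
    { eval₂RingHom (Γ.val : Γ →+* Ω × κ) (α, a) with
      commutes' := fun r => by simp [Polynomial.algebraMap_eq] }
  have hφ1 : ∀ Q : Γ[X], (φ Q).1 = Q.eval₂ (f1 : Γ →+* Ω) α := fun Q =>
    Polynomial.hom_eval₂ Q (Γ.val : Γ →+* Ω × κ) (RingHom.fst Ω κ) (α, a)
  have hφ2 : ∀ Q : Γ[X], (φ Q).2 = aeval a (Q.map s2) := fun Q => by
    rw [aeval_def, eval₂_map]
    exact Polynomial.hom_eval₂ Q (Γ.val : Γ →+* Ω × κ) (RingHom.snd Ω κ) (α, a)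
  have hφC : ∀ z : Γ, φ (C z) = z.1 := fun z => eval₂_C _ _
  have hφP : φ P = 0 := Prod.ext (by rw [hφ1, ← eval_map, hα]; rfl) (by rw [hφ2, hPs, minpoly.aeval]; rfl)
  have hαint : IsIntegral R α := by
    let g : Γ →+* integralClosure R Ω := (f1.codRestrict _ fun z => hΓ.int z.1 z.2).toRingHom
    refine isIntegral_trans (A := integralClosure R Ω) α ⟨P.map g, hPm.map g, ?_⟩
    rw [eval₂_map, ← hα, eval_map]
    rfl
  have hint : ∀ Q, IsIntegral R (φ Q).1 := fun Q => by
    induction Q using Polynomial.induction_on' with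
    | add p q hp hq => rw [map_add]; exact hp.add hq
    | monomial i z =>
      rw [hφ1, eval₂_monomial]
      exact (hΓ.int z.1 z.2).mul (hαint.pow i)
  have hφker : ∀ Q, (φ Q).2 = 0 → ∃ S : Γ[X], φ Q = π • φ S := by
    intro Q h
    have h1 : φ Q = φ (Q %ₘ P) := by
      conv_lhs => rw [← modByMonic_add_div Q P]
      rw [map_add, map_mul, hφP, zero_mul, add_zero]
    rw [h1, hφ2] at h
    have h2 : (Q %ₘ P).map s2 = 0 := by
      by_contra hne
      have h3 := minpoly.degree_le_of_ne_zero F₀ a hne h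
      rw [map_modByMonic s2 hPm, hPs] at h3
      exact absurd h3 (not_le.2 (degree_modByMonic_lt _ hμm))
    have h4 : ∀ i, ∃ y : Γ, (Q %ₘ P).coeff i = π • y := fun i => by
      have h5 : f2 ((Q %ₘ P).coeff i) = 0 := by
        have := congrArg (fun q => ((q.coeff i : F₀) : κ)) h2
        simpa [coeff_map, s2] using this
      obtain ⟨y, hy, hy'⟩ := hΓ.ker _ ((Q %ₘ P).coeff i).2 h5
      exact ⟨⟨y, hy⟩, Subtype.ext hy'⟩
    choose y hy using h4
    refine ⟨∑ i ∈ (Q %ₘ P).support, monomial i (y i), ?_⟩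
    rw [h1, ← map_smul, Finset.smul_sum]
    congr 1
    conv_lhs => rw [as_sum_support (Q %ₘ P)]
    exact Finset.sum_congr rfl fun i _ => by rw [smul_monomial, ← hy]
  have hzero : ∀ Q, (φ Q).1 = 0 → φ Q = 0 := by
    intro Q h
    refine Prod.ext h ?_
    show (φ Q).2 = 0
    by_contra hne
    rw [hφ2] at hne
    obtain ⟨R₁, hR₁⟩ : ∃ R₁ : F₀[X], aeval a R₁ = (aeval a (Q.map s2))⁻¹ := by
      have hfield : IsField (Algebra.adjoin F₀ ({a} : Set κ)) := by
        rw [← IntermediateField.adjoin_simple_toSubalgebra_of_isAlgebraic haF.isAlgebraic]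
        exact (Field.toIsField (IntermediateField.adjoin F₀ ({a} : Set κ)) :)
      have hmem : aeval a (Q.map s2) ∈ Algebra.adjoin F₀ ({a} : Set κ) := aeval_mem_adjoin_singleton _ _
      obtain ⟨b, hb⟩ := hfield.mul_inv_cancel (a := ⟨_, hmem⟩) fun h0 => hne (congrArg Subtype.val h0)
      have hb' : (b : κ) ∈ (aeval (R := F₀) a).range := by
        rw [← Algebra.adjoin_singleton_eq_range_aeval]; exact b.2
      obtain ⟨R₁, hR₁⟩ := hb'
      exact ⟨R₁, by rw [show (aeval a) R₁ = b.1 from hR₁]; exact eq_inv_of_mul_eq_one_right (congrArg Subtype.val hb)⟩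
    obtain ⟨R₂, hR₂⟩ := Polynomial.map_surjective s2 hs2 R₁
    obtain ⟨S, hS⟩ := hφker (Q * R₂ - 1) (by
      rw [hφ2, Polynomial.map_sub, Polynomial.map_mul, Polynomial.map_one, map_sub, map_mul, map_one, hR₂, hR₁,
        mul_inv_cancel₀ hne, sub_self])
    have h6 := congrArg Prod.fst hS
    rw [Prod.smul_fst, Algebra.smul_def, hφ1, eval₂_sub, eval₂_mul, eval₂_one, ← hφ1, h, zero_mul, zero_sub] at h6
    exact pow_unit_of_not_unit_pi hinjΩ hπ (-(φ S).1) (hint S).neg (by rw [mul_neg, ← h6, neg_neg])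
  refine ⟨φ.range, ⟨?_, ?_, ?_⟩, ?_⟩
  · rintro _ ⟨Q, rfl⟩; exact hzero Q
  · rintro _ ⟨Q, rfl⟩; exact hint Q
  · rintro _ ⟨Q, rfl⟩ h
    obtain ⟨S, hS⟩ := hφker Q h
    exact ⟨φ S, ⟨S, rfl⟩, hS⟩
  · refine lt_of_le_of_ne (fun z hz => ⟨C ⟨z, hz⟩, hφC _⟩) fun e => ?_
    have : φ X ∈ Γ := (SetLike.ext_iff.1 e _).2 ⟨X, rfl⟩
    exact hout _ this (by rw [hφ2, map_X, aeval_X])

theorem exists_full {π : R} (hinjΩ : Function.Injective (algebraMap R Ω)) (hπ : Irreducible π)
    (hker : ∀ a : R, algebraMap R κ a = 0 ↔ π ∣ a) [IsSepClosed Ω] [Algebra.IsIntegral R κ] :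
    ∃ Γ : Subalgebra R (Ω × κ), Good π Γ ∧ ∀ a : κ, ∃ z ∈ Γ, z.2 = a := by
  obtain ⟨Γ, -, hΓ⟩ := zorn_le_nonempty₀ {Γ : Subalgebra R (Ω × κ) | Good π Γ}
    (fun c hc hch y hy => chain_good c hch ⟨y, hy⟩ hc) ⊥ (base_good hinjΩ hker)
  refine ⟨Γ, hΓ.prop, fun a => ?_⟩
  by_contra hno
  push Not at hno
  obtain ⟨Γ', hΓ', hlt⟩ := step hinjΩ hπ hker hΓ.prop a (Algebra.IsIntegral.isIntegral a) hno
  exact absurd (hΓ.eq_of_le hΓ' hlt.le) hlt.ne

theorem dvr_extension (R : Type u) [CommRing R] [IsDomain R] [IsDiscreteValuationRing R]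
    (k' : Type u) [Field k'] [Algebra (IsLocalRing.ResidueField R) k']
    [Algebra.IsAlgebraic (IsLocalRing.ResidueField R) k'] :
    ∃ (OL : Type u) (_ : CommRing OL) (_ : IsDomain OL) (_ : IsDiscreteValuationRing OL) (φ : R →+* OL),
      Function.Injective φ ∧ IsLocalHom φ ∧
      Ideal.map φ (IsLocalRing.maximalIdeal R) = IsLocalRing.maximalIdeal OL ∧
      (∃ e : IsLocalRing.ResidueField OL ≃+* k',
        ∀ a : R, e (IsLocalRing.residue OL (φ a)) =
          algebraMap (IsLocalRing.ResidueField R) k' (IsLocalRing.residue R a)) ∧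
      ∀ x : OL, ∃ p : Polynomial R, (p.map (algebraMap R (FractionRing R))).Separable ∧
        Polynomial.eval₂ φ x p = 0 := by
  obtain ⟨π, hπ⟩ := IsDiscreteValuationRing.exists_irreducible R
  letI : Algebra R k' := ((algebraMap (IsLocalRing.ResidueField R) k').comp (IsLocalRing.residue R)).toAlgebra
  haveI : IsScalarTower R (IsLocalRing.ResidueField R) k' := IsScalarTower.of_algebraMap_eq fun _ => rfl
  have hker : ∀ a : R, algebraMap R k' a = 0 ↔ π ∣ a := fun a => by
    show algebraMap (IsLocalRing.ResidueField R) k' (IsLocalRing.residue R a) = 0 ↔ _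
    rw [map_eq_zero, IsLocalRing.residue_eq_zero_iff, hπ.maximalIdeal_eq, Ideal.mem_span_singleton]
  haveI : Algebra.IsIntegral R (IsLocalRing.ResidueField R) :=
    Algebra.IsIntegral.of_surjective (Algebra.ofId R (IsLocalRing.ResidueField R)) IsLocalRing.residue_surjective
  haveI : Algebra.IsIntegral R k' := Algebra.IsIntegral.trans (IsLocalRing.ResidueField R)
  let K := FractionRing R
  let Ω := SeparableClosure K
  have hinjΩ : Function.Injective (algebraMap R Ω) := by
    rw [IsScalarTower.algebraMap_eq R K Ω]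
    exact (algebraMap K Ω).injective.comp (IsFractionRing.injective R K)
  obtain ⟨Γ, hΓ, hsurj⟩ := exists_full (Ω := Ω) (κ := k') hinjΩ hπ hker
  let f1 : Γ →ₐ[R] Ω := (AlgHom.fst R Ω k').comp Γ.val
  let f2 : Γ →ₐ[R] k' := (AlgHom.snd R Ω k').comp Γ.val
  have hf1 : Function.Injective f1 := fun x y h =>
    Subtype.ext (sub_eq_zero.1 (hΓ.zero _ (Γ.sub_mem x.2 y.2) (sub_eq_zero.2 h)))
  haveI : IsDomain Γ := hf1.isDomain f1.toRingHom
  have hinj : Function.Injective (algebraMap R Γ) := fun a b h => hinjΩ (by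
    rw [← f1.commutes a, ← f1.commutes b, h])
  haveI : Algebra.IsIntegral R Γ := ⟨fun z => (isIntegral_algHom_iff f1 hf1).1 (hΓ.int z.1 z.2)⟩
  haveI : FaithfulSMul R Γ := (faithfulSMul_iff_algebraMap_injective R Γ).2 hinj
  let M : Ideal Γ := RingHom.ker f2.toRingHom
  have hf2 : Function.Surjective f2 := fun a => by
    obtain ⟨z, hz, hza⟩ := hsurj a
    exact ⟨⟨z, hz⟩, hza⟩
  haveI hMmax : M.IsMaximal := RingHom.ker_isMaximal_of_surjective f2.toRingHom hf2
  have hM : M = Ideal.span {algebraMap R Γ π} := by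
    refine le_antisymm (fun z hz => ?_) ((Ideal.span_singleton_le_iff_mem _).2 ?_)
    · obtain ⟨y, hy, hzy⟩ := hΓ.ker z.1 z.2 hz
      exact Ideal.mem_span_singleton.2 ⟨⟨y, hy⟩, by rw [← Algebra.smul_def]; exact Subtype.ext hzy⟩
    · show f2 (algebraMap R Γ π) = 0
      rw [f2.commutes]; exact (hker π).2 dvd_rfl
  have huniq : ∀ Q : Ideal Γ, Q.IsMaximal → Q = M := fun Q hQ => by
    refine (hMmax.eq_of_le hQ.ne_top ?_).symm
    rw [hM, Ideal.span_singleton_le_iff_mem, ← Ideal.mem_comap]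
    haveI : (Q.comap (algebraMap R Γ)).IsMaximal := Ideal.isMaximal_comap_of_isIntegral_of_isMaximal Q
    rw [IsLocalRing.eq_maximalIdeal ‹(Q.comap (algebraMap R Γ)).IsMaximal›]
    exact hπ.not_isUnit
  haveI : IsLocalRing Γ := IsLocalRing.of_unique_max_ideal ⟨M, hMmax, huniq⟩
  have hmax : IsLocalRing.maximalIdeal Γ = M := (IsLocalRing.eq_maximalIdeal hMmax).symm
  have hπ0 : algebraMap R Γ π ≠ 0 := fun h => hπ.ne_zero (hinj (h.trans (map_zero _).symm))
  have hprime : Prime (algebraMap R Γ π) := (Ideal.span_singleton_prime hπ0).1 (hM ▸ hMmax.isPrime)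
  have hdiv : ∀ N (x : Γ), x ∣ algebraMap R Γ π ^ N → ∃ j : ℕ, Associated (algebraMap R Γ π ^ j) x := by
    intro N
    induction N with
    | zero =>
      intro x hx
      exact ⟨0, (associated_one_iff_isUnit.2 (isUnit_of_dvd_one (by simpa using hx))).symm |> fun h => by simpa using h⟩
    | succ N ih =>
      intro x hx
      by_cases hu : IsUnit x
      · exact ⟨0, by simpa using (associated_one_iff_isUnit.2 hu).symm⟩
      have hxM : x ∈ M := hmax ▸ (show x ∈ IsLocalRing.maximalIdeal Γ from hu)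
      rw [hM, Ideal.mem_span_singleton] at hxM
      obtain ⟨y, rfl⟩ := hxM
      rw [pow_succ', mul_dvd_mul_iff_left hπ0] at hx
      obtain ⟨j, hj⟩ := ih y hx
      exact ⟨j + 1, by rw [pow_succ']; exact hj.mul_left _⟩
  haveI : IsDiscreteValuationRing Γ := IsDiscreteValuationRing.ofHasUnitMulPowIrreducibleFactorization
    ⟨algebraMap R Γ π, hprime.irreducible, fun {x} hx => by
      obtain ⟨c, hc, hc0⟩ := Submodule.exists_mem_ne_zero_of_ne_bot
        (Ideal.comap_ne_bot_of_integral_mem (R := R) (I := Ideal.span {x}) hx (Ideal.mem_span_singleton_self x)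
          (Algebra.IsIntegral.isIntegral x))
      obtain ⟨N, u, hu⟩ := IsDiscreteValuationRing.eq_unit_mul_pow_irreducible hc0 hπ
      rw [Ideal.mem_comap, Ideal.mem_span_singleton, hu, map_mul, map_pow] at hc
      exact hdiv N x ((IsUnit.dvd_mul_left (u.isUnit.map (algebraMap R Γ))).1 hc)⟩
  refine ⟨Γ, inferInstance, inferInstance, inferInstance, algebraMap R Γ, hinj, ⟨fun a ha => ?_⟩, ?_, ?_, fun x => ?_⟩
  · by_contra hna
    have h1 : π ∣ a := by
      rw [← Ideal.mem_span_singleton, ← hπ.maximalIdeal_eq]; exact hna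
    exact hprime.not_isUnit (isUnit_of_dvd_unit (map_dvd _ h1) ha)
  · rw [hπ.maximalIdeal_eq, Ideal.map_span, Set.image_singleton, hmax, hM]
  · refine ⟨(Ideal.quotEquivOfEq hmax).trans (RingHom.quotientKerEquivOfSurjective (f := f2.toRingHom) hf2),
      fun a => f2.commutes a⟩
  · refine ⟨minpoly R x, ?_, minpoly.aeval R x⟩
    have hint : IsIntegral R (f1 x) := hΓ.int x.1 x.2
    rw [← minpoly.algHom_eq f1 hf1, ← minpoly.isIntegrallyClosed_eq_field_fractions' K hint]
    exact Algebra.IsSeparable.isSeparable K (f1 x)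

end Groth.ModelsGraphs.Unram
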